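import Mathlib
import Cfsg.Prelude.Def_MonsterType

set_option autoImplicit false

namespace Cfsg.Agent.Lib.helper92

open scoped commutatorElement

/-- The `p`-core of a finite group is a `p`-group. -/
theorem pCore_isPGroup (p : ℕ) [Fact p.Prime] (G : Type*) [Group G] [Finite G] :
    IsPGroup p (Cfsg.pCore p G) := by
  obtain ⟨S⟩ : Nonempty (Sylow p G) := inferInstance
  have hle : Cfsg.pCore p G ≤ (S : Subgroup G) := by
    unfold Cfsg.pCore
    apply sSup_le
    rintro N ⟨hN, hNp⟩
    have := hN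
    exact hNp.le_sylow_of_normal S
  exact S.isPGroup'.to_le hle

/-- A normal `p`-subgroup lies in the `p`-core. -/
theorem le_pCore {p : ℕ} {G : Type*} [Group G] {N : Subgroup G} (hN : N.Normal)
    (hp : IsPGroup p N) : N ≤ Cfsg.pCore p G :=
  le_sSup ⟨hN, hp⟩

/-- An element lying both in a subgroup of odd order and in a `2`-subgroup is trivial. -/
theorem eq_one_of_mem_odd_of_mem_two {G : Type*} [Group G] {K P : Subgroup G}
    (hK : Odd (Nat.card K)) (hP : IsPGroup 2 P) {x : G} (hxK : x ∈ K) (hxP : x ∈ P) : x = 1 := by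
  have h1 : orderOf x ∣ Nat.card K := by
    have := orderOf_dvd_natCard (⟨x, hxK⟩ : K)
    rwa [Subgroup.orderOf_mk] at this
  obtain ⟨n, hn⟩ := hP ⟨x, hxP⟩
  have h2 : orderOf x ∣ 2 ^ n := by
    apply orderOf_dvd_of_pow_eq_one
    have := congrArg Subtype.val hn
    simpa using this
  obtain ⟨m, -, hm⟩ := (Nat.dvd_prime_pow Nat.prime_two).1 h2
  have hodd : Odd (orderOf x) := hK.of_dvd_nat h1
  rw [hm] at hodd
  have hm0 : m = 0 := by
    by_contra hne
    exact (Nat.not_even_iff_odd.2 hodd) (Nat.even_pow.2 ⟨even_two, hne⟩)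
  rw [hm0, pow_zero] at hm
  exact orderOf_eq_one_iff.1 hm

/-- An element of a subgroup of odd order whose square is trivial is trivial. -/
theorem eq_one_of_sq_eq_one_of_odd {G : Type*} [Group G] {K : Subgroup G}
    (hK : Odd (Nat.card K)) {x : G} (hxK : x ∈ K) (hx : x * x = 1) : x = 1 := by
  have h1 : orderOf x ∣ Nat.card K := by
    have := orderOf_dvd_natCard (⟨x, hxK⟩ : K)
    rwa [Subgroup.orderOf_mk] at this
  have h2 : orderOf x ∣ 2 := orderOf_dvd_of_pow_eq_one (by rw [pow_two]; exact hx)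
  have hodd : Odd (orderOf x) := hK.of_dvd_nat h1
  rcases (Nat.dvd_prime Nat.prime_two).1 h2 with h | h
  · exact orderOf_eq_one_iff.1 h
  · rw [h] at hodd; exact absurd hodd (by decide)

/-- If `z` (with `z * z = 1`) normalizes the finite subgroup `K` and centralizes no
non-identity element of it, then it inverts `K`. -/
theorem inverts_of_fixed_point_free {G : Type*} [Group G] {K : Subgroup G} [Finite K] {z : G}
    (hz : z * z = 1) (hzK : ∀ k ∈ K, z * k * z⁻¹ ∈ K)
    (hfix : ∀ k ∈ K, z * k = k * z → k = 1) : ∀ k ∈ K, z * k * z⁻¹ = k⁻¹ := by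
  have hzinv : z⁻¹ = z := inv_eq_of_mul_eq_one_left hz
  have hzz : ∀ x : G, z * (z * x) = x := fun x => by rw [← mul_assoc, hz, one_mul]
  let f : K → K := fun k => ⟨(k : G)⁻¹ * (z * k * z⁻¹), K.mul_mem (K.inv_mem k.2) (hzK k k.2)⟩
  have hinj : Function.Injective f := by
    intro k m hkm
    have h : (k : G)⁻¹ * (z * k * z⁻¹) = (m : G)⁻¹ * (z * m * z⁻¹) := congrArg Subtype.val hkm
    rw [hzinv] at h
    have h1 : z * (m : G) = m * (k : G)⁻¹ * z * k := by
      calc z * (m : G) = m * ((m : G)⁻¹ * (z * m * z)) * z := by simp [mul_assoc, hz]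
        _ = m * ((k : G)⁻¹ * (z * k * z)) * z := by rw [h]
        _ = m * (k : G)⁻¹ * z * k := by simp [mul_assoc, hz]
    have h2 : z * ((m : G) * (k : G)⁻¹) = (m * (k : G)⁻¹) * z := by
      rw [← mul_assoc, h1]; simp [mul_assoc]
    have h3 := hfix _ (K.mul_mem m.2 (K.inv_mem k.2)) h2
    have h4 : (m : G) = k := mul_inv_eq_one.1 h3
    exact Subtype.ext h4.symm
  have hsurj := Finite.surjective_of_injective hinj
  intro k hk
  obtain ⟨m, hm⟩ := hsurj ⟨k, hk⟩
  have hk' : k = (m : G)⁻¹ * (z * m * z⁻¹) := (congrArg Subtype.val hm).symm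
  rw [hk', hzinv]
  simp [mul_assoc, hzinv, hz, hzz]

/-- A subgroup inverted by an element is commutative. -/
theorem commute_of_inverts {G : Type*} [Group G] {K : Subgroup G} {z : G}
    (hinv : ∀ k ∈ K, z * k * z⁻¹ = k⁻¹) : ∀ x ∈ K, ∀ y ∈ K, x * y = y * x := by
  intro x hx y hy
  have h1 := hinv (x * y) (K.mul_mem hx hy)
  have h2 : z * (x * y) * z⁻¹ = (z * x * z⁻¹) * (z * y * z⁻¹) := by group
  rw [h2, hinv x hx, hinv y hy] at h1
  have h3 : (x⁻¹ * y⁻¹)⁻¹ = ((x * y)⁻¹)⁻¹ := by rw [h1]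
  simpa using h3.symm


/-- Membership in the centre of a subgroup, viewed in the ambient group. -/
theorem mem_center_map_iff {G : Type*} [Group G] (Q : Subgroup G) (c : G) :
    c ∈ (Subgroup.center Q).map Q.subtype ↔ c ∈ Q ∧ ∀ q ∈ Q, q * c = c * q := by
  constructor
  · rintro ⟨x, hx, rfl⟩
    refine ⟨x.2, fun q hq => ?_⟩
    have := Subgroup.mem_center_iff.1 hx ⟨q, hq⟩
    exact congrArg Subtype.val this
  · rintro ⟨hc, h⟩
    refine ⟨⟨c, hc⟩, Subgroup.mem_center_iff.2 ?_, rfl⟩
    intro q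
    exact Subtype.ext (h q q.2)

/-- A centre of order two has a generator. -/
theorem exists_center_generator {G : Type*} [Group G] (Q : Subgroup G)
    (hcard : Nat.card (Subgroup.center Q) = 2) :
    ∃ z : G, z ∈ (Subgroup.center Q).map Q.subtype ∧ z ≠ 1 ∧ z * z = 1 ∧
      ∀ c ∈ (Subgroup.center Q).map Q.subtype, c = 1 ∨ c = z := by
  obtain ⟨y, hy1, hyu⟩ := (Nat.card_eq_two_iff' (1 : Subgroup.center Q)).1 hcard
  refine ⟨((y : Q) : G), ⟨(y : Q), y.2, rfl⟩, ?_, ?_, ?_⟩
  · intro h
    apply hy1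
    apply Subtype.ext
    apply Subtype.ext
    simpa using h
  · by_contra hne
    have h2 : y * y ≠ 1 := by
      intro h
      apply hne
      have := congrArg (fun t : Subgroup.center Q => ((t : Q) : G)) h
      simpa using this
    have h3 := hyu (y * y) h2
    have h4 : y = 1 := by
      have : y * y = y * 1 := by rw [mul_one]; exact h3
      exact mul_left_cancel this
    exact hy1 h4
  · rintro c ⟨x, hx, rfl⟩
    by_cases h : (⟨x, hx⟩ : Subgroup.center Q) = 1
    · left
      have := congrArg (fun t : Subgroup.center Q => ((t : Q) : G)) h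
      simpa using this
    · right
      have := hyu _ h
      have := congrArg (fun t : Subgroup.center Q => ((t : Q) : G)) this
      simpa using this

/-- In an extraspecial subgroup, commutators lie in the centre. -/
theorem commutator_mem_center_map {G : Type*} [Group G] {p : ℕ} (Q : Subgroup G)
    (hQ : Cfsg.IsExtraspecial p Q) {x y : G} (hx : x ∈ Q) (hy : y ∈ Q) :
    x * y * x⁻¹ * y⁻¹ ∈ (Subgroup.center Q).map Q.subtype := by
  have h1 : ⁅(⟨x, hx⟩ : Q), (⟨y, hy⟩ : Q)⁆ ∈ commutator Q := by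
    rw [commutator_def]
    exact Subgroup.commutator_mem_commutator (Subgroup.mem_top _) (Subgroup.mem_top _)
  rw [hQ.1.2.2] at h1
  refine ⟨_, h1, ?_⟩
  simp [commutatorElement_def]

end Cfsg.Agent.Lib.helper92
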