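import Mathlib
import Cfsg.Prelude.Def_MonsterType

set_option autoImplicit false

namespace Cfsg.Agent.Lib.helper92

open scoped Pointwise

/-- Sylow: every `p`-subgroup is contained in a conjugate of a given Sylow `p`-subgroup. -/
theorem exists_conj_mem_sylow {G : Type*} [Group G] [Finite G] {p : ℕ} [Fact p.Prime]
    (P : Sylow p G) {Q : Subgroup G} (hQ : IsPGroup p Q) : ∃ k : G, ∀ q ∈ Q, k⁻¹ * q * k ∈ P := by
  obtain ⟨S, hS⟩ := hQ.exists_le_sylow
  obtain ⟨k, hk⟩ := MulAction.exists_smul_eq G P S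
  refine ⟨k, fun q hq => ?_⟩
  have h1 : q ∈ (k • P : Sylow p G) := by rw [hk]; exact hS hq
  rw [Sylow.smul_def] at h1
  have h2 : q ∈ MulAut.conj k • (P : Subgroup G) := h1
  rw [Subgroup.mem_pointwise_smul_iff_inv_smul_mem] at h2
  have h3 : k⁻¹ * q * k ∈ (P : Subgroup G) := by simpa [MulAut.smul_def, mul_assoc] using h2
  exact h3

/-- Sylow: an element of `p`-power order is conjugate into a given Sylow `p`-subgroup. -/
theorem exists_conj_mem_sylow_of_orderOf {G : Type*} [Group G] [Finite G] {p : ℕ} [Fact p.Prime]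
    (P : Sylow p G) {x : G} {n : ℕ} (hx : orderOf x = p ^ n) : ∃ k : G, k⁻¹ * x * k ∈ P := by
  have hp : IsPGroup p (Subgroup.zpowers x) := IsPGroup.of_card (n := n) (by rw [Nat.card_zpowers, hx])
  obtain ⟨k, hk⟩ := exists_conj_mem_sylow P hp
  exact ⟨k, hk x (Subgroup.mem_zpowers x)⟩

end Cfsg.Agent.Lib.helper92
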