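import Mathlib
import Cfsg.Prelude.Def_MonsterType
import Cfsg.Agent.Lib.helper92.Basic
import Cfsg.Agent.Lib.helper92.Cosets

set_option autoImplicit false

namespace Cfsg.Agent.Lib.helper92

/-- In a finite `p`-group, `p`-th powers lie in every maximal subgroup. -/
theorem pow_mem_of_isCoatom {P : Type*} [Group P] [Finite P] {p : ℕ} [Fact p.Prime]
    (hP : IsPGroup p P) {M : Subgroup P} (hM : IsCoatom M) (x : P) : x ^ p ∈ M := by
  have hnil : Group.IsNilpotent P := hP.isNilpotent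
  have hMn : M.Normal := Subgroup.NormalizerCondition.normal_of_coatom M Group.normalizerCondition_of_isNilpotent hM
  by_contra hx
  have hlt : M < M ⊔ Subgroup.zpowers (x ^ p) := by
    refine lt_of_le_of_ne le_sup_left ?_
    intro h
    apply hx
    rw [h]
    exact Subgroup.mem_sup_right (Subgroup.mem_zpowers _)
  have hsup : M ⊔ Subgroup.zpowers (x ^ p) = ⊤ := hM.2 _ hlt
  have hmap : (Subgroup.zpowers (x ^ p)).map (QuotientGroup.mk' M) = ⊤ := by
    have h1 := congrArg (Subgroup.map (QuotientGroup.mk' M)) hsup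
    rw [Subgroup.map_sup, Subgroup.map_top_of_surjective _ (QuotientGroup.mk'_surjective M)] at h1
    have h2 : M.map (QuotientGroup.mk' M) = ⊥ := by
      rw [eq_bot_iff]
      rintro _ ⟨m, hm, rfl⟩
      rw [Subgroup.mem_bot]
      exact (QuotientGroup.eq_one_iff m).2 hm
    rw [h2, bot_sup_eq] at h1
    exact h1
  have hy : (QuotientGroup.mk' M x) ∈ (Subgroup.zpowers (x ^ p)).map (QuotientGroup.mk' M) := by
    rw [hmap]; exact Subgroup.mem_top _
  obtain ⟨w, hw, hwx⟩ := hy
  obtain ⟨k, rfl⟩ := Subgroup.mem_zpowers_iff.1 hw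
  obtain ⟨y, hy⟩ : ∃ y : P ⧸ M, y = QuotientGroup.mk' M x := ⟨_, rfl⟩
  have hyk : (y ^ p) ^ k = y := by
    rw [hy, ← map_pow, ← map_zpow]
    exact hwx
  have hyk' : y ^ ((p : ℤ) * k - 1) = 1 := by
    rw [zpow_sub, zpow_mul, zpow_natCast, hyk, zpow_one, mul_inv_cancel]
  have hq : IsPGroup p (P ⧸ M) := hP.to_quotient M
  obtain ⟨j, hj⟩ := (IsPGroup.iff_orderOf.1 hq) y
  have hdvd : (orderOf y : ℤ) ∣ (p : ℤ) * k - 1 := orderOf_dvd_iff_zpow_eq_one.2 hyk'
  rcases Nat.eq_zero_or_pos j with hj0 | hjpos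
  · rw [hj0, pow_zero] at hj
    have hy1 : y = 1 := orderOf_eq_one_iff.1 hj
    rw [hy] at hy1
    have hxM : x ∈ M := (QuotientGroup.eq_one_iff x).1 hy1
    exact hx (M.pow_mem hxM p)
  · have hp1 : (p : ℤ) ∣ (orderOf y : ℤ) := by
      rw [hj]
      exact_mod_cast dvd_pow_self p hjpos.ne'
    have h2 : (p : ℤ) ∣ (p : ℤ) * k - 1 := dvd_trans hp1 hdvd
    have h3 : (p : ℤ) ∣ 1 := by
      have h4 : (p : ℤ) ∣ (p : ℤ) * k := dvd_mul_right _ _
      have := dvd_sub h4 h2
      simpa using this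
    have h5 : p ∣ 1 := by exact_mod_cast h3
    exact (Fact.out : p.Prime).one_lt.ne' (Nat.dvd_one.1 h5)

/-- In a finite `p`-group, `p`-th powers lie in the Frattini subgroup. -/
theorem pow_mem_frattini {P : Type*} [Group P] [Finite P] {p : ℕ} [Fact p.Prime]
    (hP : IsPGroup p P) (x : P) : x ^ p ∈ frattini P := by
  unfold frattini Order.radical
  simp only [Subgroup.mem_iInf]
  intro M hM
  exact pow_mem_of_isCoatom hP hM x

/-- Membership in the cyclic group generated by an involution. -/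
theorem mem_zpowers_invol {G : Type*} [Group G] {r : G} (hr : r * r = 1) (x : G) :
    x ∈ Subgroup.zpowers r ↔ x = 1 ∨ x = r := by
  constructor
  · intro hx
    obtain ⟨k, rfl⟩ := Subgroup.mem_zpowers_iff.1 hx
    rcases Int.even_or_odd' k with ⟨m, hm | hm⟩
    · left
      rw [hm, zpow_mul, zpow_ofNat, pow_two, hr, one_zpow]
    · right
      rw [hm, zpow_add, zpow_mul, zpow_ofNat, pow_two, hr, one_zpow, one_mul, zpow_one]
  · rintro (rfl | rfl)
    · exact Subgroup.one_mem _
    · exact Subgroup.mem_zpowers _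

/-- The elementary data of a subgroup `R` behaving like an extraspecial `2`-group with centre
generated by the involution `r`, self-centralizing in the ambient group and normal in the
centralizer of `r`. -/
structure QData {G : Type*} [Group G] (R : Subgroup G) (r : G) : Prop where
  mem : r ∈ R
  ne_one : r ≠ 1
  sq : r * r = 1
  comm : ∀ x ∈ R, ∀ y ∈ R, x * y * x⁻¹ * y⁻¹ ∈ Subgroup.zpowers r
  sqmem : ∀ x ∈ R, x * x ∈ Subgroup.zpowers r
  cent : ∀ x : G, (∀ q ∈ R, q * x = x * q) → x ∈ Subgroup.zpowers r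
  norm : ∀ x : G, x * r = r * x → ∀ q ∈ R, x * q * x⁻¹ ∈ R
  central : ∀ q ∈ R, q * r = r * q

/-- The data of an extraspecial `2`-subgroup `Q` with `C_G(Q) = Z(Q)` and `Q ⊴ C_G(Z(Q))`. -/
theorem exists_qdata {G : Type*} [Group G] [Finite G] (Q : Subgroup G)
    (hL1 : Cfsg.IsExtraspecial 2 ↥Q)
    (hL2 : Subgroup.centralizer (Q : Set G) = ((Subgroup.center ↥Q).map Q.subtype))
    (hL3 : Subgroup.centralizer (((Subgroup.center ↥Q).map Q.subtype) : Set G) ≤
      Subgroup.normalizer (Q : Set G)) :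
    ∃ z : G, QData Q z ∧ (Subgroup.center ↥Q).map Q.subtype = Subgroup.zpowers z := by
  have : Fact (Nat.Prime 2) := ⟨Nat.prime_two⟩
  obtain ⟨z, hzZ, hz1, hzz, hzall⟩ := exists_center_generator Q hL1.2
  have hZeq : (Subgroup.center ↥Q).map Q.subtype = Subgroup.zpowers z := by
    ext x
    rw [mem_zpowers_invol hzz]
    constructor
    · exact hzall x
    · rintro (rfl | rfl)
      · exact Subgroup.one_mem _
      · exact hzZ
  refine ⟨z, ?_, hZeq⟩
  have hzQ := ((mem_center_map_iff Q z).1 hzZ)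
  refine ⟨hzQ.1, hz1, hzz, ?_, ?_, ?_, ?_, hzQ.2⟩
  · intro x hx y hy
    rw [← hZeq]
    exact commutator_mem_center_map Q hL1 hx hy
  · intro x hx
    rw [← hZeq]
    have h1 : (⟨x, hx⟩ : Q) ^ 2 ∈ frattini Q := pow_mem_frattini hL1.1.1 _
    rw [hL1.1.2.1] at h1
    refine ⟨_, h1, ?_⟩
    simp [pow_two]
  · intro x hx
    rw [← hZeq, ← hL2, Subgroup.mem_centralizer_iff]
    intro q hq
    exact hx q hq
  · intro x hx q hq
    have hxZ : x ∈ Subgroup.centralizer (((Subgroup.center ↥Q).map Q.subtype : Subgroup G) : Set G) := by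
      rw [Subgroup.mem_centralizer_iff]
      intro c hc
      rcases hzall c hc with rfl | rfl
      · simp
      · exact hx.symm
    exact ((Subgroup.mem_normalizer_iff.1 (hL3 hxZ)) q).1 hq

/-- The data transports along conjugation. -/
theorem QData.conj {G : Type*} [Group G] {R : Subgroup G} {r : G} (h : QData R r) (g : G) :
    QData (R.map (MulAut.conj g).toMonoidHom) (g * r * g⁻¹) := by
  have hsq : g * r * g⁻¹ * (g * r * g⁻¹) = 1 := by
    calc g * r * g⁻¹ * (g * r * g⁻¹) = g * (r * r) * g⁻¹ := by group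
      _ = 1 := by rw [h.sq]; group
  have hz : ∀ x : G, g⁻¹ * x * g ∈ Subgroup.zpowers r → x ∈ Subgroup.zpowers (g * r * g⁻¹) := by
    intro x hx
    rw [mem_zpowers_invol h.sq] at hx
    rw [mem_zpowers_invol hsq]
    rcases hx with hx | hx
    · left
      have : x = g * (g⁻¹ * x * g) * g⁻¹ := by group
      rw [this, hx]; group
    · right
      have : x = g * (g⁻¹ * x * g) * g⁻¹ := by group
      rw [this, hx]
  refine ⟨?_, ?_, hsq, ?_, ?_, ?_, ?_, ?_⟩
  · rw [mem_map_conj_iff]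
    have : g⁻¹ * (g * r * g⁻¹) * g = r := by group
    rw [this]; exact h.mem
  · intro h1
    apply h.ne_one
    have : r = g⁻¹ * (g * r * g⁻¹) * g := by group
    rw [this, h1]; group
  · intro x hx y hy
    rw [mem_map_conj_iff] at hx hy
    apply hz
    have := h.comm _ hx _ hy
    have e : g⁻¹ * (x * y * x⁻¹ * y⁻¹) * g =
        g⁻¹ * x * g * (g⁻¹ * y * g) * (g⁻¹ * x * g)⁻¹ * (g⁻¹ * y * g)⁻¹ := by group
    rw [e]; exact this
  · intro x hx
    rw [mem_map_conj_iff] at hx
    apply hz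
    have := h.sqmem _ hx
    have e : g⁻¹ * (x * x) * g = g⁻¹ * x * g * (g⁻¹ * x * g) := by group
    rw [e]; exact this
  · intro x hx
    apply hz
    apply h.cent
    intro q hq
    have hq' : g * q * g⁻¹ ∈ R.map (MulAut.conj g).toMonoidHom := by
      rw [mem_map_conj_iff]
      have : g⁻¹ * (g * q * g⁻¹) * g = q := by group
      rw [this]; exact hq
    have := hx _ hq'
    calc q * (g⁻¹ * x * g) = g⁻¹ * (g * q * g⁻¹ * x) * g := by group
      _ = g⁻¹ * (x * (g * q * g⁻¹)) * g := by rw [this]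
      _ = g⁻¹ * x * g * q := by group
  · intro x hx q hq
    rw [mem_map_conj_iff] at hq ⊢
    have hx' : (g⁻¹ * x * g) * r = r * (g⁻¹ * x * g) := by
      calc (g⁻¹ * x * g) * r = g⁻¹ * (x * (g * r * g⁻¹)) * g := by group
        _ = g⁻¹ * ((g * r * g⁻¹) * x) * g := by rw [hx]
        _ = r * (g⁻¹ * x * g) := by group
    have := h.norm _ hx' _ hq
    have e : g⁻¹ * (x * q * x⁻¹) * g = g⁻¹ * x * g * (g⁻¹ * q * g) * (g⁻¹ * x * g)⁻¹ := by group
    rw [e]; exact this
  · intro q hq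
    rw [mem_map_conj_iff] at hq
    have := h.central _ hq
    calc q * (g * r * g⁻¹) = g * ((g⁻¹ * q * g) * r) * g⁻¹ := by group
      _ = g * (r * (g⁻¹ * q * g)) * g⁻¹ := by rw [this]
      _ = g * r * g⁻¹ * q := by group

end Cfsg.Agent.Lib.helper92
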