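import Mathlib
import Cfsg.Prelude.Def_Transfer
import Cfsg.Agent.Lib.helper92.Extraspecial
import Cfsg.Agent.Lib.helper3.PGroupFrattini
import Cfsg.Agent.Lib.helper3.PGroupNormal

/-!
# Recognising extraspecial `2`-subgroups from elementwise data; odd automorphisms

* `eq_one_of_odd_conj_eq_mul`: an element of odd order moving `x` to `x * z`, with `z` an involution
  (or trivial) commuting with it, fixes `x`.
* `isExtraspecial_of_data`: a nonabelian subgroup `R` all of whose commutators and squares lie in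
  `{1, z}`, with `z` a central involution and `Z(R) ≤ {1, z}`, is extraspecial.
* `comm_drop_left`, `comm_drop_right`: central factors can be dropped from commutators.
* `conjRestr`: conjugation by an element of a subgroup of the normalizer of `Q`, as an endomorphism
  of `Q`.
-/

set_option autoImplicit false

namespace Cfsg.Agent.Lib.helper92

open scoped commutatorElement

/-- An element `a` of odd order with `a x a⁻¹ = x z`, where `z z = 1` and `a` commutes with `z`,
forces `z = 1`. -/
theorem eq_one_of_odd_conj_eq_mul {G : Type*} [Group G] {a x z : G} (hodd : Odd (orderOf a))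
    (hz : z * z = 1) (haz : a * z = z * a) (hax : a * x * a⁻¹ = x * z) : z = 1 := by
  have key : ∀ n : ℕ, a ^ n * x * (a ^ n)⁻¹ = x * z ^ n := by
    intro n
    induction n with
    | zero => simp
    | succ n ih =>
      have hc : Commute a z := haz
      have h1 : a * z ^ n = z ^ n * a := (hc.pow_right n).eq
      calc a ^ (n + 1) * x * (a ^ (n + 1))⁻¹ = a * (a ^ n * x * (a ^ n)⁻¹) * a⁻¹ := by
            rw [pow_succ']; group
        _ = a * (x * z ^ n) * a⁻¹ := by rw [ih]
        _ = (a * x * a⁻¹) * (a * z ^ n) * a⁻¹ := by group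
        _ = x * z * (z ^ n * a) * a⁻¹ := by rw [hax, h1]
        _ = x * z ^ (n + 1) := by rw [pow_succ']; group
  have h2 := key (orderOf a)
  rw [pow_orderOf_eq_one] at h2
  obtain ⟨k, hk⟩ := hodd
  have h3 : z ^ orderOf a = z := by
    rw [hk, pow_succ, pow_mul, sq, hz, one_pow, one_mul]
  rw [h3] at h2
  have h4 : x * 1 = x * z := by simpa using h2
  exact (mul_left_cancel h4).symm

/-- A central element can be dropped from the left entry of a commutator. -/
theorem comm_drop_left {G : Type*} [Group G] (x a b : G) (hxa : Commute x a) (hxb : Commute x b) :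
    ⁅x * a, b⁆ = ⁅a, b⁆ := by
  have h : x * (a * b * a⁻¹) = (a * b * a⁻¹) * x := ((hxa.mul_right hxb).mul_right hxa.inv_right).eq
  rw [commutatorElement_def, commutatorElement_def]
  calc x * a * b * (x * a)⁻¹ * b⁻¹ = x * (a * b * a⁻¹) * x⁻¹ * b⁻¹ := by group
    _ = (a * b * a⁻¹) * x * x⁻¹ * b⁻¹ := by rw [h]
    _ = a * b * a⁻¹ * b⁻¹ := by group

/-- A central element can be dropped from the right entry of a commutator. -/
theorem comm_drop_right {G : Type*} [Group G] (x a b : G) (hxa : Commute x a) (hxb : Commute x b) :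
    ⁅a, x * b⁆ = ⁅a, b⁆ := by
  have h : x * (b * a⁻¹ * b⁻¹) = (b * a⁻¹ * b⁻¹) * x :=
    ((hxb.mul_right hxa.inv_right).mul_right hxb.inv_right).eq
  rw [commutatorElement_def, commutatorElement_def]
  calc a * (x * b) * a⁻¹ * (x * b)⁻¹ = a * (x * (b * a⁻¹ * b⁻¹)) * x⁻¹ := by group
    _ = a * ((b * a⁻¹ * b⁻¹) * x) * x⁻¹ := by rw [h]
    _ = a * b * a⁻¹ * b⁻¹ := by group

/-- Recognition of extraspecial `2`-subgroups from elementwise data. -/
theorem isExtraspecial_of_data {G : Type*} [Group G] [Finite G] (R : Subgroup G) (z : G)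
    (hzz : z * z = 1) (hz1 : z ≠ 1)
    (hcomm : ∀ x ∈ R, ∀ y ∈ R, x * y * x⁻¹ * y⁻¹ ∈ Subgroup.zpowers z)
    (hsq : ∀ x ∈ R, x * x ∈ Subgroup.zpowers z)
    (hcent : ∀ x ∈ R, (∀ r ∈ R, r * x = x * r) → x ∈ Subgroup.zpowers z)
    (hzc : ∀ r ∈ R, r * z = z * r)
    (hnonab : ∃ x ∈ R, ∃ y ∈ R, x * y ≠ y * x) : Cfsg.IsExtraspecial 2 ↥R := by
  have : Fact (Nat.Prime 2) := ⟨Nat.prime_two⟩
  obtain ⟨x₀, hx₀, y₀, hy₀, hxy₀⟩ := hnonab
  have hcz : x₀ * y₀ * x₀⁻¹ * y₀⁻¹ = z := by
    rcases (mem_zpowers_invol hzz _).1 (hcomm x₀ hx₀ y₀ hy₀) with h | h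
    · exfalso; apply hxy₀
      calc x₀ * y₀ = (x₀ * y₀ * x₀⁻¹ * y₀⁻¹) * y₀ * x₀ := by group
        _ = y₀ * x₀ := by rw [h]; group
    · exact h
  have hzR : z ∈ R := by
    rw [← hcz]
    exact R.mul_mem (R.mul_mem (R.mul_mem hx₀ hy₀) (R.inv_mem hx₀)) (R.inv_mem hy₀)
  have hP : IsPGroup 2 ↥R := by
    intro g
    refine ⟨2, ?_⟩
    apply Subtype.ext
    rw [Subgroup.coe_pow, Subgroup.coe_one]
    have h1 := (mem_zpowers_invol hzz _).1 (hsq g.1 g.2)
    have h2 : (g : G) ^ 2 ^ 2 = (g.1 * g.1) * (g.1 * g.1) := by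
      show (g : G) ^ 4 = _
      rw [← sq, ← sq, ← pow_mul]
    rw [h2]
    rcases h1 with h1 | h1
    · rw [h1, one_mul]
    · rw [h1, hzz]
  have hcenter : ∀ x : ↥R, x ∈ Subgroup.center ↥R ↔ (x : G) = 1 ∨ (x : G) = z := by
    intro x
    rw [Subgroup.mem_center_iff]
    constructor
    · intro h
      apply (mem_zpowers_invol hzz _).1
      apply hcent x.1 x.2
      intro r hr
      exact congrArg Subtype.val (h ⟨r, hr⟩)
    · rintro (h | h) g
      · have : x = 1 := Subtype.ext h
        rw [this, mul_one, one_mul]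
      · apply Subtype.ext
        rw [Subgroup.coe_mul, Subgroup.coe_mul, h]
        exact hzc g.1 g.2
  have hcard : Nat.card (Subgroup.center ↥R) = 2 := by
    rw [Nat.card_eq_two_iff' (1 : Subgroup.center ↥R)]
    refine ⟨⟨⟨z, hzR⟩, (hcenter _).2 (Or.inr rfl)⟩, ?_, ?_⟩
    · intro h
      apply hz1
      have := congrArg (fun t : Subgroup.center ↥R => ((t : ↥R) : G)) h
      simpa using this
    · intro y hy
      rcases (hcenter y.1).1 y.2 with h | h
      · exfalso; apply hy
        apply Subtype.ext; apply Subtype.ext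
        simpa using h
      · apply Subtype.ext; apply Subtype.ext
        simpa using h
  have hcommR : commutator ↥R = Subgroup.center ↥R := by
    apply le_antisymm
    · rw [commutator_eq_closure, Subgroup.closure_le]
      rintro g ⟨g₁, g₂, rfl⟩
      show ⁅g₁, g₂⁆ ∈ Subgroup.center ↥R
      rw [hcenter]
      apply (mem_zpowers_invol hzz _).1
      have := hcomm g₁.1 g₁.2 g₂.1 g₂.2
      simpa [commutatorElement_def] using this
    · intro x hx
      rcases (hcenter x).1 hx with h | h
      · have : x = 1 := Subtype.ext h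
        rw [this]; exact Subgroup.one_mem _
      · have : x = ⁅(⟨x₀, hx₀⟩ : ↥R), ⟨y₀, hy₀⟩⁆ := by
          apply Subtype.ext
          rw [h, ← hcz]
          simp [commutatorElement_def]
        rw [this, commutator_def]
        exact Subgroup.commutator_mem_commutator (Subgroup.mem_top _) (Subgroup.mem_top _)
  refine ⟨⟨hP, ?_, hcommR⟩, hcard⟩
  apply le_antisymm
  · apply Cfsg.Agent.Lib.helper3.frattini_le_of_pow_mem_of_commutator_le (p := 2)
    · intro x
      rw [hcenter]
      have h1 := (mem_zpowers_invol hzz _).1 (hsq x.1 x.2)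
      simpa [sq] using h1
    · exact hcommR.le
  · rw [← hcommR]
    exact Cfsg.Agent.Lib.helper3.commutator_le_frattini hP

/-- Conjugation by an element of a subgroup `A` of the normalizer of `Q`, as an endomorphism of
`Q`. -/
def conjRestr {G : Type*} [Group G] (Q A : Subgroup G)
    (hA : A ≤ Subgroup.normalizer (Q : Set G)) (a : ↥A) : ↥Q →* ↥Q where
  toFun q := ⟨(a : G) * (q : G) * (a : G)⁻¹, (Subgroup.mem_normalizer_iff.1 (hA a.2) q).1 q.2⟩
  map_one' := by
    apply Subtype.ext
    simp
  map_mul' x y := by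
    apply Subtype.ext
    simp

@[simp] theorem conjRestr_coe {G : Type*} [Group G] (Q A : Subgroup G)
    (hA : A ≤ Subgroup.normalizer (Q : Set G)) (a : ↥A) (q : ↥Q) :
    ((conjRestr Q A hA a q : ↥Q) : G) = (a : G) * (q : G) * (a : G)⁻¹ := rfl

theorem conjRestr_mul {G : Type*} [Group G] (Q A : Subgroup G)
    (hA : A ≤ Subgroup.normalizer (Q : Set G)) (a b : ↥A) (q : ↥Q) :
    conjRestr Q A hA (a * b) q = conjRestr Q A hA a (conjRestr Q A hA b q) := by
  apply Subtype.ext
  simp [mul_assoc]

end Cfsg.Agent.Lib.helper92
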