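import Mathlib
import Cfsg.Prelude.Def_Transfer
import Cfsg.Prelude.Def_Local
import Cfsg.Agent.Lib.helper92.Extraspecial
import Cfsg.Agent.Lib.helper92.Basic
import Cfsg.Agent.Lib.helper28.Components

/-!
# Simplicity criteria for groups with a large extraspecial `2`-subgroup

* `isExtraspecial_of_mulEquiv`: `IsExtraspecial` is invariant under isomorphism.
* `qdata_of_fstar`: if `F*(C_G(z)) = Q` is extraspecial (`z` an involution), then the elementwise
  data `QData Q z` holds (uses Bender's theorem from `helper28`).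
* `QData.centralizer_eq`, `QData.center_map_eq`, `QData.centralizer_center_le_normalizer`,
  `QData.isPGroup`.
* `z_mem_of_normal`: for `Q` large, every nontrivial normal subgroup contains `z`.
* `eq_top_of_centralizer_le`: a normal subgroup containing `C_G(z)` is the whole group.
* `isSimpleGroup_of_qdata`.
-/

set_option autoImplicit false

namespace Cfsg.Agent.Lib.helper92

/-- `IsExtraspecial` transports along a group isomorphism. -/
theorem isExtraspecial_of_mulEquiv {P P' : Type*} [Group P] [Group P'] (e : P ≃* P') {p : ℕ}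
    (h : Cfsg.IsExtraspecial p P) : Cfsg.IsExtraspecial p P' := by
  obtain ⟨⟨hp, hfr, hcom⟩, hcard⟩ := h
  have hcen : ∀ x : P, x ∈ Subgroup.center P ↔ e x ∈ Subgroup.center P' := by
    intro x
    rw [Subgroup.mem_center_iff, Subgroup.mem_center_iff]
    constructor
    · intro hx y
      have h1 := hx (e.symm y)
      have h2 := congrArg e h1
      simpa using h2
    · intro hx y
      have h1 := hx (e y)
      apply e.injective
      simpa using h1
  have hfr' : ∀ x : P, x ∈ frattini P ↔ e x ∈ frattini P' := by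
    intro x
    constructor
    · intro hx
      exact frattini_le_comap_frattini_of_surjective (φ := e.toMonoidHom) e.surjective hx
    · intro hx
      have h1 := frattini_le_comap_frattini_of_surjective (φ := e.symm.toMonoidHom)
        e.symm.surjective hx
      simpa using h1
  have hcom' : ∀ x : P, x ∈ commutator P ↔ e x ∈ commutator P' := by
    intro x
    have h1 : (commutator P).map e.toMonoidHom = commutator P' := by
      rw [commutator_def, commutator_def, Subgroup.map_commutator,
        Subgroup.map_top_of_surjective _ e.surjective]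
    rw [← h1]
    constructor
    · intro hx; exact Subgroup.mem_map_of_mem _ hx
    · rintro ⟨y, hy, hxy⟩
      have h2 : y = x := e.injective hxy
      rw [← h2]; exact hy
  refine ⟨⟨hp.of_equiv e, ?_, ?_⟩, ?_⟩
  · ext y
    obtain ⟨x, rfl⟩ := e.surjective y
    rw [← hfr', ← hcen, hfr]
  · ext y
    obtain ⟨x, rfl⟩ := e.surjective y
    rw [← hcom', ← hcen, hcom]
  · rw [← hcard]
    apply Nat.card_congr
    exact { toFun := fun y => ⟨e.symm y.1, (hcen _).2 (by simp)⟩
            invFun := fun x => ⟨e x.1, (hcen _).1 x.2⟩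
            left_inv := fun y => by simp
            right_inv := fun x => by simp }

/-- Transfer of `QData` from the group `C_G(z)` to `G`. -/
theorem qdata_map_of_centralizer {G : Type*} [Group G] (z : G)
    (Q : Subgroup ↥(Subgroup.centralizer ({z} : Set G))) [hn : Q.Normal]
    (z₀ : ↥(Subgroup.centralizer ({z} : Set G))) (h₀ : QData Q z₀) (hz₀ : (z₀ : G) = z) :
    QData (Q.map (Subgroup.centralizer ({z} : Set G)).subtype) z := by
  have hzz₀ := h₀.sq
  have memZ₀ := mem_zpowers_invol hzz₀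
  have hzz : z * z = 1 := by
    have h1 := congrArg Subtype.val hzz₀
    rw [Subgroup.coe_mul, hz₀] at h1
    exact h1
  have hzp : ∀ x : ↥(Subgroup.centralizer ({z} : Set G)), x ∈ Subgroup.zpowers z₀ →
      (x : G) ∈ Subgroup.zpowers z := by
    intro x hx
    rcases (memZ₀ x).1 hx with h | h
    · rw [h]; exact Subgroup.one_mem _
    · rw [h, hz₀]; exact Subgroup.mem_zpowers z
  refine ⟨⟨z₀, h₀.mem, hz₀⟩, ?_, hzz, ?_, ?_, ?_, ?_, ?_⟩
  · intro h
    apply h₀.ne_one
    apply Subtype.ext
    rw [hz₀, h]; rfl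
  · rintro x ⟨x₀, hx₀, rfl⟩ y ⟨y₀, hy₀, rfl⟩
    exact hzp _ (h₀.comm x₀ hx₀ y₀ hy₀)
  · rintro x ⟨x₀, hx₀, rfl⟩
    exact hzp _ (h₀.sqmem x₀ hx₀)
  · intro x hx
    have hxz : x * z = z * x := (hx z ⟨z₀, h₀.mem, hz₀⟩).symm
    have hxC : x ∈ Subgroup.centralizer ({z} : Set G) :=
      Subgroup.mem_centralizer_singleton_iff.2 hxz
    have h1 := h₀.cent ⟨x, hxC⟩ (by
      intro q hq
      apply Subtype.ext
      exact hx q.1 ⟨q, hq, rfl⟩)
    exact hzp _ h1
  · rintro x hxz q ⟨q₀, hq₀, rfl⟩
    have hxC : x ∈ Subgroup.centralizer ({z} : Set G) :=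
      Subgroup.mem_centralizer_singleton_iff.2 hxz
    exact ⟨⟨x, hxC⟩ * q₀ * ⟨x, hxC⟩⁻¹, hn.conj_mem q₀ hq₀ ⟨x, hxC⟩, rfl⟩
  · rintro q ⟨q₀, hq₀, rfl⟩
    exact Subgroup.mem_centralizer_singleton_iff.1 q₀.2

/-- If the generalized Fitting subgroup of the centralizer of the involution `z` is the
extraspecial `2`-group `Q`, then `Q` has centre `⟨z⟩`, `C_G(Q) = ⟨z⟩`, and `C_G(z)` normalizes
`Q`. -/
theorem qdata_of_fstar {G : Type*} [Group G] [Finite G] (z : G) (hz : orderOf z = 2)
    (Q : Subgroup G)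
    (hF : (Cfsg.generalizedFittingSubgroup ↥(Subgroup.centralizer ({z} : Set G))).map
      (Subgroup.centralizer ({z} : Set G)).subtype = Q)
    (hQ : Cfsg.IsExtraspecial 2 ↥Q) : QData Q z := by
  subst hF
  obtain ⟨F, hFdef⟩ : ∃ F, F = Cfsg.generalizedFittingSubgroup
      ↥(Subgroup.centralizer ({z} : Set G)) := ⟨_, rfl⟩
  rw [← hFdef] at hQ ⊢
  have hFn : F.Normal := by
    rw [hFdef]; exact Cfsg.Agent.Lib.helper28.generalizedFittingSubgroup_normal _
  have hF' : Cfsg.IsExtraspecial 2 ↥F :=
    isExtraspecial_of_mulEquiv (F.equivMapOfInjective _ (Subgroup.subtype_injective _)).symm hQ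
  have hbender : Subgroup.centralizer (F : Set ↥(Subgroup.centralizer ({z} : Set G))) ≤ F := by
    rw [hFdef]; exact Cfsg.Agent.Lib.helper28.centralizer_generalizedFittingSubgroup_le _
  have hL2 : Subgroup.centralizer (F : Set ↥(Subgroup.centralizer ({z} : Set G)))
      = (Subgroup.center ↥F).map F.subtype := by
    ext x
    rw [mem_center_map_iff, Subgroup.mem_centralizer_iff]
    constructor
    · intro hx
      exact ⟨hbender (Subgroup.mem_centralizer_iff.2 hx), fun q hq => hx q hq⟩
    · rintro ⟨-, hx⟩ q hq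
      exact hx q hq
  have hL3 : Subgroup.centralizer (((Subgroup.center ↥F).map F.subtype : Subgroup _) :
      Set ↥(Subgroup.centralizer ({z} : Set G))) ≤ Subgroup.normalizer (F : Set _) := by
    rw [Subgroup.normalizer_eq_top]; exact le_top
  obtain ⟨z₀, h₀, hZ₀⟩ := exists_qdata F hF' hL2 hL3
  have hz1 : z ≠ 1 := by
    intro h; rw [h, orderOf_one] at hz; exact absurd hz (by norm_num)
  have hzC : z ∈ Subgroup.centralizer ({z} : Set G) :=
    Subgroup.mem_centralizer_singleton_iff.2 rfl
  have hz₀ : (z₀ : G) = z := by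
    have h1 : (⟨z, hzC⟩ : ↥(Subgroup.centralizer ({z} : Set G)))
        ∈ Subgroup.centralizer (F : Set _) := by
      rw [Subgroup.mem_centralizer_iff]
      intro q _
      apply Subtype.ext
      exact Subgroup.mem_centralizer_singleton_iff.1 q.2
    rw [hL2, hZ₀] at h1
    rcases (mem_zpowers_invol h₀.sq _).1 h1 with h2 | h2
    · exfalso; apply hz1
      exact congrArg Subtype.val h2
    · rw [← h2]
  exact qdata_map_of_centralizer z F z₀ h₀ hz₀

theorem QData.centralizer_eq {G : Type*} [Group G] {Q : Subgroup G} {z : G} (h : QData Q z) :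
    Subgroup.centralizer (Q : Set G) = (Subgroup.center ↥Q).map Q.subtype := by
  ext x
  rw [mem_center_map_iff, Subgroup.mem_centralizer_iff]
  constructor
  · intro hx
    refine ⟨?_, fun q hq => hx q hq⟩
    rcases (mem_zpowers_invol h.sq x).1 (h.cent x (fun q hq => hx q hq)) with h1 | h1
    · rw [h1]; exact Q.one_mem
    · rw [h1]; exact h.mem
  · rintro ⟨-, hx⟩ q hq
    exact hx q hq

theorem QData.center_map_eq {G : Type*} [Group G] {Q : Subgroup G} {z : G} (h : QData Q z) :
    (Subgroup.center ↥Q).map Q.subtype = Subgroup.zpowers z := by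
  ext x
  rw [mem_center_map_iff]
  constructor
  · rintro ⟨-, hx⟩
    exact h.cent x hx
  · intro hx
    rcases (mem_zpowers_invol h.sq x).1 hx with h1 | h1
    · rw [h1]; exact ⟨Q.one_mem, fun q _ => by rw [mul_one, one_mul]⟩
    · rw [h1]; exact ⟨h.mem, h.central⟩

theorem QData.centralizer_center_le_normalizer {G : Type*} [Group G] {Q : Subgroup G} {z : G}
    (h : QData Q z) :
    Subgroup.centralizer (((Subgroup.center ↥Q).map Q.subtype : Subgroup G) : Set G) ≤
      Subgroup.normalizer (Q : Set G) := by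
  intro x hx
  rw [h.center_map_eq, Subgroup.mem_centralizer_iff] at hx
  have hxz : x * z = z * x := (hx z (Subgroup.mem_zpowers z)).symm
  rw [Subgroup.mem_normalizer_iff]
  intro q
  constructor
  · exact h.norm x hxz q
  · intro hq
    have hxz' : x⁻¹ * z = z * x⁻¹ := by
      calc x⁻¹ * z = x⁻¹ * (z * x) * x⁻¹ := by group
        _ = x⁻¹ * (x * z) * x⁻¹ := by rw [hxz]
        _ = z * x⁻¹ := by group
    have h1 := h.norm x⁻¹ hxz' _ hq
    have e1 : x⁻¹ * (x * q * x⁻¹) * x⁻¹⁻¹ = q := by group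
    rwa [e1] at h1

theorem QData.isPGroup {G : Type*} [Group G] {Q : Subgroup G} {z : G} (h : QData Q z) :
    IsPGroup 2 ↥Q := by
  intro g
  refine ⟨2, ?_⟩
  apply Subtype.ext
  rw [Subgroup.coe_pow, Subgroup.coe_one]
  have h1 := (mem_zpowers_invol h.sq _).1 (h.sqmem g.1 g.2)
  have h2 : (g : G) ^ 2 ^ 2 = (g.1 * g.1) * (g.1 * g.1) := by
    show (g : G) ^ 4 = _
    have e4 : (4 : ℕ) = 2 * 2 := rfl
    rw [e4, pow_mul, pow_two, pow_two]
  rw [h2]
  rcases h1 with h1 | h1
  · rw [h1, one_mul]
  · rw [h1, h.sq]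

/-- If `Q` is large, every nontrivial normal subgroup of `G` contains `z`. -/
theorem z_mem_of_normal {G : Type*} [Group G] [Finite G] {Q : Subgroup G} {z : G}
    (h : QData Q z)
    (hlarge : ∀ K : Subgroup G, Odd (Nat.card K) → Q ≤ Subgroup.normalizer (K : Set G) → K = ⊥)
    (N : Subgroup G) [hN : N.Normal] (hN1 : N ≠ ⊥) : z ∈ N := by
  have : Fact (Nat.Prime 2) := ⟨Nat.prime_two⟩
  have hzz := h.sq
  have memZ := mem_zpowers_invol hzz
  obtain ⟨n, hnN, hn1, hnz⟩ : ∃ n ∈ N, n ≠ 1 ∧ z * n = n * z := by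
    by_contra hno
    push Not at hno
    have hfix : ∀ k ∈ N, z * k = k * z → k = 1 := by
      intro k hk hzk
      by_contra hk1
      exact hno k hk hk1 hzk
    have hinv := inverts_of_fixed_point_free hzz (fun k hk => hN.conj_mem k hk z) hfix
    have hodd : Odd (Nat.card N) := by
      by_contra hne
      rw [Nat.not_odd_iff_even] at hne
      obtain ⟨t, ht⟩ := exists_prime_orderOf_dvd_card' (G := ↥N) 2 hne.two_dvd
      have htt : (t : G) * t = 1 := by
        have h1 := pow_orderOf_eq_one t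
        rw [ht, sq] at h1
        have h2 := congrArg Subtype.val h1
        rw [Subgroup.coe_mul, Subgroup.coe_one] at h2
        exact h2
      have ht1 : (t : G) ≠ 1 := by
        intro h1
        have h2 : t = 1 := Subtype.ext h1
        rw [h2, orderOf_one] at ht
        exact absurd ht (by norm_num)
      have h1 := hinv t.1 t.2
      have hti : (t : G)⁻¹ = t := inv_eq_of_mul_eq_one_left htt
      apply ht1
      apply hfix t.1 t.2
      calc z * (t : G) = (z * t * z⁻¹) * z := by group
        _ = t * z := by rw [h1, hti]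
    apply hN1
    apply hlarge N hodd
    rw [Subgroup.normalizer_eq_top]; exact le_top
  have hnz' : n * z = z * n := hnz.symm
  have hstep : ∀ x ∈ N, x ∈ Q → x ≠ 1 → z ∈ N := by
    intro x hxN hxQ hx1
    by_cases hc : ∀ q ∈ Q, q * x = x * q
    · rcases (memZ x).1 (h.cent x hc) with h1 | h1
      · exact absurd h1 hx1
      · rw [← h1]; exact hxN
    · push Not at hc
      obtain ⟨q, hq, hqx⟩ := hc
      have h1 := h.comm x hxQ q hq
      rcases (memZ _).1 h1 with h2 | h2
      · exfalso; apply hqx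
        calc q * x = (x * q * x⁻¹ * q⁻¹)⁻¹ * (x * q) := by group
          _ = x * q := by rw [h2]; group
      · rw [← h2]
        have h3 : q * x⁻¹ * q⁻¹ ∈ N := hN.conj_mem _ (N.inv_mem hxN) q
        have h4 := N.mul_mem hxN h3
        have e1 : x * (q * x⁻¹ * q⁻¹) = x * q * x⁻¹ * q⁻¹ := by group
        rw [e1] at h4; exact h4
  by_cases hc : ∀ q ∈ Q, q * n = n * q
  · rcases (memZ n).1 (h.cent n hc) with h1 | h1
    · exact absurd h1 hn1
    · rw [← h1]; exact hnN
  · push Not at hc
    obtain ⟨q, hq, hqn⟩ := hc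
    have hxQ : n * q * n⁻¹ * q⁻¹ ∈ Q := Q.mul_mem (h.norm n hnz' q hq) (Q.inv_mem hq)
    have hxN : n * q * n⁻¹ * q⁻¹ ∈ N := by
      have h3 : q * n⁻¹ * q⁻¹ ∈ N := hN.conj_mem _ (N.inv_mem hnN) q
      have h4 := N.mul_mem hnN h3
      have e1 : n * (q * n⁻¹ * q⁻¹) = n * q * n⁻¹ * q⁻¹ := by group
      rw [e1] at h4; exact h4
    have hx1 : n * q * n⁻¹ * q⁻¹ ≠ 1 := by
      intro h1
      apply hqn
      calc q * n = (n * q * n⁻¹ * q⁻¹)⁻¹ * (n * q) := by group
        _ = n * q := by rw [h1]; group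
    exact hstep _ hxN hxQ hx1

/-- A normal subgroup containing the centralizer of `z` is the whole group. -/
theorem eq_top_of_centralizer_le {G : Type*} [Group G] [Finite G] {Q : Subgroup G} {z : G}
    (h : QData Q z) (N : Subgroup G) [hN : N.Normal]
    (hHN : Subgroup.centralizer ({z} : Set G) ≤ N) : N = ⊤ := by
  have : Fact (Nat.Prime 2) := ⟨Nat.prime_two⟩
  have hzz := h.sq
  have memZ := mem_zpowers_invol hzz
  have hQN : Q ≤ N := fun q hq =>
    hHN (Subgroup.mem_centralizer_singleton_iff.2 (h.central q hq))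
  have hQ2 : IsPGroup 2 ↥(Q.subgroupOf N) := h.isPGroup.comap_subtype
  obtain ⟨S, hS⟩ := hQ2.exists_le_sylow
  have hfrat := Sylow.normalizer_sup_eq_top S
  obtain ⟨S₀, hS₀⟩ : ∃ S₀ : Subgroup G, S₀ = (S : Subgroup ↥N).map N.subtype := ⟨_, rfl⟩
  rw [← hS₀] at hfrat
  have hQS : Q ≤ S₀ := by
    intro q hq
    rw [hS₀]
    exact ⟨⟨q, hQN hq⟩, hS (Subgroup.mem_subgroupOf.2 hq), rfl⟩
  have hS₀2 : IsPGroup 2 ↥S₀ := by rw [hS₀]; exact S.isPGroup'.map _
  have hzS : ∀ s ∈ S₀, s * z = z * s := by
    have : Nontrivial ↥S₀ :=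
      ⟨⟨⟨z, hQS h.mem⟩, 1, fun h1 => h.ne_one (congrArg Subtype.val h1)⟩⟩
    have := hS₀2.center_nontrivial
    obtain ⟨c, hc1⟩ := exists_ne (1 : ↥(Subgroup.center ↥S₀))
    have hcc : ∀ s ∈ S₀, s * ((c : ↥S₀) : G) = ((c : ↥S₀) : G) * s := by
      intro s hs
      have h1 := Subgroup.mem_center_iff.1 c.2 ⟨s, hs⟩
      exact congrArg Subtype.val h1
    have hcz : ((c : ↥S₀) : G) = z := by
      rcases (memZ _).1 (h.cent _ (fun q hq => hcc q (hQS hq))) with h1 | h1
      · exfalso; apply hc1
        apply Subtype.ext; apply Subtype.ext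
        exact h1
      · exact h1
    intro s hs
    rw [← hcz]; exact hcc s hs
  have hNS : Subgroup.normalizer (S₀ : Set G) ≤ Subgroup.centralizer ({z} : Set G) := by
    intro y hy
    rw [Subgroup.mem_centralizer_singleton_iff]
    have hcomm : ∀ q ∈ Q, q * (y * z * y⁻¹) = (y * z * y⁻¹) * q := by
      intro q hq
      have hq' : y⁻¹ * q * y ∈ S₀ := by
        refine (Subgroup.mem_normalizer_iff.1 hy (y⁻¹ * q * y)).2 ?_
        have e1 : y * (y⁻¹ * q * y) * y⁻¹ = q := by group
        rw [e1]; exact hQS hq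
      have h1 := hzS _ hq'
      calc q * (y * z * y⁻¹) = y * ((y⁻¹ * q * y) * z) * y⁻¹ := by group
        _ = y * (z * (y⁻¹ * q * y)) * y⁻¹ := by rw [h1]
        _ = (y * z * y⁻¹) * q := by group
    rcases (memZ _).1 (h.cent _ hcomm) with h1 | h1
    · exfalso; apply h.ne_one
      calc z = y⁻¹ * (y * z * y⁻¹) * y := by group
        _ = 1 := by rw [h1]; group
    · calc y * z = (y * z * y⁻¹) * y := by group
        _ = z * y := by rw [h1]
  rw [eq_top_iff, ← hfrat]
  exact sup_le (hNS.trans hHN) le_rfl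

/-- Simplicity criterion: `Q` large extraspecial with centre `⟨z⟩`, and every normal subgroup
containing `z` contains `C_G(z)`. -/
theorem isSimpleGroup_of_qdata {G : Type*} [Group G] [Finite G] {Q : Subgroup G} {z : G}
    (h : QData Q z)
    (hlarge : ∀ K : Subgroup G, Odd (Nat.card K) → Q ≤ Subgroup.normalizer (K : Set G) → K = ⊥)
    (hN : ∀ N : Subgroup G, N.Normal → z ∈ N → Subgroup.centralizer ({z} : Set G) ≤ N) :
    IsSimpleGroup G :=
  { exists_pair_ne := ⟨z, 1, h.ne_one⟩
    eq_bot_or_eq_top_of_normal := by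
      intro N hNn
      by_cases hN1 : N = ⊥
      · exact Or.inl hN1
      · right
        have := hNn
        have hz := z_mem_of_normal h hlarge N hN1
        exact eq_top_of_centralizer_le h N (hN N hNn hz) }

end Cfsg.Agent.Lib.helper92
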