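import Mathlib
import Cfsg.Agent.Lib.helper2.BFDefs
import Cfsg.Agent.Lib.helper20.D1EFinal
import Cfsg.Agent.Lib.helper4.CharDecomp
import Cfsg.Agent.Lib.helper81.Kernel
import Cfsg.Agent.Lib.helper83.D1ER0

set_option autoImplicit false

open Cfsg Cfsg.Agent.Lib.helper20.D1E
open scoped ComplexConjugate

namespace Cfsg.Agent.Lib.helper92.BF

open Cfsg.Agent.Lib.helper2.BF

/-- `mu … 0` is the plain average over the powers of `x`. -/
theorem helper92_mu_zero_eq (p : ℕ) [Fact p.Prime] {G : Type*} [Group G] (x : G) (f : G → ℂ) :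
    mu p x f 0 = (p : ℂ)⁻¹ * ∑ i ∈ Finset.range p, f (x ^ i) := by
  unfold mu
  congr 1
  apply Finset.sum_congr rfl
  intro i _
  rw [ZMod.val_zero, zero_mul, pow_zero, inv_one, mul_one]

theorem helper92_mu_zero_add (p : ℕ) [Fact p.Prime] {G : Type*} [Group G] (x : G)
    (f g : G → ℂ) : mu p x (f + g) 0 = mu p x f 0 + mu p x g 0 := by
  rw [helper92_mu_zero_eq, helper92_mu_zero_eq, helper92_mu_zero_eq, ← mul_add,
    ← Finset.sum_add_distrib]
  rfl

theorem helper92_mu_zero_zero (p : ℕ) [Fact p.Prime] {G : Type*} [Group G] (x : G) :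
    mu p x (0 : G → ℂ) 0 = 0 := by
  rw [helper92_mu_zero_eq]
  simp

/-- For a character the average over the powers of `x` is a natural number. -/
theorem helper92_mu_zero_nat (p : ℕ) [Fact p.Prime] {G : Type*} [Group G] (x : G)
    (hxp : x ^ p = 1) (χ : G → ℂ) (hχ : IsCharacter G χ) : ∃ d : ℕ, mu p x χ 0 = (d : ℂ) := by
  obtain ⟨m, hm⟩ := Cfsg.Agent.Lib.helper83.D1E.mult_nat p x hxp χ hχ 0
  refine ⟨m, ?_⟩
  rw [← hm, helper92_mu_zero_eq]
  congr 1
  symm
  refine Finset.sum_nbij' (fun k : ZMod p => k.val) (fun n : ℕ => (n : ZMod p)) ?_ ?_ ?_ ?_ ?_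
  · intro a _
    exact Finset.mem_range.mpr (ZMod.val_lt a)
  · intro n _
    exact Finset.mem_univ _
  · intro a _
    exact ZMod.natCast_zmod_val a
  · intro n hn
    exact ZMod.val_natCast_of_lt (Finset.mem_range.mp hn)
  · intro a _
    rw [zero_mul, Cfsg.Agent.Lib.helper83.D1E.eZ_zero, inv_one, one_mul]

theorem helper92_mu_list {G : Type*} [Group G] [Fintype G] (p : ℕ) [Fact p.Prime] (x : G)
    (hxp : x ^ p = 1) (l : List (IrrCharacter G)) :
    ∃ D : ℕ, mu p x (l.map Subtype.val).sum 0 = (D : ℂ) ∧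
      (D = 0 → ∀ ψ ∈ l, mu p x (ψ : G → ℂ) 0 = 0) := by
  induction l with
  | nil =>
    refine ⟨0, ?_, ?_⟩
    · rw [List.map_nil, List.sum_nil, helper92_mu_zero_zero, Nat.cast_zero]
    · intro _ ψ hψ
      simp at hψ
  | cons a l ih =>
    obtain ⟨D, hD, hD0⟩ := ih
    obtain ⟨n, _, ρ, hirr, hρ⟩ : ∃ n : ℕ, True ∧ ∃ ρ : Representation ℂ G (Fin n → ℂ),
        ρ.IsIrreducible ∧ ρ.character = (a : G → ℂ) := by
      obtain ⟨n, ρ, h1, h2⟩ := a.2
      exact ⟨n, trivial, ρ, h1, h2⟩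
    obtain ⟨d, hd⟩ := helper92_mu_zero_nat p x hxp (a : G → ℂ) ⟨n, ρ, hρ⟩
    refine ⟨d + D, ?_, ?_⟩
    · rw [List.map_cons, List.sum_cons, helper92_mu_zero_add, hd, hD, Nat.cast_add]
    · intro h0 ψ hψ
      rcases List.mem_cons.mp hψ with rfl | hψ
      · rw [hd]
        have : d = 0 := by omega
        rw [this, Nat.cast_zero]
      · exact hD0 (by omega) ψ hψ

theorem helper92_inner_list_zero {G : Type*} [Group G] [Fintype G] (l : List (IrrCharacter G))
    (υ : IrrCharacter G) (h : υ ∉ l) :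
    classInner (l.map Subtype.val).sum (υ : G → ℂ) = 0 := by
  induction l with
  | nil =>
    rw [List.map_nil, List.sum_nil]
    exact Cfsg.Agent.Lib.helper4.classInner_zero_left _
  | cons a l ih =>
    rw [List.map_cons, List.sum_cons, Cfsg.Agent.Lib.helper4.classInner_add_left,
      ih (fun hm => h (List.mem_cons_of_mem _ hm)), add_zero]
    apply Cfsg.Agent.Lib.helper4.classInner_irr_ne a.2 υ.2
    intro hau
    apply h
    rw [show υ = a from (Subtype.ext hau).symm]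
    exact List.mem_cons_self

end Cfsg.Agent.Lib.helper92.BF

namespace Cfsg.Agent.Lib.helper2.BF

open Cfsg.Agent.Lib.helper92.BF

variable {G : Type*} [Group G] [Fintype G]

/-- B7. -/
theorem mu_zero_of_constituent (p : ℕ) [Fact p.Prime] (x : G) (hxp : x ^ p = 1)
    (Ξ : G → ℂ) (hΞ : IsCharacter G Ξ) (h0 : mu p x Ξ 0 = 0) (υ : IrrCharacter G)
    (hυ : classInner Ξ (υ : G → ℂ) ≠ 0) : mu p x (υ : G → ℂ) 0 = 0 := by
  obtain ⟨l, hl⟩ := Cfsg.Agent.Lib.helper4.exists_irr_list_of_isCharacter hΞ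
  have hmem : υ ∈ l := by
    by_contra hnot
    apply hυ
    rw [hl]
    exact helper92_inner_list_zero l υ hnot
  obtain ⟨D, hD, hD0⟩ := helper92_mu_list p x hxp l
  rw [hl, hD] at h0
  have hDz : D = 0 := by exact_mod_cast h0
  exact hD0 hDz υ hmem

end Cfsg.Agent.Lib.helper2.BF
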