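import Mathlib
import Cfsg.Agent.Lib.helper2.BFDefs
import Cfsg.Agent.Lib.helper20.D1EFinal
import Cfsg.Agent.Lib.helper4.CharDecomp
import Cfsg.Agent.Lib.helper81.Kernel

set_option autoImplicit false

open Cfsg Cfsg.Agent.Lib.helper20.D1E
open scoped ComplexConjugate

namespace Cfsg.Agent.Lib.helper92.BF

open Cfsg.Agent.Lib.helper2.BF

/-- Evaluating a list sum of irreducible characters at two points with equal values. -/
theorem helper92_list_sum_eval {G : Type*} [Group G] (l : List (IrrCharacter G)) (y z : G)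
    (h : ∀ ψ ∈ l, (ψ : G → ℂ) y = (ψ : G → ℂ) z) :
    (l.map Subtype.val).sum y = (l.map Subtype.val).sum z := by
  induction l with
  | nil => rfl
  | cons a l ih =>
    rw [List.map_cons, List.sum_cons, Pi.add_apply, Pi.add_apply,
      h a List.mem_cons_self, ih (fun ψ hψ => h ψ (List.mem_cons_of_mem _ hψ))]

/-- Degrees of the members of a list of irreducible characters are bounded by the degree of
the sum. -/
theorem helper92_list_degree {G : Type*} [Group G] [Fintype G] (l : List (IrrCharacter G)) :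
    ∃ N : ℕ, (l.map Subtype.val).sum 1 = (N : ℂ) ∧
      ∀ ψ ∈ l, charDegree (ψ : G → ℂ) ≤ N := by
  induction l with
  | nil => exact ⟨0, by simp, by simp⟩
  | cons a l ih =>
    obtain ⟨N, hN, hle⟩ := ih
    obtain ⟨n, -, hn⟩ := Cfsg.Agent.Lib.helper4.exists_pos_nat_degree a.2
    refine ⟨n + N, ?_, ?_⟩
    · rw [List.map_cons, List.sum_cons, Pi.add_apply, hN, hn, Nat.cast_add]
    · intro ψ hψ
      rcases List.mem_cons.mp hψ with rfl | hψ
      · have : charDegree (ψ : G → ℂ) = n := by
          unfold charDegree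
          rw [hn, Complex.natCast_re, Nat.floor_natCast]
        omega
      · have := hle ψ hψ
        omega

/-- A normal subgroup containing an element of order `p` contains all of them when
`p ^ 2 ∤ |G|`. -/
theorem helper92_mem_of_order {G : Type*} [Group G] [Finite G] (p : ℕ) (hp : p.Prime)
    (hsq : ¬ p ^ 2 ∣ Nat.card G) (N : Subgroup G) [N.Normal] (x : G) (hx : x ∈ N)
    (hxo : orderOf x = p) (y : G) (hyo : orderOf y = p) : y ∈ N := by
  have hpN : p ∣ Nat.card N := by
    rw [← hxo]
    exact Subgroup.orderOf_dvd_natCard N hx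
  have hidx : ¬ p ∣ N.index := by
    intro hd
    apply hsq
    rw [← Subgroup.card_mul_index N, pow_two]
    exact Nat.mul_dvd_mul hpN hd
  have h1 : orderOf (QuotientGroup.mk' N y) ∣ p := by
    rw [← hyo]
    exact orderOf_map_dvd _ y
  have h2 : orderOf (QuotientGroup.mk' N y) ∣ N.index := by
    rw [Subgroup.index_eq_card]
    exact orderOf_dvd_natCard _
  have h3 : orderOf (QuotientGroup.mk' N y) = 1 := by
    rcases (Nat.dvd_prime hp).mp h1 with h | h
    · exact h
    · exfalso
      rw [h] at h2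
      exact hidx h2
  rw [orderOf_eq_one_iff] at h3
  exact (QuotientGroup.eq_one_iff y).mp h3

end Cfsg.Agent.Lib.helper92.BF

namespace Cfsg.Agent.Lib.helper2.BF

open Cfsg.Agent.Lib.helper92.BF

/-- C5 (from the irreducible form to the statement of S4503). -/
theorem s4503_of_irr {G : Type*} [Group G] [Finite G] (p : ℕ) (hp : p.Prime)
    (hdiv : p ∣ Nat.card G) (hsq : ¬ p ^ 2 ∣ Nat.card G)
    (hnn : ∀ H : Subgroup G, H.Normal → Nat.card H ≠ p) (χ : G → ℂ)
    (hχ : Cfsg.IsCharacter G χ) (hfaith : ∀ g : G, χ g = χ 1 → g = 1)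
    (hirr : ∀ ψ : G → ℂ, IsIrrCharacter G ψ → 2 * charDegree ψ + 1 < p → Good p G ψ) :
    p ≤ 2 * Cfsg.charDegree χ + 1 := by
  by_contra hlt
  push Not at hlt
  have : Fact p.Prime := ⟨hp⟩
  have : Fintype G := Fintype.ofFinite G
  obtain ⟨l, hl⟩ := Cfsg.Agent.Lib.helper4.exists_irr_list_of_isCharacter hχ
  obtain ⟨N, hN, hle⟩ := helper92_list_degree l
  have hdegχ : charDegree χ = N := by
    unfold charDegree
    rw [hl, hN, Complex.natCast_re, Nat.floor_natCast]
  -- the subgroup generated by the elements of order `p`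
  obtain ⟨D, hD⟩ : ∃ D : Subgroup G, D = Subgroup.normalClosure {x : G | orderOf x = p} :=
    ⟨_, rfl⟩
  have hDn : D.Normal := by
    rw [hD]
    exact Subgroup.normalClosure_normal
  -- `p`-regular elements of `D` are trivial
  have hreg : ∀ y ∈ D, ¬ p ∣ orderOf y → y = 1 := by
    intro y hy hyp
    apply hfaith
    rw [hl]
    apply helper92_list_sum_eval
    intro ψ hψ
    have hdeg : 2 * charDegree (ψ : G → ℂ) + 1 < p := by
      have := hle ψ hψ
      omega
    obtain ⟨M, hMn, ⟨x, hxM, hxo⟩, hM⟩ := hirr ψ.1 ψ.2 hdeg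
    have := hMn
    have hDM : D ≤ M := by
      rw [hD]
      apply Subgroup.normalClosure_le_normal
      intro z hz
      exact helper92_mem_of_order p hp hsq M x hxM hxo z hz
    exact hM y (hDM hy) hyp
  -- `D` is a `p`-group
  have hDp : IsPGroup p D := by
    intro g
    have ho : orderOf (g : G) ≠ 0 := (orderOf_pos (g : G)).ne'
    obtain ⟨e, m, hm, hem⟩ := Nat.exists_eq_pow_mul_and_not_dvd ho p hp.ne_one
    refine ⟨e, ?_⟩
    have h1 : ((g : G) ^ p ^ e) = 1 := by
      apply hreg _ (D.pow_mem g.2 _)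
      have hpe : p ^ e ≠ 0 := pow_ne_zero _ hp.pos.ne'
      rw [orderOf_pow_of_dvd hpe (by rw [hem]; exact dvd_mul_right _ _), hem,
        Nat.mul_div_cancel_left _ (Nat.pos_of_ne_zero hpe)]
      exact hm
    exact Subtype.ext (by simpa using h1)
  obtain ⟨n, hn⟩ := IsPGroup.iff_card.mp hDp
  -- `D` contains an element of order `p`
  obtain ⟨x, hxo⟩ := exists_prime_orderOf_dvd_card' p hdiv
  have hxD : x ∈ D := by
    rw [hD]
    exact Subgroup.subset_normalClosure hxo
  have hn1 : n = 1 := by
    have h1 : p ^ n ∣ Nat.card G := by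
      rw [← hn]
      exact Subgroup.card_subgroup_dvd_card D
    have h2 : n ≤ 1 := by
      by_contra h
      push Not at h
      exact hsq ((pow_dvd_pow p h).trans h1)
    have h3 : n ≠ 0 := by
      rintro rfl
      rw [pow_zero] at hn
      have hbot : D = ⊥ := Subgroup.card_eq_one.mp hn
      rw [hbot, Subgroup.mem_bot] at hxD
      rw [hxD, orderOf_one] at hxo
      exact hp.one_lt.ne hxo
    omega
  rw [hn1, pow_one] at hn
  exact hnn D hDn hn

end Cfsg.Agent.Lib.helper2.BF
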