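import Mathlib

/-!
Piece L of the Zassenhaus project (S0690, helper15): finite checks in the quaternion group of
order 16.
-/

set_option autoImplicit false

namespace Cfsg.Agent.Lib.helper92

namespace ZassL

/-- The generalized quaternion group of order 16. -/
abbrev Q := QuaternionGroup 4

/-- Membership in the subgroup generated by `a ^ 2` and `b`. -/
abbrev InM (a b p : Q) : Prop := ∃ k : Fin 4, p = (a^2)^(k:ℕ) ∨ p = (a^2)^(k:ℕ) * b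

set_option maxRecDepth 100000 in
theorem d3 : ∀ u v : Q, u^2 ≠ 1 → u^4 = 1 → v * u * v⁻¹ = u⁻¹ →
    ∃ α : Q, α^2 = u ∨ α^2 = v ∨ α^2 = u * v := by
  decide +kernel

set_option maxRecDepth 100000 in
theorem dinv : ∀ a b : Q, a^4 ≠ 1 → b * a^2 * b⁻¹ = (a^2)⁻¹ → b * a * b⁻¹ = a⁻¹ := by
  decide +kernel

set_option maxRecDepth 100000 in
theorem dmul : ∀ a b p q : Q, a^4 ≠ 1 → b * a * b⁻¹ = a⁻¹ → InM a b p → InM a b q →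
    InM a b (p * q) := by
  decide +kernel

set_option maxRecDepth 100000 in
theorem dinvM : ∀ a b p : Q, a^4 ≠ 1 → b * a * b⁻¹ = a⁻¹ → InM a b p → InM a b p⁻¹ := by
  decide +kernel

set_option maxRecDepth 100000 in
theorem dnotM : ∀ a b : Q, a^4 ≠ 1 → b * a * b⁻¹ = a⁻¹ → ¬ InM a b a := by
  decide +kernel

set_option maxRecDepth 100000 in
theorem dfoc : ∀ a b p r : Q, a^4 ≠ 1 → b * a * b⁻¹ = a⁻¹ →
    InM a b (p * r) ∨ ¬ (p^4 = 1 ↔ r^4 = 1) ∨ ¬ (p^2 = 1 ↔ r^2 = 1) ∨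
    ((∃ s : Q, s * p⁻¹ * s⁻¹ = a^2 ∨ s * p⁻¹ * s⁻¹ = b) ∧ (∃ s' : Q, s' * r * s'⁻¹ = a * b)) ∨
    ((∃ s : Q, s * p⁻¹ * s⁻¹ = a * b) ∧ (∃ s' : Q, s' * r * s'⁻¹ = a^2 ∨ s' * r * s'⁻¹ = b)) := by
  decide +kernel

set_option maxRecDepth 100000 in
theorem dF1 : ∀ a b q : Q, a^4 ≠ 1 → b * a * b⁻¹ = a⁻¹ →
    (q * a^2 * q⁻¹ = a^2 ∨ q * a^2 * q⁻¹ = (a^2)⁻¹) ∧
    (∃ i : Fin 4, q * (a * b) * q⁻¹ = (a^2)^(i:ℕ) * (a * b)) := by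
  decide +kernel

set_option maxRecDepth 100000 in
theorem dF2 : ∀ a b : Q, a^4 ≠ 1 → b * a * b⁻¹ = a⁻¹ →
    a^2 * (a * b) * (a^2)⁻¹ = (a * b)⁻¹ ∧ (a * b)^2 = (a^2)^2 ∧
    (a^2)⁻¹ * (a * b) * a^2 = (a * b)⁻¹ := by
  decide +kernel

set_option maxRecDepth 100000 in
theorem dF3 : ∀ a b' τ : Q, a^4 ≠ 1 → τ * a = a * τ → b' * τ * b'⁻¹ = τ⁻¹ → τ^2 = b'^2 →
    b'^2 ≠ 1 → (τ = a^2 ∨ τ = (a^2)⁻¹) ∧ b' * a * b'⁻¹ = a⁻¹ := by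
  decide +kernel

set_option maxRecDepth 100000 in
theorem dF4 : ∀ a b' τ q : Q, a^4 ≠ 1 → b' * a * b'⁻¹ = a⁻¹ → (τ = a^2 ∨ τ = (a^2)⁻¹) →
    (∃ i : Fin 4, q * b' * q⁻¹ = τ^(i:ℕ) * b') ∧ (q * τ * q⁻¹ = τ ∨ q * τ * q⁻¹ = τ⁻¹) := by
  decide +kernel

set_option maxRecDepth 100000 in
theorem dF5 : ∀ a q₀ : Q, a^4 ≠ 1 → q₀^4 ≠ 1 → q₀^2 = a^2 ∨ q₀^2 = (a^2)⁻¹ := by
  decide +kernel

/-- The subgroup `⟨a ^ 2, b⟩` of index two. -/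
def M0 (a b : Q) (ha : a^4 ≠ 1) (hb : b * a * b⁻¹ = a⁻¹) : Subgroup Q where
  carrier := {p | InM a b p}
  mul_mem' := fun {p q} hp hq => dmul a b p q ha hb hp hq
  one_mem' := ⟨0, Or.inl (by simp)⟩
  inv_mem' := fun {p} hp => dinvM a b p ha hb hp

theorem mem_M0 (a b : Q) (ha : a^4 ≠ 1) (hb : b * a * b⁻¹ = a⁻¹) (p : Q) :
    p ∈ M0 a b ha hb ↔ InM a b p := Iff.rfl

end ZassL

end Cfsg.Agent.Lib.helper92
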