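import Mathlib
import Cfsg.Agent.Lib.helper15.ZassDefs
import Cfsg.Agent.Lib.helper21.SylowConj
import Cfsg.Agent.Lib.helper92.ZassLQ

/-!
Piece L of the Zassenhaus project (S0690, helper15): fusion in a Sylow 2-subgroup of order 16.
-/

set_option autoImplicit false

namespace Cfsg.Agent.Lib.helper92

open Cfsg.Agent.Lib.helper15.Zass

namespace ZassL

variable {G : Type*} [Group G]

theorem conj_pow_inv (c y : G) (i : ℕ) : (c⁻¹ * y * c) ^ i = c⁻¹ * y ^ i * c := by
  have := @conj_pow G _ i c⁻¹ y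
  simpa using this

theorem mem_normalizer_closure (X : Set G) (g : G)
    (h1 : ∀ s ∈ X, g * s * g⁻¹ ∈ Subgroup.closure X)
    (h2 : ∀ s ∈ X, g⁻¹ * s * g ∈ Subgroup.closure X) :
    g ∈ Subgroup.normalizer (Subgroup.closure X : Set G) := by
  have key1 : ∀ w ∈ Subgroup.closure X, g * w * g⁻¹ ∈ Subgroup.closure X := by
    intro w hw
    induction hw using Subgroup.closure_induction with
    | mem s hs => exact h1 s hs
    | one => simp
    | mul y y' _ _ ih ih' =>
      have : g * (y * y') * g⁻¹ = (g * y * g⁻¹) * (g * y' * g⁻¹) := by group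
      rw [this]; exact mul_mem ih ih'
    | inv y _ ih =>
      have : g * y⁻¹ * g⁻¹ = (g * y * g⁻¹)⁻¹ := by group
      rw [this]; exact inv_mem ih
  have key2 : ∀ w ∈ Subgroup.closure X, g⁻¹ * w * g ∈ Subgroup.closure X := by
    intro w hw
    induction hw using Subgroup.closure_induction with
    | mem s hs => exact h2 s hs
    | one => simp
    | mul y y' _ _ ih ih' =>
      have : g⁻¹ * (y * y') * g = (g⁻¹ * y * g) * (g⁻¹ * y' * g) := by group
      rw [this]; exact mul_mem ih ih'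
    | inv y _ ih =>
      have : g⁻¹ * y⁻¹ * g = (g⁻¹ * y * g)⁻¹ := by group
      rw [this]; exact inv_mem ih
  rw [Subgroup.mem_normalizer_iff]
  intro y
  constructor
  · intro hy
    exact key1 y hy
  · intro hy
    have := key2 _ hy
    have e : g⁻¹ * (g * y * g⁻¹) * g = y := by group
    rw [e] at this
    exact this

theorem mem_normalizer_zpowers (t g : G) (h1 : g * t * g⁻¹ ∈ Subgroup.zpowers t)
    (h2 : g⁻¹ * t * g ∈ Subgroup.zpowers t) :
    g ∈ Subgroup.normalizer (Subgroup.zpowers t : Set G) := by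
  rw [Subgroup.zpowers_eq_closure] at h1 h2 ⊢
  refine mem_normalizer_closure {t} g ?_ ?_
  · intro s hs
    rw [Set.mem_singleton_iff] at hs
    rw [hs]; exact h1
  · intro s hs
    rw [Set.mem_singleton_iff] at hs
    rw [hs]; exact h2

theorem conj_mem_closure_pair (c a b y : G) (hy : y ∈ Subgroup.closure {a, b}) :
    c * y * c⁻¹ ∈ Subgroup.closure {c * a * c⁻¹, c * b * c⁻¹} := by
  induction hy using Subgroup.closure_induction with
  | mem s hs =>
    rcases Set.mem_insert_iff.mp hs with h1 | h1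
    · rw [h1]; exact Subgroup.subset_closure (Set.mem_insert _ _)
    · rw [Set.mem_singleton_iff.mp h1]
      exact Subgroup.subset_closure (Set.mem_insert_of_mem _ rfl)
  | one => simp
  | mul y y' _ _ ih ih' =>
    have : c * (y * y') * c⁻¹ = (c * y * c⁻¹) * (c * y' * c⁻¹) := by group
    rw [this]; exact mul_mem ih ih'
  | inv y _ ih =>
    have : c * y⁻¹ * c⁻¹ = (c * y * c⁻¹)⁻¹ := by group
    rw [this]; exact inv_mem ih

/-- The conclusion of piece L. -/
def Concl (u v : G) : Prop :=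
  ∃ α n : G, α ^ 2 = u ∧ v * α * v⁻¹ = α⁻¹ ∧ n * u * n⁻¹ = α * v ∧
    n * (α * v) * n⁻¹ ∈ Subgroup.closure {u, α * v}

theorem concl_conj (c u v : G) (h : Concl u v) : Concl (c * u * c⁻¹) (c * v * c⁻¹) := by
  obtain ⟨α, n, h1, h2, h3, h4⟩ := h
  refine ⟨c * α * c⁻¹, c * n * c⁻¹, ?_, ?_, ?_, ?_⟩
  · rw [conj_pow, h1]
  · have : c * v * c⁻¹ * (c * α * c⁻¹) * (c * v * c⁻¹)⁻¹ = c * (v * α * v⁻¹) * c⁻¹ := by group
    rw [this, h2]; group
  · have : c * n * c⁻¹ * (c * u * c⁻¹) * (c * n * c⁻¹)⁻¹ = c * (n * u * n⁻¹) * c⁻¹ := by group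
    rw [this, h3]; group
  · have e1 : c * n * c⁻¹ * (c * α * c⁻¹ * (c * v * c⁻¹)) * (c * n * c⁻¹)⁻¹
        = c * (n * (α * v) * n⁻¹) * c⁻¹ := by group
    have e2 : c * α * c⁻¹ * (c * v * c⁻¹) = c * (α * v) * c⁻¹ := by group
    rw [e1, e2]
    exact conj_mem_closure_pair c _ _ _ h4

theorem std_vu {u v x : G} (hs : Std u v x) : v * u = u⁻¹ * v := by
  rw [← hs.vu]; group

theorem std_vuv {u v x : G} (hs : Std u v x) : v * (u * v) = u := by
  calc v * (u * v) = (v * u) * v := by group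
    _ = u⁻¹ * v * v := by rw [std_vu hs]
    _ = u⁻¹ * v ^ 2 := by rw [pow_two, mul_assoc]
    _ = u⁻¹ * u ^ 2 := by rw [hs.v2]
    _ = u := by rw [pow_two]; group

theorem std_rot {u v x : G} (hs : Std u v x) : Std v (u * v) x := by
  have e := std_vu hs
  have hv4 : v ^ 4 = 1 := by
    have : v ^ 4 = (v ^ 2) ^ 2 := by rw [← pow_mul]
    rw [this, hs.v2, ← pow_mul]; exact hs.u4
  refine ⟨by rw [hs.v2]; exact hs.u2, hv4, ?_, ?_, hs.x3, hs.xv, ?_⟩
  · calc (u * v) ^ 2 = u * (v * u) * v := by rw [pow_two]; group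
      _ = u * (u⁻¹ * v) * v := by rw [e]
      _ = v ^ 2 := by rw [pow_two]; group
  · have e2 : u * v * u⁻¹ = v * (u ^ 2)⁻¹ := by
      calc u * v * u⁻¹ = u * (v * u) * u⁻¹ * u⁻¹ := by group
        _ = u * (u⁻¹ * v) * u⁻¹ * u⁻¹ := by rw [e]
        _ = v * (u ^ 2)⁻¹ := by rw [pow_two]; group
    have : u * v * v * (u * v)⁻¹ = u * v * u⁻¹ := by group
    rw [this, e2, ← hs.v2, pow_two]; group
  · have : x * (u * v) * x⁻¹ = (x * u * x⁻¹) * (x * v * x⁻¹) := by group
    rw [this, hs.xu, hs.xv]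

open scoped commutatorElement in
theorem focal_step [Finite G] (hperf : commutator G = ⊤) (S : Sylow 2 G) (f : Q →* G)
    (hf : Function.Injective f) (hfS : ∀ y, y ∈ (S : Subgroup G) ↔ ∃ q, f q = y)
    (a b : Q) (ha : a ^ 4 ≠ 1) (hb : b * a * b⁻¹ = a⁻¹) (w : G)
    (hw : w * f (a ^ 2) * w⁻¹ = f b) :
    ∃ g : G, g * f (a ^ 2) * g⁻¹ = f (a * b) := by
  by_contra hno
  push Not at hno
  have hnc : ¬ IsConj (f (a ^ 2)) (f (a * b)) := by
    intro hc
    obtain ⟨g, hg⟩ := isConj_iff.mp hc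
    exact hno g hg
  have huv : IsConj (f (a ^ 2)) (f b) := isConj_iff.mpr ⟨w, hw⟩
  have hcj : ∀ q q' s : Q, s * q * s⁻¹ = q' → IsConj (f q) (f q') := by
    intro q q' s hq
    refine isConj_iff.mpr ⟨f s, ?_⟩
    rw [← hq, map_mul, map_mul, map_inv]
  have hle : (S : Subgroup G) ≤ (M0 a b ha hb).map f := by
    have h1 : (S : Subgroup G) = (S : Subgroup G).focalSubgroup := by
      have := Subgroup.commutator_inf_eq_focalSubgroup S
      rw [hperf, top_inf_eq] at this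
      exact this
    rw [h1, Subgroup.focalSubgroup_def, Subgroup.closure_le]
    rintro g ⟨hgS, x₀, hx₀, w', rfl⟩
    obtain ⟨p, rfl⟩ := (hfS x₀).mp hx₀
    have hc : w' * (f p)⁻¹ * w'⁻¹ ∈ (S : Subgroup G) := by
      have : w' * (f p)⁻¹ * w'⁻¹ = (f p)⁻¹ * ⁅f p, w'⁆ := by
        rw [commutatorElement_def]; group
      rw [this]; exact mul_mem (inv_mem hx₀) hgS
    obtain ⟨r, hr⟩ := (hfS _).mp hc
    have hg : ⁅f p, w'⁆ = f (p * r) := by
      rw [map_mul, hr, commutatorElement_def]; group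
    have hpr : IsConj (f p⁻¹) (f r) := isConj_iff.mpr ⟨w', by rw [hr, map_inv]⟩
    have hord : orderOf p = orderOf r := by
      have h1 : orderOf (f r) = orderOf (f p)⁻¹ := by
        rw [hr]
        exact MulEquiv.orderOf_eq (MulAut.conj w') ((f p)⁻¹)
      rw [orderOf_inv, orderOf_injective f hf, orderOf_injective f hf] at h1
      exact h1.symm
    rw [hg]
    refine Subgroup.mem_map_of_mem f ?_
    rw [mem_M0]
    rcases dfoc a b p r ha hb with hm | h4 | h2 | ⟨⟨s, hs⟩, ⟨s', hs'⟩⟩ | ⟨⟨s, hs⟩, ⟨s', hs'⟩⟩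
    · exact hm
    · exfalso; apply h4
      rw [← orderOf_dvd_iff_pow_eq_one, ← orderOf_dvd_iff_pow_eq_one, hord]
    · exfalso; apply h2
      rw [← orderOf_dvd_iff_pow_eq_one, ← orderOf_dvd_iff_pow_eq_one, hord]
    · exfalso; apply hnc
      have h1 : IsConj (f (a ^ 2)) (f p⁻¹) := by
        rcases hs with hs | hs
        · exact (hcj _ _ s hs).symm
        · exact huv.trans (hcj _ _ s hs).symm
      exact (h1.trans hpr).trans (hcj _ _ s' hs')
    · exfalso; apply hnc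
      have h1 : IsConj (f (a ^ 2)) (f r) := by
        rcases hs' with hs' | hs'
        · exact (hcj _ _ s' hs').symm
        · exact huv.trans (hcj _ _ s' hs').symm
      exact (h1.trans hpr.symm).trans (hcj _ _ s hs)
  have h1 : f a ∈ (M0 a b ha hb).map f := hle ((hfS _).mpr ⟨a, rfl⟩)
  obtain ⟨q, hq, hqa⟩ := Subgroup.mem_map.mp h1
  have h2 := hf hqa
  rw [h2] at hq
  exact dnotM a b ha hb hq


theorem sylow_step [Finite G] (S : Sylow 2 G) (f : Q →* G) (hf : Function.Injective f)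
    (hfS : ∀ y, y ∈ (S : Subgroup G) ↔ ∃ q, f q = y) (a b : Q) (ha : a ^ 4 ≠ 1)
    (hb : b * a * b⁻¹ = a⁻¹) (u t : G) (hu : f (a ^ 2) = u) (ht : f (a * b) = t)
    (g : G) (hg : g * u * g⁻¹ = t) :
    ∃ n : G, n * u * n⁻¹ = t ∧ n * t * n⁻¹ ∈ Subgroup.closure {u, t} := by
  have huS : u ∈ (S : Subgroup G) := (hfS u).mpr ⟨_, hu⟩
  have htS : t ∈ (S : Subgroup G) := (hfS t).mpr ⟨_, ht⟩
  have huQ : u ∈ Subgroup.closure {u, t} := Subgroup.subset_closure (Set.mem_insert _ _)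
  have htQ : t ∈ Subgroup.closure {u, t} :=
    Subgroup.subset_closure (Set.mem_insert_of_mem _ rfl)
  have hut : u * t * u⁻¹ = t⁻¹ := by
    rw [← hu, ← ht]; simpa only [map_mul, map_inv] using congrArg f (dF2 a b ha hb).1
  have ht2 : t ^ 2 = u ^ 2 := by
    rw [← hu, ← ht]; simpa only [map_pow] using congrArg f (dF2 a b ha hb).2.1
  have hut' : u⁻¹ * t * u = t⁻¹ := by
    rw [← hu, ← ht]; simpa only [map_mul, map_inv] using congrArg f (dF2 a b ha hb).2.2
  -- Step 1: S normalizes ⟨u⟩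
  have hSN : (S : Subgroup G) ≤ Subgroup.normalizer (Subgroup.zpowers u : Set G) := by
    intro y hy
    obtain ⟨q, rfl⟩ := (hfS y).mp hy
    have key : ∀ q : Q, f q * u * (f q)⁻¹ ∈ Subgroup.zpowers u := by
      intro q
      rcases (dF1 a b q ha hb).1 with h1 | h1
      · have : f q * u * (f q)⁻¹ = u := by
          rw [← hu]; simpa only [map_mul, map_inv] using congrArg f h1
        rw [this]; exact Subgroup.mem_zpowers u
      · have : f q * u * (f q)⁻¹ = u⁻¹ := by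
          rw [← hu]; simpa only [map_mul, map_inv] using congrArg f h1
        rw [this]; exact inv_mem (Subgroup.mem_zpowers u)
    refine mem_normalizer_zpowers u (f q) (key q) ?_
    have := key q⁻¹
    simpa only [map_inv, inv_inv] using this
  have hQS : Subgroup.closure {u, t} ≤ (S : Subgroup G) := by
    rw [Subgroup.closure_le]
    intro y hy
    rcases Set.mem_insert_iff.mp hy with h1 | h1
    · rw [h1]; exact huS
    · rw [Set.mem_singleton_iff.mp h1]; exact htS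
  have hQp : IsPGroup 2 (Subgroup.closure {u, t}) := S.isPGroup'.to_le hQS
  have hQNt : Subgroup.closure {u, t} ≤ Subgroup.normalizer (Subgroup.zpowers t : Set G) := by
    rw [Subgroup.closure_le]
    intro y hy
    rcases Set.mem_insert_iff.mp hy with h1 | h1
    · rw [h1]
      refine mem_normalizer_zpowers t u ?_ ?_
      · rw [hut]; exact inv_mem (Subgroup.mem_zpowers t)
      · rw [hut']; exact inv_mem (Subgroup.mem_zpowers t)
    · rw [Set.mem_singleton_iff.mp h1]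
      refine mem_normalizer_zpowers t t ?_ ?_
      · have : t * t * t⁻¹ = t := by group
        rw [this]; exact Subgroup.mem_zpowers t
      · have : t⁻¹ * t * t = t := by group
        rw [this]; exact Subgroup.mem_zpowers t
  -- Step 2: the conjugate of Q₂ by g⁻¹ normalizes ⟨u⟩
  have hH1p : IsPGroup 2 ((Subgroup.closure {u, t}).comap (MulAut.conj g).toMonoidHom) :=
    hQp.comap_of_injective _ (MulAut.conj g).injective
  have hH1N : (Subgroup.closure {u, t}).comap (MulAut.conj g).toMonoidHom ≤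
      Subgroup.normalizer (Subgroup.zpowers u : Set G) := by
    intro y hy
    rw [Subgroup.mem_comap] at hy
    have hy' : g * y * g⁻¹ ∈ Subgroup.closure {u, t} := hy
    have hqN := hQNt hy'
    have h1 : g * y * g⁻¹ * t * (g * y * g⁻¹)⁻¹ ∈ Subgroup.zpowers t :=
      (Subgroup.mem_normalizer_iff.mp hqN t).mp (Subgroup.mem_zpowers t)
    have h2 : (g * y * g⁻¹)⁻¹ * t * (g * y * g⁻¹) ∈ Subgroup.zpowers t :=
      (Subgroup.mem_normalizer_iff''.mp hqN t).mp (Subgroup.mem_zpowers t)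
    have back : ∀ w ∈ Subgroup.zpowers t, g⁻¹ * w * g ∈ Subgroup.zpowers u := by
      intro w hw
      obtain ⟨k, rfl⟩ := Subgroup.mem_zpowers_iff.mp hw
      rw [← hg, conj_zpow]
      have : g⁻¹ * (g * u ^ k * g⁻¹) * g = u ^ k := by group
      rw [this]; exact zpow_mem (Subgroup.mem_zpowers u) k
    refine mem_normalizer_zpowers u y ?_ ?_
    · have e : y * u * y⁻¹ = g⁻¹ * (g * y * g⁻¹ * t * (g * y * g⁻¹)⁻¹) * g := by
        rw [← hg]; group
      rw [e]; exact back _ h1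
    · have e : y⁻¹ * u * y = g⁻¹ * ((g * y * g⁻¹)⁻¹ * t * (g * y * g⁻¹)) * g := by
        rw [← hg]; group
      rw [e]; exact back _ h2
  -- Step 3: Sylow's theorem in the normalizer of ⟨u⟩
  obtain ⟨m, hmN, hm⟩ :=
    Cfsg.Agent.Lib.helper21.exists_conj_le_sylow_of_le S _ hSN _ hH1p hH1N
  obtain ⟨c, hc⟩ : ∃ c : G, c = m⁻¹ * g⁻¹ := ⟨_, rfl⟩
  have hcQ : ∀ q ∈ Subgroup.closure {u, t}, c * q * c⁻¹ ∈ (S : Subgroup G) := by
    intro q hq
    have h1 : g⁻¹ * q * g ∈ (Subgroup.closure {u, t}).comap (MulAut.conj g).toMonoidHom := by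
      rw [Subgroup.mem_comap]
      have : (MulAut.conj g).toMonoidHom (g⁻¹ * q * g) = q := by
        show g * (g⁻¹ * q * g) * g⁻¹ = q
        group
      rw [this]; exact hq
    have h2 := hm _ h1
    have e : c * q * c⁻¹ = m⁻¹ * (g⁻¹ * q * g) * m := by rw [hc]; group
    rw [e]; exact h2
  have hctu : c * t * c⁻¹ ∈ Subgroup.zpowers u := by
    have h1 : m⁻¹ * u * m⁻¹⁻¹ ∈ Subgroup.zpowers u :=
      (Subgroup.mem_normalizer_iff.mp (inv_mem hmN) u).mp (Subgroup.mem_zpowers u)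
    have e : c * t * c⁻¹ = m⁻¹ * u * m⁻¹⁻¹ := by rw [hc, ← hg]; group
    rw [e]; exact h1
  obtain ⟨b', hb'⟩ := (hfS _).mp (hcQ u huQ)
  obtain ⟨τ, hτ⟩ := (hfS _).mp (hcQ t htQ)
  have hτa : τ * a = a * τ := by
    obtain ⟨k, hk⟩ := Subgroup.mem_zpowers_iff.mp hctu
    have h1 : f τ = f ((a ^ 2) ^ k) := by rw [hτ, ← hk, map_zpow, hu]
    have h2 : τ = (a ^ 2) ^ k := hf h1
    rw [h2]
    exact (((Commute.refl a).pow_left 2).zpow_left k).eq
  have hbτ : b' * τ * b'⁻¹ = τ⁻¹ := by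
    apply hf
    rw [map_mul, map_mul, map_inv, map_inv, hb', hτ]
    have e : c * u * c⁻¹ * (c * t * c⁻¹) * (c * u * c⁻¹)⁻¹ = c * (u * t * u⁻¹) * c⁻¹ := by group
    rw [e, hut]; group
  have hτ2 : τ ^ 2 = b' ^ 2 := by
    apply hf
    rw [map_pow, map_pow, hb', hτ, conj_pow, conj_pow, ht2]
  have hb'2 : b' ^ 2 ≠ 1 := by
    intro h1
    have h2 : (c * u * c⁻¹) ^ 2 = 1 := by rw [← hb', ← map_pow, h1, map_one]
    rw [conj_pow] at h2
    have h3 : u ^ 2 = 1 := by
      have : u ^ 2 = c⁻¹ * (c * u ^ 2 * c⁻¹) * c := by group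
      rw [this, h2]; group
    apply ha
    apply hf
    have h4 : a ^ 4 = (a ^ 2) ^ 2 := by rw [← pow_mul]
    rw [map_one, h4, map_pow, hu, h3]
  obtain ⟨hτcase, hb'a⟩ := dF3 a b' τ ha hτa hbτ hτ2 hb'2
  -- Step 4: the conjugate Sylow subgroup normalizes Q₂
  have hub : c⁻¹ * f b' * c = u := by rw [hb']; group
  have htτ : c⁻¹ * f τ * c = t := by rw [hτ]; group
  have hSconj : ∀ q : Q, f q * u * (f q)⁻¹ ∈ Subgroup.closure {u, t} ∧
      f q * t * (f q)⁻¹ ∈ Subgroup.closure {u, t} := by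
    intro q
    obtain ⟨h1, i, h2⟩ := dF1 a b q ha hb
    constructor
    · rcases h1 with h1 | h1
      · have : f q * u * (f q)⁻¹ = u := by
          rw [← hu]; simpa only [map_mul, map_inv] using congrArg f h1
        rw [this]; exact huQ
      · have : f q * u * (f q)⁻¹ = u⁻¹ := by
          rw [← hu]; simpa only [map_mul, map_inv] using congrArg f h1
        rw [this]; exact inv_mem huQ
    · have : f q * t * (f q)⁻¹ = u ^ (i : ℕ) * t := by
        rw [← hu, ← ht]; simpa only [map_mul, map_inv, map_pow] using congrArg f h2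
      rw [this]; exact mul_mem (pow_mem huQ _) htQ
  have hSN2 : (S : Subgroup G) ≤ Subgroup.normalizer (Subgroup.closure {u, t} : Set G) := by
    intro y hy
    obtain ⟨q, rfl⟩ := (hfS y).mp hy
    refine mem_normalizer_closure _ _ ?_ ?_
    · intro s hs
      rcases Set.mem_insert_iff.mp hs with h1 | h1
      · rw [h1]; exact (hSconj q).1
      · rw [Set.mem_singleton_iff.mp h1]; exact (hSconj q).2
    · intro s hs
      have h' := hSconj q⁻¹
      simp only [map_inv, inv_inv] at h'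
      rcases Set.mem_insert_iff.mp hs with h1 | h1
      · rw [h1]; exact h'.1
      · rw [Set.mem_singleton_iff.mp h1]; exact h'.2
  have hH2p : IsPGroup 2 ((S : Subgroup G).comap (MulAut.conj c).toMonoidHom) :=
    S.isPGroup'.comap_of_injective _ (MulAut.conj c).injective
  have hS2conj : ∀ q : Q,
      (c⁻¹ * f q * c) * u * (c⁻¹ * f q * c)⁻¹ ∈ Subgroup.closure {u, t} ∧
      (c⁻¹ * f q * c) * t * (c⁻¹ * f q * c)⁻¹ ∈ Subgroup.closure {u, t} := by
    intro q
    obtain ⟨⟨i, h1⟩, h2⟩ := dF4 a b' τ q ha hb'a hτcase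
    constructor
    · have e : (c⁻¹ * f q * c) * u * (c⁻¹ * f q * c)⁻¹ = t ^ (i : ℕ) * u := by
        have e1 : f q * f b' * (f q)⁻¹ = f τ ^ (i : ℕ) * f b' := by
          simpa only [map_mul, map_inv, map_pow] using congrArg f h1
        calc (c⁻¹ * f q * c) * u * (c⁻¹ * f q * c)⁻¹
            = c⁻¹ * (f q * f b' * (f q)⁻¹) * c := by rw [← hub]; group
          _ = c⁻¹ * (f τ ^ (i : ℕ) * f b') * c := by rw [e1]
          _ = (c⁻¹ * f τ * c) ^ (i : ℕ) * (c⁻¹ * f b' * c) := by rw [conj_pow_inv]; group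
          _ = t ^ (i : ℕ) * u := by rw [htτ, hub]
      rw [e]; exact mul_mem (pow_mem htQ _) huQ
    · rcases h2 with h2 | h2
      · have e : (c⁻¹ * f q * c) * t * (c⁻¹ * f q * c)⁻¹ = t := by
          have e1 : f q * f τ * (f q)⁻¹ = f τ := by
            simpa only [map_mul, map_inv] using congrArg f h2
          calc (c⁻¹ * f q * c) * t * (c⁻¹ * f q * c)⁻¹
              = c⁻¹ * (f q * f τ * (f q)⁻¹) * c := by rw [← htτ]; group
            _ = t := by rw [e1, htτ]
        rw [e]; exact htQ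
      · have e : (c⁻¹ * f q * c) * t * (c⁻¹ * f q * c)⁻¹ = t⁻¹ := by
          have e1 : f q * f τ * (f q)⁻¹ = (f τ)⁻¹ := by
            simpa only [map_mul, map_inv] using congrArg f h2
          calc (c⁻¹ * f q * c) * t * (c⁻¹ * f q * c)⁻¹
              = c⁻¹ * (f q * f τ * (f q)⁻¹) * c := by rw [← htτ]; group
            _ = (c⁻¹ * f τ * c)⁻¹ := by rw [e1]; group
            _ = t⁻¹ := by rw [htτ]
        rw [e]; exact inv_mem htQ
  have hH2N : (S : Subgroup G).comap (MulAut.conj c).toMonoidHom ≤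
      Subgroup.normalizer (Subgroup.closure {u, t} : Set G) := by
    intro y hy
    rw [Subgroup.mem_comap] at hy
    have hy' : c * y * c⁻¹ ∈ (S : Subgroup G) := hy
    obtain ⟨q, hq⟩ := (hfS _).mp hy'
    have hyq : y = c⁻¹ * f q * c := by rw [hq]; group
    have hyq' : y⁻¹ = c⁻¹ * f q⁻¹ * c := by rw [hyq, map_inv]; group
    refine mem_normalizer_closure _ _ ?_ ?_
    · intro s hs
      rw [hyq]
      rcases Set.mem_insert_iff.mp hs with h1 | h1
      · rw [h1]; exact (hS2conj q).1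
      · rw [Set.mem_singleton_iff.mp h1]; exact (hS2conj q).2
    · intro s hs
      have h' := hS2conj q⁻¹
      rw [← hyq', inv_inv] at h'
      rcases Set.mem_insert_iff.mp hs with h1 | h1
      · rw [h1]; exact h'.1
      · rw [Set.mem_singleton_iff.mp h1]; exact h'.2
  -- Step 5: Sylow's theorem in the normalizer of Q₂
  obtain ⟨n₁, hn₁N, hn₁⟩ :=
    Cfsg.Agent.Lib.helper21.exists_conj_le_sylow_of_le S _ hSN2 _ hH2p hH2N
  have hβ : c⁻¹ * f a * c ∈ (S : Subgroup G).comap (MulAut.conj c).toMonoidHom := by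
    rw [Subgroup.mem_comap]
    have : (MulAut.conj c).toMonoidHom (c⁻¹ * f a * c) = f a := by
      show c * (c⁻¹ * f a * c) * c⁻¹ = f a
      group
    rw [this]; exact (hfS _).mpr ⟨a, rfl⟩
  obtain ⟨q₀, hq₀⟩ := (hfS _).mp (hn₁ _ hβ)
  have hq₀' : ∀ k : ℕ, f (q₀ ^ k) = n₁⁻¹ * (c⁻¹ * f (a ^ k) * c) * n₁ := by
    intro k
    rw [map_pow, hq₀, conj_pow_inv, conj_pow_inv, map_pow]
  have hq₀4 : q₀ ^ 4 ≠ 1 := by
    intro h1
    have h2 := hq₀' 4
    rw [h1, map_one] at h2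
    apply ha
    apply hf
    rw [map_one]
    have : f (a ^ 4) = c * (n₁ * (n₁⁻¹ * (c⁻¹ * f (a ^ 4) * c) * n₁) * n₁⁻¹) * c⁻¹ := by group
    rw [this, ← h2]; group
  have h2' := hq₀' 2
  rw [hu] at h2'
  have hcu : c⁻¹ * u * c = t ∨ c⁻¹ * u * c = t⁻¹ := by
    rcases hτcase with h1 | h1
    · left; rw [← htτ, h1, hu]
    · right
      rw [← htτ, h1, map_inv, hu]; group
  have hq2 : f (q₀ ^ 2) = u ∨ f (q₀ ^ 2) = u⁻¹ := by
    rcases dF5 a q₀ ha hq₀4 with h1 | h1
    · left; rw [h1, hu]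
    · right; rw [h1, map_inv, hu]
  have hn₁u : n₁ * u * n₁⁻¹ = t ∨ n₁ * u * n₁⁻¹ = t⁻¹ := by
    rcases hcu with h1 | h1 <;> rcases hq2 with h3 | h3
    · left
      rw [h1, h3] at h2'
      rw [h2']; group
    · right
      rw [h1, h3] at h2'
      have : n₁ * u * n₁⁻¹ = (n₁ * u⁻¹ * n₁⁻¹)⁻¹ := by group
      rw [this, h2']; group
    · right
      rw [h1, h3] at h2'
      rw [h2']; group
    · left
      rw [h1, h3] at h2'
      have : n₁ * u * n₁⁻¹ = (n₁ * u⁻¹ * n₁⁻¹)⁻¹ := by group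
      rw [this, h2']; group
  have hn₁t : n₁ * t * n₁⁻¹ ∈ Subgroup.closure {u, t} :=
    (Subgroup.mem_normalizer_iff.mp hn₁N t).mp htQ
  rcases hn₁u with h1 | h1
  · exact ⟨n₁, h1, hn₁t⟩
  · refine ⟨u * n₁, ?_, ?_⟩
    · have e : u * n₁ * u * (u * n₁)⁻¹ = u * (n₁ * u * n₁⁻¹) * u⁻¹ := by group
      rw [e, h1]
      have : u * t⁻¹ * u⁻¹ = (u * t * u⁻¹)⁻¹ := by group
      rw [this, hut, inv_inv]
    · have e : u * n₁ * t * (u * n₁)⁻¹ = u * (n₁ * t * n₁⁻¹) * u⁻¹ := by group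
      rw [e]; exact mul_mem (mul_mem huQ hn₁t) (inv_mem huQ)


theorem core [Finite G] (hperf : commutator G = ⊤) (u v x : G) (hs : Std u v x) (S : Sylow 2 G)
    (f : Q →* G) (hf : Function.Injective f) (hfS : ∀ y, y ∈ (S : Subgroup G) ↔ ∃ q, f q = y)
    (a b : Q) (hu : f (a ^ 2) = u) (hv : f b = v) : Concl u v := by
  have ha : a ^ 4 ≠ 1 := by
    intro h1
    apply hs.u2
    have h1' : (a ^ 2) ^ 2 = 1 := by rw [← pow_mul]; exact h1
    rw [← hu, ← map_pow, h1', map_one]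
  have hb2 : b * a ^ 2 * b⁻¹ = (a ^ 2)⁻¹ := by
    apply hf
    rw [map_mul, map_mul, map_inv, map_inv, hu, hv]
    exact hs.vu
  have hb : b * a * b⁻¹ = a⁻¹ := dinv a b ha hb2
  obtain ⟨g, hg⟩ := focal_step hperf S f hf hfS a b ha hb x (by rw [hu, hv]; exact hs.xu)
  obtain ⟨n, hn1, hn2⟩ := sylow_step S f hf hfS a b ha hb u (f a * v) hu (by rw [map_mul, hv]) g
    (by rw [← hu, ← hv, ← map_mul]; exact hg)
  refine ⟨f a, n, by rw [← map_pow, hu], ?_, hn1, hn2⟩
  simpa only [map_mul, map_inv, hv] using congrArg f hb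

end ZassL

/-- Piece L of S0690: the fusion pattern when a Sylow 2-subgroup has order 16. -/
theorem sylow_16_fusion {G : Type*} [Group G] [Finite G] (h : ZH G) (hperf : commutator G = ⊤)
    (u v x : G) (hs : Std u v x) (S : Sylow 2 G) (hS : Nat.card S = 16) :
    ∃ α n : G, α ^ 2 = u ∧ v * α * v⁻¹ = α⁻¹ ∧ n * u * n⁻¹ = α * v ∧
      n * (α * v) * n⁻¹ ∈ Subgroup.closure {u, α * v} := by
  have hou : orderOf u = 2 ^ (1 + 1) :=
    orderOf_eq_prime_pow (by simpa using hs.u2) (by simpa using hs.u4)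
  have hv4 : v ^ 4 = 1 := by
    have : v ^ 4 = (v ^ 2) ^ 2 := by rw [← pow_mul]
    rw [this, hs.v2, ← pow_mul]; exact hs.u4
  have hov : orderOf v = 2 ^ (1 + 1) :=
    orderOf_eq_prime_pow (by simpa [hs.v2] using hs.u2) (by simpa using hv4)
  have hpu : IsPGroup 2 (Subgroup.zpowers u) :=
    IsPGroup.of_card (n := 2) (by rw [Nat.card_zpowers, hou])
  have hpv : IsPGroup 2 (Subgroup.zpowers v) :=
    IsPGroup.of_card (n := 2) (by rw [Nat.card_zpowers, hov])
  have hvN : Subgroup.zpowers v ≤ Subgroup.normalizer (Subgroup.zpowers u : Set G) := by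
    rw [Subgroup.zpowers_le]
    refine ZassL.mem_normalizer_zpowers u v ?_ ?_
    · rw [hs.vu]; exact inv_mem (Subgroup.mem_zpowers u)
    · have h2 : v⁻¹ * u⁻¹ * v = u := by rw [← hs.vu]; group
      have : v⁻¹ * u * v = (v⁻¹ * u⁻¹ * v)⁻¹ := by group
      rw [this, h2]; exact inv_mem (Subgroup.mem_zpowers u)
  have hQp : IsPGroup 2 (Subgroup.closure {u, v}) := by
    have hcl : Subgroup.closure {u, v} = Subgroup.zpowers v ⊔ Subgroup.zpowers u := by
      rw [Subgroup.zpowers_eq_closure, Subgroup.zpowers_eq_closure, ← Subgroup.closure_union]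
      congr 1
      ext y; simp
    rw [hcl]; exact hpv.to_sup_of_normal_right' hpu hvN
  obtain ⟨S', hS'⟩ := hQp.exists_le_sylow
  have huS : u ∈ (S' : Subgroup G) := hS' (Subgroup.subset_closure (Set.mem_insert _ _))
  have hvS : v ∈ (S' : Subgroup G) :=
    hS' (Subgroup.subset_closure (Set.mem_insert_of_mem _ rfl))
  have hcard : Nat.card S' = 16 := by
    rw [Sylow.card_eq_multiplicity, ← Sylow.card_eq_multiplicity S, hS]
  have hncyc : ¬ IsCyclic (S' : Subgroup G) := by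
    intro hc
    have hcomm : (⟨u, huS⟩ : (S' : Subgroup G)) * ⟨v, hvS⟩ = ⟨v, hvS⟩ * ⟨u, huS⟩ :=
      (IsCyclic.isMulCommutative (α := ↥(S' : Subgroup G))).is_comm.comm _ _
    have huv : u * v = v * u := congrArg Subtype.val hcomm
    have h1 : v * u * v⁻¹ = u := by rw [← huv]; group
    rw [hs.vu] at h1
    have h2 : u * u = u⁻¹ * u := by rw [h1]
    apply hs.u2
    rw [pow_two, h2, inv_mul_cancel]
  obtain hcyc | ⟨-, n, ⟨e⟩⟩ := h.pgrp 2 S' S'.isPGroup'
  · exact absurd hcyc hncyc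
  have hn : n = 2 := by
    have h1 : Nat.card (QuaternionGroup (2 ^ n)) = 16 := by
      rw [← Nat.card_congr e.toEquiv, hcard]
    have h2 : Nat.card (QuaternionGroup (2 ^ n)) = 4 * 2 ^ n := by
      have : NeZero (2 ^ n) := ⟨by positivity⟩
      rw [Nat.card_eq_fintype_card, QuaternionGroup.card]
    rw [h2] at h1
    have h3 : 2 ^ n = 2 ^ 2 :=
      Nat.eq_of_mul_eq_mul_left (by norm_num : 0 < 4) (h1.trans (by norm_num))
    exact Nat.pow_right_injective (le_refl 2) h3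
  subst hn
  have e' : ↥(S' : Subgroup G) ≃* ZassL.Q := e
  obtain ⟨f, hfdef⟩ : ∃ f : ZassL.Q →* G, f = (S' : Subgroup G).subtype.comp e'.symm.toMonoidHom :=
    ⟨_, rfl⟩
  have hf : Function.Injective f := by
    rw [hfdef]
    exact Subtype.val_injective.comp e'.symm.injective
  have hfS : ∀ y, y ∈ (S' : Subgroup G) ↔ ∃ q, f q = y := by
    intro y
    constructor
    · intro hy
      exact ⟨e' ⟨y, hy⟩, by rw [hfdef]; simp⟩
    · rintro ⟨q, rfl⟩
      rw [hfdef]
      exact (e'.symm q).2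
  obtain ⟨U, hU⟩ := (hfS u).mp huS
  obtain ⟨V, hV⟩ := (hfS v).mp hvS
  have hU2 : U ^ 2 ≠ 1 := by
    intro h1
    apply hs.u2
    rw [← hU, ← map_pow, h1, map_one]
  have hU4 : U ^ 4 = 1 := by
    apply hf
    rw [map_pow, hU, hs.u4, map_one]
  have hVU : V * U * V⁻¹ = U⁻¹ := by
    apply hf
    rw [map_mul, map_mul, map_inv, map_inv, hU, hV]
    exact hs.vu
  obtain ⟨a, ha | ha | ha⟩ := ZassL.d3 U V hU2 hU4 hVU
  · exact ZassL.core hperf u v x hs S' f hf hfS a V (by rw [ha, hU]) hV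
  · have h1 := ZassL.core hperf v (u * v) x (ZassL.std_rot hs) S' f hf hfS a (U * V)
      (by rw [ha, hV]) (by rw [map_mul, hU, hV])
    have h2 := ZassL.concl_conj x⁻¹ _ _ h1
    have e1 : x⁻¹ * v * x⁻¹⁻¹ = u := by rw [← hs.xu]; group
    have e2 : x⁻¹ * (u * v) * x⁻¹⁻¹ = v := by rw [← hs.xv]; group
    rw [e1, e2] at h2
    exact h2
  · have hs2 : Std (u * v) (v * (u * v)) x := ZassL.std_rot (ZassL.std_rot hs)
    have e0 : v * (u * v) = u := ZassL.std_vuv hs
    rw [e0] at hs2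
    have h1 := ZassL.core hperf (u * v) u x hs2 S' f hf hfS a U
      (by rw [ha, map_mul, hU, hV]) hU
    have h2 := ZassL.concl_conj x _ _ h1
    have e1 : x * (u * v) * x⁻¹ = u := by
      have : x * (u * v) * x⁻¹ = (x * u * x⁻¹) * (x * v * x⁻¹) := by group
      rw [this, hs.xu, hs.xv, e0]
    rw [e1, hs.xu] at h2
    exact h2

end Cfsg.Agent.Lib.helper92
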