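import Mathlib

set_option autoImplicit false

namespace Cfsg.Agent.Lib.helper92.M24B

/-- DIH (S5006 piece): in the dihedral group generated by two involutions `x`, `t` whose product
has odd order, every `(x t)^k t` is conjugate to `t`. -/
theorem dih_pow_mem {G : Type*} [Group G] (L : Set G) (hL : ∀ g x : G, x ∈ L → g * x * g⁻¹ ∈ L)
    (t : G) (ht : t ∈ L) (ht2 : t * t = 1) (x : G) (hx2 : x * x = 1)
    (hodd : ¬ 2 ∣ orderOf (x * t)) (k : ℕ) : (x * t) ^ k * t ∈ L := by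
  obtain ⟨y, hy⟩ : ∃ y, y = x * t := ⟨_, rfl⟩
  rw [← hy] at hodd ⊢
  -- `t` inverts `y`
  have hinv : t * y⁻¹ = y * t := by
    rw [hy, mul_inv_rev]
    have h1 : t⁻¹ = t := inv_eq_of_mul_eq_one_right ht2
    have h2 : x⁻¹ = x := inv_eq_of_mul_eq_one_right hx2
    rw [h1, h2, ← mul_assoc, ht2, one_mul, mul_assoc, ht2, mul_one]
  have hsemi : ∀ j : ℕ, t * (y⁻¹) ^ j = y ^ j * t := by
    intro j
    have h : SemiconjBy t y⁻¹ y := hinv
    exact (h.pow_right j)
  -- the order of `y` is odd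
  obtain ⟨m, hm⟩ : ∃ m, orderOf y = 2 * m + 1 := by
    have h := Nat.odd_iff.mpr (by omega : orderOf y % 2 = 1)
    obtain ⟨m, hm⟩ := h
    exact ⟨m, hm⟩
  have hyk : y ^ (k * (m + 1)) * y ^ (k * (m + 1)) = y ^ k := by
    rw [← pow_add]
    have h1 : k * (m + 1) + k * (m + 1) = orderOf y * k + k := by rw [hm]; ring
    rw [h1, pow_add, pow_mul, pow_orderOf_eq_one, one_pow, one_mul]
  have hconj : y ^ k * t = y ^ (k * (m + 1)) * t * (y ^ (k * (m + 1)))⁻¹ := by
    rw [← inv_pow, mul_assoc, hsemi, ← mul_assoc, hyk]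
  rw [hconj]
  exact hL _ _ ht

end Cfsg.Agent.Lib.helper92.M24B
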