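import Mathlib

set_option autoImplicit false

namespace Cfsg.Agent.Lib.helper92.M24B

/-- On a set `Y` of elements of prime order `n` closed under proper powers, `y ↦ y ^ k`
(`1 ≤ k < n`) is a permutation; so sums over `Y` are invariant. -/
theorem helper92_sum_pow_eq {G : Type*} [Group G] [DecidableEq G] {M : Type*} [AddCommMonoid M]
    (n : ℕ) (hn : n.Prime) (Y : Finset G)
    (hY : ∀ y ∈ Y, orderOf y = n) (hpow : ∀ y ∈ Y, ∀ k ∈ Finset.Ico 1 n, y ^ k ∈ Y)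
    (g : G → M) (k : ℕ) (hk : k ∈ Finset.Ico 1 n) :
    ∑ y ∈ Y, g (y ^ k) = ∑ y ∈ Y, g y := by
  have hk' := Finset.mem_Ico.mp hk
  have hcop : Nat.Coprime n k :=
    (Nat.Prime.coprime_iff_not_dvd hn).mpr (Nat.not_dvd_of_pos_of_lt hk'.1 hk'.2)
  obtain ⟨m, -, hm⟩ : ∃ m < n, k * m % n = 1 :=
    Nat.exists_mul_mod_eq_one_of_coprime hcop.symm hn.one_lt
  have hback : ∀ a ∈ Y, (a ^ k) ^ m = a := by
    intro a ha
    rw [← pow_mul, ← pow_mod_orderOf, hY a ha, hm, pow_one]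
  have hinj : Set.InjOn (fun y : G => y ^ k) (Y : Set G) := by
    intro a ha b hb hab
    have h1 := hback a ha
    have h2 := hback b hb
    simp only at hab
    rw [hab] at h1
    exact h1.symm.trans h2
  have hmaps : Set.MapsTo (fun y : G => y ^ k) (Y : Set G) (Y : Set G) := by
    intro y hy
    exact hpow y hy k hk
  have hsurj : Set.SurjOn (fun y : G => y ^ k) (Y : Set G) (Y : Set G) :=
    Finset.surjOn_of_injOn_of_card_le _ hmaps hinj le_rfl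
  exact Finset.sum_nbij (fun y : G => y ^ k) hmaps hinj hsurj (fun _ _ => rfl)

/-- POW (S5006 piece). -/
theorem pow_sum {G : Type*} [Group G] [DecidableEq G] (n : ℕ) (hn : n.Prime) (Y : Finset G)
    (hY : ∀ y ∈ Y, orderOf y = n) (hpow : ∀ y ∈ Y, ∀ k ∈ Finset.Ico 1 n, y ^ k ∈ Y)
    (f : G → ℂ) (c : ℂ) (hc : ∀ y ∈ Y, ∑ k ∈ Finset.Ico 1 n, f (y ^ k) = c) :
    ((n : ℂ) - 1) * ∑ y ∈ Y, f y = (Y.card : ℂ) * c := by
  have h1 : ∑ y ∈ Y, ∑ k ∈ Finset.Ico 1 n, f (y ^ k) = (Y.card : ℂ) * c := by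
    rw [Finset.sum_congr rfl hc, Finset.sum_const, nsmul_eq_mul]
  have h2 : ∑ y ∈ Y, ∑ k ∈ Finset.Ico 1 n, f (y ^ k)
      = ∑ k ∈ Finset.Ico 1 n, ∑ y ∈ Y, f y := by
    rw [Finset.sum_comm]
    exact Finset.sum_congr rfl (fun k hk => helper92_sum_pow_eq n hn Y hY hpow f k hk)
  rw [← h1, h2, Finset.sum_const, nsmul_eq_mul, Nat.card_Ico, Nat.cast_sub hn.one_lt.le,
    Nat.cast_one]

end Cfsg.Agent.Lib.helper92.M24B
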