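import Mathlib
import Cfsg.Agent.Lib.helper17.ReeF8
import Cfsg.Agent.Lib.helper8.SzAut1

/-!
S3664 (prime graph of `PSp(6,3)`): definitions of the comparison groups.
`G = Sz(8) ⋊ ⟨field automorphism⟩` acting on `A = M₄(F₈)` by `M ↦ n · σ(M) · Fr(n)ᵀ`.
-/

set_option autoImplicit false

namespace Cfsg.Agent.Lib.helper92.S3664

open Cfsg.Agent.Lib.helper17 Cfsg.Agent.Lib.helper8

/-- the field with 8 elements (concrete, decidable) -/
abbrev K : Type := H8

theorem hK : Fintype.card K = 2 ^ (2 * 1 + 1) := H8.card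

/-- Frobenius power `x ↦ x^(2^i)` on `K`, `i : ZMod 3` -/
def frK (i : ZMod 3) (x : K) : K := x ^ (2 ^ i.val)

theorem frK_add : ∀ (i j : ZMod 3) (x : K), frK (i + j) x = frK i (frK j x) := by decide

theorem frK_zero : ∀ x : K, frK 0 x = x := by decide

theorem frK_map_mul : ∀ (i : ZMod 3) (x y : K), frK i (x * y) = frK i x * frK i y := by decide

theorem frK_map_add : ∀ (i : ZMod 3) (x y : K), frK i (x + y) = frK i x + frK i y := by decide

theorem frK_fix : ∀ (i : ZMod 3) (x : K), i ≠ 0 → frK i x = x → x = 0 ∨ x = 1 := by decide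

/-- the Frobenius powers as ring automorphisms of `K` -/
def frEquiv (i : ZMod 3) : K ≃+* K where
  toFun := frK i
  invFun := frK (-i)
  left_inv x := by rw [← frK_add, neg_add_cancel, frK_zero]
  right_inv x := by rw [← frK_add, add_neg_cancel, frK_zero]
  map_mul' := frK_map_mul i
  map_add' := frK_map_add i

theorem frEquiv_apply (i : ZMod 3) (x : K) : frEquiv i x = frK i x := rfl

/-- the Suzuki group `Sz(8)` (stabiliser of the Suzuki–Tits ovoid in `SL₄(K)`) -/
abbrev S : Type := ↥(Cfsg.Sz K 1)

/-- helper8's hypothesis package for `K` -/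
theorem hS : SzHyp K 1 := szHyp_of_card hK

theorem szAut_mat (φ : K ≃+* K) (n : S) :
    ((szAut (le_refl 1) hK φ n).1.1 : Matrix (Fin 4) (Fin 4) K) = (n.1.1).map φ := by
  rw [szAut_coe, Matrix.SpecialLinearGroup.map_apply_coe, RingHom.mapMatrix_apply]
  rfl

/-- the matrix of an element of `Sz(8)` -/
abbrev matS (u : S) : Matrix (Fin 4) (Fin 4) K := u.1.1

theorem matS_mul (u v : S) : matS (u * v) = matS u * matS v := rfl

theorem matS_one : matS 1 = 1 := rfl

theorem matS_inj {u v : S} (h : matS u = matS v) : u = v := Subtype.ext (Subtype.ext h)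

/-- the trace of an element of `Sz(8)` -/
def trS (u : S) : K := Matrix.trace (matS u)

/-- the field automorphisms acting on `Sz(8)` -/
noncomputable def psi : Multiplicative (ZMod 3) →* MulAut S where
  toFun q := szAut (le_refl 1) hK (frEquiv (Multiplicative.toAdd q))
  map_one' := by
    refine MulEquiv.ext fun n => Subtype.ext (Subtype.ext ?_)
    rw [szAut_mat]
    ext i j
    simp [frEquiv_apply, frK_zero]
  map_mul' q r := by
    refine MulEquiv.ext fun n => Subtype.ext (Subtype.ext ?_)
    rw [MulAut.mul_apply, szAut_mat, szAut_mat, szAut_mat]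
    ext i j
    simp [frEquiv_apply, frK_add]

theorem psi_mat (q : Multiplicative (ZMod 3)) (n : S) :
    ((psi q n).1.1 : Matrix (Fin 4) (Fin 4) K) = (n.1.1).map (frK (Multiplicative.toAdd q)) := by
  show ((szAut (le_refl 1) hK (frEquiv (Multiplicative.toAdd q)) n).1.1 : Matrix (Fin 4) (Fin 4) K) = _
  rw [szAut_mat]
  rfl

/-- `G = Sz(8) ⋊ C₃` (isomorphic to `Aut(Sz(8))`) -/
abbrev G : Type := S ⋊[psi] Multiplicative (ZMod 3)

instance instFiniteG : Finite G := Finite.of_equiv _ SemidirectProduct.equivProd.symm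

/-- the module `A = M₄(K)`, an elementary abelian 2-group of order `2^48` -/
abbrev A : Type := Matrix (Fin 4) (Fin 4) K

/-- the action of `G` on `A`: `(n, q) • M = n · σ_q(M) · Fr(n)ᵀ` -/
noncomputable def act (g : G) (M : A) : A :=
  (g.left.1.1 : Matrix (Fin 4) (Fin 4) K) * M.map (frK (Multiplicative.toAdd g.right))
    * ((g.left.1.1 : Matrix (Fin 4) (Fin 4) K).map (frK 1)).transpose

/-- element of order 5 of `Sz(8)` with entries in the prime field -/
noncomputable def n5 : S := gT hS 0 1 * gW hS

/-- element of order 13 of `Sz(8)` -/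
noncomputable def x13 : S := gT hS H8.h2 0 * gW hS

/-- element of order 7 of `Sz(8)` (torus) -/
noncomputable def x7 : S := gD hS (Units.mk0 H8.h2 (by decide))

/-- generator of the group of field automorphisms -/
def q1 : Multiplicative (ZMod 3) := Multiplicative.ofAdd 1

theorem n5_mat : matS n5 = matT 1 0 1 * matW := rfl

theorem x13_mat : matS x13 = matT 1 H8.h2 0 * matW := rfl

theorem x7_mat : matS x7 = matD 1 H8.h2 := rfl

end Cfsg.Agent.Lib.helper92.S3664
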