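import Mathlib
import Cfsg.Agent.Lib.helper44.PresDefs

set_option autoImplicit false

namespace Cfsg.Agent.Lib.helper92.Pres

open Cfsg.Agent.Lib.helper44.Pres

/-- Iterated conjugation by `h`. -/
theorem helper92_hpow_x {G : Type*} [Group G] {F : Type*} [Field F] (x : F → G) (h : G) (lam : F)
    (hhx : ∀ a, h * x a * h⁻¹ = x (lam * a)) (j : ℕ) (a : F) :
    h ^ j * x a * (h ^ j)⁻¹ = x (lam ^ j * a) := by
  induction j with
  | zero => simp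
  | succ j ih =>
    have h1 : h ^ (j + 1) * x a * (h ^ (j + 1))⁻¹ = h * (h ^ j * x a * (h ^ j)⁻¹) * h⁻¹ := by
      rw [pow_succ']
      group
    rw [h1, ih, hhx, pow_succ', mul_assoc]

/-- `t` inverts the powers of `h`. -/
theorem helper92_t_hpow {G : Type*} [Group G] (t h : G) (hth : t * h * t⁻¹ = h⁻¹) (j : ℕ) :
    t * h ^ j = (h ^ j)⁻¹ * t := by
  have h1 : t * h ^ j * t⁻¹ = (h ^ j)⁻¹ := by
    have h2 : t * h ^ j * t⁻¹ = (t * h * t⁻¹) ^ j := by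
      rw [conj_pow]
    rw [h2, hth, inv_pow]
  rw [← h1]
  group

/-- `(h ^ j)⁻¹` as a natural power when `h ^ n = 1`. -/
theorem helper92_inv_hpow {G : Type*} [Group G] (h : G) (n : ℕ) (hn : h ^ n = 1) (hn0 : 0 < n)
    (j : ℕ) : (h ^ j)⁻¹ = h ^ ((n - 1) * j) := by
  symm
  apply eq_inv_of_mul_eq_one_left
  rw [← pow_add]
  have h1 : (n - 1) * j + j = n * j := by
    obtain ⟨n', rfl⟩ : ∃ n', n = n' + 1 := ⟨n - 1, by omega⟩
    simp only [Nat.add_sub_cancel]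
    ring
  rw [h1, pow_mul, hn, one_pow]

end Cfsg.Agent.Lib.helper92.Pres

namespace Cfsg.Agent.Lib.helper44.Pres

open Cfsg.Agent.Lib.helper92.Pres

-- BR
theorem bp_scale {G : Type*} [Group G] {F : Type*} [Field F] (x : F → G) (t h : G) (lam : F)
    (n : ℕ) (hxa : ∀ a b, x (a + b) = x a * x b) (hhx : ∀ a, h * x a * h⁻¹ = x (lam * a))
    (hth : t * h * t⁻¹ = h⁻¹) (hn : h ^ n = 1) (hn0 : 0 < n) (a : F) (k : ℕ)
    (ha : BP x t h a) : BP x t h (lam ^ k * a) := by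
  obtain ⟨b, c, k0, hbc⟩ := ha
  refine ⟨lam ^ ((n - 1) * k) * b, lam ^ ((n - 1) * k) * c, (n - 1) * k + k0 + (n - 1) * k, ?_⟩
  rw [← helper92_hpow_x x h lam hhx k a, ← helper92_hpow_x x h lam hhx ((n - 1) * k) b,
    ← helper92_hpow_x x h lam hhx ((n - 1) * k) c, pow_add, pow_add,
    ← helper92_inv_hpow h n hn hn0 k]
  have hta : t * h ^ k = (h ^ k)⁻¹ * t := helper92_t_hpow t h hth k
  obtain ⟨A, hA⟩ : ∃ A, A = h ^ k := ⟨_, rfl⟩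
  obtain ⟨Z, hZ⟩ : ∃ Z, Z = h ^ k0 := ⟨_, rfl⟩
  rw [← hA] at hta ⊢
  rw [← hZ] at hbc ⊢
  have hta' : A⁻¹ * t = t * A := hta.symm
  calc t * (A * x a * A⁻¹) * t = (t * A) * x a * (A⁻¹ * t) := by group
    _ = (A⁻¹ * t) * x a * (t * A) := by rw [hta, hta']
    _ = A⁻¹ * (t * x a * t) * A := by group
    _ = A⁻¹ * (x b * Z * t * x c) * A := by rw [hbc]
    _ = A⁻¹ * x b * Z * (t * A) * A⁻¹ * x c * A := by group
    _ = A⁻¹ * x b * Z * (A⁻¹ * t) * A⁻¹ * x c * A := by rw [hta']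
    _ = A⁻¹ * x b * A⁻¹⁻¹ * (A⁻¹ * Z * A⁻¹) * t * (A⁻¹ * x c * A⁻¹⁻¹) := by group

-- BR
theorem bp_of_rel {G : Type*} [Group G] {F : Type*} [Field F] (x : F → G) (t h : G) (lam : F)
    (n s : ℕ) (hxa : ∀ a b, x (a + b) = x a * x b) (hhx : ∀ a, h * x a * h⁻¹ = x (lam * a))
    (hth : t * h * t⁻¹ = h⁻¹) (ht2 : t * t = h ^ s) (hn : h ^ n = 1) (hn0 : 0 < n)
    (a a' : F) (k : ℕ) (hrel : x a * t * x a' * t⁻¹ * x a = h ^ k * t) : BP x t h a' := by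
  have hx0 : x 0 = 1 := by
    have h1 := hxa 0 0
    rw [add_zero] at h1
    exact mul_left_cancel (a := x 0) (b := x 0) (c := 1) (by rw [mul_one]; exact h1.symm)
  have hxneg : x (-a) = (x a)⁻¹ := by
    apply eq_inv_of_mul_eq_one_left
    rw [← hxa, neg_add_cancel, hx0]
  refine ⟨-a, lam ^ ((n - 1) * s) * (-a), k + (n - 1) * s, ?_⟩
  rw [← helper92_hpow_x x h lam hhx ((n - 1) * s) (-a), hxneg, pow_add,
    ← helper92_inv_hpow h n hn hn0 s]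
  have hts : t * h ^ s = (h ^ s)⁻¹ * t := helper92_t_hpow t h hth s
  obtain ⟨S, hS⟩ : ∃ S, S = h ^ s := ⟨_, rfl⟩
  obtain ⟨Z, hZ⟩ : ∃ Z, Z = h ^ k := ⟨_, rfl⟩
  rw [← hS] at hts ht2 ⊢
  rw [← hZ] at hrel ⊢
  have hts' : S⁻¹ * t = t * S := hts.symm
  have h1 : t * x a' = (x a)⁻¹ * (Z * t) * (x a)⁻¹ * t := by
    rw [← hrel]
    group
  calc t * x a' * t = (x a)⁻¹ * (Z * t) * (x a)⁻¹ * (t * t) := by rw [h1]; group
    _ = (x a)⁻¹ * (Z * t) * (x a)⁻¹ * S := by rw [ht2]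
    _ = (x a)⁻¹ * Z * (t * S) * S⁻¹ * (x a)⁻¹ * S := by group
    _ = (x a)⁻¹ * Z * (S⁻¹ * t) * S⁻¹ * (x a)⁻¹ * S := by rw [hts']
    _ = (x a)⁻¹ * (Z * S⁻¹) * t * (S⁻¹ * (x a)⁻¹ * S⁻¹⁻¹) := by group

end Cfsg.Agent.Lib.helper44.Pres
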