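import Mathlib
import Cfsg.Agent.Lib.helper44.PresDefs

set_option autoImplicit false

namespace Cfsg.Agent.Lib.helper92.Pres

open Cfsg.Agent.Lib.helper44.Pres Polynomial

/-- `polyWord` computed with any longer range. -/
theorem helper92_polyWord_eq {G : Type*} [Group G] {p : ℕ} (g u : G) (f : (ZMod p)[X]) (N : ℕ)
    (hN : f.natDegree < N) :
    polyWord g u f
      = ((List.range N).map fun n => (g ^ n * u * (g ^ n)⁻¹) ^ (f.coeff n).val).prod := by
  obtain ⟨k, rfl⟩ : ∃ k, N = (f.natDegree + 1) + k := ⟨N - (f.natDegree + 1), by omega⟩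
  unfold polyWord
  conv_rhs => rw [List.range_add]
  rw [List.map_append, List.prod_append]
  have h1 : ((List.map (fun x => f.natDegree + 1 + x) (List.range k)).map
      fun n => (g ^ n * u * (g ^ n)⁻¹) ^ (f.coeff n).val).prod = 1 := by
    apply List.prod_eq_one
    intro x hx
    rw [List.mem_map] at hx
    obtain ⟨n, hn, rfl⟩ := hx
    rw [List.mem_map] at hn
    obtain ⟨j, -, rfl⟩ := hn
    rw [Polynomial.coeff_eq_zero_of_natDegree_lt (by omega), ZMod.val_zero, pow_zero]
  rw [h1, mul_one]

theorem helper92_comm_conj {G : Type*} [Group G] (x a b : G) (h : Commute a b) :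
    Commute (x * a * x⁻¹) (x * b * x⁻¹) := by
  show x * a * x⁻¹ * (x * b * x⁻¹) = x * b * x⁻¹ * (x * a * x⁻¹)
  calc x * a * x⁻¹ * (x * b * x⁻¹) = x * (a * b) * x⁻¹ := by group
    _ = x * (b * a) * x⁻¹ := by rw [h.eq]
    _ = x * b * x⁻¹ * (x * a * x⁻¹) := by group

theorem helper92_prod_mul {G : Type*} [Group G] (A B : ℕ → G)
    (hc : ∀ m n, Commute (B m) (A n)) (N : ℕ) :
    ((List.range N).map fun n => A n * B n).prod
      = ((List.range N).map A).prod * ((List.range N).map B).prod := by
  induction N with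
  | zero => simp
  | succ N ih =>
    rw [List.range_succ, List.map_append, List.map_append, List.map_append, List.prod_append,
      List.prod_append, List.prod_append, ih]
    simp only [List.map_cons, List.map_nil, List.prod_cons, List.prod_nil, mul_one]
    have hcomm : Commute ((List.range N).map B).prod (A N) := by
      apply Commute.list_prod_left
      intro x hx
      rw [List.mem_map] at hx
      obtain ⟨m, -, rfl⟩ := hx
      exact hc m N
    obtain ⟨PA, hPA⟩ : ∃ PA, PA = ((List.range N).map A).prod := ⟨_, rfl⟩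
    obtain ⟨PB, hPB⟩ : ∃ PB, PB = ((List.range N).map B).prod := ⟨_, rfl⟩
    rw [← hPB] at hcomm
    rw [← hPA, ← hPB]
    calc PA * PB * (A N * B N) = PA * (PB * A N) * B N := by group
      _ = PA * (A N * PB) * B N := by rw [hcomm.eq]
      _ = PA * A N * (PB * B N) := by group

end Cfsg.Agent.Lib.helper92.Pres

namespace Cfsg.Agent.Lib.helper44.Pres

open Cfsg.Agent.Lib.helper92.Pres Polynomial

-- PW
theorem polyWord_map {G H : Type*} [Group G] [Group H] {p : ℕ} (φ : G →* H) (g v : G)
    (f : (ZMod p)[X]) : φ (polyWord g v f) = polyWord (φ g) (φ v) f := by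
  unfold polyWord
  rw [map_list_prod, List.map_map]
  congr 1
  apply List.map_congr_left
  intro n _
  simp only [Function.comp_apply, map_pow, map_mul, map_inv]

-- PW
theorem polyWord_zero {G : Type*} [Group G] {p : ℕ} (g u : G) :
    polyWord g u (0 : (ZMod p)[X]) = 1 := by
  simp [polyWord]

-- PW
theorem polyWord_one {G : Type*} [Group G] {p : ℕ} [Fact p.Prime] (g u : G) :
    polyWord g u (1 : (ZMod p)[X]) = u := by
  simp [polyWord, ZMod.val_one]

-- PW
theorem polyWord_X_mul {G : Type*} [Group G] {p : ℕ} [Fact p.Prime] (g u : G) (f : (ZMod p)[X]) :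
    polyWord g u (X * f) = g * polyWord g u f * g⁻¹ := by
  by_cases hf : f = 0
  · rw [hf, mul_zero, polyWord_zero]
    group
  · unfold polyWord
    rw [natDegree_X_mul hf, List.range_succ_eq_map, List.map_cons, List.prod_cons, coeff_X_mul_zero,
      ZMod.val_zero, pow_zero, one_mul, List.map_map]
    have h1 : g * ((List.range (f.natDegree + 1)).map
        fun n => (g ^ n * u * (g ^ n)⁻¹) ^ (f.coeff n).val).prod * g⁻¹
        = MulAut.conj g ((List.range (f.natDegree + 1)).map
          fun n => (g ^ n * u * (g ^ n)⁻¹) ^ (f.coeff n).val).prod := rfl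
    rw [h1, map_list_prod, List.map_map]
    congr 1
    apply List.map_congr_left
    intro n _
    simp only [Function.comp_apply, Nat.succ_eq_add_one, coeff_X_mul, map_pow, MulAut.conj_apply]
    congr 1
    rw [pow_succ']
    group

-- PW
theorem polyWord_add {G : Type*} [Group G] {p : ℕ} [Fact p.Prime] (g u : G) (hp : u ^ p = 1)
    (hcomm : ∀ n : ℕ, Commute u (g ^ n * u * (g ^ n)⁻¹)) (f f' : (ZMod p)[X]) :
    polyWord g u (f + f') = polyWord g u f * polyWord g u f' := by
  have : NeZero p := ⟨(Fact.out : p.Prime).ne_zero⟩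
  have hwp : ∀ n : ℕ, (g ^ n * u * (g ^ n)⁻¹) ^ p = 1 := by
    intro n
    rw [conj_pow, hp]
    group
  have hwc : ∀ m n : ℕ, Commute (g ^ m * u * (g ^ m)⁻¹) (g ^ n * u * (g ^ n)⁻¹) := by
    have key : ∀ m d : ℕ, Commute (g ^ m * u * (g ^ m)⁻¹) (g ^ (m + d) * u * (g ^ (m + d))⁻¹) := by
      intro m d
      have h1 : g ^ (m + d) * u * (g ^ (m + d))⁻¹ = g ^ m * (g ^ d * u * (g ^ d)⁻¹) * (g ^ m)⁻¹ := by
        rw [pow_add]
        group
      rw [h1]
      exact helper92_comm_conj _ _ _ (hcomm d)
    intro m n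
    rcases le_total m n with h | h
    · obtain ⟨d, rfl⟩ := Nat.exists_eq_add_of_le h
      exact key m d
    · obtain ⟨d, rfl⟩ := Nat.exists_eq_add_of_le h
      exact (key n d).symm
  obtain ⟨N, hN⟩ : ∃ N, N = max (f + f').natDegree (max f.natDegree f'.natDegree) + 1 := ⟨_, rfl⟩
  have h1 : (f + f').natDegree < N := by rw [hN]; omega
  have h2 : f.natDegree < N := by rw [hN]; omega
  have h3 : f'.natDegree < N := by rw [hN]; omega
  rw [helper92_polyWord_eq g u (f + f') N h1, helper92_polyWord_eq g u f N h2,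
    helper92_polyWord_eq g u f' N h3]
  rw [← helper92_prod_mul]
  · congr 1
    apply List.map_congr_left
    intro n _
    rw [coeff_add, ← pow_add, ZMod.val_add]
    exact (pow_eq_pow_mod _ (hwp n)).symm
  · intro m n
    exact (hwc m n).pow_pow _ _

end Cfsg.Agent.Lib.helper44.Pres
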