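import Mathlib
import Cfsg.Agent.Lib.helper26.S4409Defs

set_option autoImplicit false

namespace Cfsg.Agent.Lib.helper26.S4409

variable {G : Type*} [Group G]

theorem b1a (X H M : Subgroup G) (hXH : ⁅X, H⁆ = X) (hMX : M ≤ X)
    (hXM : X ≤ Subgroup.normalizer (M : Set G)) (hc : H ≤ Subgroup.centralizer (M : Set G)) :
    X ≤ Subgroup.centralizer (M : Set G) := by
  have key : ⁅X, H⁆ ≤ Subgroup.centralizer (M : Set G) := by
    rw [Subgroup.commutator_le]
    intro x hx h hh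
    rw [Subgroup.mem_centralizer_iff]
    intro m hm
    have hm' : x⁻¹ * m * x ∈ M := by
      have := (Subgroup.mem_normalizer_iff.1 (hXM (inv_mem hx))) m
      simpa using this.1 hm
    have h2 : (x⁻¹ * m * x) * h = h * (x⁻¹ * m * x) :=
      (Subgroup.mem_centralizer_iff.1 (hc hh)) _ hm'
    have h3 : m * h⁻¹ = h⁻¹ * m := (Subgroup.mem_centralizer_iff.1 (hc (inv_mem hh))) m hm
    rw [commutatorElement_def]
    calc m * (x * h * x⁻¹ * h⁻¹) = x * ((x⁻¹ * m * x) * h) * x⁻¹ * h⁻¹ := by group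
      _ = x * (h * (x⁻¹ * m * x)) * x⁻¹ * h⁻¹ := by rw [h2]
      _ = x * h * x⁻¹ * (m * h⁻¹) := by group
      _ = x * h * x⁻¹ * (h⁻¹ * m) := by rw [h3]
      _ = x * h * x⁻¹ * h⁻¹ * m := by group
  rw [hXH] at key
  exact key

end Cfsg.Agent.Lib.helper26.S4409
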