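import Mathlib

/-!
# Homocyclic abelian `p`-groups of rank two

`homocyclic_of_card`: a finite abelian group `H` of exponent dividing `p ^ a` with
`|H : H^p| = p²` in which every element of order dividing `p ^ (a - 1)` is a `p`-th power is
isomorphic to `C_{p^a} × C_{p^a}`.
-/

set_option autoImplicit false

namespace Cfsg.Agent.Lib.helper92

section Homocyclic

variable {H : Type*} [CommGroup H]

/-- Two independent elements of order `p`. -/
theorem indep_base (p : ℕ) (hp : p.Prime) (x y : H) (hx : x ^ p = 1) (hy : y ^ p = 1)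
    (hx1 : x ≠ 1) (hyx : y ∉ Subgroup.zpowers x) (i j : ℕ) (h : x ^ i * y ^ j = 1) :
    p ∣ i ∧ p ∣ j := by
  have hj : p ∣ j := by
    by_contra hnd
    have hcop : Nat.Coprime j p := Nat.Coprime.symm ((Nat.Prime.coprime_iff_not_dvd hp).mpr hnd)
    obtain ⟨m, -, hm⟩ := Nat.exists_mul_mod_eq_one_of_coprime hcop hp.one_lt
    apply hyx
    have h1 : y = (y ^ j) ^ m := by
      rw [← pow_mul, pow_eq_pow_mod _ hy, hm, pow_one]
    have h2 : y ^ j = (x ^ i)⁻¹ := eq_inv_of_mul_eq_one_right h
    rw [h1, h2]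
    exact Subgroup.pow_mem _
      (Subgroup.inv_mem _ (Subgroup.pow_mem _ (Subgroup.mem_zpowers x) i)) m
  refine ⟨?_, hj⟩
  obtain ⟨c, rfl⟩ := hj
  rw [pow_mul, hy, one_pow, mul_one] at h
  have : Fact p.Prime := ⟨hp⟩
  have ho : orderOf x = p := orderOf_eq_prime hx hx1
  rw [← ho]
  exact orderOf_dvd_of_pow_eq_one h

/-- Lifting independence from the socle. -/
theorem indep_lift (p : ℕ) (hp : p.Prime) (a : ℕ) (ha : 1 ≤ a) (x y : H)
    (hx1 : x ^ (p ^ (a - 1)) ≠ 1) (hxp : x ^ (p ^ a) = 1) (hyp : y ^ (p ^ a) = 1)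
    (hyx : y ^ (p ^ (a - 1)) ∉ Subgroup.zpowers (x ^ (p ^ (a - 1)))) :
    ∀ e ≤ a, ∀ i j : ℕ, x ^ i * y ^ j = 1 → p ^ e ∣ i ∧ p ^ e ∣ j := by
  have hpa : p ^ a = p ^ (a - 1) * p := by
    rw [← pow_succ]
    congr 1
    omega
  have hx' : (x ^ (p ^ (a - 1))) ^ p = 1 := by rw [← pow_mul, ← hpa, hxp]
  have hy' : (y ^ (p ^ (a - 1))) ^ p = 1 := by rw [← pow_mul, ← hpa, hyp]
  intro e
  induction e with
  | zero => intro _ i j _; simp
  | succ e ih =>
    intro he i j h
    obtain ⟨⟨i', rfl⟩, ⟨j', rfl⟩⟩ := ih (by omega) i j h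
    have h1 : (x ^ (p ^ (a - 1))) ^ i' * (y ^ (p ^ (a - 1))) ^ j' = 1 := by
      have h2 := congrArg (fun z => z ^ (p ^ (a - 1 - e))) h
      simp only [one_pow, mul_pow] at h2
      rw [← pow_mul, ← pow_mul] at h2
      rw [← pow_mul, ← pow_mul]
      have e1 : p ^ (a - 1) = p ^ e * p ^ (a - 1 - e) := by
        rw [← pow_add]
        congr 1
        omega
      rw [e1]
      have e2 : ∀ t : ℕ, p ^ e * t * p ^ (a - 1 - e) = p ^ e * p ^ (a - 1 - e) * t := by
        intro t; ring
      rw [e2, e2] at h2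
      exact h2
    obtain ⟨⟨c, rfl⟩, ⟨d, rfl⟩⟩ := indep_base p hp _ _ hx' hy' hx1 hyx i' j' h1
    exact ⟨⟨c, by rw [pow_succ]; ring⟩, ⟨d, by rw [pow_succ]; ring⟩⟩

theorem card_le_pow_mul_card_range [Finite H] (p : ℕ) (j : ℕ) :
    Nat.card H ≤ Nat.card (powMonoidHom p : H →* H).ker ^ j
      * Nat.card (powMonoidHom (p ^ j) : H →* H).range := by
  induction j with
  | zero =>
    have h1 : (powMonoidHom (p ^ 0) : H →* H).range = ⊤ := by
      rw [MonoidHom.range_eq_top]
      intro h
      exact ⟨h, by simp⟩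
    rw [h1, Subgroup.card_top, pow_zero, one_mul]
  | succ j ih =>
    let g : ↥(powMonoidHom (p ^ j) : H →* H).range →* H :=
      (powMonoidHom p).comp (Subgroup.subtype _)
    have h1 : Nat.card g.ker * Nat.card g.range
        = Nat.card ↥(powMonoidHom (p ^ j) : H →* H).range := by
      rw [← Subgroup.index_ker, Subgroup.card_mul_index]
    have h2 : Nat.card g.ker ≤ Nat.card (powMonoidHom p : H →* H).ker := by
      apply Nat.card_le_card_of_injective (fun x : g.ker => (⟨x.1.1, by
        have h := x.2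
        rw [MonoidHom.mem_ker] at h ⊢
        exact h⟩ : (powMonoidHom p : H →* H).ker))
      intro x y hxy
      have h := congrArg Subtype.val hxy
      exact Subtype.ext (Subtype.ext h)
    have h3 : g.range ≤ (powMonoidHom (p ^ (j + 1)) : H →* H).range := by
      rintro _ ⟨⟨_, k, rfl⟩, rfl⟩
      refine ⟨k, ?_⟩
      show k ^ (p ^ (j + 1)) = (k ^ (p ^ j)) ^ p
      rw [← pow_mul, pow_succ]
    have h4 := Subgroup.card_le_of_le h3
    calc Nat.card H ≤ Nat.card (powMonoidHom p : H →* H).ker ^ j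
          * Nat.card (powMonoidHom (p ^ j) : H →* H).range := ih
      _ = Nat.card (powMonoidHom p : H →* H).ker ^ j
          * (Nat.card g.ker * Nat.card g.range) := by rw [h1]
      _ ≤ Nat.card (powMonoidHom p : H →* H).ker ^ j
          * (Nat.card (powMonoidHom p : H →* H).ker
            * Nat.card (powMonoidHom (p ^ (j + 1)) : H →* H).range) := by
          apply Nat.mul_le_mul_left
          exact Nat.mul_le_mul h2 h4
      _ = _ := by ring

/-- A finite abelian group of exponent dividing `p ^ a` with `|H : H^p| = p²` in which every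
element of order dividing `p ^ (a - 1)` is a `p`-th power is `C_{p^a} × C_{p^a}`. -/
theorem homocyclic_of_card [Finite H] (p : ℕ) [Fact p.Prime] (a : ℕ) (ha : 1 ≤ a)
    (hexp : ∀ h : H, h ^ (p ^ a) = 1)
    (hcard : Nat.card H = p ^ 2 * Nat.card (powMonoidHom p : H →* H).range)
    (hom : ∀ h : H, h ^ (p ^ (a - 1)) = 1 → ∃ k : H, h = k ^ p) :
    Nonempty (H ≃* Multiplicative (ZMod (p ^ a) × ZMod (p ^ a))) := by
  have hp : p.Prime := Fact.out
  have hmemker : ∀ z : H, z ∈ (powMonoidHom p : H →* H).ker ↔ z ^ p = 1 := fun z => Iff.rfl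
  have hker : Nat.card (powMonoidHom p : H →* H).ker = p ^ 2 := by
    have h1 := Subgroup.card_mul_index (powMonoidHom p : H →* H).ker
    rw [Subgroup.index_ker, hcard] at h1
    have hpos : 0 < Nat.card (powMonoidHom p : H →* H).range := Nat.card_pos
    exact Nat.eq_of_mul_eq_mul_right hpos h1
  have hdiv : ∀ i ≤ a, ∀ h : H, h ^ (p ^ (a - i)) = 1 → ∃ k : H, h = k ^ (p ^ i) := by
    intro i
    induction i with
    | zero => intro _ h _; exact ⟨h, by simp⟩
    | succ i ih =>
      intro hi h hh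
      have h1 : h ^ (p ^ (a - 1)) = 1 := by
        have e1 : p ^ (a - 1) = p ^ (a - (i + 1)) * p ^ i := by
          rw [← pow_add]
          congr 1
          omega
        rw [e1, pow_mul, hh, one_pow]
      obtain ⟨k, rfl⟩ := hom h h1
      have h2 : k ^ (p ^ (a - i)) = 1 := by
        have e1 : p ^ (a - i) = p * p ^ (a - (i + 1)) := by
          rw [← pow_succ']
          congr 1
          omega
        rw [e1, pow_mul]
        exact hh
      obtain ⟨k', rfl⟩ := ih (by omega) k h2
      exact ⟨k', by rw [← pow_mul, pow_succ]⟩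
  obtain ⟨x', hx'ker, hx'1⟩ : ∃ x' : H, x' ^ p = 1 ∧ x' ≠ 1 := by
    by_contra hcon
    push Not at hcon
    have h1 : (powMonoidHom p : H →* H).ker = ⊥ := by
      rw [eq_bot_iff]
      intro z hz
      rw [Subgroup.mem_bot]
      exact hcon z ((hmemker z).mp hz)
    rw [h1, Subgroup.card_bot] at hker
    have := hp.two_le
    nlinarith
  have hox' : orderOf x' = p := orderOf_eq_prime hx'ker hx'1
  obtain ⟨y', hy'ker, hy'x'⟩ : ∃ y' : H, y' ^ p = 1 ∧ y' ∉ Subgroup.zpowers x' := by
    by_contra hcon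
    push Not at hcon
    have hle : (powMonoidHom p : H →* H).ker ≤ Subgroup.zpowers x' :=
      fun z hz => hcon z ((hmemker z).mp hz)
    have h1 := Subgroup.card_le_of_le hle
    rw [hker, Nat.card_zpowers, hox'] at h1
    have := hp.two_le
    nlinarith
  have haa : a - (a - 1) = 1 := by omega
  obtain ⟨x, rfl⟩ := hdiv (a - 1) (by omega) x' (by rw [haa, pow_one]; exact hx'ker)
  obtain ⟨y, rfl⟩ := hdiv (a - 1) (by omega) y' (by rw [haa, pow_one]; exact hy'ker)
  have hind := indep_lift p hp a ha x y hx'1 (hexp x) (hexp y) hy'x' a le_rfl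
  have : NeZero (p ^ a) := ⟨(pow_pos hp.pos a).ne'⟩
  let f : Multiplicative (ZMod (p ^ a) × ZMod (p ^ a)) →* H :=
    { toFun := fun z => x ^ (Multiplicative.toAdd z).1.val * y ^ (Multiplicative.toAdd z).2.val
      map_one' := by simp
      map_mul' := by
        intro z w
        rw [toAdd_mul, Prod.fst_add, Prod.snd_add, ZMod.val_add, ZMod.val_add,
          ← pow_eq_pow_mod _ (hexp x), ← pow_eq_pow_mod _ (hexp y), pow_add, pow_add,
          mul_mul_mul_comm] }
  have hf : Function.Injective f := by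
    rw [injective_iff_map_eq_one]
    intro z hz
    obtain ⟨h1, h2⟩ := hind _ _ hz
    have h3 : (Multiplicative.toAdd z).1 = 0 := by
      rw [← ZMod.val_eq_zero]
      exact Nat.eq_zero_of_dvd_of_lt h1 (ZMod.val_lt _)
    have h4 : (Multiplicative.toAdd z).2 = 0 := by
      rw [← ZMod.val_eq_zero]
      exact Nat.eq_zero_of_dvd_of_lt h2 (ZMod.val_lt _)
    have h5 : Multiplicative.toAdd z = 0 := Prod.ext h3 h4
    exact h5
  have hcardle : Nat.card H ≤ Nat.card (Multiplicative (ZMod (p ^ a) × ZMod (p ^ a))) := by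
    have h1 := card_le_pow_mul_card_range (H := H) p a
    have h2 : (powMonoidHom (p ^ a) : H →* H).range = ⊥ := by
      rw [eq_bot_iff]
      rintro _ ⟨k, rfl⟩
      rw [Subgroup.mem_bot]
      exact hexp k
    rw [h2, Subgroup.card_bot, mul_one, hker] at h1
    have h3 : Nat.card (Multiplicative (ZMod (p ^ a) × ZMod (p ^ a))) = p ^ a * p ^ a := by
      show Nat.card (ZMod (p ^ a) × ZMod (p ^ a)) = _
      rw [Nat.card_prod, Nat.card_zmod]
    rw [← pow_mul] at h1
    rw [h3, ← pow_two, ← pow_mul, mul_comm]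
    exact h1
  have hbij : Function.Bijective f := hf.bijective_of_nat_card_le hcardle
  exact ⟨(MulEquiv.ofBijective f hbij).symm⟩

end Homocyclic

end Cfsg.Agent.Lib.helper92
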