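import Mathlib
import Cfsg.Prelude.Def_EvenType
import Cfsg.Agent.Lib.helper53.SPE

/-!
# Automorphisms stabilizing a characteristic chain `1 < H1 < H2 < H` with factors of order `p`

If a group `H` of order `p ^ 3` has characteristic subgroups `H1 ≤ H2` of orders `p`, `p ^ 2`, then
`Aut(H)` has a normal Sylow `p`-subgroup (the stabilizer of the chain), and so does every section
`A ⧸ N` of `Aut(H)`; in particular no such section has a strongly `p`-embedded subgroup.
-/

set_option autoImplicit false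

namespace Cfsg.Agent.Lib.helper92

/-- Iterating an automorphism `ψ` on `h` when `ψ` fixes `h⁻¹ ψ(h)`. -/
theorem aut_pow_apply_of_fix {H : Type*} [Group H] (ψ : MulAut H) (h : H)
    (hfix : ψ (h⁻¹ * ψ h) = h⁻¹ * ψ h) (n : ℕ) : (ψ ^ n) h = h * (h⁻¹ * ψ h) ^ n := by
  induction n with
  | zero => simp
  | succ n ih =>
    rw [pow_succ', MulAut.mul_apply, ih, map_mul, map_pow, hfix, pow_succ', ← mul_assoc,
      mul_inv_cancel_left]

/-- An automorphism of `H` leaving invariant subgroups `A ⊴ B` with `|B : A| = p` acts on `B / A`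
with order dividing `p - 1`. -/
theorem aut_section_pow {H : Type*} [Group H] [Finite H] (p : ℕ) [Fact p.Prime]
    (A B : Subgroup H) (hAB : A ≤ B) (hn : ∀ b ∈ B, ∀ a ∈ A, b * a * b⁻¹ ∈ A)
    (hcard : Nat.card B = p * Nat.card A) (φ : MulAut H)
    (hA : ∀ x, φ x ∈ A ↔ x ∈ A) (hB : ∀ x, φ x ∈ B ↔ x ∈ B) :
    ∀ b ∈ B, b⁻¹ * (φ ^ (p - 1)) b ∈ A := by
  have hp : p.Prime := Fact.out
  have hBn : ∀ (n : ℕ) (x : H), x ∈ B → (φ ^ n) x ∈ B := by
    intro n
    induction n with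
    | zero => intro x hx; simpa using hx
    | succ n ih =>
      intro x hx
      rw [pow_succ', MulAut.mul_apply]
      exact (hB _).mpr (ih x hx)
  let e : ↥B ≃* ↥B :=
    { toFun := fun x => ⟨φ x, (hB x).mpr x.2⟩
      invFun := fun x => ⟨φ.symm x, (hB _).mp (by rw [MulEquiv.apply_symm_apply]; exact x.2)⟩
      left_inv := fun x => Subtype.ext (by simp)
      right_inv := fun x => Subtype.ext (by simp)
      map_mul' := fun x y => Subtype.ext (by simp) }
  have he_apply : ∀ x : ↥B, ((e x : ↥B) : H) = φ x := fun x => rfl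
  have hN : (A.subgroupOf B).Normal := ⟨fun n hn' g => by
    rw [Subgroup.mem_subgroupOf] at hn' ⊢
    simpa using hn g g.2 n hn'⟩
  have he : (A.subgroupOf B).map (e : ↥B →* ↥B) = A.subgroupOf B := by
    ext x
    constructor
    · rintro ⟨y, hy, rfl⟩
      exact Subgroup.mem_subgroupOf.mpr ((hA _).mpr (Subgroup.mem_subgroupOf.mp hy))
    · intro hx
      refine ⟨e.symm x, ?_, by simp⟩
      rw [SetLike.mem_coe, Subgroup.mem_subgroupOf]
      apply (hA _).mp
      rw [← he_apply, MulEquiv.apply_symm_apply]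
      exact Subgroup.mem_subgroupOf.mp hx
  let q : MulAut (↥B ⧸ A.subgroupOf B) := QuotientGroup.congr (A.subgroupOf B) (A.subgroupOf B) e he
  have hcardQ : Nat.card (↥B ⧸ A.subgroupOf B) = p := by
    have h1 := Subgroup.card_eq_card_quotient_mul_card_subgroup (A.subgroupOf B)
    have h2 : Nat.card (A.subgroupOf B) = Nat.card A :=
      Nat.card_congr (Subgroup.subgroupOfEquivOfLe hAB).toEquiv
    rw [h2, hcard] at h1
    have hApos : 0 < Nat.card A := Nat.card_pos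
    exact (Nat.eq_of_mul_eq_mul_right hApos h1).symm
  have : IsCyclic (↥B ⧸ A.subgroupOf B) := isCyclic_of_prime_card hcardQ
  have hcardAut : Nat.card (MulAut (↥B ⧸ A.subgroupOf B)) = p - 1 := by
    rw [IsCyclic.card_mulAut, hcardQ, Nat.totient_prime hp]
  have hq1 : q ^ (p - 1) = 1 := by
    rw [← hcardAut]
    exact pow_card_eq_one'
  have hq : ∀ (n : ℕ) (b : ↥B),
      (q ^ n) (QuotientGroup.mk b) = QuotientGroup.mk (⟨(φ ^ n) b, hBn n b b.2⟩ : ↥B) := by
    intro n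
    induction n with
    | zero => intro b; simp
    | succ n ih =>
      intro b
      rw [pow_succ', MulAut.mul_apply, ih]
      show QuotientGroup.mk (e ⟨(φ ^ n) b, hBn n b b.2⟩) = _
      congr 1
      apply Subtype.ext
      show φ ((φ ^ n) b) = (φ ^ (n + 1)) b
      rw [pow_succ', MulAut.mul_apply]
  intro b hb
  have h1 := hq (p - 1) ⟨b, hb⟩
  rw [hq1, MulAut.one_apply] at h1
  have h2 := QuotientGroup.eq.mp h1
  rw [Subgroup.mem_subgroupOf] at h2
  simpa using h2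

/-- If a group `H` of order `p ^ 3` has a characteristic chain `H1 ≤ H2` with `|H1| = p`,
`|H2| = p ^ 2`, then no section `A ⧸ N` of `Aut(H)` has a strongly `p`-embedded subgroup
(the Sylow `p`-subgroup of the section is normal). -/
theorem no_spe_of_chain {H : Type*} [Group H] [Finite H] (p : ℕ) [Fact p.Prime]
    (H1 H2 : Subgroup H) (h12 : H1 ≤ H2)
    (hc1 : ∀ φ : MulAut H, ∀ x ∈ H1, φ x ∈ H1) (hc2 : ∀ φ : MulAut H, ∀ x ∈ H2, φ x ∈ H2)
    (hcard1 : Nat.card H1 = p) (hcard2 : Nat.card H2 = p ^ 2) (hcard : Nat.card H = p ^ 3)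
    (A : Subgroup (MulAut H)) (N : Subgroup A) [N.Normal] (E : Subgroup (A ⧸ N)) :
    ¬ Cfsg.IsStronglyPEmbedded p E := by
  have hp : p.Prime := Fact.out
  have hi1 : ∀ φ : MulAut H, ∀ x, φ x ∈ H1 ↔ x ∈ H1 := by
    intro φ x
    refine ⟨fun h => ?_, hc1 φ x⟩
    have := hc1 φ⁻¹ _ h
    simpa using this
  have hi2 : ∀ φ : MulAut H, ∀ x, φ x ∈ H2 ↔ x ∈ H2 := by
    intro φ x
    refine ⟨fun h => ?_, hc2 φ x⟩
    have := hc2 φ⁻¹ _ h
    simpa using this
  have hpow1 : ∀ x ∈ H1, x ^ p = 1 := by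
    intro x hx
    have h := pow_card_eq_one' (G := ↥H1) (x := ⟨x, hx⟩)
    rw [hcard1] at h
    simpa using congrArg Subtype.val h
  have hpow2 : ∀ x ∈ H2, x ^ (p ^ 2) = 1 := by
    intro x hx
    have h := pow_card_eq_one' (G := ↥H2) (x := ⟨x, hx⟩)
    rw [hcard2] at h
    simpa using congrArg Subtype.val h
  -- the stabilizer of the chain
  let K : Subgroup (MulAut H) :=
    { carrier := {φ | (∀ h, h⁻¹ * φ h ∈ H2) ∧ (∀ h ∈ H2, h⁻¹ * φ h ∈ H1) ∧ (∀ h ∈ H1, φ h = h)}
      one_mem' := ⟨fun h => by simp, fun h _ => by simp, fun h _ => rfl⟩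
      mul_mem' := by
        rintro φ ψ ⟨a1, a2, a3⟩ ⟨b1, b2, b3⟩
        refine ⟨fun h => ?_, fun h hh => ?_, fun h hh => ?_⟩
        · have : h⁻¹ * (φ * ψ) h = (h⁻¹ * ψ h) * ((ψ h)⁻¹ * φ (ψ h)) := by
            rw [MulAut.mul_apply]; group
          rw [this]; exact H2.mul_mem (b1 h) (a1 _)
        · have : h⁻¹ * (φ * ψ) h = (h⁻¹ * ψ h) * ((ψ h)⁻¹ * φ (ψ h)) := by
            rw [MulAut.mul_apply]; group
          rw [this]; exact H1.mul_mem (b2 h hh) (a2 _ (hc2 ψ h hh))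
        · rw [MulAut.mul_apply, b3 h hh, a3 h hh]
      inv_mem' := by
        rintro φ ⟨a1, a2, a3⟩
        refine ⟨fun h => ?_, fun h hh => ?_, fun h hh => ?_⟩
        · have h1 := a1 (φ⁻¹ h)
          rw [MulAut.apply_inv_self] at h1
          have h2 := H2.inv_mem h1
          rwa [mul_inv_rev, inv_inv] at h2
        · have h1 := a2 (φ⁻¹ h) (hc2 φ⁻¹ h hh)
          rw [MulAut.apply_inv_self] at h1
          have h2 := H1.inv_mem h1
          rwa [mul_inv_rev, inv_inv] at h2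
        · have h1 := a3 (φ⁻¹ h) (hc1 φ⁻¹ h hh)
          rw [MulAut.apply_inv_self] at h1
          exact h1.symm }
  have hKn : K.Normal := ⟨by
    rintro φ ⟨a1, a2, a3⟩ ψ
    refine ⟨fun h => ?_, fun h hh => ?_, fun h hh => ?_⟩
    · have : h⁻¹ * (ψ * φ * ψ⁻¹) h = ψ ((ψ⁻¹ h)⁻¹ * φ (ψ⁻¹ h)) := by
        rw [MulAut.mul_apply, MulAut.mul_apply, map_mul, map_inv, MulAut.apply_inv_self]
      rw [this]; exact hc2 ψ _ (a1 _)
    · have : h⁻¹ * (ψ * φ * ψ⁻¹) h = ψ ((ψ⁻¹ h)⁻¹ * φ (ψ⁻¹ h)) := by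
        rw [MulAut.mul_apply, MulAut.mul_apply, map_mul, map_inv, MulAut.apply_inv_self]
      rw [this]; exact hc1 ψ _ (a2 _ (hc2 ψ⁻¹ h hh))
    · show (ψ * φ * ψ⁻¹) h = h
      rw [MulAut.mul_apply, MulAut.mul_apply, a3 _ (hc1 ψ⁻¹ h hh), MulAut.apply_inv_self]⟩
  have hKp : ∀ φ ∈ K, φ ^ (p ^ 3) = 1 := by
    intro φ hφ
    obtain ⟨a1, a2, a3⟩ := id hφ
    have hfix2 : ∀ k ∈ H2, (φ ^ p) k = k := by
      intro k hk
      rw [aut_pow_apply_of_fix φ k (a3 _ (a2 k hk)) p, hpow1 _ (a2 k hk), mul_one]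
    obtain ⟨b1, b2, b3⟩ := K.pow_mem hφ p
    have h3 : p ^ 3 = p * p ^ 2 := by ring
    rw [h3, pow_mul]
    ext h
    rw [aut_pow_apply_of_fix (φ ^ p) h (hfix2 _ (b1 h)) (p ^ 2), hpow2 _ (b1 h), mul_one]
    rfl
  have hpm : ∀ φ : MulAut H, φ ^ (p - 1) ∈ K := by
    intro φ
    refine ⟨fun h => ?_, fun h hh => ?_, fun h hh => ?_⟩
    · exact aut_section_pow p H2 ⊤ le_top
        (fun b _ a ha => by simpa using hc2 (MulAut.conj b) a ha)
        (by rw [Subgroup.card_top, hcard, hcard2]; ring) φ (hi2 φ) (fun x => by simp) h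
        (Subgroup.mem_top h)
    · exact aut_section_pow p H1 H2 h12
        (fun b _ a ha => by simpa using hc1 (MulAut.conj b) a ha)
        (by rw [hcard2, hcard1]; ring) φ (hi1 φ) (hi2 φ) h hh
    · have h1 := aut_section_pow p ⊥ H1 bot_le
        (fun b _ a ha => by rw [Subgroup.mem_bot] at ha ⊢; rw [ha]; simp)
        (by rw [Subgroup.card_bot, hcard1]; ring) φ (fun x => by simp) (hi1 φ) h hh
      rw [Subgroup.mem_bot] at h1
      exact (inv_mul_eq_one.mp h1).symm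
  intro hE
  obtain ⟨P, hPne, hPE, hkey⟩ := Cfsg.Agent.Lib.helper53.spe_exists_sylow hE
  apply hE.2.1
  let R : Subgroup (A ⧸ N) := (K.subgroupOf A).map (QuotientGroup.mk' N)
  have hRn : R.Normal :=
    Subgroup.Normal.map (hKn.subgroupOf A) _ (QuotientGroup.mk'_surjective N)
  have hKpg : IsPGroup p K := fun g => ⟨3, Subtype.ext (by simpa using hKp g g.2)⟩
  have hRp : IsPGroup p R := IsPGroup.map hKpg.comap_subtype _
  have hPR : (P : Subgroup (A ⧸ N)) ≤ R := by
    intro x hx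
    obtain ⟨k, hk⟩ := P.2 ⟨x, hx⟩
    have hxk : x ^ (p ^ k) = 1 := by simpa using congrArg Subtype.val hk
    obtain ⟨a, rfl⟩ := QuotientGroup.mk_surjective x
    have h1 : (a : A ⧸ N) ^ (p - 1) ∈ R := by
      refine ⟨a ^ (p - 1), ?_, rfl⟩
      rw [SetLike.mem_coe, Subgroup.mem_subgroupOf]
      simpa using hpm (a : MulAut H)
    rcases Nat.eq_zero_or_pos k with rfl | hkpos
    · rw [pow_zero, pow_one] at hxk
      rw [hxk]; exact R.one_mem
    · have hcop : Nat.Coprime (p - 1) (p ^ k) := by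
        apply Nat.Coprime.pow_right
        have h2 : Nat.Coprime p (p - 1) :=
          (Nat.Prime.coprime_iff_not_dvd hp).mpr
            (Nat.not_dvd_of_pos_of_lt (by have := hp.two_le; omega) (by have := hp.two_le; omega))
        exact h2.symm
      obtain ⟨m, -, hm⟩ := Nat.exists_mul_mod_eq_one_of_coprime hcop
        (Nat.one_lt_pow hkpos.ne' hp.one_lt)
      have h3 : (a : A ⧸ N) = ((a : A ⧸ N) ^ (p - 1)) ^ m := by
        rw [← pow_mul, pow_eq_pow_mod _ hxk, hm, pow_one]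
      rw [h3]
      exact R.pow_mem h1 m
  have hPeq : R = (P : Subgroup (A ⧸ N)) := P.3 hRp hPR
  have hPn : (P : Subgroup (A ⧸ N)).Normal := hPeq ▸ hRn
  have h4 := hkey P le_rfl hPne
  rw [Subgroup.normalizer_eq_top_iff.mpr hPn] at h4
  exact top_le_iff.mp h4

end Cfsg.Agent.Lib.helper92
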