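import Mathlib
import Cfsg.Prelude.Def_Transfer
import Cfsg.Agent.Lib.helper3.Class2
import Cfsg.Agent.Lib.helper3.PGroupFrattini
import Cfsg.Agent.Lib.helper71.Frattini
import Cfsg.Agent.Lib.helper73.Quaternion

/-!
# Groups of order `p ^ 3`

A group of order `p ^ 3` is elementary abelian, or extraspecial of exponent `p` (`p` odd), or the
quaternion group of order `8`, or has a characteristic chain `H1 ≤ H2` with `|H1| = p`,
`|H2| = p ^ 2`.
-/

set_option autoImplicit false

namespace Cfsg.Agent.Lib.helper92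

open scoped commutatorElement
open Subgroup

/-- A nonabelian group of order `p ^ 3` has centre of order `p` and central commutators.
(Same statement and proof as `helper70.card_center_of_card_cube`, repeated here to keep the
import closure small.) -/
theorem card_center_cube {P : Type*} [Group P] [Finite P] (p : ℕ) [hp : Fact p.Prime]
    (hcard : Nat.card P = p ^ 3) (hnc : ∃ a b : P, a * b ≠ b * a) :
    Nat.card (center P) = p ∧ ∀ x y : P, x * y * x⁻¹ * y⁻¹ ∈ center P := by
  have hP : IsPGroup p P := IsPGroup.of_card hcard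
  have hp1 : 1 < p := hp.out.one_lt
  have : Nontrivial P := by
    rw [← Finite.one_lt_card_iff_nontrivial, hcard]
    exact Nat.one_lt_pow (by norm_num) hp1
  have hcn : Nontrivial (center P) := hP.center_nontrivial
  have hmul := Subgroup.card_mul_index (center P)
  rw [hcard] at hmul
  obtain ⟨k, hk, hck⟩ := (Nat.dvd_prime_pow hp.out).mp (Dvd.intro _ hmul)
  have hk0 : k ≠ 0 := by
    rintro rfl
    have h1 : 1 < Nat.card (center P) := Finite.one_lt_card_iff_nontrivial.mpr hcn
    rw [hck] at h1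
    simp at h1
  have hk3 : k ≠ 3 := by
    rintro rfl
    have htop : center P = ⊤ := (Subgroup.card_eq_iff_eq_top _).mp (hck.trans hcard.symm)
    obtain ⟨a, b, hab⟩ := hnc
    have ha : a ∈ center P := htop ▸ Subgroup.mem_top a
    exact hab ((Subgroup.mem_center_iff.mp ha b).symm)
  have hk2 : k ≠ 2 := by
    rintro rfl
    rw [hck] at hmul
    have hidx : (center P).index = p := by
      have h2 : p ^ 2 * (center P).index = p ^ 2 * p := by rw [hmul]; ring
      exact Nat.eq_of_mul_eq_mul_left (by positivity) h2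
    have hq : Nat.card (P ⧸ center P) = p := hidx
    have hcyc : IsCyclic (P ⧸ center P) := isCyclic_of_prime_card hq
    obtain ⟨a, b, hab⟩ := hnc
    exact hab ((MonoidHom.isMulCommutative_of_isCyclic_of_ker_le_center
      (QuotientGroup.mk' (center P)) (by simp)).is_comm.comm a b)
  have hk1 : k = 1 := by omega
  subst hk1
  rw [pow_one] at hck
  refine ⟨hck, ?_⟩
  rw [hck] at hmul
  have hidx : (center P).index = p ^ 2 := by
    have h2 : p * (center P).index = p * p ^ 2 := by rw [hmul]; ring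
    exact Nat.eq_of_mul_eq_mul_left (by positivity) h2
  have hq : Nat.card (P ⧸ center P) = p ^ 2 := hidx
  have hcomm := IsPGroup.isMulCommutative_of_card_eq_prime_sq hq
  intro x y
  rw [← QuotientGroup.eq_one_iff]
  have h3 := hcomm.is_comm.comm (x : P ⧸ center P) (y : P ⧸ center P)
  simp only [QuotientGroup.mk_mul, QuotientGroup.mk_inv]
  rw [h3]
  simp

/-- In a group of order `p ^ 3`, a subgroup properly containing a subgroup of order `p ^ 2` is
everything. -/
theorem eq_top_of_card_sq {H : Type*} [Group H] [Finite H] {p : ℕ} [Fact p.Prime]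
    (hcard : Nat.card H = p ^ 3) {C L : Subgroup H} (hC : Nat.card C = p ^ 2) (hCL : C ≤ L)
    {t : H} (htL : t ∈ L) (htC : t ∉ C) : L = ⊤ := by
  have hp : p.Prime := Fact.out
  have h1 : Nat.card C ∣ Nat.card L := Subgroup.card_dvd_of_le hCL
  have h2 : Nat.card L ∣ Nat.card H := Subgroup.card_subgroup_dvd_card L
  rw [hcard] at h2
  rw [hC] at h1
  obtain ⟨k, hk, hkL⟩ := (Nat.dvd_prime_pow hp).mp h2
  rw [hkL] at h1
  have h2k : 2 ≤ k := (Nat.pow_dvd_pow_iff_le_right hp.one_lt).mp h1
  rcases Nat.lt_or_ge 2 k with h | h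
  · have hk3 : k = 3 := by omega
    exact Subgroup.eq_top_of_card_eq L (by rw [hkL, hk3, hcard])
  · exfalso
    apply htC
    have hk2 : k = 2 := by omega
    have : C = L := Subgroup.eq_of_le_of_card_ge hCL (by rw [hC, hkL, hk2])
    rw [this]; exact htL

/-- The centre is invariant under automorphisms (elementwise form). -/
theorem center_char_mem {H : Type*} [Group H] (φ : MulAut H) (x : H) (hx : x ∈ center H) :
    φ x ∈ center H := by
  rw [Subgroup.mem_center_iff] at hx ⊢
  intro g
  have h1 := congrArg φ (hx (φ⁻¹ g))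
  rwa [map_mul, map_mul, MulAut.apply_inv_self] at h1

/-- A nonabelian group of order `p ^ 3` is extraspecial, with central commutators and `p`-th
powers. -/
theorem nonabelian_cube_facts {H : Type*} [Group H] [Finite H] (p : ℕ) [Fact p.Prime]
    (hcard : Nat.card H = p ^ 3) (hnc : ∃ a b : H, a * b ≠ b * a) :
    Nat.card (center H) = p ∧ (∀ x y : H, x * y * x⁻¹ * y⁻¹ ∈ center H) ∧
      (∀ x : H, x ^ p ∈ center H) ∧ (∀ z ∈ center H, z ^ p = 1) ∧
      Cfsg.Agent.Lib.helper3.CommCentral H ∧ Cfsg.IsExtraspecial p H := by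
  have hp : p.Prime := Fact.out
  obtain ⟨hZ, hcomm⟩ := card_center_cube p hcard hnc
  have hpg : IsPGroup p H := IsPGroup.of_card hcard
  have hcomm' : ∀ a b : H, ⁅a, b⁆ ∈ center H := fun a b => by
    rw [commutatorElement_def]; exact hcomm a b
  have hcc : Cfsg.Agent.Lib.helper3.CommCentral H := fun x y z =>
    (Subgroup.mem_center_iff.mp (hcomm' x y) z).symm
  have hzp : ∀ z ∈ center H, z ^ p = 1 := by
    intro z hz
    have h := pow_card_eq_one' (G := center H) (x := ⟨z, hz⟩)
    rw [hZ] at h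
    simpa using congrArg Subtype.val h
  have hpowZ : ∀ x : H, x ^ p ∈ center H := by
    intro x
    rw [Subgroup.mem_center_iff]
    intro g
    have h1 := Cfsg.Agent.Lib.helper3.commutator_pow_left_class2 hcc g x p
    rw [hzp _ (hcomm' x g)] at h1
    exact (commutatorElement_eq_one_iff_mul_comm.mp h1).symm
  refine ⟨hZ, hcomm, hpowZ, hzp, hcc, ?_⟩
  have hcomm_le : commutator H ≤ center H := by
    rw [_root_.commutator_def, Subgroup.commutator_le]
    intro a _ b _
    exact hcomm' a b
  have hcomm_ne : commutator H ≠ ⊥ := by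
    intro hbot
    obtain ⟨a, b, hab⟩ := hnc
    have h1 : ⁅a, b⁆ ∈ commutator H := by
      rw [_root_.commutator_def]
      exact Subgroup.commutator_mem_commutator (Subgroup.mem_top _) (Subgroup.mem_top _)
    rw [hbot, Subgroup.mem_bot, commutatorElement_eq_one_iff_mul_comm] at h1
    exact hab h1
  have hcomm_eq : commutator H = center H := by
    apply Subgroup.eq_of_le_of_card_ge hcomm_le
    have hdvd := Subgroup.card_dvd_of_le hcomm_le
    rw [hZ] at hdvd ⊢
    rcases (Nat.dvd_prime hp).mp hdvd with h1 | h1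
    · exact absurd (Subgroup.eq_bot_of_card_eq _ h1) hcomm_ne
    · exact le_of_eq h1.symm
  refine ⟨⟨hpg, ?_, hcomm_eq⟩, hZ⟩
  apply le_antisymm
  · exact Cfsg.Agent.Lib.helper71.frattini_le_of_comm_pow hp _ hcomm hpowZ
  · rw [← hcomm_eq]
    exact Cfsg.Agent.Lib.helper3.commutator_le_frattini hpg

/-- An abelian, not elementary abelian, group of order `p ^ 3` has a characteristic chain. -/
theorem abelian_cube_chain {H : Type*} [Group H] [Finite H] (p : ℕ) [Fact p.Prime]
    (hcard : Nat.card H = p ^ 3) (hab : ∀ a b : H, a * b = b * a) (hne : ∃ a : H, a ^ p ≠ 1) :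
    ∃ H1 H2 : Subgroup H, H1 ≤ H2 ∧ (∀ φ : MulAut H, ∀ x ∈ H1, φ x ∈ H1) ∧
      (∀ φ : MulAut H, ∀ x ∈ H2, φ x ∈ H2) ∧ Nat.card H1 = p ∧ Nat.card H2 = p ^ 2 := by
  have hp : p.Prime := Fact.out
  let π : H →* H :=
    { toFun := fun a => a ^ p
      map_one' := one_pow p
      map_mul' := fun a b => Commute.mul_pow (hab a b) p }
  have hker : ∀ x, x ∈ π.ker ↔ x ^ p = 1 := fun x => MonoidHom.mem_ker
  have hrange : ∀ x, x ∈ π.range ↔ ∃ y, y ^ p = x := fun x => MonoidHom.mem_range
  have hmul : Nat.card π.ker * Nat.card π.range = p ^ 3 := by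
    rw [← Subgroup.index_ker, Subgroup.card_mul_index, hcard]
  have hcharK : ∀ φ : MulAut H, ∀ x ∈ π.ker, φ x ∈ π.ker := by
    intro φ x hx
    rw [hker] at hx ⊢
    rw [← map_pow, hx, map_one]
  have hcharR : ∀ φ : MulAut H, ∀ x ∈ π.range, φ x ∈ π.range := by
    intro φ x hx
    rw [hrange] at hx ⊢
    obtain ⟨y, rfl⟩ := hx
    exact ⟨φ y, by rw [map_pow]⟩
  have hRne : π.range ≠ ⊥ := by
    intro h
    obtain ⟨a0, ha0⟩ := hne
    apply ha0
    have h1 : a0 ^ p ∈ π.range := (hrange _).mpr ⟨a0, rfl⟩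
    rwa [h, Subgroup.mem_bot] at h1
  have hKne : π.ker ≠ ⊥ := by
    intro h
    obtain ⟨x, hx⟩ := exists_prime_orderOf_dvd_card' (G := H) p
      (by rw [hcard]; exact dvd_pow_self p (by norm_num))
    have h1 : x ∈ π.ker := (hker x).mpr (by rw [← hx]; exact pow_orderOf_eq_one x)
    rw [h, Subgroup.mem_bot] at h1
    rw [h1, orderOf_one] at hx
    exact hp.one_lt.ne hx
  obtain ⟨k, hk3, hk⟩ := (Nat.dvd_prime_pow hp).mp (Dvd.intro _ hmul)
  have hR : Nat.card π.range = p ^ (3 - k) := by
    rw [hk] at hmul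
    have h1 : p ^ k * Nat.card π.range = p ^ k * p ^ (3 - k) := by
      rw [hmul, ← pow_add]; congr 1; omega
    exact Nat.eq_of_mul_eq_mul_left (pow_pos hp.pos k) h1
  have hk0 : k ≠ 0 := by
    rintro rfl
    exact hKne (Subgroup.eq_bot_of_card_eq _ (by rw [hk, pow_zero]))
  have hk3' : k ≠ 3 := by
    rintro rfl
    exact hRne (Subgroup.eq_bot_of_card_eq _ (by rw [hR]; simp))
  have hk12 : k = 1 ∨ k = 2 := by omega
  rcases hk12 with rfl | rfl
  · -- `ker` of order `p`, `range` of order `p ^ 2`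
    refine ⟨π.ker, π.range, ?_, hcharK, hcharR, by rw [hk, pow_one], by rw [hR]⟩
    have hR2 : Nat.card π.range = p ^ 2 := by rw [hR]
    obtain ⟨y, hy⟩ := exists_prime_orderOf_dvd_card' (G := ↥π.range) p
      (by rw [hR2]; exact dvd_pow_self p (by norm_num))
    have hy' : orderOf (y : H) = p := by rw [Subgroup.orderOf_coe]; exact hy
    have hyK : (y : H) ∈ π.ker := (hker _).mpr (by rw [← hy']; exact pow_orderOf_eq_one _)
    have hle : zpowers (y : H) ≤ π.ker := zpowers_le.mpr hyK
    have heq : zpowers (y : H) = π.ker := by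
      apply Subgroup.eq_of_le_of_card_ge hle
      rw [Nat.card_zpowers, hy', hk, pow_one]
    rw [← heq]
    exact zpowers_le.mpr y.2
  · -- `range` of order `p`, `ker` of order `p ^ 2`
    have hR1 : Nat.card π.range = p := by rw [hR]; simp
    refine ⟨π.range, π.ker, ?_, hcharR, hcharK, hR1, hk⟩
    intro y hy
    rw [hker]
    have h := pow_card_eq_one' (G := ↥π.range) (x := ⟨y, hy⟩)
    rw [hR1] at h
    simpa using congrArg Subtype.val h

/-- A nonabelian group of order `p ^ 3`, `p` odd, not of exponent `p`, has a characteristic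
chain. -/
theorem odd_cube_chain {H : Type*} [Group H] [Finite H] (p : ℕ) [Fact p.Prime] (hp2 : p ≠ 2)
    (hcard : Nat.card H = p ^ 3) (hnc : ∃ a b : H, a * b ≠ b * a) (hne : ∃ a : H, a ^ p ≠ 1) :
    ∃ H1 H2 : Subgroup H, H1 ≤ H2 ∧ (∀ φ : MulAut H, ∀ x ∈ H1, φ x ∈ H1) ∧
      (∀ φ : MulAut H, ∀ x ∈ H2, φ x ∈ H2) ∧ Nat.card H1 = p ∧ Nat.card H2 = p ^ 2 := by
  have hp : p.Prime := Fact.out
  obtain ⟨hZ, hcomm, hpowZ, hzp, hcc, -⟩ := nonabelian_cube_facts p hcard hnc
  have hcomm' : ∀ a b : H, ⁅a, b⁆ ∈ center H := fun a b => by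
    rw [commutatorElement_def]; exact hcomm a b
  have hmp : ∀ a b : H, (a * b) ^ p = a ^ p * b ^ p := fun a b =>
    Cfsg.Agent.Lib.helper3.mul_pow_prime_class2 hcc hp hp2 a b (hzp _ (hcomm' b a))
  let π : H →* H := { toFun := fun a => a ^ p, map_one' := one_pow p, map_mul' := hmp }
  have hker : ∀ x, x ∈ π.ker ↔ x ^ p = 1 := fun x => MonoidHom.mem_ker
  have hrange_le : π.range ≤ center H := by
    rintro _ ⟨a, rfl⟩
    exact hpowZ a
  have hrange_ne : π.range ≠ ⊥ := by
    intro h
    obtain ⟨a, ha⟩ := hne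
    apply ha
    have h1 : π a ∈ π.range := ⟨a, rfl⟩
    rwa [h, Subgroup.mem_bot] at h1
  have hrange_card : Nat.card π.range = p := by
    have h1 : Nat.card π.range ∣ Nat.card (center H) := Subgroup.card_dvd_of_le hrange_le
    rw [hZ] at h1
    rcases (Nat.dvd_prime hp).mp h1 with h | h
    · exact absurd (Subgroup.card_eq_one.mp h) hrange_ne
    · exact h
  have hker_card : Nat.card π.ker = p ^ 2 := by
    have h1 := Subgroup.card_mul_index π.ker
    rw [Subgroup.index_ker, hrange_card, hcard] at h1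
    have : Nat.card π.ker * p = p ^ 2 * p := by rw [h1]; ring
    exact Nat.eq_of_mul_eq_mul_right hp.pos this
  refine ⟨center H, π.ker, ?_, center_char_mem, ?_, hZ, hker_card⟩
  · intro z hz
    rw [hker]
    exact hzp z hz
  · intro φ x hx
    rw [hker] at hx ⊢
    rw [← map_pow, hx, map_one]

/-- A nonabelian group of order `8` is the quaternion group or has a characteristic chain. -/
theorem two_cube_cases {H : Type*} [Group H] [Finite H]
    (hcard : Nat.card H = 2 ^ 3) (hnc : ∃ a b : H, a * b ≠ b * a) :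
    Nonempty (H ≃* QuaternionGroup 2) ∨
    ∃ H1 H2 : Subgroup H, H1 ≤ H2 ∧ (∀ φ : MulAut H, ∀ x ∈ H1, φ x ∈ H1) ∧
      (∀ φ : MulAut H, ∀ x ∈ H2, φ x ∈ H2) ∧ Nat.card H1 = 2 ∧ Nat.card H2 = 2 ^ 2 := by
  obtain ⟨hZ, hcomm, hpowZ, hzp, hcc, -⟩ := nonabelian_cube_facts 2 hcard hnc
  -- an element of order 4
  have hex : ∃ a : H, a ^ 2 ≠ 1 := by
    by_contra hall
    push Not at hall
    obtain ⟨a, b, hab⟩ := hnc
    apply hab
    have hinv : ∀ x : H, x⁻¹ = x := fun x =>
      inv_eq_of_mul_eq_one_left (by rw [← pow_two]; exact hall x)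
    calc a * b = (a * b)⁻¹ := (hinv _).symm
      _ = b⁻¹ * a⁻¹ := mul_inv_rev a b
      _ = b * a := by rw [hinv a, hinv b]
  obtain ⟨a, ha2⟩ := hex
  have ha4 : a ^ 4 = 1 := by
    have h1 := hzp _ (hpowZ a)
    rw [← pow_mul] at h1
    exact h1
  have hord : orderOf a = 2 ^ (1 + 1) :=
    orderOf_eq_prime_pow (p := 2) (n := 1) (by simpa using ha2) (by simpa using ha4)
  have hCcard : Nat.card (zpowers a) = 2 ^ 2 := by
    rw [Nat.card_zpowers, hord]
  obtain ⟨y, hy, huniq⟩ := (Nat.card_eq_two_iff' (1 : ↥(center H))).mp hZ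
  have hZ2 : ∀ w ∈ center H, w ≠ 1 → w = a ^ 2 := by
    intro w hw hw1
    have e1 := huniq ⟨a ^ 2, hpowZ a⟩ (by simpa [Subtype.ext_iff] using ha2)
    have e2 := huniq ⟨w, hw⟩ (by simpa [Subtype.ext_iff] using hw1)
    exact congrArg Subtype.val (e2.trans e1.symm)
  have hZC : center H ≤ zpowers a := by
    intro w hw
    by_cases hw1 : w = 1
    · rw [hw1]; exact one_mem _
    · rw [hZ2 w hw hw1]
      exact (zpowers a).pow_mem (mem_zpowers a) 2
  by_cases hall : ∀ x : H, x ∉ zpowers a → x ^ 2 = 1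
  · right
    refine ⟨center H, zpowers a, hZC, center_char_mem, ?_, hZ, hCcard⟩
    intro φ x hx
    obtain ⟨k, rfl⟩ := Subgroup.mem_zpowers_iff.mp hx
    rw [map_zpow]
    apply Subgroup.zpow_mem
    by_contra hφa
    have h1 := hall _ hφa
    rw [← map_pow] at h1
    exact ha2 ((MulEquiv.map_eq_one_iff φ).mp h1)
  · left
    push Not at hall
    obtain ⟨b, hbC, hb2⟩ := hall
    have hb : b ^ 2 = a ^ 2 := hZ2 _ (hpowZ b) hb2
    have hab : b * a * b⁻¹ = a⁻¹ := by
      have hc := hcomm b a
      by_cases h1 : b * a * b⁻¹ * a⁻¹ = 1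
      · exfalso
        have hba : a * b = b * a := by
          have h2 : b * a * b⁻¹ = a := mul_inv_eq_one.mp h1
          calc a * b = (b * a * b⁻¹) * b := by rw [h2]
            _ = b * a := by group
        have hCL : zpowers a ≤ centralizer ({a} : Set H) := by
          apply zpowers_le.mpr
          rw [Subgroup.mem_centralizer_singleton_iff]
        have hbL : b ∈ centralizer ({a} : Set H) := by
          rw [Subgroup.mem_centralizer_singleton_iff]
          exact hba.symm
        have htop := eq_top_of_card_sq hcard hCcard hCL hbL hbC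
        have haZ : a ∈ center H := by
          rw [Subgroup.mem_center_iff]
          intro g
          have hg : g ∈ centralizer ({a} : Set H) := htop ▸ Subgroup.mem_top g
          rw [Subgroup.mem_centralizer_singleton_iff] at hg
          exact hg
        have ha1 : a ≠ 1 := by
          rintro rfl
          exact ha2 (one_pow 2)
        have h3 := hZ2 a haZ ha1
        rw [pow_two] at h3
        exact ha1 (by simpa using h3)
      · have h2 := hZ2 _ hc h1
        have h3 : b * a * b⁻¹ = a ^ 2 * a := by rw [← h2]; group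
        rw [h3]
        exact eq_inv_of_mul_eq_one_left (by rw [← pow_succ, ← pow_succ]; exact ha4)
    have hgen : closure ({a, b} : Set H) = ⊤ := by
      refine eq_top_of_card_sq hcard hCcard ?_ (subset_closure (by simp)) hbC
      exact zpowers_le.mpr (subset_closure (by simp))
    exact Cfsg.Agent.Lib.helper73.nonempty_mulEquiv_quaternion a b ha4 ha2 hb hab hgen

/-- The groups of order `p ^ 3`: elementary abelian, extraspecial of exponent `p` (`p` odd),
quaternion, or with a characteristic chain with factors of order `p`. -/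
theorem card_cube_cases {H : Type*} [Group H] [Finite H] (p : ℕ) [Fact p.Prime]
    (hcard : Nat.card H = p ^ 3) :
    ((∀ a b : H, a * b = b * a) ∧ ∀ a : H, a ^ p = 1) ∨
    (Odd p ∧ Cfsg.IsExtraspecial p H ∧ ∀ x : H, x ^ p = 1) ∨
    (p = 2 ∧ Nonempty (H ≃* QuaternionGroup 2)) ∨
    ∃ H1 H2 : Subgroup H, H1 ≤ H2 ∧ (∀ φ : MulAut H, ∀ x ∈ H1, φ x ∈ H1) ∧
      (∀ φ : MulAut H, ∀ x ∈ H2, φ x ∈ H2) ∧ Nat.card H1 = p ∧ Nat.card H2 = p ^ 2 := by
  have hp : p.Prime := Fact.out
  by_cases hab : ∀ a b : H, a * b = b * a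
  · by_cases hex : ∀ a : H, a ^ p = 1
    · exact Or.inl ⟨hab, hex⟩
    · push Not at hex
      exact Or.inr (Or.inr (Or.inr (abelian_cube_chain p hcard hab hex)))
  · push Not at hab
    rcases hp.eq_two_or_odd' with h2 | hodd
    · subst h2
      rcases two_cube_cases hcard hab with h | h
      · exact Or.inr (Or.inr (Or.inl ⟨rfl, h⟩))
      · exact Or.inr (Or.inr (Or.inr h))
    · by_cases hex : ∀ a : H, a ^ p = 1
      · exact Or.inr (Or.inl ⟨hodd, (nonabelian_cube_facts p hcard hab).2.2.2.2.2, hex⟩)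
      · push Not at hex
        have hp2 : p ≠ 2 := by
          rintro rfl
          exact absurd hodd (by decide)
        exact Or.inr (Or.inr (Or.inr (odd_cube_chain p hp2 hcard hab hex)))

end Cfsg.Agent.Lib.helper92
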