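import Mathlib
import Cfsg.Prelude.Def_EvenType
import Cfsg.Agent.Lib.helper53.SPE

/-!
# Strongly `p`-embedded subgroups of sections `A ⧸ N` of a group with a normal `p`-subgroup `K`

* `no_spe_of_normal_pgroup`: if `g ^ m ∈ K` for all `g` with `m` prime to `p`, no section has a
  strongly `p`-embedded subgroup.
* `spe_data`: if a section `A ⧸ N` has a strongly `p`-embedded subgroup then `K ∩ A ≤ N` and
  there is `u ∈ A ∖ N` with `u ^ p ∈ N`.
-/

set_option autoImplicit false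

namespace Cfsg.Agent.Lib.helper92

/-- If `K` is a normal `p`-subgroup of `G` with `g ^ m ∈ K` for all `g` (`m` prime to `p`), then no
section `A ⧸ N` of `G` has a strongly `p`-embedded subgroup. -/
theorem no_spe_of_normal_pgroup {G : Type*} [Group G] [Finite G] (p : ℕ) [Fact p.Prime]
    (K : Subgroup G) (hKn : K.Normal) (hKp : IsPGroup p K) (m : ℕ) (hm : Nat.Coprime m p)
    (hpow : ∀ g : G, g ^ m ∈ K) (A : Subgroup G) (N : Subgroup A) [N.Normal]
    (E : Subgroup (A ⧸ N)) : ¬ Cfsg.IsStronglyPEmbedded p E := by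
  have hp : p.Prime := Fact.out
  intro hE
  obtain ⟨P, hPne, hPE, hkey⟩ := Cfsg.Agent.Lib.helper53.spe_exists_sylow hE
  apply hE.2.1
  let R : Subgroup (A ⧸ N) := (K.subgroupOf A).map (QuotientGroup.mk' N)
  have hRn : R.Normal :=
    Subgroup.Normal.map (hKn.subgroupOf A) _ (QuotientGroup.mk'_surjective N)
  have hRp : IsPGroup p R := IsPGroup.map hKp.comap_subtype _
  have hPR : (P : Subgroup (A ⧸ N)) ≤ R := by
    intro x hx
    obtain ⟨k, hk⟩ := P.2 ⟨x, hx⟩
    have hxk : x ^ (p ^ k) = 1 := by simpa using congrArg Subtype.val hk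
    obtain ⟨a, rfl⟩ := QuotientGroup.mk_surjective x
    have h1 : (a : A ⧸ N) ^ m ∈ R := by
      refine ⟨a ^ m, ?_, rfl⟩
      rw [SetLike.mem_coe, Subgroup.mem_subgroupOf]
      simpa using hpow (a : G)
    rcases Nat.eq_zero_or_pos k with rfl | hkpos
    · rw [pow_zero, pow_one] at hxk
      rw [hxk]; exact R.one_mem
    · have hcop : Nat.Coprime m (p ^ k) := Nat.Coprime.pow_right k hm
      obtain ⟨j, -, hj⟩ := Nat.exists_mul_mod_eq_one_of_coprime hcop
        (Nat.one_lt_pow hkpos.ne' hp.one_lt)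
      have h3 : (a : A ⧸ N) = ((a : A ⧸ N) ^ m) ^ j := by
        rw [← pow_mul, pow_eq_pow_mod _ hxk, hj, pow_one]
      rw [h3]
      exact R.pow_mem h1 j
  have hPeq : R = (P : Subgroup (A ⧸ N)) := P.3 hRp hPR
  have hPn : (P : Subgroup (A ⧸ N)).Normal := hPeq ▸ hRn
  have h4 := hkey P le_rfl hPne
  rw [Subgroup.normalizer_eq_top_iff.mpr hPn] at h4
  exact top_le_iff.mp h4

/-- If a section `A ⧸ N` of `G` has a strongly `p`-embedded subgroup and `K` is a normal
`p`-subgroup of `G`, then `K ∩ A ≤ N` and some `u ∈ A ∖ N` has `u ^ p ∈ N`. -/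
theorem spe_data {G : Type*} [Group G] [Finite G] (p : ℕ) [Fact p.Prime]
    (K : Subgroup G) (hKn : K.Normal) (hKp : IsPGroup p K) (A : Subgroup G) (N : Subgroup A)
    [N.Normal] (E : Subgroup (A ⧸ N)) (hE : Cfsg.IsStronglyPEmbedded p E) :
    (∀ φ : A, (φ : G) ∈ K → φ ∈ N) ∧ ∃ u : A, u ∉ N ∧ u ^ p ∈ N := by
  have hp : p.Prime := Fact.out
  obtain ⟨P, hPne, hPE, hkey⟩ := Cfsg.Agent.Lib.helper53.spe_exists_sylow hE
  let R : Subgroup (A ⧸ N) := (K.subgroupOf A).map (QuotientGroup.mk' N)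
  have hRn : R.Normal :=
    Subgroup.Normal.map (hKn.subgroupOf A) _ (QuotientGroup.mk'_surjective N)
  have hRp : IsPGroup p R := IsPGroup.map hKp.comap_subtype _
  have hRbot : R = ⊥ := by
    by_contra hne
    have h1 : IsPGroup p (R ⊔ (P : Subgroup (A ⧸ N)) : Subgroup (A ⧸ N)) :=
      IsPGroup.to_sup_of_normal_left hRp P.2
    have h2 : R ⊔ (P : Subgroup (A ⧸ N)) = (P : Subgroup (A ⧸ N)) := P.3 h1 le_sup_right
    have hRP : R ≤ (P : Subgroup (A ⧸ N)) := by rw [← h2]; exact le_sup_left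
    have h4 := hkey R hRP hne
    rw [Subgroup.normalizer_eq_top_iff.mpr hRn] at h4
    exact hE.2.1 (top_le_iff.mp h4)
  refine ⟨fun φ hφ => ?_, ?_⟩
  · have h1 : (φ : A ⧸ N) ∈ R := ⟨φ, Subgroup.mem_subgroupOf.mpr hφ, rfl⟩
    rw [hRbot, Subgroup.mem_bot] at h1
    exact (QuotientGroup.eq_one_iff φ).mp h1
  · obtain ⟨x, hxP, hx⟩ := Cfsg.Agent.Lib.helper53.exists_orderOf_eq_prime_of_ne_bot P.2 hPne
    obtain ⟨u, rfl⟩ := QuotientGroup.mk_surjective x
    refine ⟨u, fun hu => ?_, ?_⟩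
    · have h1 : (u : A ⧸ N) = 1 := (QuotientGroup.eq_one_iff u).mpr hu
      rw [h1, orderOf_one] at hx
      exact hp.one_lt.ne hx
    · rw [← QuotientGroup.eq_one_iff, QuotientGroup.mk_pow, ← hx]
      exact pow_orderOf_eq_one _

end Cfsg.Agent.Lib.helper92
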