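import Mathlib
import Cfsg.Prelude.Def_EvenType
import Cfsg.Agent.Lib.helper53.SPE
import Cfsg.Agent.Lib.helper92.Ess3a

/-!
# A group of automorphisms containing enough "transvections" has no strongly `p`-embedded section

`no_spe_of_transvections`: let `z` be a central element of order dividing `p` of a finite group `E`,
`A ≤ Aut(E)`, `N ⊴ A`, and `D ⊆ A ∖ N` a nonempty set of automorphisms fixing `z` and acting
trivially on `E / ⟨z⟩`.  If for every `β ∈ A` with `β z ∉ ⟨z⟩` some element of `D` fixes `β z`,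
then `A ⧸ N` has no strongly `p`-embedded subgroup.
-/

set_option autoImplicit false

namespace Cfsg.Agent.Lib.helper92

theorem aut_inv_mem_of_mem {E : Type*} [Group E] (β : MulAut E) (Z : Subgroup E) [Finite Z]
    (h : ∀ x ∈ Z, β x ∈ Z) : ∀ x ∈ Z, β⁻¹ x ∈ Z := by
  intro x hx
  let f : Z → Z := fun y => ⟨β y, h y y.2⟩
  have hf : Function.Injective f := by
    intro a b hab
    have h1 := congrArg Subtype.val hab
    exact Subtype.ext (β.injective h1)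
  obtain ⟨y, hy⟩ := Finite.surjective_of_injective hf ⟨x, hx⟩
  have h1 : β y = x := congrArg Subtype.val hy
  rw [← h1, MulAut.inv_apply_self]
  exact y.2

theorem no_spe_of_transvections {E : Type*} [Group E] [Finite E] (p : ℕ) [Fact p.Prime]
    (z : E) (hz : z ^ p = 1) (hzc : ∀ e : E, e * z = z * e)
    (A : Subgroup (MulAut E)) (N : Subgroup A) [N.Normal] (M : Subgroup (A ⧸ N))
    (hM : Cfsg.IsStronglyPEmbedded p M)
    (D : Set A)
    (hDN : ∀ τ ∈ D, τ ∉ N)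
    (hDz : ∀ τ ∈ D, (τ : MulAut E) z = z)
    (hDE : ∀ τ ∈ D, ∀ e : E, e⁻¹ * (τ : MulAut E) e ∈ Subgroup.zpowers z)
    (hDne : D.Nonempty)
    (hD : ∀ β : A, (β : MulAut E) z ∉ Subgroup.zpowers z →
      ∃ τ ∈ D, (τ : MulAut E) ((β : MulAut E) z) = (β : MulAut E) z) : False := by
  have hp : p.Prime := Fact.out
  have hZpow : ∀ x ∈ Subgroup.zpowers z, x ^ p = 1 := by
    rintro _ ⟨k, rfl⟩
    show (z ^ k) ^ p = 1
    rw [← zpow_natCast, ← zpow_mul, mul_comm, zpow_mul, zpow_natCast, hz, one_zpow]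
  have hZc : ∀ x ∈ Subgroup.zpowers z, ∀ e : E, e * x = x * e := by
    rintro _ ⟨k, rfl⟩ e
    have h1 : Commute e z := hzc e
    exact (h1.zpow_right k).eq
  have hfixgen : ∀ (φ : MulAut E) (w : E), φ w = w → ∀ x ∈ Subgroup.zpowers w, φ x = x := by
    rintro φ w hφ _ ⟨k, rfl⟩
    show φ (w ^ k) = w ^ k
    rw [map_zpow, hφ]
  have hmapz : ∀ (φ : MulAut E), ∀ x ∈ Subgroup.zpowers z, φ x ∈ Subgroup.zpowers (φ z) := by
    rintro φ _ ⟨k, rfl⟩
    exact ⟨k, (map_zpow φ z k).symm⟩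
  have hZmap : ∀ φ : MulAut E, φ z ∈ Subgroup.zpowers z →
      ∀ x ∈ Subgroup.zpowers z, φ x ∈ Subgroup.zpowers z := by
    rintro φ hφ _ ⟨k, rfl⟩
    show φ (z ^ k) ∈ _
    rw [map_zpow]
    exact Subgroup.zpow_mem _ hφ k
  let T : Subgroup A :=
    { carrier := {φ | (φ : MulAut E) z = z ∧
        ∀ e : E, e⁻¹ * (φ : MulAut E) e ∈ Subgroup.zpowers z}
      one_mem' := ⟨rfl, fun e => by
        show e⁻¹ * e ∈ _
        rw [inv_mul_cancel]
        exact Subgroup.one_mem _⟩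
      mul_mem' := by
        rintro φ ψ ⟨a1, a2⟩ ⟨b1, b2⟩
        refine ⟨?_, fun e => ?_⟩
        · show (φ : MulAut E) ((ψ : MulAut E) z) = z
          rw [b1, a1]
        · have e1 : e⁻¹ * ((φ * ψ : A) : MulAut E) e = (e⁻¹ * (ψ : MulAut E) e) *
              (((ψ : MulAut E) e)⁻¹ * (φ : MulAut E) ((ψ : MulAut E) e)) := by
            show e⁻¹ * (φ : MulAut E) ((ψ : MulAut E) e) = _
            group
          rw [e1]
          exact Subgroup.mul_mem _ (b2 e) (a2 _)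
      inv_mem' := by
        rintro φ ⟨a1, a2⟩
        refine ⟨?_, fun e => ?_⟩
        · show (φ : MulAut E)⁻¹ z = z
          have h1 : (φ : MulAut E)⁻¹ ((φ : MulAut E) z) = (φ : MulAut E)⁻¹ z := by rw [a1]
          rw [MulAut.inv_apply_self] at h1
          exact h1.symm
        · show e⁻¹ * (φ : MulAut E)⁻¹ e ∈ _
          have h1 := a2 ((φ : MulAut E)⁻¹ e)
          rw [MulAut.apply_inv_self] at h1
          have h2 := Subgroup.inv_mem _ h1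
          rwa [mul_inv_rev, inv_inv] at h2 }
  have hTmem : ∀ φ : A, φ ∈ T ↔ ((φ : MulAut E) z = z ∧
      ∀ e : E, e⁻¹ * (φ : MulAut E) e ∈ Subgroup.zpowers z) := fun φ => Iff.rfl
  have hTpow : ∀ φ ∈ T, φ ^ p = 1 := by
    intro φ hφ
    obtain ⟨a1, a2⟩ := (hTmem φ).mp hφ
    apply Subtype.ext
    rw [Subgroup.coe_pow, Subgroup.coe_one]
    ext e
    rw [aut_pow_apply_of_fix (φ : MulAut E) e (hfixgen _ z a1 _ (a2 e)) p, hZpow _ (a2 e),
      mul_one]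
    rfl
  have hTp : IsPGroup p T := fun φ =>
    ⟨1, Subtype.ext (by rw [pow_one]; simpa using hTpow φ.1 φ.2)⟩
  have hDT : ∀ τ ∈ D, τ ∈ T := fun τ hτ => (hTmem τ).mpr ⟨hDz τ hτ, hDE τ hτ⟩
  obtain ⟨P, hPne, hPM, hkey⟩ := Cfsg.Agent.Lib.helper53.spe_exists_sylow hM
  have hTbar : IsPGroup p (T.map (QuotientGroup.mk' N)) := IsPGroup.map hTp _
  obtain ⟨g₀, hg₀⟩ := Cfsg.Agent.Lib.helper53.exists_le_conj_sylow hTbar P
  have hTM : ∀ t ∈ T, g₀⁻¹ * (t : A ⧸ N) * g₀ ∈ M := by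
    intro t ht
    obtain ⟨y, hy, hyt⟩ := hg₀ (Subgroup.mem_map_of_mem _ ht)
    apply hPM
    have h1 : g₀ * y * g₀⁻¹ = (t : A ⧸ N) := hyt
    have h2 : g₀⁻¹ * (t : A ⧸ N) * g₀ = y := by
      rw [← h1]; group
    rw [h2]
    exact hy
  have hDord : ∀ τ ∈ D, orderOf (g₀⁻¹ * (τ : A ⧸ N) * g₀) = p := by
    intro τ hτ
    apply orderOf_eq_prime
    · have h1 : (g₀⁻¹ * (τ : A ⧸ N) * g₀) ^ p = g₀⁻¹ * ((τ : A ⧸ N)) ^ p * g₀ := by
        have h2 := conj_pow (a := g₀⁻¹) (b := (τ : A ⧸ N)) (i := p)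
        rw [inv_inv] at h2
        exact h2
      rw [h1, ← QuotientGroup.mk_pow, hTpow τ (hDT τ hτ)]
      simp
    · intro h1
      apply hDN τ hτ
      have h2 : (τ : A ⧸ N) = 1 := by
        have h3 : (τ : A ⧸ N) = g₀ * (g₀⁻¹ * (τ : A ⧸ N) * g₀) * g₀⁻¹ := by group
        rw [h3, h1]; group
      exact (QuotientGroup.eq_one_iff τ).mp h2
  have hclaim : ∀ β : A, g₀⁻¹ * (β : A ⧸ N) * g₀ ∈ M := by
    intro β
    obtain ⟨τ₀, hτ₀⟩ := hDne
    by_cases hβz : (β : MulAut E) z ∈ Subgroup.zpowers z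
    · have hβinv : ∀ x ∈ Subgroup.zpowers z, (β : MulAut E)⁻¹ x ∈ Subgroup.zpowers z :=
        aut_inv_mem_of_mem _ _ (hZmap _ hβz)
      have h1 : β * τ₀ * β⁻¹ ∈ T := by
        rw [hTmem]
        refine ⟨?_, fun e => ?_⟩
        · show (β : MulAut E) ((τ₀ : MulAut E) ((β : MulAut E)⁻¹ z)) = z
          rw [hfixgen _ z (hDz τ₀ hτ₀) _ (hβinv z (Subgroup.mem_zpowers z)),
            MulAut.apply_inv_self]
        · have e1 : e⁻¹ * ((β * τ₀ * β⁻¹ : A) : MulAut E) e = (β : MulAut E)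
              (((β : MulAut E)⁻¹ e)⁻¹ * (τ₀ : MulAut E) ((β : MulAut E)⁻¹ e)) := by
            show e⁻¹ * (β : MulAut E) ((τ₀ : MulAut E) ((β : MulAut E)⁻¹ e)) = _
            rw [map_mul, map_inv, MulAut.apply_inv_self]
          rw [e1]
          exact hZmap _ hβz _ (hDE τ₀ hτ₀ _)
      have h2 := hTM _ h1
      have h3 : g₀⁻¹ * ((β * τ₀ * β⁻¹ : A) : A ⧸ N) * g₀ = (g₀⁻¹ * (β : A ⧸ N) * g₀) *
          (g₀⁻¹ * (τ₀ : A ⧸ N) * g₀) * (g₀⁻¹ * (β : A ⧸ N) * g₀)⁻¹ := by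
        rw [QuotientGroup.mk_mul, QuotientGroup.mk_mul, QuotientGroup.mk_inv]; group
      rw [h3] at h2
      exact Cfsg.Agent.Lib.helper53.spe_mem_of_conj_mem hM (hDord τ₀ hτ₀)
        (hTM τ₀ (hDT τ₀ hτ₀)) h2
    · have hβz' : ((β⁻¹ : A) : MulAut E) z ∉ Subgroup.zpowers z := by
        intro h
        apply hβz
        have h1 := aut_inv_mem_of_mem _ _ (hZmap _ h) z (Subgroup.mem_zpowers z)
        simpa using h1
      obtain ⟨τ, hτ, hτfix⟩ := hD β hβz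
      obtain ⟨τ', hτ', hτ'fix⟩ := hD β⁻¹ hβz'
      have hτ'fix' : (τ' : MulAut E) ((β : MulAut E)⁻¹ z) = (β : MulAut E)⁻¹ z := hτ'fix
      have hcomm : τ * (β * τ' * β⁻¹) = (β * τ' * β⁻¹) * τ := by
        apply Subtype.ext
        ext e
        show (τ : MulAut E) ((β : MulAut E) ((τ' : MulAut E) ((β : MulAut E)⁻¹ e)))
          = (β : MulAut E) ((τ' : MulAut E) ((β : MulAut E)⁻¹ ((τ : MulAut E) e)))
        obtain ⟨l, hlZ, hle⟩ : ∃ l ∈ Subgroup.zpowers z, (τ : MulAut E) e = e * l :=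
          ⟨e⁻¹ * (τ : MulAut E) e, hDE τ hτ e, by group⟩
        obtain ⟨l', hl'Z, hl'e⟩ : ∃ l' ∈ Subgroup.zpowers z,
            (τ' : MulAut E) ((β : MulAut E)⁻¹ e) = (β : MulAut E)⁻¹ e * l' :=
          ⟨((β : MulAut E)⁻¹ e)⁻¹ * (τ' : MulAut E) ((β : MulAut E)⁻¹ e), hDE τ' hτ' _, by group⟩
        have h1 : (τ : MulAut E) ((β : MulAut E) l') = (β : MulAut E) l' :=
          hfixgen _ _ hτfix _ (hmapz _ l' hl'Z)
        have h2 : (τ' : MulAut E) ((β : MulAut E)⁻¹ l) = (β : MulAut E)⁻¹ l :=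
          hfixgen _ _ hτ'fix' _ (hmapz _ l hlZ)
        rw [hl'e, map_mul, MulAut.apply_inv_self, map_mul, hle, h1, map_mul, map_mul, hl'e, h2,
          map_mul, map_mul, MulAut.apply_inv_self, MulAut.apply_inv_self, mul_assoc, mul_assoc,
          hZc l hlZ]
      have hw : g₀⁻¹ * ((β * τ' * β⁻¹ : A) : A ⧸ N) * g₀ ∈ M := by
        apply Cfsg.Agent.Lib.helper53.spe_mem_of_conj_mem hM (hDord τ hτ) (hTM τ (hDT τ hτ))
        have e1 : (g₀⁻¹ * ((β * τ' * β⁻¹ : A) : A ⧸ N) * g₀) * (g₀⁻¹ * (τ : A ⧸ N) * g₀) *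
            (g₀⁻¹ * ((β * τ' * β⁻¹ : A) : A ⧸ N) * g₀)⁻¹
            = g₀⁻¹ * (((β * τ' * β⁻¹) * τ * (β * τ' * β⁻¹)⁻¹ : A) : A ⧸ N) * g₀ := by
          simp only [QuotientGroup.mk_mul, QuotientGroup.mk_inv]
          group
        rw [e1, ← hcomm, mul_inv_cancel_right]
        exact hTM τ (hDT τ hτ)
      have e2 : g₀⁻¹ * ((β * τ' * β⁻¹ : A) : A ⧸ N) * g₀ = (g₀⁻¹ * (β : A ⧸ N) * g₀) *
          (g₀⁻¹ * (τ' : A ⧸ N) * g₀) * (g₀⁻¹ * (β : A ⧸ N) * g₀)⁻¹ := by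
        rw [QuotientGroup.mk_mul, QuotientGroup.mk_mul, QuotientGroup.mk_inv]; group
      rw [e2] at hw
      exact Cfsg.Agent.Lib.helper53.spe_mem_of_conj_mem hM (hDord τ' hτ')
        (hTM τ' (hDT τ' hτ')) hw
  apply hM.2.1
  rw [eq_top_iff]
  intro q _
  obtain ⟨β, hβ⟩ := QuotientGroup.mk_surjective (g₀ * q * g₀⁻¹)
  have h := hclaim β
  rw [hβ] at h
  have e : g₀⁻¹ * (g₀ * q * g₀⁻¹) * g₀ = q := by group
  rwa [e] at h

end Cfsg.Agent.Lib.helper92
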