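import Mathlib

/-!
# Centralizers in groups with a central commutator subgroup of prime order

* `commHom`: `r ↦ r⁻¹ y r y⁻¹` as a homomorphism `R →* ⟨z⟩`.
* `card_le_mul_of_comm`: `|R| ≤ p |C|` when `C ⊇ C_R(y)`.
* `exists_cent_not_mem`: in a group `Q` of order `≥ p⁴` with `Q' ≤ Z(Q) = ⟨z⟩` of order `p`, a
  subgroup `E` and `y ∈ Z(E) ∖ Z(Q)`: either `C_Q(y) ≰ E` or `E` is nonabelian.
* `aut_fix_of_noncomm`: if `E' ≤ ⟨z⟩` (prime order) and `E` is nonabelian, automorphisms of `E`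
  preserve `⟨z⟩`.
-/

set_option autoImplicit false

namespace Cfsg.Agent.Lib.helper92

theorem comm_of_comm_eq_one {Ω : Type*} [Group Ω] {r y : Ω} (h : r⁻¹ * y * r * y⁻¹ = 1) :
    r * y = y * r := by
  have h1 : r⁻¹ * y * r = y := by
    have h2 := mul_eq_one_iff_eq_inv.mp h
    rwa [inv_inv] at h2
  calc r * y = r * (r⁻¹ * y * r) := by rw [h1]
    _ = y * r := by group

theorem zpowers_comm_of_comm {Ω : Type*} [Group Ω] {z r : Ω} (h : r * z = z * r) :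
    ∀ c ∈ Subgroup.zpowers z, r * c = c * r := by
  rintro _ ⟨k, rfl⟩
  have h1 : Commute r z := h
  exact (h1.zpow_right k).eq

/-- `r ↦ r⁻¹ y r y⁻¹` as a homomorphism `R →* ⟨z⟩` when these commutators lie in the central
subgroup `⟨z⟩`. -/
def commHom {Ω : Type*} [Group Ω] (R : Subgroup Ω) (z y : Ω)
    (hzc : ∀ r ∈ R, r * z = z * r)
    (hcomm : ∀ r ∈ R, r⁻¹ * y * r * y⁻¹ ∈ Subgroup.zpowers z) : ↥R →* ↥(Subgroup.zpowers z) :=
  MonoidHom.mk' (fun r => ⟨(r : Ω)⁻¹ * y * r * y⁻¹, hcomm r r.2⟩) (by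
    intro r s
    apply Subtype.ext
    show ((r * s : R) : Ω)⁻¹ * y * ((r * s : R) : Ω) * y⁻¹
      = ((r : Ω)⁻¹ * y * r * y⁻¹) * ((s : Ω)⁻¹ * y * s * y⁻¹)
    have hc : (s : Ω)⁻¹ * ((r : Ω)⁻¹ * y * r * y⁻¹) = ((r : Ω)⁻¹ * y * r * y⁻¹) * (s : Ω)⁻¹ :=
      zpowers_comm_of_comm (hzc _ (R.inv_mem s.2)) _ (hcomm r r.2)
    calc ((r * s : R) : Ω)⁻¹ * y * ((r * s : R) : Ω) * y⁻¹
        = (s : Ω)⁻¹ * ((r : Ω)⁻¹ * y * r * y⁻¹) * (y * s * y⁻¹) := by
          rw [Subgroup.coe_mul]; group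
      _ = ((r : Ω)⁻¹ * y * r * y⁻¹) * ((s : Ω)⁻¹ * y * s * y⁻¹) := by
          rw [hc]; group)

theorem commHom_apply {Ω : Type*} [Group Ω] (R : Subgroup Ω) (z y : Ω)
    (hzc : ∀ r ∈ R, r * z = z * r)
    (hcomm : ∀ r ∈ R, r⁻¹ * y * r * y⁻¹ ∈ Subgroup.zpowers z) (r : R) :
    ((commHom R z y hzc hcomm r : ↥(Subgroup.zpowers z)) : Ω) = (r : Ω)⁻¹ * y * r * y⁻¹ := rfl

theorem card_le_mul_of_comm {Ω : Type*} [Group Ω] (p : ℕ) (hp : 0 < p) (R C : Subgroup Ω)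
    [Finite R] [Finite C] (z y : Ω) (hzp : orderOf z = p)
    (hzc : ∀ r ∈ R, r * z = z * r)
    (hcomm : ∀ r ∈ R, r⁻¹ * y * r * y⁻¹ ∈ Subgroup.zpowers z)
    (hC : ∀ r ∈ R, r * y = y * r → r ∈ C) : Nat.card R ≤ p * Nat.card C := by
  have hcardZ : Nat.card (Subgroup.zpowers z) = p := by rw [Nat.card_zpowers, hzp]
  have hfinZ : Finite (Subgroup.zpowers z) :=
    Nat.finite_of_card_ne_zero (by rw [hcardZ]; exact hp.ne')
  have h1 := Subgroup.card_mul_index (commHom R z y hzc hcomm).ker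
  rw [Subgroup.index_ker] at h1
  have h2 : Nat.card (commHom R z y hzc hcomm).range ≤ p := by
    have h := Subgroup.card_le_card_group (commHom R z y hzc hcomm).range
    rwa [hcardZ] at h
  have h3 : Nat.card (commHom R z y hzc hcomm).ker ≤ Nat.card C := by
    apply Nat.card_le_card_of_injective
      (fun r : (commHom R z y hzc hcomm).ker => (⟨(r.1 : Ω), hC _ r.1.2 (by
        have h := r.2
        rw [MonoidHom.mem_ker] at h
        have h' : ((r.1 : Ω))⁻¹ * y * (r.1 : Ω) * y⁻¹ = 1 := congrArg Subtype.val h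
        exact comm_of_comm_eq_one h')⟩ : C))
    intro a b hab
    have h := congrArg Subtype.val hab
    exact Subtype.ext (Subtype.ext h)
  calc Nat.card R = Nat.card (commHom R z y hzc hcomm).ker
        * Nat.card (commHom R z y hzc hcomm).range := h1.symm
    _ ≤ Nat.card C * p := Nat.mul_le_mul h3 h2
    _ = p * Nat.card C := mul_comm _ _

theorem exists_cent_not_mem {Ω : Type*} [Group Ω] (p : ℕ) [Fact p.Prime] (Q E : Subgroup Ω)
    [Finite Q] (z : Ω) (hEQ : E ≤ Q) (hzp : orderOf z = p)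
    (hzc : ∀ q ∈ Q, q * z = z * q)
    (hcomm : ∀ a ∈ Q, ∀ b ∈ Q, a * b * a⁻¹ * b⁻¹ ∈ Subgroup.zpowers z)
    (hcen : ∀ c ∈ Q, (∀ q ∈ Q, q * c = c * q) → c ∈ Subgroup.zpowers z)
    (hcard : p ^ 4 ≤ Nat.card Q)
    (y : Ω) (hyE : y ∈ E) (hyc : ∀ e ∈ E, e * y = y * e) (hyz : y ∉ Subgroup.zpowers z) :
    (∃ a ∈ Q, a ∉ E ∧ a * y = y * a) ∨ (∃ e₁ ∈ E, ∃ e₂ ∈ E, e₁ * e₂ ≠ e₂ * e₁) := by
  have hp : p.Prime := Fact.out
  by_contra hcon
  push Not at hcon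
  obtain ⟨h1, h2⟩ := hcon
  have hfinE : Finite E :=
    Finite.of_injective (Subgroup.inclusion hEQ) (Subgroup.inclusion_injective hEQ)
  have hcardZ : Nat.card (Subgroup.zpowers z) = p := by rw [Nat.card_zpowers, hzp]
  have hfinZ : Finite (Subgroup.zpowers z) :=
    Nat.finite_of_card_ne_zero (by rw [hcardZ]; exact hp.pos.ne')
  have hcy : ∀ r ∈ Q, r⁻¹ * y * r * y⁻¹ ∈ Subgroup.zpowers z := by
    intro r hr
    have h := hcomm r⁻¹ (Q.inv_mem hr) y (hEQ hyE)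
    rwa [inv_inv] at h
  have hQE : Nat.card Q ≤ p * Nat.card E :=
    card_le_mul_of_comm p hp.pos Q E z y hzp hzc hcy
      (fun r hr hry => by
        by_contra hrE
        exact h1 r hr hrE hry)
  obtain ⟨x, hxQ, hxy⟩ : ∃ x ∈ Q, x * y ≠ y * x := by
    by_contra hc
    push Not at hc
    exact hyz (hcen y (hEQ hyE) hc)
  have hxE : x ∉ E := fun h => hxy (hyc x h)
  have hdecomp : ∀ q ∈ Q, ∃ k : ℤ, q * x ^ k ∈ E := by
    intro q hq
    have hκx : commHom Q z y hzc hcy ⟨x, hxQ⟩ ≠ 1 := by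
      intro h
      have h' : x⁻¹ * y * x * y⁻¹ = 1 := congrArg Subtype.val h
      exact hxy (comm_of_comm_eq_one h')
    have htop := zpowers_eq_top_of_prime_card hcardZ hκx
    have hmem : commHom Q z y hzc hcy ⟨q, hq⟩
        ∈ Subgroup.zpowers (commHom Q z y hzc hcy ⟨x, hxQ⟩) := by
      rw [htop]
      exact Subgroup.mem_top _
    obtain ⟨k, hk⟩ := Subgroup.mem_zpowers_iff.mp hmem
    refine ⟨-k, ?_⟩
    have h3 : commHom Q z y hzc hcy (⟨q, hq⟩ * ⟨x, hxQ⟩ ^ (-k)) = 1 := by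
      rw [map_mul, map_zpow, ← hk, zpow_neg, mul_inv_cancel]
    have h4 : (q * x ^ (-k))⁻¹ * y * (q * x ^ (-k)) * y⁻¹ = 1 := by
      have h5 := congrArg Subtype.val h3
      rw [commHom_apply] at h5
      simpa using h5
    by_contra hnot
    exact h1 (q * x ^ (-k)) (Q.mul_mem hq (Q.zpow_mem hxQ _)) hnot (comm_of_comm_eq_one h4)
  have hEp : Nat.card E ≤ p * Nat.card (Subgroup.zpowers z) := by
    apply card_le_mul_of_comm p hp.pos E (Subgroup.zpowers z) z x hzp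
      (fun r hr => hzc r (hEQ hr))
      (fun r hr => by
        have h := hcomm r⁻¹ (Q.inv_mem (hEQ hr)) x hxQ
        rwa [inv_inv] at h)
    intro e he hex
    apply hcen e (hEQ he)
    intro q hq
    obtain ⟨k, hk⟩ := hdecomp q hq
    have e1 : q = (q * x ^ k) * x ^ (-k) := by group
    have c1 : Commute e (q * x ^ k) := h2 e he _ hk
    have c2 : Commute e (x ^ (-k)) := Commute.zpow_right hex _
    have c3 := c1.mul_right c2
    rw [← e1] at c3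
    exact c3.eq.symm
  rw [hcardZ] at hEp
  have h3 : Nat.card Q ≤ p ^ 3 := by
    calc Nat.card Q ≤ p * Nat.card E := hQE
      _ ≤ p * (p * p) := Nat.mul_le_mul_left p hEp
      _ = p ^ 3 := by ring
  have h4 : p ^ 3 < p ^ 4 := Nat.pow_lt_pow_right hp.one_lt (by norm_num)
  omega

theorem aut_fix_of_noncomm {E : Type*} [Group E] (p : ℕ) [Fact p.Prime] (z : E)
    (hzp : orderOf z = p)
    (hcomm : ∀ a b : E, a * b * a⁻¹ * b⁻¹ ∈ Subgroup.zpowers z)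
    (hnc : ∃ e₁ e₂ : E, e₁ * e₂ ≠ e₂ * e₁) (β : MulAut E) : β z ∈ Subgroup.zpowers z := by
  obtain ⟨e₁, e₂, hne⟩ := hnc
  have hcardZ : Nat.card (Subgroup.zpowers z) = p := by rw [Nat.card_zpowers, hzp]
  have hc1 : (⟨e₁ * e₂ * e₁⁻¹ * e₂⁻¹, hcomm e₁ e₂⟩ : Subgroup.zpowers z) ≠ 1 := by
    intro h
    have h' : e₁ * e₂ * e₁⁻¹ * e₂⁻¹ = 1 := congrArg Subtype.val h
    apply hne
    have h2 := mul_eq_one_iff_eq_inv.mp h'
    rw [inv_inv] at h2
    have h3 := mul_inv_eq_iff_eq_mul.mp h2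
    exact h3
  have htop := zpowers_eq_top_of_prime_card hcardZ hc1
  have hmem : (⟨z, Subgroup.mem_zpowers z⟩ : Subgroup.zpowers z)
      ∈ Subgroup.zpowers (⟨e₁ * e₂ * e₁⁻¹ * e₂⁻¹, hcomm e₁ e₂⟩ : Subgroup.zpowers z) := by
    rw [htop]
    exact Subgroup.mem_top _
  obtain ⟨k, hk⟩ := Subgroup.mem_zpowers_iff.mp hmem
  have hk' : (e₁ * e₂ * e₁⁻¹ * e₂⁻¹) ^ k = z := by
    have h := congrArg Subtype.val hk
    simpa using h
  have e : β z = (β (e₁ * e₂ * e₁⁻¹ * e₂⁻¹)) ^ k := by rw [← map_zpow, hk']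
  rw [e]
  apply Subgroup.zpow_mem
  rw [map_mul, map_mul, map_mul, map_inv, map_inv]
  exact hcomm _ _

theorem mem_zpowers_subtype {Ω : Type*} [Group Ω] (E : Subgroup Ω) (z : Ω) (hz : z ∈ E)
    (x : ↥E) : x ∈ Subgroup.zpowers (⟨z, hz⟩ : ↥E) ↔ (x : Ω) ∈ Subgroup.zpowers z := by
  constructor
  · rintro ⟨k, rfl⟩
    exact ⟨k, by simp⟩
  · rintro ⟨k, hk⟩
    exact ⟨k, Subtype.ext (by simpa using hk)⟩

end Cfsg.Agent.Lib.helper92
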