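import Mathlib
import Cfsg.Prelude.Def_FusionSystem
import Cfsg.Prelude.Def_Transfer
import Cfsg.Agent.Lib.helper88.Saturated
import Cfsg.Agent.Lib.helper92.EssQ1
import Cfsg.Agent.Lib.helper92.EssQ2

/-!
# Essential subgroups contained in an extraspecial subgroup

`eq_of_essential_le_extraspecial`: if `Q ≤ S` is extraspecial of order at least `p⁴` and `E ≤ Q` is
essential in a fusion system over `S`, then `E = Q`.
-/

set_option autoImplicit false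

namespace Cfsg.Agent.Lib.helper92

open Cfsg Cfsg.FusionSystem

theorem extraspecial_data {Q : Type*} [Group Q] [Finite Q] (p : ℕ) [Fact p.Prime]
    (hQ : Cfsg.IsExtraspecial p Q) :
    ∃ z : Q, orderOf z = p ∧ (∀ q : Q, q * z = z * q) ∧
      (∀ a b : Q, a * b * a⁻¹ * b⁻¹ ∈ Subgroup.zpowers z) ∧
      (∀ c : Q, (∀ q : Q, q * c = c * q) → c ∈ Subgroup.zpowers z) := by
  obtain ⟨⟨hpg, hfr, hcm⟩, hcard⟩ := hQ
  have hcyc : IsCyclic (Subgroup.center Q) := isCyclic_of_prime_card hcard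
  obtain ⟨g, hg⟩ := IsCyclic.exists_generator (α := Subgroup.center Q)
  have hcen : ∀ c : Q, (∀ q : Q, q * c = c * q) → c ∈ Subgroup.zpowers (g : Q) := by
    intro c hc
    have hcc : c ∈ Subgroup.center Q := Subgroup.mem_center_iff.mpr hc
    obtain ⟨k, hk⟩ := hg ⟨c, hcc⟩
    refine ⟨k, ?_⟩
    have h := congrArg Subtype.val hk
    simpa using h
  refine ⟨(g : Q), ?_, ?_, ?_, hcen⟩
  · rw [Subgroup.orderOf_coe, orderOf_eq_card_of_forall_mem_zpowers hg, hcard]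
  · intro q
    exact Subgroup.mem_center_iff.mp g.2 q
  · intro a b
    apply hcen
    have h1 : a * b * a⁻¹ * b⁻¹ ∈ commutator Q := by
      rw [commutator_def]
      have h := Subgroup.commutator_mem_commutator (Subgroup.mem_top a) (Subgroup.mem_top b)
      rw [commutatorElement_def] at h
      exact h
    rw [hcm] at h1
    exact Subgroup.mem_center_iff.mp h1

/-- For a centric subgroup, conjugation by an element of `S` outside it is not inner. -/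
theorem conj_not_mem_inn_of_centric {Ω : Type*} [Group Ω] {S : Subgroup Ω} (F : FusionSystem S)
    {R : Subgroup Ω} (hcen : F.IsCentric R)
    {w : Ω} (hwS : w ∈ S) (hwR : w ∉ R) {c : MulAut R}
    (hc : ∀ x : R, ((c x : R) : Ω) = w * (x : Ω) * w⁻¹) : c ∉ Cfsg.Inn R := by
  rintro ⟨u, hu⟩
  apply hwR
  have h1 : (u : Ω)⁻¹ * w ∈ centralizerIn S R := by
    refine ⟨S.mul_mem (S.inv_mem (hcen.1 u.2)) hwS, Subgroup.mem_centralizer_iff.mpr ?_⟩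
    intro x hx
    have h2 := hc ⟨x, hx⟩
    rw [← hu] at h2
    simp only [MulAut.conj_apply, Subgroup.coe_mul, Subgroup.coe_inv] at h2
    have h3 : x = (u : Ω)⁻¹ * (w * x * w⁻¹) * u := by
      rw [← h2]
      group
    calc x * ((u : Ω)⁻¹ * w) = (u : Ω)⁻¹ * (w * x * w⁻¹) * u * ((u : Ω)⁻¹ * w) := by rw [← h3]
      _ = (u : Ω)⁻¹ * w * x := by group
  have h4 := hcen.2 R (Cfsg.Agent.Lib.helper88.isConj_refl F hcen.1) h1
  have h5 : w = (u : Ω) * ((u : Ω)⁻¹ * w) := by group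
  rw [h5]
  exact R.mul_mem u.2 h4

theorem eq_of_essential_le_extraspecial {Ω : Type*} [Group Ω] {S : Subgroup Ω} [Finite S]
    (p : ℕ) [Fact p.Prime] (Q : Subgroup Ω) (hQS : Q ≤ S) (hQ : Cfsg.IsExtraspecial p ↥Q)
    (hcardQ : p ^ 4 ≤ Nat.card Q) (F : Cfsg.FusionSystem S) (E : Subgroup Ω) (hEQ : E ≤ Q)
    (hE : F.IsEssential p E) : E = Q := by
  have hp : p.Prime := Fact.out
  by_contra hne
  obtain ⟨hcen, hfn, hN, M, hM⟩ := hE
  have hES : E ≤ S := hcen.1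
  have hfinQ : Finite ↥Q :=
    Finite.of_injective (Subgroup.inclusion hQS) (Subgroup.inclusion_injective hQS)
  have hfinE : Finite ↥E :=
    Finite.of_injective (Subgroup.inclusion hES) (Subgroup.inclusion_injective hES)
  obtain ⟨z₀, hz₀p, hz₀c, hz₀comm, hz₀cen⟩ := extraspecial_data p hQ
  have hzQ : (z₀ : Ω) ∈ Q := z₀.2
  have hzp : orderOf (z₀ : Ω) = p := by rw [Subgroup.orderOf_coe]; exact hz₀p
  have hzc : ∀ q ∈ Q, q * (z₀ : Ω) = (z₀ : Ω) * q :=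
    fun q hq => congrArg Subtype.val (hz₀c ⟨q, hq⟩)
  have hcomm : ∀ a ∈ Q, ∀ b ∈ Q, a * b * a⁻¹ * b⁻¹ ∈ Subgroup.zpowers (z₀ : Ω) :=
    fun a ha b hb => (mem_zpowers_subtype Q _ hzQ _).mp (hz₀comm ⟨a, ha⟩ ⟨b, hb⟩)
  have hcenZ : ∀ c ∈ Q, (∀ q ∈ Q, q * c = c * q) → c ∈ Subgroup.zpowers (z₀ : Ω) :=
    fun c hc h => (mem_zpowers_subtype Q _ hzQ ⟨c, hc⟩).mp
      (hz₀cen ⟨c, hc⟩ (fun q => Subtype.ext (h q q.2)))
  have hzE : (z₀ : Ω) ∈ E := by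
    apply hcen.2 E (Cfsg.Agent.Lib.helper88.isConj_refl F hES)
    refine ⟨hQS hzQ, Subgroup.mem_centralizer_iff.mpr ?_⟩
    intro e he
    exact hzc e (hEQ he)
  have hkey : ∀ a ∈ Q, ∀ e ∈ E, a * e * a⁻¹ ∈ E := by
    intro a ha e he
    have h1 := hcomm a ha e (hEQ he)
    have h2 : a * e * a⁻¹ * e⁻¹ ∈ E := (Subgroup.zpowers_le.mpr hzE) h1
    have h3 := E.mul_mem h2 he
    rwa [inv_mul_cancel_right] at h3
  have hnorm : ∀ a ∈ Q, a ∈ Subgroup.normalizer (E : Set Ω) := by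
    intro a ha
    rw [Subgroup.mem_normalizer_iff]
    intro h
    constructor
    · exact hkey a ha h
    · intro hh
      have h1 := hkey a⁻¹ (Q.inv_mem ha) _ hh
      have h2 : a⁻¹ * (a * h * a⁻¹) * a⁻¹⁻¹ = h := by group
      rwa [h2] at h1
  obtain ⟨a₀, ha₀Q, ha₀E⟩ : ∃ a ∈ Q, a ∉ E := by
    by_contra hcon
    push Not at hcon
    exact hne (le_antisymm hEQ hcon)
  have hconjA : ∀ a (ha : a ∈ Q),
      Cfsg.Agent.Lib.helper88.conjAut E a (hnorm a ha) ∈ F.autGroup E := fun a ha =>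
    Cfsg.Agent.Lib.helper88.autInducedBy_le_autGroup F hES
      (Cfsg.Agent.Lib.helper88.conjAut_mem S E a (hnorm a ha) (hQS ha))
  let D : Set ↥(F.autGroup E) := {τ | ∃ a, ∃ ha : a ∈ Q, a ∉ E ∧
    (τ : MulAut ↥E) = Cfsg.Agent.Lib.helper88.conjAut E a (hnorm a ha)}
  have hzEc : ∀ e : ↥E, e * (⟨(z₀ : Ω), hzE⟩ : ↥E) = ⟨(z₀ : Ω), hzE⟩ * e :=
    fun e => Subtype.ext (hzc e (hEQ e.2))
  have hcommE : ∀ a b : ↥E, a * b * a⁻¹ * b⁻¹ ∈ Subgroup.zpowers (⟨(z₀ : Ω), hzE⟩ : ↥E) :=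
    fun a b => (mem_zpowers_subtype E _ hzE _).mpr (hcomm a (hEQ a.2) b (hEQ b.2))
  have hzEp : orderOf (⟨(z₀ : Ω), hzE⟩ : ↥E) = p := by
    rw [← hzp, ← Subgroup.orderOf_coe]
  have := hN
  apply no_spe_of_transvections p (⟨(z₀ : Ω), hzE⟩ : ↥E)
    (by rw [← hzEp]; exact pow_orderOf_eq_one _) hzEc (F.autGroup E)
    ((Inn E).subgroupOf (F.autGroup E)) M hM D
  · rintro τ ⟨a, ha, haE, hτ⟩ hmem
    rw [Subgroup.mem_subgroupOf, hτ] at hmem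
    exact conj_not_mem_inn_of_centric F hcen (hQS ha) haE
      (fun x => Cfsg.Agent.Lib.helper88.conjAut_apply E a _ x) hmem
  · rintro τ ⟨a, ha, haE, hτ⟩
    rw [hτ]
    apply Subtype.ext
    rw [Cfsg.Agent.Lib.helper88.conjAut_apply]
    show a * (z₀ : Ω) * a⁻¹ = z₀
    rw [hzc a ha, mul_inv_cancel_right]
  · rintro τ ⟨a, ha, haE, hτ⟩ e
    rw [hτ, mem_zpowers_subtype]
    have h1 := hcomm (e : Ω)⁻¹ (Q.inv_mem (hEQ e.2)) a ha
    rw [inv_inv] at h1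
    have h2 : ((e⁻¹ * Cfsg.Agent.Lib.helper88.conjAut E a (hnorm a ha) e : ↥E) : Ω)
        = (e : Ω)⁻¹ * a * e * a⁻¹ := by
      rw [Subgroup.coe_mul, Cfsg.Agent.Lib.helper88.conjAut_apply, Subgroup.coe_inv]
      group
    rw [h2]
    exact h1
  · exact ⟨⟨_, hconjA a₀ ha₀Q⟩, a₀, ha₀Q, ha₀E, rfl⟩
  · intro β hβ
    have hyc : ∀ e ∈ E, e * (((β : MulAut ↥E) ⟨(z₀ : Ω), hzE⟩ : ↥E) : Ω)
        = (((β : MulAut ↥E) ⟨(z₀ : Ω), hzE⟩ : ↥E) : Ω) * e := by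
      intro e he
      have h1 : (⟨e, he⟩ : ↥E) * (β : MulAut ↥E) ⟨(z₀ : Ω), hzE⟩
          = (β : MulAut ↥E) ⟨(z₀ : Ω), hzE⟩ * ⟨e, he⟩ := by
        have h2 : (⟨e, he⟩ : ↥E) = (β : MulAut ↥E) ((β : MulAut ↥E)⁻¹ ⟨e, he⟩) := by
          rw [MulAut.apply_inv_self]
        rw [h2, ← map_mul, ← map_mul, hzEc]
      exact congrArg Subtype.val h1
    have hyz : (((β : MulAut ↥E) ⟨(z₀ : Ω), hzE⟩ : ↥E) : Ω) ∉ Subgroup.zpowers (z₀ : Ω) :=
      fun h => hβ ((mem_zpowers_subtype E _ hzE _).mpr h)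
    rcases exists_cent_not_mem p Q E (z₀ : Ω) hEQ hzp hzc hcomm hcenZ hcardQ _
      ((β : MulAut ↥E) ⟨(z₀ : Ω), hzE⟩).2 hyc hyz with ⟨a, ha, haE, hay⟩ | ⟨e₁, he₁, e₂, he₂, hne12⟩
    · refine ⟨⟨_, hconjA a ha⟩, ⟨a, ha, haE, rfl⟩, ?_⟩
      apply Subtype.ext
      rw [Cfsg.Agent.Lib.helper88.conjAut_apply, hay, mul_inv_cancel_right]
    · exfalso
      apply hβ
      exact aut_fix_of_noncomm p (⟨(z₀ : Ω), hzE⟩ : ↥E) hzEp hcommE
        ⟨⟨e₁, he₁⟩, ⟨e₂, he₂⟩, fun h => hne12 (congrArg Subtype.val h)⟩ (β : MulAut ↥E)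

end Cfsg.Agent.Lib.helper92
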