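import Mathlib
import Cfsg.Agent.Lib.helper92.Ess3a

/-!
# Automorphisms of a finite abelian `p`-group `H` via the endomorphism ring of `Additive H`

`Lvl p i X` says that the endomorphism `X` maps into `p ^ i • A`.  We use the binomial expansion of
`(X + 1) ^ p - 1` to show

* automorphisms acting trivially on `H / H^p` form a `p`-group (`aut_pow_eq_one_of_lvl`);
* automorphisms stabilizing a chain `H^p ≤ M ≤ H` have `p`-th power acting trivially on `H / H^p`
  (`lvl_chain`);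
* if `Ω₁(H) ≤ H^p`, `p ≥ 5` and `|H : H^p| = p²`, an automorphism of order `p` acts trivially on
  `H / H^p` (`lvl_u`, `lvl_sq_of_index`).
-/

set_option autoImplicit false

namespace Cfsg.Agent.Lib.helper92

section Lvl

variable {A : Type*} [AddCommGroup A]

/-- The endomorphism `X` maps `A` into `p ^ i • A`. -/
def Lvl (p i : ℕ) (X : AddMonoid.End A) : Prop := ∀ g : A, ∃ g' : A, X g = (p ^ i) • g'

theorem Lvl.triv (p : ℕ) (X : AddMonoid.End A) : Lvl p 0 X := fun g => ⟨X g, by simp⟩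

theorem Lvl.zero (p i : ℕ) : Lvl p i (0 : AddMonoid.End A) := fun _ => ⟨0, by simp⟩

theorem Lvl.mono {p i j : ℕ} {X : AddMonoid.End A} (h : Lvl p i X) (hji : j ≤ i) :
    Lvl p j X := by
  intro g
  obtain ⟨g', hg'⟩ := h g
  refine ⟨p ^ (i - j) • g', ?_⟩
  rw [hg', smul_smul, ← pow_add]
  congr 2
  omega

theorem Lvl.add {p i : ℕ} {X Y : AddMonoid.End A} (hX : Lvl p i X) (hY : Lvl p i Y) :
    Lvl p i (X + Y) := by
  intro g
  obtain ⟨a, ha⟩ := hX g
  obtain ⟨b, hb⟩ := hY g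
  refine ⟨a + b, ?_⟩
  have e : (X + Y) g = X g + Y g := rfl
  rw [e, ha, hb, smul_add]

theorem Lvl.neg {p i : ℕ} {X : AddMonoid.End A} (hX : Lvl p i X) : Lvl p i (-X) := by
  intro g
  obtain ⟨a, ha⟩ := hX g
  refine ⟨-a, ?_⟩
  have e : (-X) g = -(X g) := rfl
  rw [e, ha, smul_neg]

theorem Lvl.mul {p i j : ℕ} {X Y : AddMonoid.End A} (hX : Lvl p i X) (hY : Lvl p j Y) :
    Lvl p (i + j) (X * Y) := by
  intro g
  obtain ⟨b, hb⟩ := hY g
  obtain ⟨a, ha⟩ := hX b
  refine ⟨a, ?_⟩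
  rw [AddMonoid.End.coe_mul, Function.comp_apply, hb, map_nsmul, ha, smul_smul, ← pow_add,
    add_comm]

theorem Lvl.mul_right {p i : ℕ} {X : AddMonoid.End A} (hX : Lvl p i X) (Y : AddMonoid.End A) :
    Lvl p i (X * Y) := fun g => hX (Y g)

theorem Lvl.mul_p {p i : ℕ} {X : AddMonoid.End A} (hX : Lvl p i X) :
    Lvl p (i + 1) (X * (p : AddMonoid.End A)) := by
  intro g
  obtain ⟨a, ha⟩ := hX g
  refine ⟨a, ?_⟩
  rw [AddMonoid.End.coe_mul, Function.comp_apply, AddMonoid.End.natCast_apply, map_nsmul, ha,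
    smul_smul, ← pow_succ']

theorem Lvl.sum {p i : ℕ} {ι : Type*} (s : Finset ι) (f : ι → AddMonoid.End A)
    (h : ∀ k ∈ s, Lvl p i (f k)) : Lvl p i (∑ k ∈ s, f k) :=
  Finset.sum_induction f (Lvl p i) (fun _ _ => Lvl.add) (Lvl.zero p i) h

/-- Binomial expansion of `(X + 1) ^ p - 1`. -/
theorem add_one_pow_sub_one {R : Type*} [Ring R] (X : R) (p : ℕ) :
    (X + 1) ^ p - 1 = ∑ m ∈ Finset.range p, X ^ (m + 1) * (p.choose (m + 1) : R) := by
  rw [(Commute.one_right X).add_pow, Finset.sum_range_succ']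
  simp

theorem lvl_pow_p (p : ℕ) {i : ℕ} (hi : 1 ≤ i) (ψ : AddMonoid.End A) (h : Lvl p i (ψ - 1)) :
    Lvl p (i + 1) (ψ ^ p - 1) := by
  have e : ψ ^ p - 1 =
      ∑ m ∈ Finset.range p, (ψ - 1) ^ (m + 1) * (p.choose (m + 1) : AddMonoid.End A) := by
    rw [← add_one_pow_sub_one, sub_add_cancel]
  rw [e]
  apply Lvl.sum
  intro m _
  rcases Nat.eq_zero_or_pos m with rfl | hm0
  · rw [zero_add, pow_one, Nat.choose_one_right]
    exact h.mul_p
  · have e2 : (ψ - 1) ^ (m + 1) = (ψ - 1) * (ψ - 1) * (ψ - 1) ^ (m - 1) := by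
      rw [← pow_two, ← pow_add]
      congr 1
      omega
    rw [e2]
    exact (((h.mul h).mono (by omega)).mul_right _).mul_right _

theorem lvl_iter (p : ℕ) (ψ : AddMonoid.End A) (h : Lvl p 1 (ψ - 1)) (n : ℕ) :
    Lvl p (n + 1) (ψ ^ (p ^ n) - 1) := by
  induction n with
  | zero => simpa using h
  | succ n ih =>
    rw [pow_succ, pow_mul]
    exact lvl_pow_p p (by omega) _ ih

end Lvl

section Aut

variable {H : Type*} [CommGroup H]

/-- The endomorphism of `Additive H` attached to an automorphism of `H`. -/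
def hatAut : MulAut H →* AddMonoid.End (Additive H) where
  toFun φ := MonoidHom.toAdditive φ.toMonoidHom
  map_one' := rfl
  map_mul' _ _ := rfl

theorem hatAut_apply (φ : MulAut H) (h : H) :
    hatAut φ (Additive.ofMul h) = Additive.ofMul (φ h) := rfl

theorem hatAut_injective : Function.Injective (hatAut (H := H)) := by
  intro φ ψ h
  ext x
  have h1 := congrArg (fun f : AddMonoid.End (Additive H) => f (Additive.ofMul x)) h
  exact Additive.ofMul.injective h1

theorem hatAut_sub_one_apply (φ : MulAut H) (h : H) :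
    (hatAut φ - 1) (Additive.ofMul h) = Additive.ofMul (h⁻¹ * φ h) := by
  have e : (hatAut φ - 1) (Additive.ofMul h)
      = hatAut φ (Additive.ofMul h) - (1 : AddMonoid.End (Additive H)) (Additive.ofMul h) := rfl
  rw [e, hatAut_apply, AddMonoid.End.one_apply, ← ofMul_div, div_eq_mul_inv, mul_comm]

theorem lvl_one_iff (p : ℕ) (φ : MulAut H) :
    Lvl p 1 (hatAut φ - 1) ↔ ∀ h : H, ∃ k : H, h⁻¹ * φ h = k ^ p := by
  constructor
  · intro hl h
    obtain ⟨g', hg'⟩ := hl (Additive.ofMul h)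
    refine ⟨Additive.toMul g', ?_⟩
    rw [hatAut_sub_one_apply, pow_one] at hg'
    have h1 := congrArg Additive.toMul hg'
    rw [toMul_nsmul] at h1
    exact h1
  · intro hh g
    obtain ⟨k, hk⟩ := hh (Additive.toMul g)
    refine ⟨Additive.ofMul k, ?_⟩
    have h1 := hatAut_sub_one_apply φ (Additive.toMul g)
    rw [ofMul_toMul] at h1
    rw [h1, hk, pow_one, ofMul_pow]

/-- Automorphisms acting trivially on `H / H^p` have `p`-power order. -/
theorem aut_pow_eq_one_of_lvl (p n : ℕ) (hn : ∀ h : H, h ^ (p ^ n) = 1) (φ : MulAut H)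
    (h : ∀ x : H, ∃ k : H, x⁻¹ * φ x = k ^ p) : φ ^ (p ^ n) = 1 := by
  have h1 := lvl_iter p (hatAut φ) ((lvl_one_iff p φ).mpr h) n
  apply hatAut_injective
  rw [map_pow, map_one]
  have h2 : hatAut φ ^ (p ^ n) - 1 = 0 := by
    ext g
    obtain ⟨g', hg'⟩ := h1 g
    rw [hg', AddMonoid.End.zero_apply, pow_succ, mul_smul]
    have h3 : (p ^ n) • g' = 0 := by
      have h4 := hn (Additive.toMul g')
      have h5 := congrArg Additive.ofMul h4
      rw [ofMul_pow, ofMul_toMul] at h5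
      exact h5
    rw [smul_comm, h3, smul_zero]
  exact sub_eq_zero.mp h2

/-- An automorphism stabilizing a chain `H^p ≤ M ≤ H` has `p`-th power trivial on `H / H^p`. -/
theorem lvl_chain (p : ℕ) (M : Subgroup H) (φ : MulAut H) (h1 : ∀ x : H, x⁻¹ * φ x ∈ M)
    (h2 : ∀ m ∈ M, ∃ k : H, m⁻¹ * φ m = k ^ p) :
    ∀ x : H, ∃ k : H, x⁻¹ * (φ ^ p) x = k ^ p := by
  rw [← lvl_one_iff, map_pow]
  have hXX : Lvl p 1 ((hatAut φ - 1) * (hatAut φ - 1)) := by
    intro g
    have e1 := hatAut_sub_one_apply φ (Additive.toMul g)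
    rw [ofMul_toMul] at e1
    obtain ⟨k, hk⟩ := h2 _ (h1 (Additive.toMul g))
    refine ⟨Additive.ofMul k, ?_⟩
    rw [AddMonoid.End.coe_mul, Function.comp_apply, e1, hatAut_sub_one_apply, hk, pow_one,
      ofMul_pow]
  have e : hatAut φ ^ p - 1 = ∑ m ∈ Finset.range p,
      (hatAut φ - 1) ^ (m + 1) * (p.choose (m + 1) : AddMonoid.End (Additive H)) := by
    rw [← add_one_pow_sub_one, sub_add_cancel]
  rw [e]
  apply Lvl.sum
  intro m _
  rcases Nat.eq_zero_or_pos m with rfl | hm0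
  · rw [zero_add, pow_one, Nat.choose_one_right]
    exact (Lvl.triv p _).mul_p
  · have e2 : (hatAut φ - 1) ^ (m + 1)
        = (hatAut φ - 1) * (hatAut φ - 1) * (hatAut φ - 1) ^ (m - 1) := by
      rw [← pow_two, ← pow_add]
      congr 1
      omega
    rw [e2]
    exact (hXX.mul_right _).mul_right _

end Aut

end Cfsg.Agent.Lib.helper92
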