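import Mathlib
import Cfsg.Agent.Lib.helper92.Ess2b

/-!
# Automorphisms of order `p` of a two-generated abelian `p`-group

* `lvl_of_sq`, `lvl_u`: if `p ≥ 5`, `Ω₁(H) ≤ H^p`, `u ^ p = 1` and `(u - 1)²` maps into `H^p`, then
  `u - 1` maps into `H^p`.
* `lvl_sq_of_index`: if `|H : H^p| = p²` and `u ^ p = 1` then `(u - 1)²` maps into `H^p`.
-/

set_option autoImplicit false

namespace Cfsg.Agent.Lib.helper92

section LvlMore

variable {A : Type*} [AddCommGroup A]

theorem Lvl.mul_nat_of_dvd {p i : ℕ} {X : AddMonoid.End A} (hX : Lvl p i X) {n : ℕ}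
    (hn : p ∣ n) : Lvl p (i + 1) (X * (n : AddMonoid.End A)) := by
  intro g
  obtain ⟨c, rfl⟩ := hn
  obtain ⟨a, ha⟩ := hX g
  refine ⟨c • a, ?_⟩
  rw [AddMonoid.End.coe_mul, Function.comp_apply, AddMonoid.End.natCast_apply, map_nsmul, ha,
    smul_smul, smul_smul]
  congr 1
  ring

/-- If `(N + 1) ^ p = 1` then `N ^ p` maps into `p • A`. -/
theorem lvl_pow_of_unip (p : ℕ) (hp : p.Prime) (N : AddMonoid.End A) (hN : (N + 1) ^ p = 1) :
    Lvl p 1 (N ^ p) := by
  have e := add_one_pow_sub_one N p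
  rw [hN, sub_self] at e
  have e2 := Finset.add_sum_erase (Finset.range p)
    (fun m => N ^ (m + 1) * (p.choose (m + 1) : AddMonoid.End A))
    (Finset.mem_range.mpr (Nat.sub_lt hp.pos one_pos))
  rw [← e] at e2
  have hpp : p - 1 + 1 = p := by have := hp.pos; omega
  have e3 : N ^ p = -∑ m ∈ (Finset.range p).erase (p - 1),
      N ^ (m + 1) * (p.choose (m + 1) : AddMonoid.End A) := by
    have h := eq_neg_of_add_eq_zero_left e2
    simpa [hpp] using h
  rw [e3]
  apply Lvl.neg
  apply Lvl.sum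
  intro m hm
  rw [Finset.mem_erase, Finset.mem_range] at hm
  have hdvd : p ∣ p.choose (m + 1) := hp.dvd_choose_self (by omega) (by omega)
  have h := (Lvl.triv p (N ^ (m + 1))).mul_nat_of_dvd hdvd
  simpa using h

/-- If `(N + 1) ^ p = 1` and `N g ∈ p • A` implies `g ∈ p • A`, then `A = p • A`. -/
theorem all_div_of_unip (p : ℕ) (hp : p.Prime) (N : AddMonoid.End A) (hN : (N + 1) ^ p = 1)
    (hD : ∀ g : A, (∃ g', N g = p • g') → ∃ g', g = p • g') : ∀ g : A, ∃ g', g = p • g' := by
  have h1 := lvl_pow_of_unip p hp N hN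
  have h2 : ∀ n : ℕ, ∀ g : A, (∃ g', (N ^ n) g = p • g') → ∃ g', g = p • g' := by
    intro n
    induction n with
    | zero => intro g h; simpa using h
    | succ n ih =>
      intro g h
      apply hD
      apply ih
      rw [pow_succ] at h
      simpa using h
  intro g
  obtain ⟨g', hg'⟩ := h1 g
  exact h2 p g ⟨g', by simpa using hg'⟩

/-- If `p ≥ 5`, `(N + 1) ^ p = 1`, `N²` maps into `p • A` and `Ω₁(A) ≤ p • A`, then `N` maps into
`p • A`. -/
theorem lvl_of_sq (p : ℕ) (hp : p.Prime) (hp5 : 5 ≤ p) (N : AddMonoid.End A)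
    (hN : (N + 1) ^ p = 1) (hsq : Lvl p 1 (N * N))
    (hom : ∀ x : A, p • x = 0 → ∃ k : A, x = p • k) : Lvl p 1 N := by
  have e := add_one_pow_sub_one N p
  rw [hN, sub_self] at e
  have e2 := Finset.add_sum_erase (Finset.range p)
    (fun m => N ^ (m + 1) * (p.choose (m + 1) : AddMonoid.End A))
    (Finset.mem_range.mpr hp.pos)
  rw [← e] at e2
  have e3 : N * (p : AddMonoid.End A) = -∑ m ∈ (Finset.range p).erase 0,
      N ^ (m + 1) * (p.choose (m + 1) : AddMonoid.End A) := by
    have h := eq_neg_of_add_eq_zero_left e2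
    simpa using h
  have h2 : Lvl p 2 (N * (p : AddMonoid.End A)) := by
    rw [e3]
    apply Lvl.neg
    apply Lvl.sum
    intro m hm
    rw [Finset.mem_erase, Finset.mem_range] at hm
    obtain ⟨hm0, hmp⟩ := hm
    by_cases hlast : m + 1 = p
    · rw [hlast, Nat.choose_self, Nat.cast_one, mul_one]
      have e4 : N ^ p = (N * N) * (N * N) * N ^ (p - 4) := by
        have e5 : (N * N) * (N * N) = N ^ 4 := by
          rw [← pow_two, ← pow_two, ← pow_mul]
        rw [e5, ← pow_add]
        congr 1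
        omega
      rw [e4]
      exact (hsq.mul hsq).mul_right _
    · have hdvd : p ∣ p.choose (m + 1) := hp.dvd_choose_self (by omega) (by omega)
      have e4 : N ^ (m + 1) = (N * N) * N ^ (m - 1) := by
        rw [← pow_two, ← pow_add]
        congr 1
        omega
      rw [e4]
      exact (hsq.mul_right _).mul_nat_of_dvd hdvd
  intro g
  obtain ⟨g', hg'⟩ := h2 g
  rw [AddMonoid.End.coe_mul, Function.comp_apply, AddMonoid.End.natCast_apply, map_nsmul] at hg'
  have h3 : p • (N g - p • g') = 0 := by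
    rw [smul_sub, hg', smul_smul, ← pow_two, sub_self]
  obtain ⟨k, hk⟩ := hom _ h3
  refine ⟨g' + k, ?_⟩
  rw [pow_one, smul_add, ← hk]
  abel

end LvlMore

section AutMore

variable {H : Type*} [CommGroup H]

theorem hatAut_unip (p : ℕ) (u : MulAut H) (hu : u ^ p = 1) :
    ((hatAut u - 1) + 1) ^ p = 1 := by
  rw [sub_add_cancel, ← map_pow, hu, map_one]

/-- `p ≥ 5`, `Ω₁(H) ≤ H^p`, `u ^ p = 1`, `(u - 1)²` maps into `H^p` ⟹ `u - 1` maps into `H^p`. -/
theorem lvl_u (p : ℕ) (hp : p.Prime) (hp5 : 5 ≤ p) (u : MulAut H) (hu : u ^ p = 1)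
    (hsq : Lvl p 1 ((hatAut u - 1) * (hatAut u - 1)))
    (hom : ∀ x : H, x ^ p = 1 → ∃ k : H, x = k ^ p) :
    ∀ x : H, ∃ k : H, x⁻¹ * u x = k ^ p := by
  rw [← lvl_one_iff]
  apply lvl_of_sq p hp hp5 _ (hatAut_unip p u hu) hsq
  intro x hx
  have h1 : (Additive.toMul x) ^ p = 1 := by
    have h := congrArg Additive.toMul hx
    rw [toMul_nsmul] at h
    exact h
  obtain ⟨k, hk⟩ := hom _ h1
  refine ⟨Additive.ofMul k, ?_⟩
  have h2 := congrArg Additive.ofMul hk
  rw [ofMul_toMul, ofMul_pow] at h2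
  exact h2

/-- If `|H : H^p| = p²` and `u ^ p = 1` then `(u - 1)²` maps into `H^p`. -/
theorem lvl_sq_of_index [Finite H] (p : ℕ) [Fact p.Prime]
    (hcard : Nat.card H = p ^ 2 * Nat.card ((powMonoidHom p : H →* H).range)) (u : MulAut H)
    (hu : u ^ p = 1) : Lvl p 1 ((hatAut u - 1) * (hatAut u - 1)) := by
  have hp : p.Prime := Fact.out
  have hHp : ∀ x : H, x ∈ (powMonoidHom p : H →* H).range ↔ ∃ k : H, x = k ^ p := by
    intro x
    constructor
    · rintro ⟨k, rfl⟩; exact ⟨k, rfl⟩
    · rintro ⟨k, rfl⟩; exact ⟨k, rfl⟩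
  have hinv : ∀ (φ : MulAut H) (x : H),
      φ x ∈ (powMonoidHom p : H →* H).range ↔ x ∈ (powMonoidHom p : H →* H).range := by
    intro φ x
    constructor
    · intro h
      obtain ⟨k, hk⟩ := (hHp _).mp h
      refine (hHp _).mpr ⟨φ⁻¹ k, ?_⟩
      rw [← map_pow, ← hk, MulAut.inv_apply_self]
    · intro h
      obtain ⟨k, hk⟩ := (hHp _).mp h
      exact (hHp _).mpr ⟨φ k, by rw [hk, map_pow]⟩
  let δ : H →* H := (MonoidHom.id H)⁻¹ * (u : H →* H)
  have hδ : ∀ x : H, δ x = x⁻¹ * u x := fun x => rfl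
  let Mc : Subgroup H := ((powMonoidHom p : H →* H).range).comap δ
  have hMc : ∀ x : H, x ∈ Mc ↔ x⁻¹ * u x ∈ (powMonoidHom p : H →* H).range := fun x => Iff.rfl
  have hle : (powMonoidHom p : H →* H).range ≤ Mc := by
    intro x hx
    obtain ⟨k, hk⟩ := (hHp _).mp hx
    rw [hMc]
    refine (hHp _).mpr ⟨k⁻¹ * u k, ?_⟩
    rw [hk, mul_pow, inv_pow, map_pow]
  have hN : ∀ g : Additive H, (hatAut u - 1) g
      = Additive.ofMul ((Additive.toMul g)⁻¹ * u (Additive.toMul g)) :=
    fun g => hatAut_sub_one_apply u (Additive.toMul g)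
  by_cases htop : Mc = ⊤
  · have h1 : Lvl p 1 (hatAut u - 1) := by
      rw [lvl_one_iff]
      intro x
      have h2 : x ∈ Mc := by rw [htop]; exact Subgroup.mem_top x
      exact (hHp _).mp ((hMc x).mp h2)
    exact h1.mul_right _
  · -- `Mc ≠ H^p`
    have hne : Mc ≠ (powMonoidHom p : H →* H).range := by
      intro heq
      have hall : ∀ g : Additive H, ∃ g', g = p • g' := by
        apply all_div_of_unip p hp (hatAut u - 1) (hatAut_unip p u hu)
        intro g ⟨g', hg'⟩
        have h1 : Additive.toMul g ∈ Mc := by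
          rw [hMc]
          refine (hHp _).mpr ⟨Additive.toMul g', ?_⟩
          have h2 := hatAut_sub_one_apply u (Additive.toMul g)
          rw [ofMul_toMul, hg'] at h2
          have h3 := congrArg Additive.toMul h2
          rw [toMul_nsmul, toMul_ofMul] at h3
          exact h3.symm
        rw [heq] at h1
        obtain ⟨k, hk⟩ := (hHp _).mp h1
        refine ⟨Additive.ofMul k, ?_⟩
        have h2 := congrArg Additive.ofMul hk
        rw [ofMul_toMul, ofMul_pow] at h2
        exact h2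
      have htop2 : (powMonoidHom p : H →* H).range = ⊤ := by
        rw [eq_top_iff]
        intro x _
        obtain ⟨g', hg'⟩ := hall (Additive.ofMul x)
        refine (hHp _).mpr ⟨Additive.toMul g', ?_⟩
        have h2 := congrArg Additive.toMul hg'
        rw [toMul_nsmul, toMul_ofMul] at h2
        exact h2
      rw [htop2, Subgroup.card_top] at hcard
      have hpos : 0 < Nat.card H := Nat.card_pos
      have h1 : p ^ 2 = 1 := by
        have h2 : p ^ 2 * Nat.card H = 1 * Nat.card H := by rw [one_mul]; exact hcard.symm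
        exact Nat.eq_of_mul_eq_mul_right hpos h2
      have := hp.two_le
      nlinarith
    -- the index of `Mc` is `p`
    have hcardMc : Nat.card H = p * Nat.card Mc := by
      obtain ⟨t, ht⟩ := Subgroup.card_dvd_of_le hle
      obtain ⟨s, hs⟩ := Subgroup.card_subgroup_dvd_card Mc
      have hpos : 0 < Nat.card ((powMonoidHom p : H →* H).range) := Nat.card_pos
      have hts : t * s = p ^ 2 := by
        have h1 : Nat.card ((powMonoidHom p : H →* H).range) * (t * s)
            = Nat.card ((powMonoidHom p : H →* H).range) * p ^ 2 := by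
          rw [← mul_assoc, ← ht, ← hs, hcard, mul_comm]
        exact Nat.eq_of_mul_eq_mul_left hpos h1
      have htd : t ∣ p ^ 2 := ⟨s, hts.symm⟩
      obtain ⟨m, hm, rfl⟩ := (Nat.dvd_prime_pow hp).mp htd
      have hm0 : m ≠ 0 := by
        rintro rfl
        apply hne
        symm
        apply Subgroup.eq_of_le_of_card_ge hle
        rw [ht, pow_zero, mul_one]
      have hm2 : m ≠ 2 := by
        rintro rfl
        apply htop
        apply Subgroup.eq_top_of_card_eq
        rw [ht, hcard, mul_comm]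
      have hm1 : m = 1 := by omega
      subst hm1
      have hs1 : s = p := by
        rw [pow_one, pow_two] at hts
        exact Nat.eq_of_mul_eq_mul_left hp.pos hts
      rw [hs, hs1, mul_comm]
    have hMinv : ∀ x : H, u x ∈ Mc ↔ x ∈ Mc := by
      intro x
      rw [hMc, hMc]
      have e : (u x)⁻¹ * u (u x) = u (x⁻¹ * u x) := by rw [map_mul, map_inv]
      rw [e]
      exact hinv u _
    have h1 := aut_section_pow p Mc ⊤ le_top
      (fun b _ a ha => by rw [mul_comm, inv_mul_cancel_left]; exact ha)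
      (by rw [Subgroup.card_top]; exact hcardMc) u hMinv (fun x => by simp)
    have hupow : u ^ (p - 1) = u⁻¹ := by
      apply eq_inv_of_mul_eq_one_left
      rw [← pow_succ, Nat.sub_add_cancel hp.pos, hu]
    rw [hupow] at h1
    have h2 : ∀ x : H, x⁻¹ * u x ∈ Mc := by
      intro x
      have h3 := Mc.inv_mem (h1 (u x) (Subgroup.mem_top _))
      rw [MulAut.inv_apply_self, mul_inv_rev, inv_inv] at h3
      exact h3
    intro g
    have h3 := h2 (Additive.toMul g)
    rw [hMc] at h3
    obtain ⟨k, hk⟩ := (hHp _).mp h3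
    refine ⟨Additive.ofMul k, ?_⟩
    rw [AddMonoid.End.coe_mul, Function.comp_apply, hN g, hatAut_sub_one_apply, hk, pow_one,
      ofMul_pow]

end AutMore

end Cfsg.Agent.Lib.helper92
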