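import Mathlib
import Cfsg.Prelude.Def_EvenType
import Cfsg.Agent.Lib.helper53.SPE
import Cfsg.Agent.Lib.helper71.Frattini
import Cfsg.Agent.Lib.helper92.Ess2a
import Cfsg.Agent.Lib.helper92.Ess2c
import Cfsg.Agent.Lib.helper92.Ess2d

/-!
# Abelian two-generated groups whose automorphism group has a section with a strongly
`p`-embedded subgroup

`ess2_main`: such a group is elementary abelian of order `p²`, or `p ≤ 3` and it is homocyclic
of rank two.
-/

set_option autoImplicit false

namespace Cfsg.Agent.Lib.helper92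

/-- A subgroup strictly between `A` and `⊤` when `|H : A| = p²`. -/
theorem mid_index {H : Type*} [Group H] [Finite H] (p : ℕ) (hp : p.Prime) (A M : Subgroup H)
    (hAM : A ≤ M) (hne : M ≠ A) (htop : M ≠ ⊤) (hcard : Nat.card H = p ^ 2 * Nat.card A) :
    Nat.card M = p * Nat.card A ∧ Nat.card H = p * Nat.card M := by
  obtain ⟨t, ht⟩ := Subgroup.card_dvd_of_le hAM
  obtain ⟨s, hs⟩ := Subgroup.card_subgroup_dvd_card M
  have hpos : 0 < Nat.card A := Nat.card_pos
  have hts : t * s = p ^ 2 := by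
    have h1 : Nat.card A * (t * s) = Nat.card A * p ^ 2 := by
      rw [← mul_assoc, ← ht, ← hs, hcard, mul_comm]
    exact Nat.eq_of_mul_eq_mul_left hpos h1
  have htd : t ∣ p ^ 2 := ⟨s, hts.symm⟩
  obtain ⟨m, hm, rfl⟩ := (Nat.dvd_prime_pow hp).mp htd
  have hm0 : m ≠ 0 := by
    rintro rfl
    apply hne
    symm
    apply Subgroup.eq_of_le_of_card_ge hAM
    rw [ht, pow_zero, mul_one]
  have hm2 : m ≠ 2 := by
    rintro rfl
    apply htop
    apply Subgroup.eq_top_of_card_eq
    rw [ht, hcard, mul_comm]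
  have hm1 : m = 1 := by omega
  subst hm1
  have hs1 : s = p := by
    rw [pow_one, pow_two] at hts
    exact Nat.eq_of_mul_eq_mul_left hp.pos hts
  refine ⟨by rw [ht, pow_one, mul_comm], by rw [hs, hs1, mul_comm]⟩

theorem ess2_main {H : Type*} [CommGroup H] [Finite H] (p : ℕ) [Fact p.Prime]
    (hpg : IsPGroup p H) (hrk : (frattini H).index ≤ p ^ 2)
    (A : Subgroup (MulAut H)) (N : Subgroup A) [N.Normal]
    (hN : ∀ n : A, n ∈ N → (n : MulAut H) = 1)
    (E : Subgroup (A ⧸ N)) (hE : Cfsg.IsStronglyPEmbedded p E) :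
    ((∀ h : H, h ^ p = 1) ∧ Nat.card H = p ^ 2) ∨
      (p ≤ 3 ∧ ∃ k : ℕ, Nonempty (H ≃* Multiplicative (ZMod (p ^ k) × ZMod (p ^ k)))) := by
  classical
  have hp : p.Prime := Fact.out
  have hHp : ∀ x : H, x ∈ (powMonoidHom p : H →* H).range ↔ ∃ k : H, x = k ^ p := by
    intro x
    constructor
    · rintro ⟨k, rfl⟩; exact ⟨k, rfl⟩
    · rintro ⟨k, rfl⟩; exact ⟨k, rfl⟩
  have hchar : ∀ (φ : MulAut H) (x : H),
      φ x ∈ (powMonoidHom p : H →* H).range ↔ x ∈ (powMonoidHom p : H →* H).range := by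
    intro φ x
    constructor
    · intro h
      obtain ⟨k, hk⟩ := (hHp _).mp h
      refine (hHp _).mpr ⟨φ⁻¹ k, ?_⟩
      rw [← map_pow, ← hk, MulAut.inv_apply_self]
    · intro h
      obtain ⟨k, hk⟩ := (hHp _).mp h
      exact (hHp _).mpr ⟨φ k, by rw [hk, map_pow]⟩
  obtain ⟨n, hn⟩ : ∃ n, ∀ h : H, h ^ (p ^ n) = 1 := by
    obtain ⟨n, hn⟩ := IsPGroup.iff_card.mp hpg
    exact ⟨n, fun h => by rw [← hn]; exact pow_card_eq_one'⟩
  -- automorphisms trivial on `H / H^p`
  let K : Subgroup (MulAut H) :=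
    { carrier := {φ | ∀ x : H, x⁻¹ * φ x ∈ (powMonoidHom p : H →* H).range}
      one_mem' := fun x => by
        rw [MulAut.one_apply, inv_mul_cancel]
        exact Subgroup.one_mem _
      mul_mem' := by
        intro φ ψ hφ hψ x
        have e : x⁻¹ * (φ * ψ) x = (x⁻¹ * ψ x) * ((ψ x)⁻¹ * φ (ψ x)) := by
          rw [MulAut.mul_apply]; group
        rw [e]
        exact Subgroup.mul_mem _ (hψ x) (hφ _)
      inv_mem' := by
        intro φ hφ x
        have h1 := hφ (φ⁻¹ x)
        rw [MulAut.apply_inv_self] at h1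
        have h2 := Subgroup.inv_mem _ h1
        rwa [mul_inv_rev, inv_inv] at h2 }
  have hKmem : ∀ φ : MulAut H, φ ∈ K ↔ ∀ x : H, x⁻¹ * φ x ∈ (powMonoidHom p : H →* H).range :=
    fun φ => Iff.rfl
  have hKn : K.Normal := ⟨by
    intro φ hφ ψ
    rw [hKmem] at hφ ⊢
    intro x
    have e : x⁻¹ * (ψ * φ * ψ⁻¹) x = ψ ((ψ⁻¹ x)⁻¹ * φ (ψ⁻¹ x)) := by
      rw [MulAut.mul_apply, MulAut.mul_apply, map_mul, map_inv, MulAut.apply_inv_self]
    rw [e]
    exact (hchar ψ _).mpr (hφ _)⟩
  have hKpow : ∀ φ ∈ K, φ ^ (p ^ n) = 1 := fun φ hφ =>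
    aut_pow_eq_one_of_lvl p n hn φ (fun x => (hHp _).mp ((hKmem φ).mp hφ x))
  have hKp : IsPGroup p K := fun φ => ⟨n, Subtype.ext (by simpa using hKpow φ.1 φ.2)⟩
  obtain ⟨hKN, u, huN, hupN⟩ := spe_data p K hKn hKp A N E hE
  have hup : (u : MulAut H) ^ p = 1 := by
    have h := hN (u ^ p) hupN
    simpa using h
  have huK : (u : MulAut H) ∉ K := fun h => huN (hKN u h)
  have hupow : (u : MulAut H) ^ (p - 1) = (u : MulAut H)⁻¹ := by
    apply eq_inv_of_mul_eq_one_left
    rw [← pow_succ, Nat.sub_add_cancel hp.pos, hup]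
  have hfr : frattini H ≤ (powMonoidHom p : H →* H).range :=
    Cfsg.Agent.Lib.helper71.frattini_le_of_comm_pow hp _
      (fun x y => by
        have e : x * y * x⁻¹ * y⁻¹ = 1 := by rw [mul_comm x y, mul_inv_cancel_right, mul_inv_cancel]
        rw [e]
        exact Subgroup.one_mem _)
      (fun x => ⟨x, rfl⟩)
  -- the index of `H^p` is `p²`
  have hidx : (powMonoidHom p : H →* H).range.index ∣ (frattini H).index :=
    Subgroup.index_dvd_of_le hfr
  have hfi : (frattini H).index ≠ 0 := Subgroup.index_ne_zero_of_finite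
  have hidxle : (powMonoidHom p : H →* H).range.index ≤ p ^ 2 :=
    (Nat.le_of_dvd (Nat.pos_of_ne_zero hfi) hidx).trans hrk
  have hcm := Subgroup.card_mul_index (powMonoidHom p : H →* H).range
  obtain ⟨c, hc⟩ := IsPGroup.iff_card.mp hpg
  have hidxd : (powMonoidHom p : H →* H).range.index ∣ p ^ c := by
    rw [← hc]
    exact Subgroup.index_dvd_card _
  obtain ⟨m, -, hm⟩ := (Nat.dvd_prime_pow hp).mp hidxd
  have hm2 : m ≤ 2 := by
    rw [hm] at hidxle
    exact (Nat.pow_le_pow_iff_right hp.one_lt).mp hidxle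
  have hcard : Nat.card H = p ^ 2 * Nat.card (powMonoidHom p : H →* H).range := by
    have hm01 : m ≠ 0 ∧ m ≠ 1 := by
      constructor
      · rintro rfl
        rw [pow_zero, Subgroup.index_eq_one] at hm
        apply huK
        rw [hKmem]
        intro x
        rw [hm]
        exact Subgroup.mem_top _
      · rintro rfl
        rw [pow_one] at hm
        rw [hm] at hcm
        have h1 := aut_section_pow p (powMonoidHom p : H →* H).range ⊤ le_top
          (fun b _ a ha => by rw [mul_comm, inv_mul_cancel_left]; exact ha)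
          (by rw [Subgroup.card_top, ← hcm, mul_comm]) (u : MulAut H) (hchar _)
          (fun x => by simp)
        rw [hupow] at h1
        apply huK
        have h2 : (u : MulAut H)⁻¹ ∈ K := by
          rw [hKmem]
          intro x
          exact h1 x (Subgroup.mem_top x)
        have h3 := K.inv_mem h2
        rwa [inv_inv] at h3
    have hm2' : m = 2 := by omega
    rw [hm2'] at hm
    rw [← hcm, hm, mul_comm]
  -- the exponent
  have hex : ∃ a, ∀ h : H, h ^ (p ^ a) = 1 := ⟨n, hn⟩
  obtain ⟨a, ha, hamin⟩ : ∃ a, (∀ h : H, h ^ (p ^ a) = 1) ∧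
      ∀ b < a, ¬ ∀ h : H, h ^ (p ^ b) = 1 :=
    ⟨Nat.find hex, Nat.find_spec hex, fun b hb => Nat.find_min hex hb⟩
  have ha1 : 1 ≤ a := by
    by_contra hcon
    have ha0 : a = 0 := by omega
    subst ha0
    have htriv : ∀ h : H, h = 1 := fun h => by simpa using ha h
    have h1 : Nat.card H = 1 := by
      rw [Nat.card_eq_one_iff_unique]
      exact ⟨⟨fun x y => by rw [htriv x, htriv y]⟩, ⟨1⟩⟩
    have h2 : 0 < Nat.card (powMonoidHom p : H →* H).range := Nat.card_pos
    have := hp.two_le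
    nlinarith
  by_cases hext : ∃ t : H, t ^ (p ^ (a - 1)) = 1 ∧ t ∉ (powMonoidHom p : H →* H).range
  · -- a characteristic chain
    exfalso
    obtain ⟨t, ht1, ht2⟩ := hext
    have hOm : ∀ x : H, x ∈ (powMonoidHom (p ^ (a - 1)) : H →* H).ker ↔ x ^ (p ^ (a - 1)) = 1 :=
      fun x => Iff.rfl
    have hpa : p ^ a = p * p ^ (a - 1) := by
      rw [← pow_succ']
      congr 1
      omega
    have hle : (powMonoidHom p : H →* H).range ≤ (powMonoidHom (p ^ (a - 1)) : H →* H).ker := by
      intro x hx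
      obtain ⟨k, rfl⟩ := (hHp _).mp hx
      rw [hOm, ← pow_mul, ← hpa]
      exact ha k
    have hne : (powMonoidHom (p ^ (a - 1)) : H →* H).ker ≠ (powMonoidHom p : H →* H).range := by
      intro heq
      apply ht2
      rw [← heq, hOm]
      exact ht1
    have htop : (powMonoidHom (p ^ (a - 1)) : H →* H).ker ≠ ⊤ := by
      intro heq
      apply hamin (a - 1) (by omega)
      intro h
      rw [← hOm, heq]
      exact Subgroup.mem_top h
    obtain ⟨hc1, hc2⟩ := mid_index p hp _ _ hle hne htop hcard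
    have hcharO : ∀ (φ : MulAut H) (x : H), φ x ∈ (powMonoidHom (p ^ (a - 1)) : H →* H).ker ↔
        x ∈ (powMonoidHom (p ^ (a - 1)) : H →* H).ker := by
      intro φ x
      rw [hOm, hOm, ← map_pow, MulEquiv.map_eq_one_iff]
    let K' : Subgroup (MulAut H) :=
      { carrier := {φ | (∀ x : H, x⁻¹ * φ x ∈ (powMonoidHom (p ^ (a - 1)) : H →* H).ker) ∧
          ∀ x ∈ (powMonoidHom (p ^ (a - 1)) : H →* H).ker,
            x⁻¹ * φ x ∈ (powMonoidHom p : H →* H).range}
        one_mem' := by
          refine ⟨fun x => ?_, fun x _ => ?_⟩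
          · rw [MulAut.one_apply, inv_mul_cancel]
            exact Subgroup.one_mem _
          · rw [MulAut.one_apply, inv_mul_cancel]
            exact Subgroup.one_mem _
        mul_mem' := by
          rintro φ ψ ⟨a1, a2⟩ ⟨b1, b2⟩
          have e : ∀ x : H, x⁻¹ * (φ * ψ) x = (x⁻¹ * ψ x) * ((ψ x)⁻¹ * φ (ψ x)) := by
            intro x
            rw [MulAut.mul_apply]; group
          refine ⟨fun x => ?_, fun x hx => ?_⟩
          · rw [e]
            exact Subgroup.mul_mem _ (b1 x) (a1 _)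
          · rw [e]
            exact Subgroup.mul_mem _ (b2 x hx) (a2 _ ((hcharO ψ x).mpr hx))
        inv_mem' := by
          rintro φ ⟨a1, a2⟩
          refine ⟨fun x => ?_, fun x hx => ?_⟩
          · have h1 := a1 (φ⁻¹ x)
            rw [MulAut.apply_inv_self] at h1
            have h2 := Subgroup.inv_mem _ h1
            rwa [mul_inv_rev, inv_inv] at h2
          · have h1 := a2 (φ⁻¹ x) ((hcharO φ⁻¹ x).mpr hx)
            rw [MulAut.apply_inv_self] at h1
            have h2 := Subgroup.inv_mem _ h1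
            rwa [mul_inv_rev, inv_inv] at h2 }
    have hK'mem : ∀ φ : MulAut H, φ ∈ K' ↔
        ((∀ x : H, x⁻¹ * φ x ∈ (powMonoidHom (p ^ (a - 1)) : H →* H).ker) ∧
          ∀ x ∈ (powMonoidHom (p ^ (a - 1)) : H →* H).ker,
            x⁻¹ * φ x ∈ (powMonoidHom p : H →* H).range) := fun φ => Iff.rfl
    have hK'n : K'.Normal := ⟨by
      intro φ hφ ψ
      rw [hK'mem] at hφ ⊢
      obtain ⟨a1, a2⟩ := hφ
      have e : ∀ x : H, x⁻¹ * (ψ * φ * ψ⁻¹) x = ψ ((ψ⁻¹ x)⁻¹ * φ (ψ⁻¹ x)) := by
        intro x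
        rw [MulAut.mul_apply, MulAut.mul_apply, map_mul, map_inv, MulAut.apply_inv_self]
      refine ⟨fun x => ?_, fun x hx => ?_⟩
      · rw [e]
        exact (hcharO ψ _).mpr (a1 _)
      · rw [e]
        exact (hchar ψ _).mpr (a2 _ ((hcharO ψ⁻¹ x).mpr hx))⟩
    have hK'p : IsPGroup p K' := by
      intro φ
      refine ⟨n + 1, Subtype.ext ?_⟩
      obtain ⟨a1, a2⟩ := (hK'mem _).mp φ.2
      have h1 := lvl_chain p _ φ.1 a1 (fun x hx => (hHp _).mp (a2 x hx))
      have h2 : (φ : MulAut H) ^ p ∈ K := by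
        rw [hKmem]
        intro x
        exact (hHp _).mpr (h1 x)
      have h3 := hKpow _ h2
      rw [← pow_mul, ← pow_succ'] at h3
      simpa using h3
    have hpm : ∀ φ : MulAut H, φ ^ (p - 1) ∈ K' := by
      intro φ
      rw [hK'mem]
      refine ⟨fun x => ?_, fun x hx => ?_⟩
      · exact aut_section_pow p _ ⊤ le_top
          (fun b _ a ha => by rw [mul_comm, inv_mul_cancel_left]; exact ha)
          (by rw [Subgroup.card_top]; exact hc2) φ (hcharO φ) (fun x => by simp) x
          (Subgroup.mem_top x)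
      · exact aut_section_pow p _ _ hle
          (fun b _ a ha => by rw [mul_comm, inv_mul_cancel_left]; exact ha)
          hc1 φ (hchar φ) (hcharO φ) x hx
    have hcop : Nat.Coprime (p - 1) p := by
      have h2 : Nat.Coprime p (p - 1) :=
        (Nat.Prime.coprime_iff_not_dvd hp).mpr
          (Nat.not_dvd_of_pos_of_lt (by have := hp.two_le; omega) (by have := hp.two_le; omega))
      exact h2.symm
    exact no_spe_of_normal_pgroup p K' hK'n hK'p (p - 1) hcop hpm A N E hE
  · push Not at hext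
    rcases Nat.lt_or_ge a 2 with ha2 | ha2
    · left
      have ha1' : a = 1 := by omega
      subst ha1'
      rw [pow_one] at ha
      refine ⟨ha, ?_⟩
      have h1 : (powMonoidHom p : H →* H).range = ⊥ := by
        rw [eq_bot_iff]
        rintro _ ⟨k, rfl⟩
        rw [Subgroup.mem_bot]
        exact ha k
      rw [h1, Subgroup.card_bot, mul_one] at hcard
      exact hcard
    · have hOm : ∀ x : H, x ^ p = 1 → ∃ k : H, x = k ^ p := by
        intro x hx
        apply (hHp x).mp
        apply hext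
        have e : p ^ (a - 1) = p * p ^ (a - 2) := by
          rw [← pow_succ']
          congr 1
          omega
        rw [e, pow_mul, hx, one_pow]
      rcases Nat.lt_or_ge p 5 with hp5 | hp5
      · right
        have hp3 : p ≤ 3 := by
          have h4 : p ≠ 4 := by
            rintro rfl
            exact absurd hp (by norm_num)
          omega
        exact ⟨hp3, a, homocyclic_of_card p a ha1 ha hcard
          (fun h hh => (hHp h).mp (hext h hh))⟩
      · exfalso
        apply huK
        rw [hKmem]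
        intro x
        have hsq := lvl_sq_of_index p hcard (u : MulAut H) hup
        exact (hHp _).mpr (lvl_u p hp hp5 (u : MulAut H) hup hsq hOm x)

end Cfsg.Agent.Lib.helper92
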