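import Mathlib
import Cfsg.Agent.Lib.helper92.M24B_POW

set_option autoImplicit false

namespace Cfsg.Agent.Lib.helper92.M24B

/-- NORMGEN (S5006 piece): Cauchy–Schwarz on every cyclic subgroup. -/
theorem norm_lower {G : Type*} [Group G] [DecidableEq G] (n : ℕ) (hn : n.Prime) (Y : Finset G)
    (hY : ∀ y ∈ Y, orderOf y = n) (hpow : ∀ y ∈ Y, ∀ k ∈ Finset.Ico 1 n, y ^ k ∈ Y)
    (f : G → ℂ) (s : ℂ) (hs : ∀ y ∈ Y, ∑ k ∈ Finset.Ico 1 n, f (y ^ k) = s) :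
    (Y.card : ℝ) * ‖s‖ ^ 2 ≤ ((n : ℝ) - 1) ^ 2 * ∑ y ∈ Y, ‖f y‖ ^ 2 := by
  have hcard : (((Finset.Ico 1 n).card : ℕ) : ℝ) = (n : ℝ) - 1 := by
    rw [Nat.card_Ico, Nat.cast_sub hn.one_lt.le, Nat.cast_one]
  -- pointwise Cauchy–Schwarz
  have h1 : ∀ y ∈ Y, ‖s‖ ^ 2 ≤ ((n : ℝ) - 1) * ∑ k ∈ Finset.Ico 1 n, ‖f (y ^ k)‖ ^ 2 := by
    intro y hy
    rw [← hs y hy, ← hcard]
    have ha : ‖∑ k ∈ Finset.Ico 1 n, f (y ^ k)‖ ≤ ∑ k ∈ Finset.Ico 1 n, ‖f (y ^ k)‖ :=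
      norm_sum_le _ _
    have hb : (∑ k ∈ Finset.Ico 1 n, ‖f (y ^ k)‖) ^ 2
        ≤ ((Finset.Ico 1 n).card : ℝ) * ∑ k ∈ Finset.Ico 1 n, ‖f (y ^ k)‖ ^ 2 :=
      sq_sum_le_card_mul_sum_sq
    have hc : ‖∑ k ∈ Finset.Ico 1 n, f (y ^ k)‖ ^ 2 ≤ (∑ k ∈ Finset.Ico 1 n, ‖f (y ^ k)‖) ^ 2 :=
      pow_le_pow_left₀ (norm_nonneg _) ha 2
    exact hc.trans hb
  -- sum over `Y`
  have h2 : (Y.card : ℝ) * ‖s‖ ^ 2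
      ≤ ∑ y ∈ Y, ((n : ℝ) - 1) * ∑ k ∈ Finset.Ico 1 n, ‖f (y ^ k)‖ ^ 2 := by
    have h := Finset.sum_le_sum h1
    rwa [Finset.sum_const, nsmul_eq_mul] at h
  have h3 : ∑ y ∈ Y, ∑ k ∈ Finset.Ico 1 n, ‖f (y ^ k)‖ ^ 2
      = ((n : ℝ) - 1) * ∑ y ∈ Y, ‖f y‖ ^ 2 := by
    rw [Finset.sum_comm]
    rw [Finset.sum_congr rfl
      (fun k hk => helper92_sum_pow_eq n hn Y hY hpow (fun y => ‖f y‖ ^ 2) k hk)]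
    rw [Finset.sum_const, nsmul_eq_mul, hcard]
  rw [← Finset.mul_sum, h3] at h2
  calc (Y.card : ℝ) * ‖s‖ ^ 2 ≤ ((n : ℝ) - 1) * (((n : ℝ) - 1) * ∑ y ∈ Y, ‖f y‖ ^ 2) := h2
    _ = ((n : ℝ) - 1) ^ 2 * ∑ y ∈ Y, ‖f y‖ ^ 2 := by ring

end Cfsg.Agent.Lib.helper92.M24B
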