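import Cfsg.Agent.Lib.helper92.Simple

/-!
# Largeness criteria for extraspecial subgroups given by `QData`
-/

set_option autoImplicit false

namespace Cfsg.Agent.Lib.helper92

/-- If `Q` (with `QData Q z`) normalizes the odd-order subgroup `K`, then `z` acts
fixed-point-freely on `K`. -/
theorem QData.eq_one_of_odd_of_comm {G : Type*} [Group G] {Q : Subgroup G} {z : G}
    (h : QData Q z) (K : Subgroup G) (hK : Odd (Nat.card K))
    (hQK : Q ≤ Subgroup.normalizer (K : Set G)) :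
    ∀ x ∈ K, x * z = z * x → x = 1 := by
  intro x hxK hxz
  have hcomm : ∀ q ∈ Q, q * x = x * q := by
    intro q hq
    have h1 : x * q * x⁻¹ ∈ Q := h.norm x hxz q hq
    have h2 : q * x⁻¹ * q⁻¹ ∈ K :=
      (Subgroup.mem_normalizer_iff.1 (hQK hq) x⁻¹).1 (K.inv_mem hxK)
    have h3 : x * q * x⁻¹ * q⁻¹ ∈ Q := Q.mul_mem h1 (Q.inv_mem hq)
    have h4 : x * q * x⁻¹ * q⁻¹ ∈ K := by
      have e : x * q * x⁻¹ * q⁻¹ = x * (q * x⁻¹ * q⁻¹) := by group
      rw [e]; exact K.mul_mem hxK h2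
    have h5 := eq_one_of_mem_odd_of_mem_two hK h.isPGroup h4 h3
    calc q * x = (x * q * x⁻¹ * q⁻¹)⁻¹ * (x * q) := by group
      _ = x * q := by rw [h5]; group
  have h6 := h.cent x hcomm
  rcases (mem_zpowers_invol h.sq x).1 h6 with h7 | h7
  · exact h7
  · exact eq_one_of_mem_odd_of_mem_two hK h.isPGroup hxK (h7 ▸ h.mem)

/-- Largeness criterion: an odd-order subgroup `K` normalized by `Q` is trivial as soon as some
involution `b ∈ Q` and `z * b` both act fixed-point-freely on `K`. -/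
theorem QData.eq_bot_of_odd {G : Type*} [Group G] [Finite G] {Q : Subgroup G} {z : G}
    (h : QData Q z) (K : Subgroup G) (hK : Odd (Nat.card K))
    (hQK : Q ≤ Subgroup.normalizer (K : Set G))
    (b : G) (hbQ : b ∈ Q) (hbb : b * b = 1)
    (hb : ∀ x ∈ K, x * b = b * x → x = 1)
    (hzb : ∀ x ∈ K, x * (z * b) = (z * b) * x → x = 1) : K = ⊥ := by
  have hnorm : ∀ q ∈ Q, ∀ k ∈ K, q * k * q⁻¹ ∈ K := fun q hq k hk =>
    (Subgroup.mem_normalizer_iff.1 (hQK hq) k).1 hk
  have hz := inverts_of_fixed_point_free h.sq (hnorm z h.mem)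
    (fun k hk hzk => h.eq_one_of_odd_of_comm K hK hQK k hk hzk.symm)
  have hb' := inverts_of_fixed_point_free hbb (hnorm b hbQ) (fun k hk hbk => hb k hk hbk.symm)
  rw [eq_bot_iff]
  intro x hx
  rw [Subgroup.mem_bot]
  apply hzb x hx
  have h1 : z * b * x * (z * b)⁻¹ = x := by
    calc z * b * x * (z * b)⁻¹ = z * (b * x * b⁻¹) * z⁻¹ := by group
      _ = z * x⁻¹ * z⁻¹ := by rw [hb' x hx]
      _ = x⁻¹⁻¹ := hz x⁻¹ (K.inv_mem hx)
      _ = x := inv_inv x
  calc x * (z * b) = (z * b * x * (z * b)⁻¹) * (z * b) := by rw [h1]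
    _ = z * b * x := by group

end Cfsg.Agent.Lib.helper92
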