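import Mathlib
import Cfsg.Agent.Lib.helper92.Basic
import Cfsg.Agent.Lib.helper54.FStar

set_option autoImplicit false

/-!
The centralizer of a transvection in `SL_n(2)`: an explicit normal `2`-subgroup containing its own
centralizer, whence `F*(C(t)) = O_2(C(t))`.
-/

namespace Cfsg.Agent.Lib.helper92

open Matrix

/-- Restrict a sum to a subtype outside of which the summand vanishes. -/
theorem sum_subtype_of_zero {m : Type*} [Fintype m] {β : Type*} [AddCommMonoid β]
    (p : m → Prop) [DecidablePred p] (f : m → β) (h : ∀ x, ¬ p x → f x = 0) :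
    ∑ x, f x = ∑ s : {x // p x}, f s := by
  calc ∑ x, f x = ∑ x ∈ Finset.univ.filter p, f x :=
        (Finset.sum_subset (Finset.filter_subset p Finset.univ)
          (fun x _ hx => h x (by simpa using hx))).symm
    _ = ∑ s : {x // p x}, f s := Finset.sum_subtype _ (by simp) f

/-- In a field with two elements every element is `0` or `1`. -/
theorem eq_zero_or_one_of_card_two {F : Type*} [Field F] [Fintype F] (hF : Fintype.card F = 2)
    (x : F) : x = 0 ∨ x = 1 := by
  have h := FiniteField.pow_card x
  rw [hF, pow_two] at h
  have h2 : x * (x - 1) = 0 := by rw [mul_sub, h, mul_one, sub_self]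
  rcases mul_eq_zero.1 h2 with h3 | h3
  · exact Or.inl h3
  · exact Or.inr (sub_eq_zero.1 h3)

theorem two_eq_zero_of_card_two {F : Type*} [Field F] [Fintype F] (hF : Fintype.card F = 2) :
    (1 : F) + 1 = 0 := by
  rcases eq_zero_or_one_of_card_two hF ((1 : F) + 1) with h | h
  · exact h
  · exfalso
    have : (1 : F) = 0 := by
      calc (1 : F) = (1 + 1) - 1 := by ring
        _ = 0 := by rw [h, sub_self]
    exact one_ne_zero this

section

variable {F : Type*} [Field F] {m : Type*} [Fintype m] [DecidableEq m]

/-- A matrix commuting with the transvection `1 + E_ib`. -/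
theorem comm_transvection {i b : m} {M : Matrix m m F}
    (h : M * transvection i b 1 = transvection i b 1 * M) :
    (∀ a, a ≠ i → M a i = 0) ∧ (∀ c, c ≠ b → M b c = 0) ∧ M i i = M b b := by
  have h1 : M * single i b (1 : F) = single i b (1 : F) * M := by
    unfold transvection at h
    rw [mul_add, add_mul, mul_one, one_mul] at h
    exact add_left_cancel h
  refine ⟨fun a ha => ?_, fun c hc => ?_, ?_⟩
  · have h2 := Matrix.ext_iff.2 h1 a b
    rw [mul_single_apply_same, single_mul_apply_of_ne (h := ha), mul_one] at h2
    exact h2
  · have h2 := Matrix.ext_iff.2 h1 i c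
    rw [mul_single_apply_of_ne (hbj := hc), single_mul_apply_same, one_mul] at h2
    exact h2.symm
  · have h2 := Matrix.ext_iff.2 h1 i b
    rw [mul_single_apply_same, single_mul_apply_same, mul_one, one_mul] at h2
    exact h2

/-- The shape of the matrices in the centralizer of the transvection `1 + E_ij`:
column `i` is `e_i` and row `j` is `e_j`. -/
structure TShape (i j : m) (M : Matrix m m F) : Prop where
  col : ∀ a, a ≠ i → M a i = 0
  row : ∀ b, b ≠ j → M j b = 0
  dii : M i i = 1
  djj : M j j = 1

/-- The shape of the matrices in the explicit normal `2`-subgroup. -/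
def RShape (i j : m) (M : Matrix m m F) : Prop :=
  ∀ a b, a ≠ i → b ≠ j → M a b = (1 : Matrix m m F) a b

theorem tshape_of_comm [Fintype F] (hF : Fintype.card F = 2) {i j : m} {M : Matrix m m F}
    (hdet : M.det = 1) (h : M * transvection i j 1 = transvection i j 1 * M) :
    TShape i j M := by
  obtain ⟨h1, h2, h3⟩ := comm_transvection h
  have hii : M i i ≠ 0 := by
    intro h0
    have : M.det = 0 := by
      apply det_eq_zero_of_column_eq_zero i
      intro a
      by_cases ha : a = i
      · rw [ha]; exact h0
      · exact h1 a ha
    rw [hdet] at this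
    exact one_ne_zero this
  have hii1 : M i i = 1 := (eq_zero_or_one_of_card_two hF _).resolve_left hii
  exact ⟨h1, h2, hii1, by rw [← h3]; exact hii1⟩

/-- The square of a matrix of both shapes is `1` or the transvection. -/
theorem sq_of_shapes [Fintype F] (hF : Fintype.card F = 2) {i j : m} (hij : i ≠ j)
    {M : Matrix m m F} (hT : TShape i j M) (hR : RShape i j M) :
    M * M = 1 ∨ M * M = transvection i j 1 := by
  have h2 := two_eq_zero_of_card_two hF
  have key : ∀ a b, ¬ (a = i ∧ b = j) → (M * M) a b = (1 : Matrix m m F) a b := by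
    intro a b hab
    rw [mul_apply]
    by_cases ha : a = i
    · subst ha
      have hb : b ≠ j := fun hb => hab ⟨rfl, hb⟩
      by_cases hba : b = a
      · subst hba
        rw [Finset.sum_eq_single b]
        · rw [hT.dii, mul_one, one_apply_eq]
        · intro c _ hc
          rw [hR c b hc hb, one_apply_ne hc, mul_zero]
        · intro h; exact absurd (Finset.mem_univ _) h
      · rw [Fintype.sum_eq_add a b (Ne.symm hba)]
        · rw [hT.dii, one_mul, hR b b hba hb, one_apply_eq, mul_one, one_apply_ne (Ne.symm hba)]
          calc M a b + M a b = M a b * (1 + 1) := by ring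
            _ = 0 := by rw [h2, mul_zero]
        · rintro c ⟨hc1, hc2⟩
          rw [hR c b hc1 hb, one_apply_ne hc2, mul_zero]
    · by_cases hb : b = j
      · subst hb
        by_cases hab' : a = b
        · subst hab'
          rw [Finset.sum_eq_single a]
          · rw [hT.djj, mul_one, one_apply_eq]
          · intro c _ hc
            rw [hR a c ha hc, one_apply_ne (Ne.symm hc), zero_mul]
          · intro h; exact absurd (Finset.mem_univ _) h
        · rw [Fintype.sum_eq_add a b hab']
          · rw [hT.djj, mul_one, hR a a ha hab', one_apply_eq, one_mul, one_apply_ne hab']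
            calc M a b + M a b = M a b * (1 + 1) := by ring
              _ = 0 := by rw [h2, mul_zero]
          · rintro c ⟨hc1, hc2⟩
            rw [hR a c ha hc2, one_apply_ne (Ne.symm hc1), zero_mul]
      · rw [Finset.sum_eq_single a]
        · by_cases haj : a = j
          · subst haj
            rw [hT.row b hb, mul_zero, one_apply_ne (Ne.symm hb)]
          · rw [hR a a ha haj, one_apply_eq, one_mul, hR a b ha hb]
        · intro c _ hc
          by_cases hcj : c = j
          · subst hcj
            rw [hT.row b hb, mul_zero]
          · rw [hR a c ha hcj, one_apply_ne (Ne.symm hc), zero_mul]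
        · intro h; exact absurd (Finset.mem_univ _) h
  rcases eq_zero_or_one_of_card_two hF ((M * M) i j) with h0 | h1
  · left
    ext a b
    by_cases hab : a = i ∧ b = j
    · rw [hab.1, hab.2, h0, one_apply_ne hij]
    · exact key a b hab
  · right
    ext a b
    by_cases hab : a = i ∧ b = j
    · rw [hab.1, hab.2, h1]
      simp [transvection, hij]
    · rw [key a b hab]
      unfold transvection
      rw [Matrix.add_apply, single_apply_of_ne (h := by tauto), add_zero]

end

section

variable {F : Type*} [Field F] [Fintype F] {m : Type*} [Fintype m] [DecidableEq m]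

/-- An element of the special linear group from a matrix of determinant one. -/
def slMk (A : Matrix m m F) (h : A.det = 1) : SpecialLinearGroup m F := ⟨A, h⟩

omit [Fintype F] in
theorem coe_slMk (A : Matrix m m F) (h : A.det = 1) :
    ((slMk A h : SpecialLinearGroup m F) : Matrix m m F) = A := rfl

theorem tshape_of_mem (hF : Fintype.card F = 2) {i j : m} {t : SpecialLinearGroup m F}
    (ht : (t : Matrix m m F) = transvection i j 1) {c : SpecialLinearGroup m F}
    (hc : c ∈ Subgroup.centralizer ({t} : Set (SpecialLinearGroup m F))) :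
    TShape i j (c : Matrix m m F) := by
  rw [Subgroup.mem_centralizer_singleton_iff] at hc
  have h1 := congrArg Subtype.val hc
  rw [Matrix.SpecialLinearGroup.coe_mul, Matrix.SpecialLinearGroup.coe_mul, ht] at h1
  exact tshape_of_comm hF c.det_coe h1

/-- The submatrix hom on the centralizer of the transvection `1 + E_ij`: delete the rows and
columns `i`, `j`. -/
def transvSub (hF : Fintype.card F = 2) (i j : m) (t : SpecialLinearGroup m F)
    (ht : (t : Matrix m m F) = transvection i j 1) :
    ↥(Subgroup.centralizer ({t} : Set (SpecialLinearGroup m F))) →*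
      Matrix {x : m // x ≠ i ∧ x ≠ j} {x : m // x ≠ i ∧ x ≠ j} F where
  toFun c := ((c : SpecialLinearGroup m F) : Matrix m m F).submatrix Subtype.val Subtype.val
  map_one' := by
    rw [Subgroup.coe_one, Matrix.SpecialLinearGroup.coe_one]
    exact submatrix_one _ Subtype.val_injective
  map_mul' := by
    intro c c'
    ext a b
    rw [Subgroup.coe_mul, Matrix.SpecialLinearGroup.coe_mul, submatrix_apply, mul_apply, mul_apply]
    have hc := tshape_of_mem hF ht c.2
    have hc' := tshape_of_mem hF ht c'.2
    rw [sum_subtype_of_zero (fun x : m => x ≠ i ∧ x ≠ j)]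
    · rfl
    · intro x hx
      by_cases hxi : x = i
      · rw [hxi, hc.col _ a.2.1, zero_mul]
      · have hxj : x = j := by
          by_contra hxj
          exact hx ⟨hxi, hxj⟩
        rw [hxj, hc'.row _ b.2.2, mul_zero]

theorem transvSub_apply (hF : Fintype.card F = 2) (i j : m) (t : SpecialLinearGroup m F)
    (ht : (t : Matrix m m F) = transvection i j 1)
    (c : ↥(Subgroup.centralizer ({t} : Set (SpecialLinearGroup m F))))
    (a b : {x : m // x ≠ i ∧ x ≠ j}) :
    transvSub hF i j t ht c a b = ((c : SpecialLinearGroup m F) : Matrix m m F) a b := rfl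

theorem rshape_of_ker (hF : Fintype.card F = 2) {i j : m} {t : SpecialLinearGroup m F}
    (ht : (t : Matrix m m F) = transvection i j 1)
    {c : ↥(Subgroup.centralizer ({t} : Set (SpecialLinearGroup m F)))}
    (hc : c ∈ (transvSub hF i j t ht).ker) :
    RShape i j ((c : SpecialLinearGroup m F) : Matrix m m F) := by
  have hT := tshape_of_mem hF ht c.2
  intro a b ha hb
  by_cases haj : a = j
  · rw [haj, hT.row b hb, one_apply_ne (Ne.symm hb)]
  · by_cases hbi : b = i
    · rw [hbi, hT.col a ha, one_apply_ne ha]
    · rw [MonoidHom.mem_ker] at hc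
      have h1 := Matrix.ext_iff.2 hc ⟨a, ha, haj⟩ ⟨b, hbi, hb⟩
      rw [transvSub_apply] at h1
      rw [h1]
      by_cases hab : a = b
      · subst hab
        rw [one_apply_eq, one_apply_eq]
      · rw [one_apply_ne hab, one_apply_ne (fun h => hab (congrArg Subtype.val h))]

theorem transvection_sq (hF : Fintype.card F = 2) {i j : m} (hij : i ≠ j)
    {t : SpecialLinearGroup m F} (ht : (t : Matrix m m F) = transvection i j 1) : t * t = 1 := by
  apply Subtype.ext
  rw [Matrix.SpecialLinearGroup.coe_mul, ht, transvection_mul_transvection_same _ _ hij,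
    two_eq_zero_of_card_two hF, transvection_zero]
  rfl

theorem pow_four_of_ker (hF : Fintype.card F = 2) {i j : m} (hij : i ≠ j)
    {t : SpecialLinearGroup m F} (ht : (t : Matrix m m F) = transvection i j 1)
    {c : ↥(Subgroup.centralizer ({t} : Set (SpecialLinearGroup m F)))}
    (hc : c ∈ (transvSub hF i j t ht).ker) : c ^ 4 = 1 := by
  have hT := tshape_of_mem hF ht c.2
  have hR := rshape_of_ker hF ht hc
  have h1 : (c : SpecialLinearGroup m F) * (c : SpecialLinearGroup m F) = 1 ∨
      (c : SpecialLinearGroup m F) * (c : SpecialLinearGroup m F) = t := by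
    rcases sq_of_shapes hF hij hT hR with h | h
    · left
      apply Subtype.ext
      rw [Matrix.SpecialLinearGroup.coe_mul, h]
      rfl
    · right
      apply Subtype.ext
      rw [Matrix.SpecialLinearGroup.coe_mul, h, ht]
  apply Subtype.ext
  rw [Subgroup.coe_pow, Subgroup.coe_one]
  have e : (c : SpecialLinearGroup m F) ^ 4 =
      ((c : SpecialLinearGroup m F) * (c : SpecialLinearGroup m F)) *
      ((c : SpecialLinearGroup m F) * (c : SpecialLinearGroup m F)) := by
    rw [show (4 : ℕ) = 2 * 2 from rfl, pow_mul, pow_two, pow_two]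
  rw [e]
  rcases h1 with h | h
  · rw [h, one_mul]
  · rw [h]
    exact transvection_sq hF hij ht

theorem isPGroup_ker_transvSub (hF : Fintype.card F = 2) {i j : m} (hij : i ≠ j)
    {t : SpecialLinearGroup m F} (ht : (t : Matrix m m F) = transvection i j 1) :
    IsPGroup 2 ↥(transvSub hF i j t ht).ker := by
  rintro ⟨c, hc⟩
  refine ⟨2, ?_⟩
  apply Subtype.ext
  rw [Subgroup.coe_pow, Subgroup.coe_one]
  exact pow_four_of_ker hF hij ht hc

theorem centralizer_ker_transvSub_le (hF : Fintype.card F = 2) {i j : m} (hij : i ≠ j)
    {t : SpecialLinearGroup m F} (ht : (t : Matrix m m F) = transvection i j 1) :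
    Subgroup.centralizer ((transvSub hF i j t ht).ker :
      Set ↥(Subgroup.centralizer ({t} : Set (SpecialLinearGroup m F)))) ≤
      (transvSub hF i j t ht).ker := by
  intro c hc
  have hT := tshape_of_mem hF ht c.2
  rw [MonoidHom.mem_ker]
  ext a b
  rw [transvSub_apply]
  -- the transvection `1 + E_{i a}`
  have hia : i ≠ (a : m) := Ne.symm a.2.1
  have hdet : (transvection i (a : m) (1 : F)).det = 1 := det_transvection_of_ne _ _ hia 1
  have hτC : slMk (transvection i (a : m) (1 : F)) hdet ∈
      Subgroup.centralizer ({t} : Set (SpecialLinearGroup m F)) := by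
    rw [Subgroup.mem_centralizer_singleton_iff]
    apply Subtype.ext
    rw [Matrix.SpecialLinearGroup.coe_mul, Matrix.SpecialLinearGroup.coe_mul, ht, coe_slMk]
    have hAB : single i (a : m) (1 : F) * single i j (1 : F) = 0 :=
      single_mul_single_of_ne (h := a.2.1) ..
    have hBA : single i j (1 : F) * single i (a : m) (1 : F) = 0 :=
      single_mul_single_of_ne (h := Ne.symm hij) ..
    unfold transvection
    calc (1 + single i (a : m) (1 : F)) * (1 + single i j (1 : F))
        = 1 + single i (a : m) (1 : F) + single i j (1 : F) +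
          single i (a : m) (1 : F) * single i j (1 : F) := by noncomm_ring
      _ = 1 + single i j (1 : F) + single i (a : m) (1 : F) +
          single i j (1 : F) * single i (a : m) (1 : F) := by rw [hAB, hBA]; abel
      _ = (1 + single i j (1 : F)) * (1 + single i (a : m) (1 : F)) := by noncomm_ring
  have hτK : (⟨slMk (transvection i (a : m) (1 : F)) hdet, hτC⟩ :
      ↥(Subgroup.centralizer ({t} : Set (SpecialLinearGroup m F)))) ∈
      (transvSub hF i j t ht).ker := by
    rw [MonoidHom.mem_ker]
    ext x y
    rw [transvSub_apply]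
    show transvection i (a : m) (1 : F) (x : m) (y : m) = _
    unfold transvection
    rw [Matrix.add_apply, single_apply_of_ne (h := fun h => x.2.1 h.1.symm), add_zero]
    by_cases hxy : x = y
    · subst hxy
      rw [one_apply_eq, one_apply_eq]
    · rw [one_apply_ne hxy, one_apply_ne (fun h => hxy (Subtype.ext h))]
  have hcomm := (Subgroup.mem_centralizer_iff.1 hc) _ hτK
  have h0 : slMk (transvection i (a : m) (1 : F)) hdet * (c : SpecialLinearGroup m F) =
      (c : SpecialLinearGroup m F) * slMk (transvection i (a : m) (1 : F)) hdet :=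
    congrArg Subtype.val hcomm
  have h1 : transvection i (a : m) (1 : F) * ((c : SpecialLinearGroup m F) : Matrix m m F) =
      ((c : SpecialLinearGroup m F) : Matrix m m F) * transvection i (a : m) (1 : F) :=
    congrArg (fun g : SpecialLinearGroup m F => (g : Matrix m m F)) h0
  obtain ⟨-, h2, h3⟩ := comm_transvection h1.symm
  by_cases hab : a = b
  · subst hab
    rw [one_apply_eq, ← h3, hT.dii]
  · rw [one_apply_ne hab]
    exact h2 _ (fun h => hab (Subtype.ext h.symm))

/-- `F*(C(t)) = O_2(C(t))` for a transvection `t` over the field with two elements. -/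
theorem fstar_centralizer_transvection (hF : Fintype.card F = 2) {i j : m} (hij : i ≠ j)
    (t : SpecialLinearGroup m F) (ht : (t : Matrix m m F) = transvection i j 1) :
    Cfsg.generalizedFittingSubgroup ↥(Subgroup.centralizer ({t} : Set (SpecialLinearGroup m F))) =
      Cfsg.pCore 2 ↥(Subgroup.centralizer ({t} : Set (SpecialLinearGroup m F))) := by
  have : Fact (Nat.Prime 2) := ⟨Nat.prime_two⟩
  have hfin : Finite (SpecialLinearGroup m F) :=
    Finite.of_injective (fun A : SpecialLinearGroup m F => (A : Matrix m m F))
      Subtype.val_injective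
  rw [Cfsg.Agent.Lib.helper54.generalizedFittingSubgroup_eq_pCore_iff]
  have h1 : (transvSub hF i j t ht).ker ≤
      Cfsg.pCore 2 ↥(Subgroup.centralizer ({t} : Set (SpecialLinearGroup m F))) :=
    le_pCore (MonoidHom.normal_ker _) (isPGroup_ker_transvSub hF hij ht)
  exact (Subgroup.centralizer_le h1).trans ((centralizer_ker_transvSub_le hF hij ht).trans h1)

end

end Cfsg.Agent.Lib.helper92
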