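import Mathlib
import Cfsg.Agent.Lib.helper92.TransvCent
import Cfsg.Agent.Lib.helper92.Large
import Cfsg.Agent.Lib.helper92.ExtraSub

set_option autoImplicit false

/-!
The centralizer of the transvection `1 + E_01` in `SL_{n+2}(2)`: block coordinates, the
extraspecial radical and the complement `SL_n(2)`.
-/

namespace Cfsg.Agent.Lib.helper92

open Matrix

section gen

variable {R : Type*} [CommRing R] {n : ℕ}

/-- The block matrix with rows `(1, l, φ)`, `(0, 1, 0)`, `(0, ψ, A)`. -/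
def genMat (l : R) (φ ψ : Fin n → R) (A : Matrix (Fin n) (Fin n) R) :
    Matrix (Fin (n + 2)) (Fin (n + 2)) R :=
  Matrix.of (Fin.cons (Fin.cons (1 : R) (Fin.cons l φ : Fin (n + 1) → R) : Fin (n + 2) → R)
    (Fin.cons (Fin.cons (0 : R) (Fin.cons (1 : R) (0 : Fin n → R) : Fin (n + 1) → R) :
        Fin (n + 2) → R)
      (fun a => (Fin.cons (0 : R) (Fin.cons (ψ a) (A a) : Fin (n + 1) → R) : Fin (n + 2) → R)) :
      Fin (n + 1) → Fin (n + 2) → R) : Fin (n + 2) → Fin (n + 2) → R)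

@[simp] theorem genMat_zero_zero (l : R) (φ ψ : Fin n → R) (A : Matrix (Fin n) (Fin n) R) :
    genMat l φ ψ A 0 0 = 1 := rfl

@[simp] theorem genMat_zero_one (l : R) (φ ψ : Fin n → R) (A : Matrix (Fin n) (Fin n) R) :
    genMat l φ ψ A 0 1 = l := by
  rw [← Fin.succ_zero_eq_one]; rfl

@[simp] theorem genMat_zero_ss (l : R) (φ ψ : Fin n → R) (A : Matrix (Fin n) (Fin n) R)
    (b : Fin n) : genMat l φ ψ A 0 b.succ.succ = φ b := rfl

@[simp] theorem genMat_one_zero (l : R) (φ ψ : Fin n → R) (A : Matrix (Fin n) (Fin n) R) :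
    genMat l φ ψ A 1 0 = 0 := by
  rw [← Fin.succ_zero_eq_one]; rfl

@[simp] theorem genMat_one_one (l : R) (φ ψ : Fin n → R) (A : Matrix (Fin n) (Fin n) R) :
    genMat l φ ψ A 1 1 = 1 := by
  rw [← Fin.succ_zero_eq_one]; rfl

@[simp] theorem genMat_one_ss (l : R) (φ ψ : Fin n → R) (A : Matrix (Fin n) (Fin n) R)
    (b : Fin n) : genMat l φ ψ A 1 b.succ.succ = 0 := by
  rw [← Fin.succ_zero_eq_one]; rfl

@[simp] theorem genMat_ss_zero (l : R) (φ ψ : Fin n → R) (A : Matrix (Fin n) (Fin n) R)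
    (a : Fin n) : genMat l φ ψ A a.succ.succ 0 = 0 := rfl

@[simp] theorem genMat_ss_one (l : R) (φ ψ : Fin n → R) (A : Matrix (Fin n) (Fin n) R)
    (a : Fin n) : genMat l φ ψ A a.succ.succ 1 = ψ a := by
  rw [← Fin.succ_zero_eq_one]; rfl

@[simp] theorem genMat_ss_ss (l : R) (φ ψ : Fin n → R) (A : Matrix (Fin n) (Fin n) R)
    (a b : Fin n) : genMat l φ ψ A a.succ.succ b.succ.succ = A a b := rfl

theorem genMat_mul (l : R) (φ ψ : Fin n → R) (A : Matrix (Fin n) (Fin n) R)
    (l' : R) (φ' ψ' : Fin n → R) (A' : Matrix (Fin n) (Fin n) R) :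
    genMat l φ ψ A * genMat l' φ' ψ' A' =
      genMat (l + l' + φ ⬝ᵥ ψ') (φ' + φ ᵥ* A') (ψ + A *ᵥ ψ') (A * A') := by
  ext a b
  refine Fin.cases ?_ (fun a => Fin.cases ?_ (fun a => ?_) a) a <;>
    refine Fin.cases ?_ (fun b => Fin.cases ?_ (fun b => ?_) b) b <;>
    simp [Matrix.mul_apply, Fin.sum_univ_succ, dotProduct, vecMul, mulVec] <;> ring

theorem genMat_one_eq : genMat (0 : R) (0 : Fin n → R) 0 (1 : Matrix (Fin n) (Fin n) R) = 1 := by
  ext a b
  refine Fin.cases ?_ (fun a => Fin.cases ?_ (fun a => ?_) a) a <;>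
    refine Fin.cases ?_ (fun b => Fin.cases ?_ (fun b => ?_) b) b <;>
    simp [Matrix.one_apply, Fin.ext_iff]

/-- The lower right block. -/
def subSS (M : Matrix (Fin (n + 2)) (Fin (n + 2)) R) : Matrix (Fin n) (Fin n) R :=
  M.submatrix (fun a : Fin n => a.succ.succ) (fun a : Fin n => a.succ.succ)

@[simp] theorem subSS_apply (M : Matrix (Fin (n + 2)) (Fin (n + 2)) R) (a b : Fin n) :
    subSS M a b = M a.succ.succ b.succ.succ := rfl

@[simp] theorem subSS_genMat (l : R) (φ ψ : Fin n → R) (A : Matrix (Fin n) (Fin n) R) :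
    subSS (genMat l φ ψ A) = A := by
  ext a b
  simp

theorem det_genMat (l : R) (φ ψ : Fin n → R) (A : Matrix (Fin n) (Fin n) R) :
    (genMat l φ ψ A).det = A.det := by
  rw [det_succ_column_zero, Fin.sum_univ_succ]
  have h0 : ∀ i : Fin (n + 1), genMat l φ ψ A i.succ 0 = 0 := by
    intro i
    refine Fin.cases ?_ (fun a => ?_) i <;> simp
  simp only [h0, mul_zero, zero_mul, Finset.sum_const_zero, add_zero, Fin.val_zero, pow_zero,
    one_mul, genMat_zero_zero, Fin.succAbove_zero]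
  rw [det_succ_row_zero, Fin.sum_univ_succ]
  have h1 : ∀ j : Fin n,
      (genMat l φ ψ A).submatrix Fin.succ Fin.succ 0 j.succ = 0 := by
    intro j
    simp [submatrix_apply]
  simp only [h1, mul_zero, zero_mul, Finset.sum_const_zero, add_zero, Fin.val_zero, pow_zero,
    one_mul, Fin.succAbove_zero]
  have h2 : (genMat l φ ψ A).submatrix Fin.succ Fin.succ 0 0 = 1 := by
    simp [submatrix_apply]
  rw [h2, one_mul]
  rfl

theorem genMat_injective {l l' : R} {φ φ' ψ ψ' : Fin n → R} {A A' : Matrix (Fin n) (Fin n) R}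
    (h : genMat l φ ψ A = genMat l' φ' ψ' A') : l = l' ∧ φ = φ' ∧ ψ = ψ' ∧ A = A' := by
  refine ⟨?_, ?_, ?_, ?_⟩
  · have := Matrix.ext_iff.2 h 0 1
    simpa using this
  · funext b
    have := Matrix.ext_iff.2 h 0 b.succ.succ
    simpa using this
  · funext a
    have := Matrix.ext_iff.2 h a.succ.succ 1
    simpa using this
  · ext a b
    have := Matrix.ext_iff.2 h a.succ.succ b.succ.succ
    simpa using this

end gen

section genField

variable {F : Type*} [Field F] {n : ℕ}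

theorem tshape_genMat (l : F) (φ ψ : Fin n → F) (A : Matrix (Fin n) (Fin n) F) :
    TShape (0 : Fin (n + 2)) 1 (genMat l φ ψ A) := by
  refine ⟨fun a ha => ?_, fun b hb => ?_, by simp, by simp⟩
  · revert ha
    refine Fin.cases ?_ (fun a => Fin.cases ?_ (fun a => ?_) a) a
    · intro h; exact absurd rfl h
    · intro _; simp
    · intro _; simp
  · revert hb
    refine Fin.cases ?_ (fun b => Fin.cases ?_ (fun b => ?_) b) b
    · intro _; simp
    · intro h; exact absurd (by simp) h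
    · intro _; simp

theorem eq_genMat_of_tshape {M : Matrix (Fin (n + 2)) (Fin (n + 2)) F}
    (h : TShape (0 : Fin (n + 2)) 1 M) :
    M = genMat (M 0 1) (fun b => M 0 b.succ.succ) (fun a => M a.succ.succ 1) (subSS M) := by
  ext a b
  refine Fin.cases ?_ (fun a => Fin.cases ?_ (fun a => ?_) a) a <;>
    refine Fin.cases ?_ (fun b => Fin.cases ?_ (fun b => ?_) b) b
  · simp [h.dii]
  · simp
  · simp
  · simp only [Fin.succ_zero_eq_one, genMat_one_zero]
    exact h.col 1 (by simp)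
  · simp [h.djj]
  · simp only [Fin.succ_zero_eq_one, genMat_one_ss]
    exact h.row _ (by simp [Fin.ext_iff])
  · simp only [genMat_ss_zero]
    exact h.col _ (by simp [Fin.ext_iff])
  · simp
  · simp

/-- A matrix of the centralizer shape commutes with the transvection. -/
theorem comm_of_tshape {m : Type*} [Fintype m] [DecidableEq m] {i j : m} {M : Matrix m m F}
    (h : TShape i j M) : M * transvection i j 1 = transvection i j 1 * M := by
  unfold transvection
  rw [mul_add, add_mul, mul_one, one_mul]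
  congr 1
  ext a b
  by_cases hb : b = j
  · subst hb
    rw [mul_single_apply_same, mul_one]
    by_cases ha : a = i
    · subst ha
      rw [single_mul_apply_same, one_mul, h.dii, h.djj]
    · rw [single_mul_apply_of_ne (h := ha), h.col a ha]
  · rw [mul_single_apply_of_ne (hbj := hb)]
    by_cases ha : a = i
    · subst ha
      rw [single_mul_apply_same, one_mul, h.row b hb]
    · rw [single_mul_apply_of_ne (h := ha)]

end genField

section SL

variable {F : Type*} [Field F] [Fintype F] {n : ℕ}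

/-- The element of the special linear group with block coordinates `(l, φ, ψ, A)`. -/
def genSL (l : F) (φ ψ : Fin n → F) (A : SpecialLinearGroup (Fin n) F) :
    SpecialLinearGroup (Fin (n + 2)) F :=
  slMk (genMat l φ ψ (A : Matrix (Fin n) (Fin n) F)) (by rw [det_genMat]; exact A.det_coe)

theorem coe_genSL (l : F) (φ ψ : Fin n → F) (A : SpecialLinearGroup (Fin n) F) :
    ((genSL l φ ψ A : SpecialLinearGroup (Fin (n + 2)) F) :
      Matrix (Fin (n + 2)) (Fin (n + 2)) F) =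
      genMat l φ ψ (A : Matrix (Fin n) (Fin n) F) := rfl

theorem genSL_mul (l : F) (φ ψ : Fin n → F) (A : SpecialLinearGroup (Fin n) F)
    (l' : F) (φ' ψ' : Fin n → F) (A' : SpecialLinearGroup (Fin n) F) :
    genSL l φ ψ A * genSL l' φ' ψ' A' =
      genSL (l + l' + φ ⬝ᵥ ψ') (φ' + φ ᵥ* (A' : Matrix (Fin n) (Fin n) F))
        (ψ + (A : Matrix (Fin n) (Fin n) F) *ᵥ ψ') (A * A') := by
  apply Subtype.ext
  rw [Matrix.SpecialLinearGroup.coe_mul, coe_genSL, coe_genSL, coe_genSL, genMat_mul,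
    Matrix.SpecialLinearGroup.coe_mul]

theorem genSL_one : genSL (0 : F) (0 : Fin n → F) 0 1 = 1 := by
  apply Subtype.ext
  rw [coe_genSL, Matrix.SpecialLinearGroup.coe_one, Matrix.SpecialLinearGroup.coe_one,
    genMat_one_eq]

theorem genSL_inj {l l' : F} {φ φ' ψ ψ' : Fin n → F} {A A' : SpecialLinearGroup (Fin n) F}
    (h : genSL l φ ψ A = genSL l' φ' ψ' A') : l = l' ∧ φ = φ' ∧ ψ = ψ' ∧ A = A' := by
  have h1 : genMat l φ ψ (A : Matrix (Fin n) (Fin n) F) =
      genMat l' φ' ψ' (A' : Matrix (Fin n) (Fin n) F) :=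
    congrArg (fun g : SpecialLinearGroup (Fin (n + 2)) F =>
      (g : Matrix (Fin (n + 2)) (Fin (n + 2)) F)) h
  obtain ⟨a, b, c, d⟩ := genMat_injective h1
  exact ⟨a, b, c, Subtype.ext d⟩

/-- The product of two elements of the radical. -/
theorem genSL_mul_rad (l : F) (φ ψ : Fin n → F) (l' : F) (φ' ψ' : Fin n → F) :
    genSL l φ ψ 1 * genSL l' φ' ψ' 1 = genSL (l + l' + φ ⬝ᵥ ψ') (φ' + φ) (ψ + ψ') 1 := by
  rw [genSL_mul, Matrix.SpecialLinearGroup.coe_one, vecMul_one, one_mulVec, mul_one]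

theorem transvection_eq_genMat :
    transvection (0 : Fin (n + 2)) 1 (1 : F) = genMat 1 0 0 1 := by
  ext a b
  refine Fin.cases ?_ (fun a => Fin.cases ?_ (fun a => ?_) a) a <;>
    refine Fin.cases ?_ (fun b => Fin.cases ?_ (fun b => ?_) b) b <;>
    simp [transvection, Matrix.one_apply, Fin.ext_iff]

theorem eq_genSL_of_coe {z : SpecialLinearGroup (Fin (n + 2)) F}
    (hz : (z : Matrix (Fin (n + 2)) (Fin (n + 2)) F) = transvection 0 1 1) :
    z = genSL 1 0 0 1 := by
  apply Subtype.ext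
  rw [coe_genSL, Matrix.SpecialLinearGroup.coe_one, ← transvection_eq_genMat]
  exact hz

theorem genSL_mem_centralizer {z : SpecialLinearGroup (Fin (n + 2)) F}
    (hz : (z : Matrix (Fin (n + 2)) (Fin (n + 2)) F) = transvection 0 1 1)
    (l : F) (φ ψ : Fin n → F) (A : SpecialLinearGroup (Fin n) F) :
    genSL l φ ψ A ∈ Subgroup.centralizer ({z} : Set (SpecialLinearGroup (Fin (n + 2)) F)) := by
  rw [Subgroup.mem_centralizer_singleton_iff]
  apply Subtype.ext
  rw [Matrix.SpecialLinearGroup.coe_mul, Matrix.SpecialLinearGroup.coe_mul, hz, coe_genSL]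
  exact comm_of_tshape (tshape_genMat ..)

theorem exists_genSL_of_mem (hF : Fintype.card F = 2)
    {z : SpecialLinearGroup (Fin (n + 2)) F}
    (hz : (z : Matrix (Fin (n + 2)) (Fin (n + 2)) F) = transvection 0 1 1)
    {c : SpecialLinearGroup (Fin (n + 2)) F}
    (hc : c ∈ Subgroup.centralizer ({z} : Set (SpecialLinearGroup (Fin (n + 2)) F))) :
    ∃ (l : F) (φ ψ : Fin n → F) (A : SpecialLinearGroup (Fin n) F), c = genSL l φ ψ A := by
  have hT := tshape_of_mem hF hz hc
  have h1 := eq_genMat_of_tshape hT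
  have hdet : (subSS (c : Matrix (Fin (n + 2)) (Fin (n + 2)) F)).det = 1 := by
    rw [← det_genMat (c.1 0 1) (fun b => c.1 0 b.succ.succ) (fun a => c.1 a.succ.succ 1), ← h1]
    exact c.det_coe
  exact ⟨_, _, _, slMk (subSS (c : Matrix (Fin (n + 2)) (Fin (n + 2)) F)) hdet, Subtype.ext h1⟩

open Classical in
/-- The lower right block of an element, as an element of the special linear group (junk value
`1` when the block has not determinant one). -/
noncomputable def sigmaFun (g : SpecialLinearGroup (Fin (n + 2)) F) :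
    SpecialLinearGroup (Fin n) F :=
  if h : (subSS (g : Matrix (Fin (n + 2)) (Fin (n + 2)) F)).det = 1 then slMk _ h else 1

theorem sigmaFun_genSL (l : F) (φ ψ : Fin n → F) (A : SpecialLinearGroup (Fin n) F) :
    sigmaFun (genSL l φ ψ A) = A := by
  have h : (subSS ((genSL l φ ψ A : SpecialLinearGroup (Fin (n + 2)) F) :
      Matrix (Fin (n + 2)) (Fin (n + 2)) F)).det = 1 := by
    rw [coe_genSL, subSS_genMat]; exact A.det_coe
  unfold sigmaFun
  rw [dif_pos h]
  apply Subtype.ext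
  rw [coe_slMk, coe_genSL, subSS_genMat]

/-- The projection of the centralizer of the transvection onto `SL_n`. -/
noncomputable def sigma (hF : Fintype.card F = 2) (z : SpecialLinearGroup (Fin (n + 2)) F)
    (hz : (z : Matrix (Fin (n + 2)) (Fin (n + 2)) F) = transvection 0 1 1) :
    ↥(Subgroup.centralizer ({z} : Set (SpecialLinearGroup (Fin (n + 2)) F))) →*
      SpecialLinearGroup (Fin n) F :=
  MonoidHom.mk' (fun c => sigmaFun (c : SpecialLinearGroup (Fin (n + 2)) F)) (by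
    intro c c'
    obtain ⟨l, φ, ψ, A, h⟩ := exists_genSL_of_mem hF hz c.2
    obtain ⟨l', φ', ψ', A', h'⟩ := exists_genSL_of_mem hF hz c'.2
    show sigmaFun ((c * c' : ↥(Subgroup.centralizer
      ({z} : Set (SpecialLinearGroup (Fin (n + 2)) F)))) : SpecialLinearGroup (Fin (n + 2)) F) =
      sigmaFun (c : SpecialLinearGroup (Fin (n + 2)) F) *
      sigmaFun (c' : SpecialLinearGroup (Fin (n + 2)) F)
    rw [Subgroup.coe_mul, h, h', genSL_mul, sigmaFun_genSL, sigmaFun_genSL, sigmaFun_genSL])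

theorem sigma_apply (hF : Fintype.card F = 2) (z : SpecialLinearGroup (Fin (n + 2)) F)
    (hz : (z : Matrix (Fin (n + 2)) (Fin (n + 2)) F) = transvection 0 1 1)
    (c : ↥(Subgroup.centralizer ({z} : Set (SpecialLinearGroup (Fin (n + 2)) F)))) :
    sigma hF z hz c = sigmaFun (c : SpecialLinearGroup (Fin (n + 2)) F) := rfl

variable (F n) in
/-- The radical: block coordinates `(l, φ, ψ, 1)`. -/
def radSub : Subgroup (SpecialLinearGroup (Fin (n + 2)) F) where
  carrier := {g | ∃ (l : F) (φ ψ : Fin n → F), g = genSL l φ ψ 1}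
  mul_mem' := by
    rintro _ _ ⟨l, φ, ψ, rfl⟩ ⟨l', φ', ψ', rfl⟩
    exact ⟨_, _, _, genSL_mul_rad ..⟩
  one_mem' := ⟨0, 0, 0, genSL_one.symm⟩
  inv_mem' := by
    rintro _ ⟨l, φ, ψ, rfl⟩
    refine ⟨-l + φ ⬝ᵥ ψ, -φ, -ψ, ?_⟩
    apply inv_eq_of_mul_eq_one_right
    rw [genSL_mul_rad, ← genSL_one]
    congr 1
    · simp
    · simp
    · simp

theorem mem_radSub {g : SpecialLinearGroup (Fin (n + 2)) F} :
    g ∈ radSub F n ↔ ∃ (l : F) (φ ψ : Fin n → F), g = genSL l φ ψ 1 := Iff.rfl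

variable (F n) in
/-- The elementary abelian subgroup: block coordinates `(l, φ, 0, 1)`. -/
def elemSub : Subgroup (SpecialLinearGroup (Fin (n + 2)) F) where
  carrier := {g | ∃ (l : F) (φ : Fin n → F), g = genSL l φ 0 1}
  mul_mem' := by
    rintro _ _ ⟨l, φ, rfl⟩ ⟨l', φ', rfl⟩
    refine ⟨l + l', φ' + φ, ?_⟩
    rw [genSL_mul_rad]
    congr 1
    · simp
    · simp
  one_mem' := ⟨0, 0, genSL_one.symm⟩
  inv_mem' := by
    rintro _ ⟨l, φ, rfl⟩
    refine ⟨-l, -φ, ?_⟩
    apply inv_eq_of_mul_eq_one_right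
    rw [genSL_mul_rad, ← genSL_one]
    congr 1
    · simp
    · simp
    · simp

theorem mem_elemSub {g : SpecialLinearGroup (Fin (n + 2)) F} :
    g ∈ elemSub F n ↔ ∃ (l : F) (φ : Fin n → F), g = genSL l φ 0 1 := Iff.rfl

theorem elemSub_le_radSub : elemSub F n ≤ radSub F n := by
  rintro _ ⟨l, φ, rfl⟩
  exact ⟨l, φ, 0, rfl⟩

theorem radSub_le_centralizer {z : SpecialLinearGroup (Fin (n + 2)) F}
    (hz : (z : Matrix (Fin (n + 2)) (Fin (n + 2)) F) = transvection 0 1 1) :
    radSub F n ≤ Subgroup.centralizer ({z} : Set (SpecialLinearGroup (Fin (n + 2)) F)) := by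
  rintro _ ⟨l, φ, ψ, rfl⟩
  exact genSL_mem_centralizer hz l φ ψ 1

theorem mem_ker_sigma_iff (hF : Fintype.card F = 2) (z : SpecialLinearGroup (Fin (n + 2)) F)
    (hz : (z : Matrix (Fin (n + 2)) (Fin (n + 2)) F) = transvection 0 1 1)
    (c : ↥(Subgroup.centralizer ({z} : Set (SpecialLinearGroup (Fin (n + 2)) F)))) :
    c ∈ (sigma hF z hz).ker ↔ (c : SpecialLinearGroup (Fin (n + 2)) F) ∈ radSub F n := by
  rw [MonoidHom.mem_ker, sigma_apply]
  constructor
  · intro h
    obtain ⟨l, φ, ψ, A, hc⟩ := exists_genSL_of_mem hF hz c.2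
    rw [hc, sigmaFun_genSL] at h
    rw [hc, h]
    exact ⟨l, φ, ψ, rfl⟩
  · rintro ⟨l, φ, ψ, hc⟩
    rw [hc, sigmaFun_genSL]

/-- A normal `2`-subgroup of `SL_m(2)` is trivial (for `m` of size at least two). -/
theorem normal_two_subgroup_eq_bot {m : Type*} [Fintype m] [DecidableEq m] [Nontrivial m]
    (hF : Fintype.card F = 2) (N : Subgroup (SpecialLinearGroup m F)) (hN : N.Normal)
    (hp : IsPGroup 2 ↥N) : N = ⊥ := by
  classical
  have : Fact (Nat.Prime 2) := ⟨Nat.prime_two⟩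
  let act : MulAction ↥N (m → F) :=
    { smul := fun g v => ((g : SpecialLinearGroup m F) : Matrix m m F) *ᵥ v
      one_smul := fun v => by
        show (((1 : ↥N) : SpecialLinearGroup m F) : Matrix m m F) *ᵥ v = v
        rw [Subgroup.coe_one, Matrix.SpecialLinearGroup.coe_one, one_mulVec]
      mul_smul := fun g h v => by
        show (((g * h : ↥N) : SpecialLinearGroup m F) : Matrix m m F) *ᵥ v =
          ((g : SpecialLinearGroup m F) : Matrix m m F) *ᵥ
            (((h : SpecialLinearGroup m F) : Matrix m m F) *ᵥ v)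
        rw [Subgroup.coe_mul, Matrix.SpecialLinearGroup.coe_mul, mulVec_mulVec] }
  have hsmul : ∀ (g : ↥N) (v : m → F),
      g • v = ((g : SpecialLinearGroup m F) : Matrix m m F) *ᵥ v := fun _ _ => rfl
  have hcard : 2 ∣ Nat.card (m → F) := by
    rw [Nat.card_fun, Nat.card_eq_fintype_card, hF]
    exact dvd_pow_self 2 (Nat.card_pos.ne')
  have h0 : (0 : m → F) ∈ MulAction.fixedPoints ↥N (m → F) := by
    intro g
    rw [hsmul, mulVec_zero]
  obtain ⟨v₀, hv₀, hne⟩ := hp.exists_fixed_point_of_prime_dvd_card_of_fixed_point (m → F) hcard h0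
  -- the fixed vectors
  have hW_sub : ∀ v w : m → F, (∀ g ∈ N, (g : Matrix m m F) *ᵥ v = v) →
      (∀ g ∈ N, (g : Matrix m m F) *ᵥ w = w) → ∀ g ∈ N, (g : Matrix m m F) *ᵥ (v - w) = v - w := by
    intro v w hv hw g hg
    rw [mulVec_sub, hv g hg, hw g hg]
  have hW_G : ∀ (h : SpecialLinearGroup m F) (v : m → F),
      (∀ g ∈ N, (g : Matrix m m F) *ᵥ v = v) →
      ∀ g ∈ N, (g : Matrix m m F) *ᵥ ((h : Matrix m m F) *ᵥ v) = (h : Matrix m m F) *ᵥ v := by
    intro h v hv g hg
    have h1 : h⁻¹ * g * h ∈ N := by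
      have := hN.conj_mem g hg h⁻¹
      rwa [inv_inv] at this
    have h2 : g * h = h * (h⁻¹ * g * h) := by group
    rw [mulVec_mulVec, ← Matrix.SpecialLinearGroup.coe_mul, h2, Matrix.SpecialLinearGroup.coe_mul,
      ← mulVec_mulVec, hv _ h1]
  have hv₀' : ∀ g ∈ N, (g : Matrix m m F) *ᵥ v₀ = v₀ := fun g hg => hv₀ ⟨g, hg⟩
  have hT : ∀ (j k : m), j ≠ k → ∀ v : m → F, (∀ g ∈ N, (g : Matrix m m F) *ᵥ v = v) →
      ∀ g ∈ N, (g : Matrix m m F) *ᵥ (Pi.single j (v k)) = Pi.single j (v k) := by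
    intro j k hjk v hv
    have hdet : (transvection j k (1 : F)).det = 1 := det_transvection_of_ne _ _ hjk 1
    have h1 := hW_G (slMk (transvection j k (1 : F)) hdet) v hv
    have h2 := hW_sub _ _ h1 hv
    have h3 : ((slMk (transvection j k (1 : F)) hdet : SpecialLinearGroup m F) : Matrix m m F) *ᵥ v
        - v = Pi.single j (v k) := by
      rw [coe_slMk]
      unfold transvection
      rw [add_mulVec, one_mulVec, add_sub_cancel_left, single_mulVec, one_mul]
      ext a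
      by_cases ha : a = j
      · subst ha; simp
      · simp [ha]
    rw [h3] at h2
    exact h2
  obtain ⟨k, hk⟩ : ∃ k, v₀ k ≠ 0 := by
    by_contra hcon
    push Not at hcon
    exact hne (funext fun k => (hcon k).symm)
  have hk1 : v₀ k = 1 := (eq_zero_or_one_of_card_two hF _).resolve_left hk
  have he : ∀ j : m, ∀ g ∈ N, (g : Matrix m m F) *ᵥ (Pi.single j (1 : F)) = Pi.single j 1 := by
    have he1 : ∀ j : m, j ≠ k →
        ∀ g ∈ N, (g : Matrix m m F) *ᵥ (Pi.single j (1 : F)) = Pi.single j 1 := by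
      intro j hj
      have := hT j k hj v₀ hv₀'
      rwa [hk1] at this
    intro j
    by_cases hj : j = k
    · subst hj
      obtain ⟨i, hi⟩ := exists_ne j
      have := hT j i (Ne.symm hi) (Pi.single i (1 : F)) (he1 i hi)
      rwa [Pi.single_eq_same] at this
    · exact he1 j hj
  rw [eq_bot_iff]
  intro g hg
  rw [Subgroup.mem_bot]
  apply Subtype.ext
  ext a j
  have h1 := congrFun (he j g hg) a
  rw [mulVec_single_one] at h1
  rw [Matrix.SpecialLinearGroup.coe_one, Matrix.one_apply]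
  rw [Pi.single_apply] at h1
  exact h1


theorem add_self_of_card_two (hF : Fintype.card F = 2) (x : F) : x + x = 0 := by
  calc x + x = x * (1 + 1) := by ring
    _ = 0 := by rw [two_eq_zero_of_card_two hF, mul_zero]

theorem add_self_fun_of_card_two (hF : Fintype.card F = 2) (φ : Fin n → F) : φ + φ = 0 := by
  funext a
  exact add_self_of_card_two hF (φ a)

theorem genSL_sq (hF : Fintype.card F = 2) (l : F) (φ ψ : Fin n → F) :
    genSL l φ ψ 1 * genSL l φ ψ 1 = genSL (φ ⬝ᵥ ψ) 0 0 1 := by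
  rw [genSL_mul_rad, add_self_of_card_two hF, zero_add, add_self_fun_of_card_two hF,
    add_self_fun_of_card_two hF]

theorem genSL_eps_mem (hF : Fintype.card F = 2) {z : SpecialLinearGroup (Fin (n + 2)) F}
    (hz : (z : Matrix (Fin (n + 2)) (Fin (n + 2)) F) = transvection 0 1 1) (ε : F) :
    genSL ε (0 : Fin n → F) 0 1 ∈ Subgroup.zpowers z := by
  rcases eq_zero_or_one_of_card_two hF ε with h | h
  · rw [h, genSL_one]; exact Subgroup.one_mem _
  · rw [h, ← eq_genSL_of_coe hz]; exact Subgroup.mem_zpowers z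

theorem genSL_comm (l : F) (φ ψ : Fin n → F) (l' : F) (φ' ψ' : Fin n → F) :
    genSL l φ ψ 1 * genSL l' φ' ψ' 1 =
      genSL (φ ⬝ᵥ ψ' - φ' ⬝ᵥ ψ) 0 0 1 * (genSL l' φ' ψ' 1 * genSL l φ ψ 1) := by
  rw [genSL_mul_rad, genSL_mul_rad, genSL_mul_rad]
  congr 1
  · simp; ring
  · simp [add_comm]
  · simp [add_comm]

theorem elemSub_sq (hF : Fintype.card F = 2) {u : SpecialLinearGroup (Fin (n + 2)) F}
    (hu : u ∈ elemSub F n) : u * u = 1 := by
  obtain ⟨l, φ, rfl⟩ := hu
  rw [genSL_sq hF, dotProduct_zero, genSL_one]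

/-- Commuting with the generator `(0, e_b, 0, 1)`. -/
theorem comm_gen_phi {l : F} {φ ψ : Fin n → F} {A : SpecialLinearGroup (Fin n) F} (b : Fin n)
    (h : genSL 0 (Pi.single b 1) 0 1 * genSL l φ ψ A =
      genSL l φ ψ A * genSL 0 (Pi.single b 1) 0 1) :
    ψ b = 0 ∧ ∀ c, (A : Matrix (Fin n) (Fin n) F) b c = (1 : Matrix (Fin n) (Fin n) F) b c := by
  rw [genSL_mul, genSL_mul] at h
  obtain ⟨e1, e2, -, -⟩ := genSL_inj h
  constructor
  · simpa using e1
  · intro c
    have e3 := congrFun e2 c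
    simp only [Matrix.SpecialLinearGroup.coe_one, vecMul_one, single_one_vecMul, Pi.add_apply]
      at e3
    rw [Matrix.one_apply]
    rw [Pi.single_apply] at e3
    have e4 : (A : Matrix (Fin n) (Fin n) F).row b c = if c = b then 1 else 0 := by
      rw [add_comm] at e3
      exact add_right_cancel e3
    rw [show (A : Matrix (Fin n) (Fin n) F) b c = (A : Matrix (Fin n) (Fin n) F).row b c from rfl,
      e4]
    by_cases hbc : b = c
    · rw [if_pos hbc, if_pos hbc.symm]
    · rw [if_neg hbc, if_neg (Ne.symm hbc)]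

/-- Commuting with the generator `(0, 0, e_a, 1)`. -/
theorem comm_gen_psi {l : F} {φ : Fin n → F} (a : Fin n)
    (h : genSL 0 0 (Pi.single a 1) 1 * genSL l φ 0 1 =
      genSL l φ 0 1 * genSL 0 0 (Pi.single a 1) 1) : φ a = 0 := by
  rw [genSL_mul_rad, genSL_mul_rad] at h
  have e1 := (genSL_inj h).1
  simpa using e1.symm

theorem qdata_radSub (hF : Fintype.card F = 2) {z : SpecialLinearGroup (Fin (n + 2)) F}
    (hz : (z : Matrix (Fin (n + 2)) (Fin (n + 2)) F) = transvection 0 1 1) :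
    QData (radSub F n) z where
  mem := ⟨1, 0, 0, eq_genSL_of_coe hz⟩
  ne_one := by
    intro h
    have h2 : genSL (1 : F) (0 : Fin n → F) 0 1 = genSL 0 0 0 1 := by
      rw [← eq_genSL_of_coe hz, h, genSL_one]
    exact one_ne_zero (genSL_inj h2).1
  sq := by
    rw [eq_genSL_of_coe hz, genSL_sq hF, dotProduct_zero, genSL_one]
  comm := by
    rintro _ ⟨l, φ, ψ, rfl⟩ _ ⟨l', φ', ψ', rfl⟩
    have h := genSL_comm l φ ψ l' φ' ψ'
    have e : genSL l φ ψ 1 * genSL l' φ' ψ' 1 * (genSL l φ ψ 1)⁻¹ * (genSL l' φ' ψ' 1)⁻¹ =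
        genSL (φ ⬝ᵥ ψ' - φ' ⬝ᵥ ψ) 0 0 1 := by
      rw [h]; group
    rw [e]
    exact genSL_eps_mem hF hz _
  sqmem := by
    rintro _ ⟨l, φ, ψ, rfl⟩
    rw [genSL_sq hF]
    exact genSL_eps_mem hF hz _
  cent := by
    intro x hx
    have hxz : x ∈ Subgroup.centralizer ({z} : Set (SpecialLinearGroup (Fin (n + 2)) F)) := by
      rw [Subgroup.mem_centralizer_singleton_iff]
      exact (hx z ⟨1, 0, 0, eq_genSL_of_coe hz⟩).symm
    obtain ⟨l, φ, ψ, A, rfl⟩ := exists_genSL_of_mem hF hz hxz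
    have h1 := fun b : Fin n =>
      comm_gen_phi b (hx (genSL 0 (Pi.single b 1) 0 1) ⟨0, Pi.single b 1, 0, rfl⟩)
    have hψ : ψ = 0 := funext fun b => (h1 b).1
    have hA : A = 1 := by
      apply Subtype.ext
      ext b c
      rw [Matrix.SpecialLinearGroup.coe_one]
      exact (h1 b).2 c
    subst hψ
    subst hA
    have hφ : φ = 0 := funext fun a =>
      comm_gen_psi a (hx (genSL 0 0 (Pi.single a 1) 1) ⟨0, 0, Pi.single a 1, rfl⟩)
    subst hφ
    exact genSL_eps_mem hF hz l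
  norm := by
    intro x hxz q hq
    have hxC : x ∈ Subgroup.centralizer ({z} : Set (SpecialLinearGroup (Fin (n + 2)) F)) :=
      Subgroup.mem_centralizer_singleton_iff.2 hxz
    have hqC := radSub_le_centralizer hz hq
    have hker : (⟨q, hqC⟩ : ↥(Subgroup.centralizer
        ({z} : Set (SpecialLinearGroup (Fin (n + 2)) F)))) ∈ (sigma hF z hz).ker :=
      (mem_ker_sigma_iff hF z hz _).2 hq
    have hnorm := (MonoidHom.normal_ker (sigma hF z hz)).conj_mem _ hker ⟨x, hxC⟩
    exact (mem_ker_sigma_iff hF z hz _).1 hnorm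
  central := by
    intro q hq
    exact Subgroup.mem_centralizer_singleton_iff.1 (radSub_le_centralizer hz hq)

theorem genMat_elem_eq (l : F) (φ : Fin n → F) :
    genMat l φ 0 1 =
      1 + vecMulVec (Pi.single 0 1) (Fin.cons 0 (Fin.cons l φ) : Fin (n + 2) → F) := by
  ext a b
  refine Fin.cases ?_ (fun a => Fin.cases ?_ (fun a => ?_) a) a <;>
    refine Fin.cases ?_ (fun b => Fin.cases ?_ (fun b => ?_) b) b <;>
    simp [vecMulVec_apply, Matrix.one_apply, Fin.ext_iff]

theorem elem_of_coe (g : SpecialLinearGroup (Fin (n + 2)) F) (w : Fin (n + 2) → F)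
    (hw : w 0 = 0)
    (hg : (g : Matrix (Fin (n + 2)) (Fin (n + 2)) F) = 1 + vecMulVec (Pi.single 0 1) w) :
    g = genSL (w 1) (fun b => w b.succ.succ) 0 1 := by
  apply Subtype.ext
  rw [coe_genSL, Matrix.SpecialLinearGroup.coe_one, genMat_elem_eq, hg]
  congr 2
  funext a
  refine Fin.cases ?_ (fun a => Fin.cases ?_ (fun a => ?_) a) a
  · simpa using hw
  · simp
  · simp

/-- An element commuting with a nontrivial element of `elemSub` outside `⟨z⟩` fixes `e_0`. -/
theorem col_zero_of_comm (hF : Fintype.card F = 2) {x : SpecialLinearGroup (Fin (n + 2)) F}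
    {l : F} {φ : Fin n → F} (hφ : φ ≠ 0)
    (h : x * genSL l φ 0 1 = genSL l φ 0 1 * x) :
    (x : Matrix (Fin (n + 2)) (Fin (n + 2)) F) *ᵥ Pi.single 0 1 = Pi.single 0 1 := by
  have h1 : (x : Matrix (Fin (n + 2)) (Fin (n + 2)) F) * genMat l φ 0 1 =
      genMat l φ 0 1 * (x : Matrix (Fin (n + 2)) (Fin (n + 2)) F) := by
    have := congrArg (fun g : SpecialLinearGroup (Fin (n + 2)) F =>
      (g : Matrix (Fin (n + 2)) (Fin (n + 2)) F)) h
    simpa only [Matrix.SpecialLinearGroup.coe_mul, coe_genSL,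
      Matrix.SpecialLinearGroup.coe_one] using this
  rw [genMat_elem_eq, mul_add, add_mul, mul_one, one_mul, mul_vecMulVec, vecMulVec_mul] at h1
  have h2 := add_left_cancel h1
  obtain ⟨j, hj⟩ : ∃ j, φ j ≠ 0 := by
    by_contra hcon
    push Not at hcon
    exact hφ (funext hcon)
  have hcol : ∀ a, a ≠ 0 → (x : Matrix (Fin (n + 2)) (Fin (n + 2)) F) a 0 = 0 := by
    intro a ha
    have h3 := congrFun (congrFun h2 a) j.succ.succ
    rw [vecMulVec_apply, vecMulVec_apply, mulVec_single_one, Pi.single_eq_of_ne ha, zero_mul]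
      at h3
    simp only [Fin.cons_succ] at h3
    rcases mul_eq_zero.1 h3 with h4 | h4
    · exact h4
    · exact absurd h4 hj
  have h00 : (x : Matrix (Fin (n + 2)) (Fin (n + 2)) F) 0 0 = 1 := by
    have hne : (x : Matrix (Fin (n + 2)) (Fin (n + 2)) F) 0 0 ≠ 0 := by
      intro h0
      have : (x : Matrix (Fin (n + 2)) (Fin (n + 2)) F).det = 0 := by
        apply det_eq_zero_of_column_eq_zero 0
        intro a
        by_cases ha : a = 0
        · rw [ha]; exact h0
        · exact hcol a ha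
      rw [x.det_coe] at this
      exact one_ne_zero this
    exact (eq_zero_or_one_of_card_two hF _).resolve_left hne
  rw [mulVec_single_one]
  funext a
  by_cases ha : a = 0
  · rw [ha, Pi.single_eq_same]; exact h00
  · rw [Pi.single_eq_of_ne ha]; exact hcol a ha

theorem conj_mem_elemSub {x : SpecialLinearGroup (Fin (n + 2)) F}
    (hx : (x : Matrix (Fin (n + 2)) (Fin (n + 2)) F) *ᵥ Pi.single 0 1 = Pi.single 0 1)
    (hx' : ((x⁻¹ : SpecialLinearGroup (Fin (n + 2)) F) :
      Matrix (Fin (n + 2)) (Fin (n + 2)) F) *ᵥ Pi.single 0 1 = Pi.single 0 1)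
    {u : SpecialLinearGroup (Fin (n + 2)) F} (hu : u ∈ elemSub F n) :
    x * u * x⁻¹ ∈ elemSub F n := by
  obtain ⟨l, φ, rfl⟩ := hu
  have h1 : ((x * genSL l φ 0 1 * x⁻¹ : SpecialLinearGroup (Fin (n + 2)) F) :
      Matrix (Fin (n + 2)) (Fin (n + 2)) F) =
      1 + vecMulVec (Pi.single 0 1) ((Fin.cons 0 (Fin.cons l φ) : Fin (n + 2) → F) ᵥ*
        ((x⁻¹ : SpecialLinearGroup (Fin (n + 2)) F) :
          Matrix (Fin (n + 2)) (Fin (n + 2)) F)) := by
    rw [Matrix.SpecialLinearGroup.coe_mul, Matrix.SpecialLinearGroup.coe_mul, coe_genSL,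
      Matrix.SpecialLinearGroup.coe_one, genMat_elem_eq, mul_add, add_mul, mul_one,
      mul_vecMulVec, vecMulVec_mul, hx, ← Matrix.SpecialLinearGroup.coe_mul, mul_inv_cancel,
      Matrix.SpecialLinearGroup.coe_one]
  have h2 : ((Fin.cons 0 (Fin.cons l φ) : Fin (n + 2) → F) ᵥ*
      ((x⁻¹ : SpecialLinearGroup (Fin (n + 2)) F) :
        Matrix (Fin (n + 2)) (Fin (n + 2)) F)) 0 = 0 := by
    have hcol : ∀ k, k ≠ 0 → ((x⁻¹ : SpecialLinearGroup (Fin (n + 2)) F) :
        Matrix (Fin (n + 2)) (Fin (n + 2)) F) k 0 = 0 := by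
      intro k hk
      have := congrFun hx' k
      rw [mulVec_single_one, Pi.single_eq_of_ne hk] at this
      exact this
    show ∑ k : Fin (n + 2), (Fin.cons 0 (Fin.cons l φ) : Fin (n + 2) → F) k *
      ((x⁻¹ : SpecialLinearGroup (Fin (n + 2)) F) :
        Matrix (Fin (n + 2)) (Fin (n + 2)) F) k 0 = 0
    apply Finset.sum_eq_zero
    intro k _
    by_cases hk : k = 0
    · rw [hk]; simp
    · rw [hcol k hk, mul_zero]
  exact ⟨_, _, elem_of_coe _ _ h2 h1⟩

/-- The fixed-point-freeness needed for largeness. -/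
theorem eq_one_of_comm_elem (hF : Fintype.card F = 2)
    {z : SpecialLinearGroup (Fin (n + 2)) F}
    (hz : (z : Matrix (Fin (n + 2)) (Fin (n + 2)) F) = transvection 0 1 1)
    (K : Subgroup (SpecialLinearGroup (Fin (n + 2)) F)) (hK : Odd (Nat.card K))
    (hQK : radSub F n ≤ Subgroup.normalizer (K : Set (SpecialLinearGroup (Fin (n + 2)) F)))
    (l : F) (φ : Fin n → F) (hφ : φ ≠ 0)
    (x : SpecialLinearGroup (Fin (n + 2)) F) (hxK : x ∈ K)
    (hxu : x * genSL l φ 0 1 = genSL l φ 0 1 * x) : x = 1 := by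
  have hx := col_zero_of_comm hF hφ hxu
  have hxu' : x⁻¹ * genSL l φ 0 1 = genSL l φ 0 1 * x⁻¹ := by
    calc x⁻¹ * genSL l φ 0 1 = x⁻¹ * (genSL l φ 0 1 * x) * x⁻¹ := by group
      _ = x⁻¹ * (x * genSL l φ 0 1) * x⁻¹ := by rw [hxu]
      _ = genSL l φ 0 1 * x⁻¹ := by group
  have hx' := col_zero_of_comm hF hφ hxu'
  have hcomm : ∀ u ∈ elemSub F n, u * x = x * u := by
    intro u hu
    have h1 : x * u * x⁻¹ ∈ elemSub F n := conj_mem_elemSub hx hx' hu
    have h2 : u * x⁻¹ * u⁻¹ ∈ K :=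
      (Subgroup.mem_normalizer_iff.1 (hQK (elemSub_le_radSub hu)) x⁻¹).1 (K.inv_mem hxK)
    have h3 : x * u * x⁻¹ * u⁻¹ ∈ elemSub F n :=
      (elemSub F n).mul_mem h1 ((elemSub F n).inv_mem hu)
    have h4 : x * u * x⁻¹ * u⁻¹ ∈ K := by
      have e : x * u * x⁻¹ * u⁻¹ = x * (u * x⁻¹ * u⁻¹) := by group
      rw [e]; exact K.mul_mem hxK h2
    have h5 : x * u * x⁻¹ * u⁻¹ = 1 := eq_one_of_sq_eq_one_of_odd hK h4 (elemSub_sq hF h3)
    calc u * x = (x * u * x⁻¹ * u⁻¹)⁻¹ * (x * u) := by group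
      _ = x * u := by rw [h5]; group
  have hzE : z ∈ elemSub F n := ⟨1, 0, eq_genSL_of_coe hz⟩
  have hxC : x ∈ Subgroup.centralizer ({z} : Set (SpecialLinearGroup (Fin (n + 2)) F)) :=
    Subgroup.mem_centralizer_singleton_iff.2 (hcomm z hzE).symm
  obtain ⟨l₁, φ₁, ψ₁, A₁, rfl⟩ := exists_genSL_of_mem hF hz hxC
  have h1 := fun b : Fin n =>
    comm_gen_phi b (hcomm (genSL 0 (Pi.single b 1) 0 1) ⟨0, Pi.single b 1, rfl⟩)
  have hψ : ψ₁ = 0 := funext fun b => (h1 b).1
  have hA : A₁ = 1 := by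
    apply Subtype.ext
    ext b c
    rw [Matrix.SpecialLinearGroup.coe_one]
    exact (h1 b).2 c
  subst hψ
  subst hA
  exact eq_one_of_sq_eq_one_of_odd hK hxK (elemSub_sq hF ⟨l₁, φ₁, rfl⟩)


theorem finite_sl (m : Type*) [Fintype m] [DecidableEq m] : Finite (SpecialLinearGroup m F) :=
  Finite.of_injective (fun A : SpecialLinearGroup m F => (A : Matrix m m F))
    Subtype.val_injective

theorem pCore_centralizer_eq (hF : Fintype.card F = 2) (hn : 2 ≤ n)
    (z : SpecialLinearGroup (Fin (n + 2)) F)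
    (hz : (z : Matrix (Fin (n + 2)) (Fin (n + 2)) F) = transvection 0 1 1) :
    (Cfsg.pCore 2 ↥(Subgroup.centralizer
      ({z} : Set (SpecialLinearGroup (Fin (n + 2)) F)))).map
      (Subgroup.centralizer ({z} : Set (SpecialLinearGroup (Fin (n + 2)) F))).subtype =
      radSub F n := by
  have : Fact (Nat.Prime 2) := ⟨Nat.prime_two⟩
  haveI hfin : Finite (SpecialLinearGroup (Fin (n + 2)) F) := finite_sl _
  haveI : Nontrivial (Fin n) := Fin.nontrivial_iff_two_le.2 hn
  have hq := qdata_radSub hF hz (n := n)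
  have hker : (sigma hF z hz).ker = Cfsg.pCore 2 ↥(Subgroup.centralizer
      ({z} : Set (SpecialLinearGroup (Fin (n + 2)) F))) := by
    apply le_antisymm
    · apply le_pCore (MonoidHom.normal_ker _)
      intro c
      obtain ⟨k, hk⟩ := hq.isPGroup ⟨(c : ↥(Subgroup.centralizer
        ({z} : Set (SpecialLinearGroup (Fin (n + 2)) F)))),
        (mem_ker_sigma_iff hF z hz c.1).1 c.2⟩
      refine ⟨k, ?_⟩
      apply Subtype.ext
      apply Subtype.ext
      have := congrArg Subtype.val hk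
      simpa using this
    · have hsurj : Function.Surjective (sigma hF z hz) := fun A =>
        ⟨⟨genSL 0 0 0 A, genSL_mem_centralizer hz 0 0 0 A⟩, sigmaFun_genSL 0 0 0 A⟩
      have h1 := (Cfsg.Agent.Lib.helper53.pCore_normal 2 ↥(Subgroup.centralizer
        ({z} : Set (SpecialLinearGroup (Fin (n + 2)) F)))).map (sigma hF z hz) hsurj
      have h2 := (pCore_isPGroup 2 ↥(Subgroup.centralizer
        ({z} : Set (SpecialLinearGroup (Fin (n + 2)) F)))).map (sigma hF z hz)
      have h3 := normal_two_subgroup_eq_bot hF _ h1 h2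
      exact (Subgroup.map_eq_bot_iff _).1 h3
  rw [← hker]
  ext g
  rw [Subgroup.mem_map]
  constructor
  · rintro ⟨c, hc, rfl⟩
    exact (mem_ker_sigma_iff hF z hz c).1 hc
  · intro hg
    exact ⟨⟨g, radSub_le_centralizer hz hg⟩, (mem_ker_sigma_iff hF z hz _).2 hg, rfl⟩

theorem card_radSub (hF : Fintype.card F = 2) : Nat.card ↥(radSub F n) = 2 ^ (2 * n + 1) := by
  have hbij : Function.Bijective (fun t : F × (Fin n → F) × (Fin n → F) =>
      (⟨genSL t.1 t.2.1 t.2.2 1, ⟨_, _, _, rfl⟩⟩ : ↥(radSub F n))) := by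
    constructor
    · intro t t' h
      have h1 := congrArg Subtype.val h
      obtain ⟨a, b, c, -⟩ := genSL_inj h1
      exact Prod.ext a (Prod.ext b c)
    · rintro ⟨g, l, φ, ψ, rfl⟩
      exact ⟨(l, φ, ψ), rfl⟩
  rw [← Nat.card_congr (Equiv.ofBijective _ hbij), Nat.card_prod, Nat.card_prod, Nat.card_fun,
    Nat.card_eq_fintype_card (α := F), hF, Nat.card_fin]
  ring

theorem card_elemSub (hF : Fintype.card F = 2) : Nat.card ↥(elemSub F n) = 2 ^ (n + 1) := by
  have hbij : Function.Bijective (fun t : F × (Fin n → F) =>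
      (⟨genSL t.1 t.2 0 1, ⟨_, _, rfl⟩⟩ : ↥(elemSub F n))) := by
    constructor
    · intro t t' h
      have h1 := congrArg Subtype.val h
      obtain ⟨a, b, -, -⟩ := genSL_inj h1
      exact Prod.ext a b
    · rintro ⟨g, l, φ, rfl⟩
      exact ⟨(l, φ), rfl⟩
  rw [← Nat.card_congr (Equiv.ofBijective _ hbij), Nat.card_prod, Nat.card_fun,
    Nat.card_eq_fintype_card (α := F), hF, Nat.card_fin]
  ring

theorem isElementaryAbelian_elemSub (hF : Fintype.card F = 2) :
    Cfsg.IsElementaryAbelian 2 (elemSub F n) := by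
  constructor
  · rw [isMulCommutative_iff_of_setLike]
    rintro _ ⟨l, φ, rfl⟩ _ ⟨l', φ', rfl⟩
    rw [genSL_mul_rad, genSL_mul_rad]
    congr 1
    · simp [add_comm]
    · exact add_comm _ _
  · intro a ha
    rw [pow_two]
    exact elemSub_sq hF ha

theorem isExtraspecial_radSub (hF : Fintype.card F = 2) (hn : 1 ≤ n)
    {z : SpecialLinearGroup (Fin (n + 2)) F}
    (hz : (z : Matrix (Fin (n + 2)) (Fin (n + 2)) F) = transvection 0 1 1) :
    Cfsg.IsExtraspecial 2 ↥(radSub F n) := by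
  haveI hfin : Finite (SpecialLinearGroup (Fin (n + 2)) F) := finite_sl _
  have h := qdata_radSub hF hz (n := n)
  refine isExtraspecial_of_data (radSub F n) z h.sq h.ne_one h.comm h.sqmem
    (fun x _ hx => h.cent x hx) h.central ?_
  refine ⟨genSL 0 (Pi.single (⟨0, hn⟩ : Fin n) 1) 0 1, ⟨_, _, _, rfl⟩,
    genSL 0 0 (Pi.single (⟨0, hn⟩ : Fin n) 1) 1, ⟨_, _, _, rfl⟩, ?_⟩
  intro hc
  rw [genSL_mul_rad, genSL_mul_rad] at hc
  have := (genSL_inj hc).1
  simp at this

theorem isLargeExtraspecial_radSub (hF : Fintype.card F = 2) (hn : 1 ≤ n)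
    {z : SpecialLinearGroup (Fin (n + 2)) F}
    (hz : (z : Matrix (Fin (n + 2)) (Fin (n + 2)) F) = transvection 0 1 1) :
    Cfsg.IsLargeExtraspecial (radSub F n) := by
  haveI hfin : Finite (SpecialLinearGroup (Fin (n + 2)) F) := finite_sl _
  have h := qdata_radSub hF hz (n := n)
  refine ⟨isExtraspecial_radSub hF hn hz, h.centralizer_eq, h.centralizer_center_le_normalizer,
    ?_⟩
  intro K hK hQK
  have hφ : (Pi.single (⟨0, hn⟩ : Fin n) 1 : Fin n → F) ≠ 0 := by
    intro h0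
    have := congrFun h0 ⟨0, hn⟩
    rw [Pi.single_eq_same] at this
    exact one_ne_zero this
  refine h.eq_bot_of_odd K hK hQK (genSL 0 (Pi.single (⟨0, hn⟩ : Fin n) 1) 0 1) ⟨_, _, _, rfl⟩
    (elemSub_sq hF ⟨_, _, rfl⟩) ?_ ?_
  · intro x hx hxb
    exact eq_one_of_comm_elem hF hz K hK hQK 0 _ hφ x hx hxb
  · intro x hx hxb
    have e : z * genSL 0 (Pi.single (⟨0, hn⟩ : Fin n) 1) 0 1 =
        genSL 1 (Pi.single (⟨0, hn⟩ : Fin n) 1) 0 1 := by
      rw [eq_genSL_of_coe hz, genSL_mul_rad]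
      congr 1 <;> simp
    rw [e] at hxb
    exact eq_one_of_comm_elem hF hz K hK hQK 1 _ hφ x hx hxb

/-- The complement `SL_n` of the radical in the centralizer. -/
def iotaHom : SpecialLinearGroup (Fin n) F →* SpecialLinearGroup (Fin (n + 2)) F :=
  MonoidHom.mk' (fun A => genSL 0 0 0 A) (by
    intro A B
    show genSL 0 0 0 (A * B) = genSL 0 0 0 A * genSL 0 0 0 B
    rw [genSL_mul]
    congr 1 <;> simp)

theorem iotaHom_apply (A : SpecialLinearGroup (Fin n) F) :
    iotaHom A = genSL (0 : F) 0 0 A := rfl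

theorem iotaHom_injective :
    Function.Injective (iotaHom : SpecialLinearGroup (Fin n) F →* _) :=
  fun _ _ h => (genSL_inj h).2.2.2

/-- The structure of the centralizer of a transvection in `SL_{n+2}(2)`. -/
theorem transvection_centralizer_structure (hF : Fintype.card F = 2) (hn : 2 ≤ n)
    (z : SpecialLinearGroup (Fin (n + 2)) F)
    (hz : (z : Matrix (Fin (n + 2)) (Fin (n + 2)) F) = transvection 0 1 1)
    (Q : Subgroup (SpecialLinearGroup (Fin (n + 2)) F))
    (hQ : Q = (Cfsg.pCore 2 ↥(Subgroup.centralizer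
      ({z} : Set (SpecialLinearGroup (Fin (n + 2)) F)))).map
      (Subgroup.centralizer ({z} : Set (SpecialLinearGroup (Fin (n + 2)) F))).subtype) :
    Cfsg.IsExtraspecial 2 ↥Q ∧ Nat.card ↥Q = 2 ^ (2 * n + 1) ∧
    (∃ E : Subgroup (SpecialLinearGroup (Fin (n + 2)) F), E ≤ Q ∧
      Cfsg.IsElementaryAbelian 2 E ∧ Nat.card ↥E = 2 ^ (n + 1)) ∧
    Cfsg.IsLargeExtraspecial Q ∧
    ∃ K : Subgroup (SpecialLinearGroup (Fin (n + 2)) F),
      K ≤ Subgroup.centralizer ({z} : Set (SpecialLinearGroup (Fin (n + 2)) F)) ∧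
      Q ⊓ K = ⊥ ∧
      Q ⊔ K = Subgroup.centralizer ({z} : Set (SpecialLinearGroup (Fin (n + 2)) F)) ∧
      Nonempty (↥K ≃* SpecialLinearGroup (Fin n) F) := by
  have hQ' : Q = radSub F n := by rw [hQ]; exact pCore_centralizer_eq hF hn z hz
  subst hQ'
  have hn1 : 1 ≤ n := by omega
  refine ⟨isExtraspecial_radSub hF hn1 hz, card_radSub hF,
    ⟨elemSub F n, elemSub_le_radSub, isElementaryAbelian_elemSub hF, card_elemSub hF⟩,
    isLargeExtraspecial_radSub hF hn1 hz, iotaHom.range, ?_, ?_, ?_, ?_⟩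
  · rintro _ ⟨A, rfl⟩
    exact genSL_mem_centralizer hz 0 0 0 A
  · rw [eq_bot_iff]
    rintro g ⟨⟨l, φ, ψ, h1⟩, ⟨A, h2⟩⟩
    rw [Subgroup.mem_bot]
    rw [iotaHom_apply, h1] at h2
    obtain ⟨a, b, c, -⟩ := genSL_inj h2
    rw [h1, ← a, ← b, ← c, genSL_one]
  · apply le_antisymm
    · refine sup_le (radSub_le_centralizer hz) ?_
      rintro _ ⟨A, rfl⟩
      exact genSL_mem_centralizer hz 0 0 0 A
    · intro c hc
      obtain ⟨l, φ, ψ, A, rfl⟩ := exists_genSL_of_mem hF hz hc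
      have hι : genSL (0 : F) (0 : Fin n → F) 0 A ∈ Subgroup.centralizer
          ({z} : Set (SpecialLinearGroup (Fin (n + 2)) F)) := genSL_mem_centralizer hz 0 0 0 A
      have hmem : genSL l φ ψ A * (genSL (0 : F) (0 : Fin n → F) 0 A)⁻¹ ∈
          Subgroup.centralizer ({z} : Set (SpecialLinearGroup (Fin (n + 2)) F)) :=
        Subgroup.mul_mem _ hc (Subgroup.inv_mem _ hι)
      have h1 : genSL l φ ψ A * (genSL (0 : F) (0 : Fin n → F) 0 A)⁻¹ ∈ radSub F n := by
        refine (mem_ker_sigma_iff hF z hz ⟨_, hmem⟩).1 ?_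
        rw [MonoidHom.mem_ker]
        have e : (⟨genSL l φ ψ A * (genSL (0 : F) (0 : Fin n → F) 0 A)⁻¹, hmem⟩ :
            ↥(Subgroup.centralizer ({z} : Set (SpecialLinearGroup (Fin (n + 2)) F)))) =
            ⟨genSL l φ ψ A, hc⟩ * ⟨genSL (0 : F) (0 : Fin n → F) 0 A, hι⟩⁻¹ := rfl
        rw [e, map_mul, map_inv, sigma_apply, sigma_apply, sigmaFun_genSL, sigmaFun_genSL,
          mul_inv_cancel]
      have e2 : genSL l φ ψ A = (genSL l φ ψ A * (genSL (0 : F) (0 : Fin n → F) 0 A)⁻¹) *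
          genSL (0 : F) (0 : Fin n → F) 0 A := by group
      rw [e2]
      exact Subgroup.mul_mem_sup h1 ⟨A, rfl⟩
  · exact ⟨(MonoidHom.ofInjective iotaHom_injective).symm⟩

end SL

end Cfsg.Agent.Lib.helper92
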