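import Mathlib
import Cfsg.Agent.Lib.helper92.TransvSL

set_option autoImplicit false

/-!
The stabilizer of the first basis vector in `SL_{n+2}(2)` in block coordinates `(1, w; 0, B)`,
and the embedding of a split extension `U : Aut(U)` (with `U` elementary abelian of order
`2^(n+1)`) into `SL_{n+2}(2)`.
-/

namespace Cfsg.Agent.Lib.helper92

open Matrix

section aff

variable {R : Type*} [CommRing R] {n : ℕ}

/-- The block matrix with rows `(1, w)`, `(0, B)`. -/
def affMat (w : Fin (n + 1) → R) (B : Matrix (Fin (n + 1)) (Fin (n + 1)) R) :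
    Matrix (Fin (n + 2)) (Fin (n + 2)) R :=
  Matrix.of (Fin.cons (Fin.cons (1 : R) w : Fin (n + 2) → R)
    (fun a => (Fin.cons (0 : R) (B a) : Fin (n + 2) → R)) : Fin (n + 2) → Fin (n + 2) → R)

@[simp] theorem affMat_zero_zero (w : Fin (n + 1) → R) (B : Matrix (Fin (n + 1)) (Fin (n + 1)) R) :
    affMat w B 0 0 = 1 := rfl

@[simp] theorem affMat_zero_succ (w : Fin (n + 1) → R) (B : Matrix (Fin (n + 1)) (Fin (n + 1)) R)
    (b : Fin (n + 1)) : affMat w B 0 b.succ = w b := rfl

@[simp] theorem affMat_succ_zero (w : Fin (n + 1) → R) (B : Matrix (Fin (n + 1)) (Fin (n + 1)) R)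
    (a : Fin (n + 1)) : affMat w B a.succ 0 = 0 := rfl

@[simp] theorem affMat_succ_succ (w : Fin (n + 1) → R) (B : Matrix (Fin (n + 1)) (Fin (n + 1)) R)
    (a b : Fin (n + 1)) : affMat w B a.succ b.succ = B a b := rfl

theorem affMat_mul (w : Fin (n + 1) → R) (B : Matrix (Fin (n + 1)) (Fin (n + 1)) R)
    (w' : Fin (n + 1) → R) (B' : Matrix (Fin (n + 1)) (Fin (n + 1)) R) :
    affMat w B * affMat w' B' = affMat (w' + w ᵥ* B') (B * B') := by
  ext a b
  refine Fin.cases ?_ (fun a => ?_) a <;> refine Fin.cases ?_ (fun b => ?_) b <;>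
    simp [Matrix.mul_apply, Fin.sum_univ_succ, vecMul, dotProduct]

theorem affMat_one_eq : affMat (0 : Fin (n + 1) → R) 1 = 1 := by
  ext a b
  refine Fin.cases ?_ (fun a => ?_) a <;> refine Fin.cases ?_ (fun b => ?_) b
  · simp
  · rw [affMat_zero_succ, Matrix.one_apply_ne (Fin.succ_ne_zero b).symm]; rfl
  · rw [affMat_succ_zero, Matrix.one_apply_ne (Fin.succ_ne_zero a)]
  · rw [affMat_succ_succ, Matrix.one_apply, Matrix.one_apply]
    simp only [Fin.succ_inj]

theorem det_affMat (w : Fin (n + 1) → R) (B : Matrix (Fin (n + 1)) (Fin (n + 1)) R) :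
    (affMat w B).det = B.det := by
  rw [det_succ_column_zero, Fin.sum_univ_succ]
  have h0 : ∀ i : Fin (n + 1), affMat w B i.succ 0 = 0 := fun i => rfl
  simp only [h0, mul_zero, zero_mul, Finset.sum_const_zero, add_zero, Fin.val_zero, pow_zero,
    one_mul, affMat_zero_zero, Fin.succAbove_zero]
  rfl

theorem affMat_injective {w w' : Fin (n + 1) → R} {B B' : Matrix (Fin (n + 1)) (Fin (n + 1)) R}
    (h : affMat w B = affMat w' B') : w = w' ∧ B = B' := by
  refine ⟨?_, ?_⟩
  · funext b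
    have := Matrix.ext_iff.2 h 0 b.succ
    simpa using this
  · ext a b
    have := Matrix.ext_iff.2 h a.succ b.succ
    simpa using this

theorem eq_affMat_of_col {M : Matrix (Fin (n + 2)) (Fin (n + 2)) R}
    (hcol : ∀ a, a ≠ 0 → M a 0 = 0) (h00 : M 0 0 = 1) :
    M = affMat (fun b => M 0 b.succ) (M.submatrix Fin.succ Fin.succ) := by
  ext a b
  refine Fin.cases ?_ (fun a => ?_) a <;> refine Fin.cases ?_ (fun b => ?_) b
  · simp [h00]
  · simp
  · simp only [affMat_succ_zero]
    exact hcol _ (Fin.succ_ne_zero a)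
  · simp

theorem transvection_eq_affMat :
    transvection (0 : Fin (n + 2)) 1 (1 : R) = affMat (Pi.single 0 1) 1 := by
  have h10 : (1 : Fin (n + 2)) ≠ 0 := by
    rw [← Fin.succ_zero_eq_one]; exact Fin.succ_ne_zero 0
  unfold transvection
  ext a b
  rw [Matrix.add_apply]
  refine Fin.cases ?_ (fun a => ?_) a <;> refine Fin.cases ?_ (fun b => ?_) b
  · rw [Matrix.one_apply_eq, Matrix.single_apply_of_ne (h := fun h => h10 h.2), add_zero,
      affMat_zero_zero]
  · by_cases hb : b = 0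
    · subst hb
      rw [Fin.succ_zero_eq_one, Matrix.single_apply_same, Matrix.one_apply_ne h10.symm, zero_add,
        ← Fin.succ_zero_eq_one, affMat_zero_succ, Pi.single_eq_same]
    · have hb' : (1 : Fin (n + 2)) ≠ b.succ := by
        rw [← Fin.succ_zero_eq_one]
        exact fun h => hb (Fin.succ_injective _ h).symm
      rw [Matrix.single_apply_of_ne (h := fun h => hb' h.2), add_zero,
        Matrix.one_apply_ne (Fin.succ_ne_zero b).symm, affMat_zero_succ, Pi.single_eq_of_ne hb]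
  · rw [Matrix.single_apply_of_ne (h := fun h => Fin.succ_ne_zero a h.1.symm), add_zero,
      Matrix.one_apply_ne (Fin.succ_ne_zero a), affMat_succ_zero]
  · rw [Matrix.single_apply_of_ne (h := fun h => Fin.succ_ne_zero a h.1.symm), add_zero,
      affMat_succ_succ, Matrix.one_apply, Matrix.one_apply]
    simp only [Fin.succ_inj]

end aff

section affSL

variable {F : Type*} [Field F] [Fintype F] {n : ℕ}

/-- The element of the special linear group with block coordinates `(1, w; 0, B)`. -/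
def affSL (w : Fin (n + 1) → F) (B : SpecialLinearGroup (Fin (n + 1)) F) :
    SpecialLinearGroup (Fin (n + 2)) F :=
  slMk (affMat w (B : Matrix (Fin (n + 1)) (Fin (n + 1)) F)) (by
    rw [det_affMat]; exact B.det_coe)

theorem coe_affSL (w : Fin (n + 1) → F) (B : SpecialLinearGroup (Fin (n + 1)) F) :
    ((affSL w B : SpecialLinearGroup (Fin (n + 2)) F) :
      Matrix (Fin (n + 2)) (Fin (n + 2)) F) =
      affMat w (B : Matrix (Fin (n + 1)) (Fin (n + 1)) F) := rfl

theorem affSL_mul (w : Fin (n + 1) → F) (B : SpecialLinearGroup (Fin (n + 1)) F)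
    (w' : Fin (n + 1) → F) (B' : SpecialLinearGroup (Fin (n + 1)) F) :
    affSL w B * affSL w' B' =
      affSL (w' + w ᵥ* (B' : Matrix (Fin (n + 1)) (Fin (n + 1)) F)) (B * B') := by
  apply Subtype.ext
  rw [Matrix.SpecialLinearGroup.coe_mul, coe_affSL, coe_affSL, coe_affSL, affMat_mul,
    Matrix.SpecialLinearGroup.coe_mul]

theorem affSL_one : affSL (0 : Fin (n + 1) → F) 1 = 1 := by
  apply Subtype.ext
  rw [coe_affSL, Matrix.SpecialLinearGroup.coe_one, Matrix.SpecialLinearGroup.coe_one,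
    affMat_one_eq]

theorem affSL_inj {w w' : Fin (n + 1) → F} {B B' : SpecialLinearGroup (Fin (n + 1)) F}
    (h : affSL w B = affSL w' B') : w = w' ∧ B = B' := by
  have h1 : affMat w (B : Matrix (Fin (n + 1)) (Fin (n + 1)) F) =
      affMat w' (B' : Matrix (Fin (n + 1)) (Fin (n + 1)) F) :=
    congrArg (fun g : SpecialLinearGroup (Fin (n + 2)) F =>
      (g : Matrix (Fin (n + 2)) (Fin (n + 2)) F)) h
  obtain ⟨a, b⟩ := affMat_injective h1
  exact ⟨a, Subtype.ext b⟩

theorem exists_affSL_of_mem (hF : Fintype.card F = 2)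
    {z : SpecialLinearGroup (Fin (n + 2)) F}
    (hz : (z : Matrix (Fin (n + 2)) (Fin (n + 2)) F) = transvection 0 1 1)
    {c : SpecialLinearGroup (Fin (n + 2)) F}
    (hc : c ∈ Subgroup.centralizer ({z} : Set (SpecialLinearGroup (Fin (n + 2)) F))) :
    ∃ (w : Fin (n + 1) → F) (B : SpecialLinearGroup (Fin (n + 1)) F), c = affSL w B := by
  have hT := tshape_of_mem hF hz hc
  have h1 := eq_affMat_of_col hT.col hT.dii
  have hdet : ((c : Matrix (Fin (n + 2)) (Fin (n + 2)) F).submatrix Fin.succ Fin.succ).det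
      = 1 := by
    rw [← det_affMat (fun b => c.1 0 b.succ), ← h1]
    exact c.det_coe
  exact ⟨_, slMk _ hdet, Subtype.ext h1⟩

end affSL

/-- A homomorphism out of an internal semidirect product. -/
theorem exists_hom_of_semidirect {G H : Type*} [Group G] [Group H] (U M : Subgroup G)
    [U.Normal] (hUM : U ⊓ M = ⊥) (hUM' : U ⊔ M = ⊤) (f : ↥U → ↥M → H)
    (hf : ∀ (u u' : ↥U) (m m' : ↥M),
      f (u * MulAut.conjNormal (m : G) u') (m * m') = f u m * f u' m') :
    (∀ g : G, ∃ u : ↥U, ∃ m : ↥M, g = (u : G) * (m : G)) ∧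
    ∃ Φ : G →* H, ∀ (u : ↥U) (m : ↥M), Φ ((u : G) * (m : G)) = f u m := by
  have hdec : ∀ g : G, ∃ u : ↥U, ∃ m : ↥M, g = (u : G) * (m : G) := by
    intro g
    have hg : g ∈ U ⊔ M := by rw [hUM']; exact Subgroup.mem_top g
    obtain ⟨y, hy, x, hx, rfl⟩ := Subgroup.mem_sup_of_normal_left.1 hg
    exact ⟨⟨y, hy⟩, ⟨x, hx⟩, rfl⟩
  refine ⟨hdec, ?_⟩
  have huniq : ∀ (u u' : ↥U) (m m' : ↥M),
      (u : G) * (m : G) = (u' : G) * (m' : G) → u = u' ∧ m = m' := by
    intro u u' m m' h
    have h1 : (u' : G)⁻¹ * (u : G) = (m' : G) * (m : G)⁻¹ := by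
      calc (u' : G)⁻¹ * u = (u' : G)⁻¹ * (u * m) * (m : G)⁻¹ := by group
        _ = (u' : G)⁻¹ * (u' * m') * (m : G)⁻¹ := by rw [h]
        _ = m' * (m : G)⁻¹ := by group
    have h2 : (u' : G)⁻¹ * (u : G) ∈ U ⊓ M :=
      ⟨U.mul_mem (U.inv_mem u'.2) u.2, by rw [h1]; exact M.mul_mem m'.2 (M.inv_mem m.2)⟩
    rw [hUM, Subgroup.mem_bot] at h2
    have h3 : (u : G) = u' := by
      calc (u : G) = u' * ((u' : G)⁻¹ * u) := by group
        _ = u' := by rw [h2, mul_one]
    have h4 : (m : G) = m' := by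
      have h5 : (m' : G) * (m : G)⁻¹ = 1 := by rw [← h1, h2]
      calc (m : G) = (m' * (m : G)⁻¹)⁻¹ * m' := by group
        _ = m' := by rw [h5]; group
    exact ⟨Subtype.ext h3, Subtype.ext h4⟩
  choose du dm hd using hdec
  have hmul : ∀ g g' : G,
      f (du (g * g')) (dm (g * g')) = f (du g) (dm g) * f (du g') (dm g') := by
    intro g g'
    obtain ⟨h1, h2⟩ := huniq (du (g * g')) (du g * MulAut.conjNormal (dm g : G) (du g'))
      (dm (g * g')) (dm g * dm g') (by
        rw [← hd (g * g')]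
        conv_lhs => rw [hd g, hd g']
        simp only [Subgroup.coe_mul, MulAut.conjNormal_apply]
        group)
    rw [h1, h2, hf]
  refine ⟨MonoidHom.mk' (fun g => f (du g) (dm g)) hmul, ?_⟩
  intro u m
  obtain ⟨h1, h2⟩ := huniq (du ((u : G) * (m : G))) u (dm ((u : G) * (m : G))) m (hd _).symm
  show f (du ((u : G) * (m : G))) (dm ((u : G) * (m : G))) = f u m
  rw [h1, h2]

/-- An additive self-map of `F_2^k` is right multiplication by a matrix. -/
theorem exists_matrix_of_additive {k : ℕ} (g : (Fin k → ZMod 2) → (Fin k → ZMod 2))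
    (hg : ∀ w w', g (w + w') = g w + g w') :
    ∃ R : Matrix (Fin k) (Fin k) (ZMod 2), ∀ w, w ᵥ* R = g w := by
  let L := AddMonoidHom.toZModLinearMap 2 (AddMonoidHom.mk' g hg)
  refine ⟨LinearMap.toMatrixRight' L, fun w => ?_⟩
  rw [← Matrix.toLinearMapRight'_apply]
  have h : Matrix.toLinearMapRight' (LinearMap.toMatrixRight' L) = L :=
    LinearEquiv.apply_symm_apply _ _
  rw [h]
  rfl

theorem matrix_eq_of_vecMul {k : ℕ} {R : Type*} [CommRing R] {A B : Matrix (Fin k) (Fin k) R}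
    (h : ∀ w, w ᵥ* A = w ᵥ* B) : A = B := by
  ext i j
  have := congrFun (h (Pi.single i 1)) j
  rwa [single_one_vecMul, single_one_vecMul] at this

/-- Coordinates on an elementary abelian `2`-group sending a given non-identity element to the
first basis vector. -/
theorem exists_coords {G : Type*} [Group G] [Finite G] (U : Subgroup G)
    (hU : Cfsg.IsElementaryAbelian 2 U) (k : ℕ) (hcard : Nat.card ↥U = 2 ^ (k + 1)) (z : ↥U)
    (hz : z ≠ 1) :
    ∃ θ : ↥U ≃ (Fin (k + 1) → ZMod 2),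
      (∀ u u', θ (u * u') = θ u + θ u') ∧ θ z = Pi.single 0 1 := by
  classical
  obtain ⟨hcomm, hexp⟩ := hU
  let _ : CommGroup ↥U :=
    { (inferInstance : Group ↥U) with mul_comm := fun a b => mul_comm' a b }
  let _ : Module (ZMod 2) (Additive ↥U) := AddCommGroup.zmodModule (n := 2) (by
    intro x
    have h1 := hexp (Additive.toMul x : ↥U).1 (Additive.toMul x : ↥U).2
    have h2 : (Additive.toMul x : ↥U) ^ 2 = 1 := by
      apply Subtype.ext
      rw [Subgroup.coe_pow, Subgroup.coe_one]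
      exact h1
    exact congrArg Additive.ofMul h2)
  have hz' : (Additive.ofMul z : Additive ↥U) ≠ 0 := fun h => hz (congrArg Additive.toMul h)
  have hs : LinearIndepOn (ZMod 2) id ({Additive.ofMul z} : Set (Additive ↥U)) :=
    LinearIndepOn.singleton (R := ZMod 2) (v := id) hz'
  let b := Module.Basis.extend hs
  have hzS : (Additive.ofMul z : Additive ↥U) ∈ hs.extend (Set.subset_univ _) :=
    Module.Basis.subset_extend hs (Set.mem_singleton _)
  have : Fintype ↑(hs.extend (Set.subset_univ _)) := Fintype.ofFinite _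
  have hfr : Module.finrank (ZMod 2) (Additive ↥U) = k + 1 := by
    have h1 := Module.natCard_eq_pow_finrank (K := ZMod 2) (V := Additive ↥U)
    have h2 : Nat.card (Additive ↥U) = 2 ^ (k + 1) := hcard
    rw [h2, Nat.card_zmod] at h1
    exact (Nat.pow_right_injective (le_refl 2) h1).symm
  have hcardS : Fintype.card ↑(hs.extend (Set.subset_univ _)) = k + 1 := by
    rw [← Module.finrank_eq_card_basis b, hfr]
  let e₀ := Fintype.equivFinOfCardEq hcardS
  let e := e₀.trans (Equiv.swap (e₀ ⟨Additive.ofMul z, hzS⟩) 0)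
  have he : e ⟨Additive.ofMul z, hzS⟩ = 0 := by
    show Equiv.swap (e₀ ⟨Additive.ofMul z, hzS⟩) 0 (e₀ ⟨Additive.ofMul z, hzS⟩) = 0
    exact Equiv.swap_apply_left _ _
  let b' := b.reindex e
  have hb0 : b' 0 = Additive.ofMul z := by
    show (b.reindex e) 0 = _
    rw [Module.Basis.reindex_apply, ← he, Equiv.symm_apply_apply]
    exact Module.Basis.extend_apply_self hs _
  refine ⟨Additive.ofMul.trans b'.equivFun.toEquiv, ?_, ?_⟩
  · intro u u'
    show b'.equivFun (Additive.ofMul (u * u')) = b'.equivFun (Additive.ofMul u) +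
      b'.equivFun (Additive.ofMul u')
    rw [ofMul_mul, map_add]
  · show b'.equivFun (Additive.ofMul z) = Pi.single 0 1
    rw [← hb0]
    funext j
    rw [Module.Basis.equivFun_self, Pi.single_apply]
    by_cases hj : j = 0
    · rw [if_pos hj, if_pos hj.symm]
    · rw [if_neg hj, if_neg (Ne.symm hj)]


/-- The split extension of an elementary abelian group of order `2^(n+1)` by its full
automorphism group embeds into `SL_{n+2}(2)` as the stabilizer of a vector, with a prescribed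
element of `U` going to the transvection `1 + E_01`. -/
theorem exists_embedding {G : Type*} [Group G] [Finite G] (n : ℕ) (U M : Subgroup G) [U.Normal]
    (hU : Cfsg.IsElementaryAbelian 2 U) (hUcard : Nat.card ↥U = 2 ^ (n + 1))
    (hUM : U ⊓ M = ⊥) (hUM' : U ⊔ M = ⊤)
    (hfaith : ∀ m ∈ M, (∀ u ∈ U, m * u * m⁻¹ = u) → m = 1)
    (hfull : ∀ φ : ↥U ≃* ↥U, ∃ m ∈ M, ∀ u : ↥U, ((φ u : ↥U) : G) = m * u * m⁻¹)
    (z : G) (hzU : z ∈ U) (hz1 : z ≠ 1) :
    ∃ Φ : G →* SpecialLinearGroup (Fin (n + 2)) (ZMod 2), Function.Injective Φ ∧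
      ((Φ z : SpecialLinearGroup (Fin (n + 2)) (ZMod 2)) :
        Matrix (Fin (n + 2)) (Fin (n + 2)) (ZMod 2)) = transvection 0 1 1 ∧
      Subgroup.centralizer ({Φ z} : Set (SpecialLinearGroup (Fin (n + 2)) (ZMod 2))) ≤
        Φ.range := by
  classical
  have hF : Fintype.card (ZMod 2) = 2 := ZMod.card 2
  obtain ⟨θ, hθ, hθz⟩ := exists_coords U hU n hUcard ⟨z, hzU⟩
    (fun h => hz1 (congrArg Subtype.val h))
  have hθ1 : θ 1 = 0 := by
    have h := hθ 1 1
    rw [mul_one] at h
    exact add_eq_left.1 h.symm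
  have hθs : ∀ w w', θ.symm (w + w') = θ.symm w * θ.symm w' := by
    intro w w'
    apply θ.injective
    rw [hθ, Equiv.apply_symm_apply, Equiv.apply_symm_apply, Equiv.apply_symm_apply]
  -- right conjugation
  let cj : ↥M → ↥U → ↥U := fun m u => MulAut.conjNormal ((m : G)⁻¹) u
  have hcj : ∀ (m : ↥M) (u : ↥U), ((cj m u : ↥U) : G) = (m : G)⁻¹ * u * m := by
    intro m u
    show ((MulAut.conjNormal ((m : G)⁻¹) u : ↥U) : G) = _
    rw [MulAut.conjNormal_apply, inv_inv]
  have hcj_mul : ∀ (m : ↥M) (u u' : ↥U), cj m (u * u') = cj m u * cj m u' :=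
    fun m u u' => map_mul _ u u'
  have hcj_comp : ∀ (m m' : ↥M) (u : ↥U), cj (m * m') u = cj m' (cj m u) := by
    intro m m' u
    apply Subtype.ext
    rw [hcj, hcj, hcj, Subgroup.coe_mul]
    group
  have hcj_one : ∀ u : ↥U, cj 1 u = u := by
    intro u
    apply Subtype.ext
    rw [hcj]
    simp
  -- matrices
  have hex : ∀ m : ↥M, ∃ R : Matrix (Fin (n + 1)) (Fin (n + 1)) (ZMod 2),
      ∀ w, w ᵥ* R = θ (cj m (θ.symm w)) := by
    intro m
    apply exists_matrix_of_additive
    intro w w'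
    rw [hθs, hcj_mul, hθ]
  choose R hR using hex
  have hR' : ∀ (m : ↥M) (u : ↥U), θ u ᵥ* R m = θ (cj m u) := by
    intro m u
    rw [hR, Equiv.symm_apply_apply]
  have hRmul : ∀ m m' : ↥M, R (m * m') = R m * R m' := by
    intro m m'
    apply matrix_eq_of_vecMul
    intro w
    rw [← vecMul_vecMul, hR, hR, hR, Equiv.symm_apply_apply, hcj_comp]
  have hRone : R 1 = 1 := by
    apply matrix_eq_of_vecMul
    intro w
    rw [hR, hcj_one, Equiv.apply_symm_apply, vecMul_one]
  have hRdet : ∀ m : ↥M, (R m).det = 1 := by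
    intro m
    have h1 : (R m).det * (R m⁻¹).det = 1 := by
      rw [← det_mul, ← hRmul, mul_inv_cancel, hRone, det_one]
    have hne : (R m).det ≠ 0 := by
      intro h0
      rw [h0, zero_mul] at h1
      exact zero_ne_one h1
    exact (eq_zero_or_one_of_card_two hF _).resolve_left hne
  let ρ : ↥M → SpecialLinearGroup (Fin (n + 1)) (ZMod 2) := fun m => slMk (R m) (hRdet m)
  have hρcoe : ∀ m, ((ρ m : SpecialLinearGroup (Fin (n + 1)) (ZMod 2)) :
      Matrix (Fin (n + 1)) (Fin (n + 1)) (ZMod 2)) = R m := fun m => rfl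
  have hρmul : ∀ m m', ρ (m * m') = ρ m * ρ m' := by
    intro m m'
    apply Subtype.ext
    rw [Matrix.SpecialLinearGroup.coe_mul, hρcoe, hρcoe, hρcoe]
    exact hRmul m m'
  have hρone : ρ 1 = 1 := by
    apply Subtype.ext
    rw [Matrix.SpecialLinearGroup.coe_one, hρcoe]
    exact hRone
  -- the homomorphism
  obtain ⟨hdec, Φ, hΦ⟩ := exists_hom_of_semidirect U M hUM hUM'
    (fun u m => affSL (θ u ᵥ* R m) (ρ m)) (by
      intro u u' m m'
      show affSL (θ (u * MulAut.conjNormal (m : G) u') ᵥ* R (m * m')) (ρ (m * m')) =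
        affSL (θ u ᵥ* R m) (ρ m) * affSL (θ u' ᵥ* R m') (ρ m')
      rw [affSL_mul, hρmul, hρcoe]
      congr 1
      have h1 : θ ((MulAut.conjNormal (m : G)) u') ᵥ* R m = θ u' := by
        rw [hR']
        congr 1
        apply Subtype.ext
        rw [hcj, MulAut.conjNormal_apply]
        group
      rw [hθ, hRmul, ← vecMul_vecMul, add_vecMul, h1, add_vecMul]
      exact add_comm _ _)
  have hΦz : Φ z = affSL (Pi.single 0 1) 1 := by
    have h := hΦ ⟨z, hzU⟩ 1
    rw [Subgroup.coe_one, mul_one] at h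
    rw [h, hρone, hRone, vecMul_one, hθz]
  have hz₀ : ((Φ z : SpecialLinearGroup (Fin (n + 2)) (ZMod 2)) :
      Matrix (Fin (n + 2)) (Fin (n + 2)) (ZMod 2)) = transvection 0 1 1 := by
    rw [hΦz, coe_affSL, Matrix.SpecialLinearGroup.coe_one, transvection_eq_affMat]
  refine ⟨Φ, ?_, hz₀, ?_⟩
  · -- injectivity
    rw [injective_iff_map_eq_one]
    intro g hg
    obtain ⟨u, m, rfl⟩ := hdec g
    rw [hΦ, ← affSL_one] at hg
    obtain ⟨h1, h2⟩ := affSL_inj hg
    have hRm : R m = 1 := by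
      rw [← hρcoe, h2, Matrix.SpecialLinearGroup.coe_one]
    rw [hRm, vecMul_one] at h1
    have hu : u = 1 := θ.injective (h1.trans hθ1.symm)
    have hm : (m : G) = 1 := by
      apply hfaith m m.2
      intro x hx
      have h3 := hR' m ⟨x, hx⟩
      rw [hRm, vecMul_one] at h3
      have h4 := congrArg Subtype.val (θ.injective h3)
      rw [hcj] at h4
      have h5 : x = (m : G)⁻¹ * x * m := h4
      calc (m : G) * x * (m : G)⁻¹ = m * ((m : G)⁻¹ * x * m) * (m : G)⁻¹ := by rw [← h5]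
        _ = x := by group
    rw [hu, hm, Subgroup.coe_one, mul_one]
  · -- the range contains the centralizer
    intro c hc
    obtain ⟨w, B, rfl⟩ := exists_affSL_of_mem hF hz₀ hc
    let φ : ↥U ≃* ↥U :=
      { toFun := fun u => θ.symm (θ u ᵥ* (B : Matrix (Fin (n + 1)) (Fin (n + 1)) (ZMod 2)))
        invFun := fun u => θ.symm (θ u ᵥ* ((B⁻¹ : SpecialLinearGroup (Fin (n + 1)) (ZMod 2)) :
          Matrix (Fin (n + 1)) (Fin (n + 1)) (ZMod 2)))
        left_inv := by
          intro u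
          show θ.symm (θ (θ.symm (θ u ᵥ* (B : Matrix (Fin (n + 1)) (Fin (n + 1)) (ZMod 2)))) ᵥ*
            ((B⁻¹ : SpecialLinearGroup (Fin (n + 1)) (ZMod 2)) :
              Matrix (Fin (n + 1)) (Fin (n + 1)) (ZMod 2))) = u
          rw [Equiv.apply_symm_apply, vecMul_vecMul, ← Matrix.SpecialLinearGroup.coe_mul,
            mul_inv_cancel, Matrix.SpecialLinearGroup.coe_one, vecMul_one,
            Equiv.symm_apply_apply]
        right_inv := by
          intro u
          show θ.symm (θ (θ.symm (θ u ᵥ* ((B⁻¹ : SpecialLinearGroup (Fin (n + 1)) (ZMod 2)) :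
              Matrix (Fin (n + 1)) (Fin (n + 1)) (ZMod 2)))) ᵥ*
            (B : Matrix (Fin (n + 1)) (Fin (n + 1)) (ZMod 2))) = u
          rw [Equiv.apply_symm_apply, vecMul_vecMul, ← Matrix.SpecialLinearGroup.coe_mul,
            inv_mul_cancel, Matrix.SpecialLinearGroup.coe_one, vecMul_one,
            Equiv.symm_apply_apply]
        map_mul' := by
          intro u u'
          show θ.symm (θ (u * u') ᵥ* (B : Matrix (Fin (n + 1)) (Fin (n + 1)) (ZMod 2))) =
            θ.symm (θ u ᵥ* (B : Matrix (Fin (n + 1)) (Fin (n + 1)) (ZMod 2))) *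
            θ.symm (θ u' ᵥ* (B : Matrix (Fin (n + 1)) (Fin (n + 1)) (ZMod 2)))
          rw [hθ, add_vecMul, hθs] }
    have hφ_apply : ∀ u, φ u =
        θ.symm (θ u ᵥ* (B : Matrix (Fin (n + 1)) (Fin (n + 1)) (ZMod 2))) := fun u => rfl
    obtain ⟨m₀, hm₀, hφ⟩ := hfull φ
    have hRB : R (⟨m₀, hm₀⟩ : ↥M)⁻¹ = (B : Matrix (Fin (n + 1)) (Fin (n + 1)) (ZMod 2)) := by
      apply matrix_eq_of_vecMul
      intro w'
      rw [hR]
      have h1 : cj (⟨m₀, hm₀⟩ : ↥M)⁻¹ (θ.symm w') = φ (θ.symm w') := by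
        apply Subtype.ext
        rw [hcj, hφ]
        simp
      rw [h1, hφ_apply, Equiv.apply_symm_apply, Equiv.apply_symm_apply]
    have hρB : ρ (⟨m₀, hm₀⟩ : ↥M)⁻¹ = B := Subtype.ext hRB
    refine ⟨((θ.symm (w ᵥ* ((B⁻¹ : SpecialLinearGroup (Fin (n + 1)) (ZMod 2)) :
      Matrix (Fin (n + 1)) (Fin (n + 1)) (ZMod 2))) : ↥U) : G) *
      (((⟨m₀, hm₀⟩ : ↥M)⁻¹ : ↥M) : G), ?_⟩
    rw [hΦ, hρB, hRB, Equiv.apply_symm_apply, vecMul_vecMul, ← Matrix.SpecialLinearGroup.coe_mul,
      inv_mul_cancel, Matrix.SpecialLinearGroup.coe_one, vecMul_one]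

end Cfsg.Agent.Lib.helper92
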