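import Mathlib
import Cfsg.Agent.Lib.helper92.AffSL

set_option autoImplicit false

/-!
Transfer of the structure of the centralizer of a transvection in `SL_{n+2}(2)` to the split
extension `2^(n+1) : GL_{n+1}(2)`.
-/

namespace Cfsg.Agent.Lib.helper92

open Matrix

section SL1

variable {F : Type*} [Field F] [Fintype F] {n : ℕ}

/-- A normal `2`-subgroup of `SL_n(2)` is trivial, for `n ≥ 1`. -/
theorem normal_two_subgroup_eq_bot' (hF : Fintype.card F = 2) (hn : 1 ≤ n)
    (N : Subgroup (SpecialLinearGroup (Fin n) F)) (hN : N.Normal) (hp : IsPGroup 2 ↥N) :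
    N = ⊥ := by
  rcases Nat.lt_or_ge n 2 with h | h
  · have hn1 : n = 1 := by omega
    subst hn1
    rw [eq_bot_iff]
    intro g _
    rw [Subgroup.mem_bot]
    apply Subtype.ext
    ext i j
    have h1 := g.det_coe
    rw [Matrix.det_fin_one] at h1
    have hi : i = 0 := Subsingleton.elim _ _
    have hj : j = 0 := Subsingleton.elim _ _
    rw [hi, hj, h1, Matrix.SpecialLinearGroup.coe_one, Matrix.one_apply_eq]
  · haveI : Nontrivial (Fin n) := Fin.nontrivial_iff_two_le.2 h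
    exact normal_two_subgroup_eq_bot hF N hN hp

theorem pCore_centralizer_eq' (hF : Fintype.card F = 2) (hn : 1 ≤ n)
    (z : SpecialLinearGroup (Fin (n + 2)) F)
    (hz : (z : Matrix (Fin (n + 2)) (Fin (n + 2)) F) = transvection 0 1 1) :
    (Cfsg.pCore 2 ↥(Subgroup.centralizer
      ({z} : Set (SpecialLinearGroup (Fin (n + 2)) F)))).map
      (Subgroup.centralizer ({z} : Set (SpecialLinearGroup (Fin (n + 2)) F))).subtype =
      radSub F n := by
  have : Fact (Nat.Prime 2) := ⟨Nat.prime_two⟩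
  haveI hfin : Finite (SpecialLinearGroup (Fin (n + 2)) F) := finite_sl _
  have hq := qdata_radSub hF hz (n := n)
  have hker : (sigma hF z hz).ker = Cfsg.pCore 2 ↥(Subgroup.centralizer
      ({z} : Set (SpecialLinearGroup (Fin (n + 2)) F))) := by
    apply le_antisymm
    · apply le_pCore (MonoidHom.normal_ker _)
      intro c
      obtain ⟨k, hk⟩ := hq.isPGroup ⟨(c : ↥(Subgroup.centralizer
        ({z} : Set (SpecialLinearGroup (Fin (n + 2)) F)))),
        (mem_ker_sigma_iff hF z hz c.1).1 c.2⟩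
      refine ⟨k, ?_⟩
      apply Subtype.ext
      apply Subtype.ext
      have := congrArg Subtype.val hk
      simpa using this
    · have hsurj : Function.Surjective (sigma hF z hz) := fun A =>
        ⟨⟨genSL 0 0 0 A, genSL_mem_centralizer hz 0 0 0 A⟩, sigmaFun_genSL 0 0 0 A⟩
      have h1 := (Cfsg.Agent.Lib.helper53.pCore_normal 2 ↥(Subgroup.centralizer
        ({z} : Set (SpecialLinearGroup (Fin (n + 2)) F)))).map (sigma hF z hz) hsurj
      have h2 := (pCore_isPGroup 2 ↥(Subgroup.centralizer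
        ({z} : Set (SpecialLinearGroup (Fin (n + 2)) F)))).map (sigma hF z hz)
      have h3 := normal_two_subgroup_eq_bot' hF hn _ h1 h2
      exact (Subgroup.map_eq_bot_iff _).1 h3
  rw [← hker]
  ext g
  rw [Subgroup.mem_map]
  constructor
  · rintro ⟨c, hc, rfl⟩
    exact (mem_ker_sigma_iff hF z hz c).1 hc
  · intro hg
    exact ⟨⟨g, radSub_le_centralizer hz hg⟩, (mem_ker_sigma_iff hF z hz _).2 hg, rfl⟩

/-- The structure of the centralizer of a transvection in `SL_{n+2}(2)`, for `n ≥ 1`. -/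
theorem transvection_centralizer_structure' (hF : Fintype.card F = 2) (hn : 1 ≤ n)
    (z : SpecialLinearGroup (Fin (n + 2)) F)
    (hz : (z : Matrix (Fin (n + 2)) (Fin (n + 2)) F) = transvection 0 1 1)
    (Q : Subgroup (SpecialLinearGroup (Fin (n + 2)) F))
    (hQ : Q = (Cfsg.pCore 2 ↥(Subgroup.centralizer
      ({z} : Set (SpecialLinearGroup (Fin (n + 2)) F)))).map
      (Subgroup.centralizer ({z} : Set (SpecialLinearGroup (Fin (n + 2)) F))).subtype) :
    Cfsg.IsExtraspecial 2 ↥Q ∧ Nat.card ↥Q = 2 ^ (2 * n + 1) ∧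
    (∃ E : Subgroup (SpecialLinearGroup (Fin (n + 2)) F), E ≤ Q ∧
      Cfsg.IsElementaryAbelian 2 E ∧ Nat.card ↥E = 2 ^ (n + 1)) ∧
    Cfsg.IsLargeExtraspecial Q ∧
    ∃ K : Subgroup (SpecialLinearGroup (Fin (n + 2)) F),
      K ≤ Subgroup.centralizer ({z} : Set (SpecialLinearGroup (Fin (n + 2)) F)) ∧
      Q ⊓ K = ⊥ ∧
      Q ⊔ K = Subgroup.centralizer ({z} : Set (SpecialLinearGroup (Fin (n + 2)) F)) ∧
      Nonempty (↥K ≃* SpecialLinearGroup (Fin n) F) := by
  have hQ' : Q = radSub F n := by rw [hQ]; exact pCore_centralizer_eq' hF hn z hz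
  subst hQ'
  have hn1 : 1 ≤ n := hn
  refine ⟨isExtraspecial_radSub hF hn1 hz, card_radSub hF,
    ⟨elemSub F n, elemSub_le_radSub, isElementaryAbelian_elemSub hF, card_elemSub hF⟩,
    isLargeExtraspecial_radSub hF hn1 hz, iotaHom.range, ?_, ?_, ?_, ?_⟩
  · rintro _ ⟨A, rfl⟩
    exact genSL_mem_centralizer hz 0 0 0 A
  · rw [eq_bot_iff]
    rintro g ⟨⟨l, φ, ψ, h1⟩, ⟨A, h2⟩⟩
    rw [Subgroup.mem_bot]
    rw [iotaHom_apply, h1] at h2
    obtain ⟨a, b, c, -⟩ := genSL_inj h2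
    rw [h1, ← a, ← b, ← c, genSL_one]
  · apply le_antisymm
    · refine sup_le (radSub_le_centralizer hz) ?_
      rintro _ ⟨A, rfl⟩
      exact genSL_mem_centralizer hz 0 0 0 A
    · intro c hc
      obtain ⟨l, φ, ψ, A, rfl⟩ := exists_genSL_of_mem hF hz hc
      have hι : genSL (0 : F) (0 : Fin n → F) 0 A ∈ Subgroup.centralizer
          ({z} : Set (SpecialLinearGroup (Fin (n + 2)) F)) := genSL_mem_centralizer hz 0 0 0 A
      have hmem : genSL l φ ψ A * (genSL (0 : F) (0 : Fin n → F) 0 A)⁻¹ ∈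
          Subgroup.centralizer ({z} : Set (SpecialLinearGroup (Fin (n + 2)) F)) :=
        Subgroup.mul_mem _ hc (Subgroup.inv_mem _ hι)
      have h1 : genSL l φ ψ A * (genSL (0 : F) (0 : Fin n → F) 0 A)⁻¹ ∈ radSub F n := by
        refine (mem_ker_sigma_iff hF z hz ⟨_, hmem⟩).1 ?_
        rw [MonoidHom.mem_ker]
        have e : (⟨genSL l φ ψ A * (genSL (0 : F) (0 : Fin n → F) 0 A)⁻¹, hmem⟩ :
            ↥(Subgroup.centralizer ({z} : Set (SpecialLinearGroup (Fin (n + 2)) F)))) =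
            ⟨genSL l φ ψ A, hc⟩ * ⟨genSL (0 : F) (0 : Fin n → F) 0 A, hι⟩⁻¹ := rfl
        rw [e, map_mul, map_inv, sigma_apply, sigma_apply, sigmaFun_genSL, sigmaFun_genSL,
          mul_inv_cancel]
      have e2 : genSL l φ ψ A = (genSL l φ ψ A * (genSL (0 : F) (0 : Fin n → F) 0 A)⁻¹) *
          genSL (0 : F) (0 : Fin n → F) 0 A := by group
      rw [e2]
      exact Subgroup.mul_mem_sup h1 ⟨A, rfl⟩
  · exact ⟨(MonoidHom.ofInjective iotaHom_injective).symm⟩

end SL1

/-- Over the field with two elements the special and general linear groups agree. -/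
theorem nonempty_sl_equiv_gl (k : ℕ) :
    Nonempty (SpecialLinearGroup (Fin k) (ZMod 2) ≃* GeneralLinearGroup (Fin k) (ZMod 2)) := by
  refine ⟨MulEquiv.ofBijective (SpecialLinearGroup.toGL) ⟨SpecialLinearGroup.toGL_injective, ?_⟩⟩
  intro g
  have hne : (g : Matrix (Fin k) (Fin k) (ZMod 2)).det ≠ 0 := by
    rw [← Matrix.GeneralLinearGroup.val_det_apply]
    exact Units.ne_zero _
  have hdet : (g : Matrix (Fin k) (Fin k) (ZMod 2)).det = 1 :=
    (eq_zero_or_one_of_card_two (ZMod.card 2) _).resolve_left hne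
  refine ⟨⟨(g : Matrix (Fin k) (Fin k) (ZMod 2)), hdet⟩, ?_⟩
  apply Units.ext
  rfl

/-- The `p`-core is invariant under isomorphisms. -/
theorem pCore_map_mulEquiv {A B : Type*} [Group A] [Group B] (e : A ≃* B) (p : ℕ) :
    (Cfsg.pCore p A).map e.toMonoidHom = Cfsg.pCore p B := by
  apply le_antisymm
  · exact le_pCore ((Cfsg.Agent.Lib.helper53.pCore_normal p A).map e.toMonoidHom e.surjective)
      ((Cfsg.Agent.Lib.helper53.pCore_isPGroup p A).map _)
  · have h1 : (Cfsg.pCore p B).map e.symm.toMonoidHom ≤ Cfsg.pCore p A :=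
      le_pCore ((Cfsg.Agent.Lib.helper53.pCore_normal p B).map e.symm.toMonoidHom
        e.symm.surjective) ((Cfsg.Agent.Lib.helper53.pCore_isPGroup p B).map _)
    intro y hy
    refine ⟨e.symm y, h1 (Subgroup.mem_map_of_mem _ hy), ?_⟩
    simp

/-- The preimage of a subgroup of the range under an injective homomorphism is isomorphic to
it. -/
noncomputable def comapEquiv {G H : Type*} [Group G] [Group H] (Φ : G →* H)
    (hΦ : Function.Injective Φ) (S : Subgroup H) (hS : S ≤ Φ.range) : ↥(S.comap Φ) ≃* ↥S :=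
  (Subgroup.equivMapOfInjective (S.comap Φ) Φ hΦ).trans
    (MulEquiv.subgroupCongr (Subgroup.map_comap_eq_self hS))

/-- `QData` pulls back along an injective homomorphism whose range contains the subgroup. -/
theorem QData.comap {G H : Type*} [Group G] [Group H] (Φ : G →* H)
    (hΦ : Function.Injective Φ) {R : Subgroup H} {z : G} (h : QData R (Φ z))
    (hR : R ≤ Φ.range) : QData (R.comap Φ) z where
  mem := h.mem
  ne_one := fun hz => h.ne_one (by rw [hz, map_one])
  sq := hΦ (by rw [map_mul, map_one]; exact h.sq)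
  comm := by
    intro x hx y hy
    have h1 := h.comm (Φ x) hx (Φ y) hy
    rcases (mem_zpowers_invol h.sq _).1 h1 with h2 | h2
    · have h3 : x * y * x⁻¹ * y⁻¹ = 1 := hΦ (by simpa using h2)
      rw [h3]; exact Subgroup.one_mem _
    · have h3 : x * y * x⁻¹ * y⁻¹ = z := hΦ (by simpa using h2)
      rw [h3]; exact Subgroup.mem_zpowers z
  sqmem := by
    intro x hx
    have h1 := h.sqmem (Φ x) hx
    rcases (mem_zpowers_invol h.sq _).1 h1 with h2 | h2
    · have h3 : x * x = 1 := hΦ (by simpa using h2)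
      rw [h3]; exact Subgroup.one_mem _
    · have h3 : x * x = z := hΦ (by simpa using h2)
      rw [h3]; exact Subgroup.mem_zpowers z
  cent := by
    intro x hx
    have h1 : Φ x ∈ Subgroup.zpowers (Φ z) := by
      apply h.cent
      intro q hq
      obtain ⟨q', rfl⟩ := hR hq
      rw [← map_mul, ← map_mul, hx q' hq]
    rcases (mem_zpowers_invol h.sq _).1 h1 with h2 | h2
    · rw [hΦ (h2.trans (map_one Φ).symm)]; exact Subgroup.one_mem _
    · rw [hΦ h2]; exact Subgroup.mem_zpowers z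
  norm := by
    intro x hxz q hq
    show Φ (x * q * x⁻¹) ∈ R
    rw [map_mul, map_mul, map_inv]
    exact h.norm (Φ x) (by rw [← map_mul, ← map_mul, hxz]) (Φ q) hq
  central := by
    intro q hq
    exact hΦ (by rw [map_mul, map_mul]; exact h.central (Φ q) hq)

/-- Transfer of the structure of an involution centralizer along an injective homomorphism
whose range contains the centralizer of the image. -/
theorem transfer_structure {G H : Type*} [Group G] [Group H]
    (Φ : G →* H) (hΦ : Function.Injective Φ) (z : G)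
    (hrange : Subgroup.centralizer ({Φ z} : Set H) ≤ Φ.range)
    (QH : Subgroup H)
    (hQH : QH = (Cfsg.pCore 2 ↥(Subgroup.centralizer ({Φ z} : Set H))).map
      (Subgroup.centralizer ({Φ z} : Set H)).subtype)
    (hqd : QData QH (Φ z))
    (a b : ℕ) (L : Type*) [Group L]
    (hH : Cfsg.IsExtraspecial 2 ↥QH ∧ Nat.card ↥QH = a ∧
      (∃ E : Subgroup H, E ≤ QH ∧ Cfsg.IsElementaryAbelian 2 E ∧ Nat.card ↥E = b) ∧
      Cfsg.IsLargeExtraspecial QH ∧
      ∃ K : Subgroup H, K ≤ Subgroup.centralizer ({Φ z} : Set H) ∧ QH ⊓ K = ⊥ ∧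
        QH ⊔ K = Subgroup.centralizer ({Φ z} : Set H) ∧ Nonempty (↥K ≃* L))
    (Q : Subgroup G)
    (hQ : Q = (Cfsg.pCore 2 ↥(Subgroup.centralizer ({z} : Set G))).map
      (Subgroup.centralizer ({z} : Set G)).subtype) :
    Cfsg.IsExtraspecial 2 ↥Q ∧ Nat.card ↥Q = a ∧
      (∃ E : Subgroup G, E ≤ Q ∧ Cfsg.IsElementaryAbelian 2 E ∧ Nat.card ↥E = b) ∧
      Cfsg.IsLargeExtraspecial Q ∧
      ∃ K : Subgroup G, K ≤ Subgroup.centralizer ({z} : Set G) ∧ Q ⊓ K = ⊥ ∧
        Q ⊔ K = Subgroup.centralizer ({z} : Set G) ∧ Nonempty (↥K ≃* L) := by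
  have hC : ∀ x : G, x ∈ Subgroup.centralizer ({z} : Set G) ↔
      Φ x ∈ Subgroup.centralizer ({Φ z} : Set H) := by
    intro x
    rw [Subgroup.mem_centralizer_singleton_iff, Subgroup.mem_centralizer_singleton_iff,
      ← map_mul, ← map_mul]
    exact ⟨fun h => congrArg Φ h, fun h => hΦ h⟩
  let f : ↥(Subgroup.centralizer ({z} : Set G)) →* ↥(Subgroup.centralizer ({Φ z} : Set H)) :=
    (Φ.comp (Subgroup.subtype _)).codRestrict _ (fun c => (hC c.1).1 c.2)
  have hf_coe : ∀ c, ((f c : ↥(Subgroup.centralizer ({Φ z} : Set H))) : H) = Φ (c : G) :=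
    fun c => rfl
  have hf_inj : Function.Injective f := by
    intro c c' h
    apply Subtype.ext
    apply hΦ
    rw [← hf_coe, ← hf_coe, h]
  have hf_surj : Function.Surjective f := by
    intro d
    obtain ⟨x, hx⟩ := hrange d.2
    exact ⟨⟨x, (hC x).2 (by rw [hx]; exact d.2)⟩, Subtype.ext hx⟩
  let e : ↥(Subgroup.centralizer ({z} : Set G)) ≃* ↥(Subgroup.centralizer ({Φ z} : Set H)) :=
    MulEquiv.ofBijective f ⟨hf_inj, hf_surj⟩
  have he_coe : ∀ c, ((e c : ↥(Subgroup.centralizer ({Φ z} : Set H))) : H) = Φ (c : G) :=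
    fun c => rfl
  have hpc := pCore_map_mulEquiv e 2
  have hQeq : Q = QH.comap Φ := by
    rw [hQ, hQH]
    ext x
    rw [Subgroup.mem_comap, Subgroup.mem_map, Subgroup.mem_map]
    constructor
    · rintro ⟨c, hc, rfl⟩
      refine ⟨e c, ?_, rfl⟩
      rw [← hpc]
      exact Subgroup.mem_map_of_mem _ hc
    · rintro ⟨d, hd, hdx⟩
      rw [← hpc] at hd
      obtain ⟨c, hc, rfl⟩ := hd
      exact ⟨c, hc, hΦ hdx⟩
  have hQHrange : QH ≤ Φ.range := by
    rw [hQH]
    exact (Subgroup.map_subtype_le _).trans hrange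
  subst hQeq
  obtain ⟨hes, hcard, ⟨E, hEQ, hEel, hEcard⟩, hlarge, K, hKC, hK1, hK2, ⟨eK⟩⟩ := hH
  have hq := QData.comap Φ hΦ hqd hQHrange
  have hes' : Cfsg.IsExtraspecial 2 ↥(QH.comap Φ) :=
    isExtraspecial_of_mulEquiv (comapEquiv Φ hΦ QH hQHrange).symm hes
  refine ⟨hes', ?_, ⟨E.comap Φ, Subgroup.comap_mono hEQ, ?_, ?_⟩,
    ⟨hes', hq.centralizer_eq, hq.centralizer_center_le_normalizer, ?_⟩, K.comap Φ, ?_, ?_, ?_, ?_⟩
  · rw [← hcard]
    exact Nat.card_congr (comapEquiv Φ hΦ QH hQHrange).toEquiv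
  · constructor
    · rw [isMulCommutative_iff_of_setLike]
      intro x hx y hy
      apply hΦ
      rw [map_mul, map_mul]
      have h1 := hEel.1
      rw [isMulCommutative_iff_of_setLike] at h1
      exact h1 _ hx _ hy
    · intro x hx
      apply hΦ
      rw [map_pow, map_one]
      exact hEel.2 _ hx
  · rw [← hEcard]
    exact Nat.card_congr (comapEquiv Φ hΦ E (hEQ.trans hQHrange)).toEquiv
  · intro K' hK' hQK'
    have h1 : Odd (Nat.card ↥(K'.map Φ)) := by
      rw [Subgroup.card_map_of_injective hΦ]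
      exact hK'
    have h2 : QH ≤ Subgroup.normalizer ((K'.map Φ : Subgroup H) : Set H) := by
      intro y hy
      obtain ⟨x, rfl⟩ := hQHrange hy
      exact Subgroup.le_normalizer_map Φ (Subgroup.mem_map_of_mem Φ (hQK' hy))
    have h3 := hlarge.2.2.2 _ h1 h2
    exact (Subgroup.map_eq_bot_iff_of_injective K' hΦ).1 h3
  · intro x hx
    exact (hC x).2 (hKC hx)
  · rw [← Subgroup.comap_inf, hK1]
    ext x
    rw [Subgroup.mem_comap, Subgroup.mem_bot, Subgroup.mem_bot]
    exact ⟨fun h => hΦ (h.trans (map_one Φ).symm), fun h => by rw [h, map_one]⟩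
  · rw [Subgroup.comap_sup_eq_of_le_range Φ hQHrange (hKC.trans hrange), hK2]
    ext x
    exact (hC x).symm
  · exact ⟨(comapEquiv Φ hΦ K (hKC.trans hrange)).trans eK⟩

/-- The split extension `2^(n+1) : GL_{n+1}(2)`: structure of the centralizer of an involution
of the normal subgroup. -/
theorem affine_structure {G : Type*} [Group G] [Finite G] (n : ℕ) (hn : 1 ≤ n)
    (U M : Subgroup G) [U.Normal] (hU : Cfsg.IsElementaryAbelian 2 U)
    (hUcard : Nat.card ↥U = 2 ^ (n + 1)) (hUM : U ⊓ M = ⊥) (hUM' : U ⊔ M = ⊤)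
    (hfaith : ∀ m ∈ M, (∀ u ∈ U, m * u * m⁻¹ = u) → m = 1)
    (hfull : ∀ φ : ↥U ≃* ↥U, ∃ m ∈ M, ∀ u : ↥U, ((φ u : ↥U) : G) = m * u * m⁻¹)
    (Z : Subgroup G) (hZU : Z ≤ U) (hZ : Nat.card ↥Z = 2) (Q : Subgroup G)
    (hQ : Q = (Cfsg.pCore 2 ↥(Subgroup.centralizer (Z : Set G))).map
      (Subgroup.centralizer (Z : Set G)).subtype) :
    Cfsg.IsExtraspecial 2 ↥Q ∧ Nat.card ↥Q = 2 ^ (2 * n + 1) ∧
      (∃ E : Subgroup G, E ≤ Q ∧ Cfsg.IsElementaryAbelian 2 E ∧ Nat.card ↥E = 2 ^ (n + 1)) ∧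
      Cfsg.IsLargeExtraspecial Q ∧
      ∃ K : Subgroup G, K ≤ Subgroup.centralizer (Z : Set G) ∧ Q ⊓ K = ⊥ ∧
        Q ⊔ K = Subgroup.centralizer (Z : Set G) ∧
        Nonempty (↥K ≃* Matrix.GeneralLinearGroup (Fin n) (ZMod 2)) := by
  obtain ⟨y, hy, huniq⟩ := (Nat.card_eq_two_iff' (1 : ↥Z)).1 hZ
  have hz1 : (y : G) ≠ 1 := fun h => hy (Subtype.ext h)
  have hZeq : ∀ x ∈ Z, x = 1 ∨ x = (y : G) := by
    intro x hx
    by_cases h1 : x = 1
    · exact Or.inl h1
    · right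
      have h2 := huniq ⟨x, hx⟩ (fun h => h1 (congrArg Subtype.val h))
      exact congrArg Subtype.val h2
  have hcent : Subgroup.centralizer (Z : Set G) = Subgroup.centralizer ({(y : G)} : Set G) := by
    ext x
    rw [Subgroup.mem_centralizer_iff, Subgroup.mem_centralizer_singleton_iff]
    constructor
    · intro h
      exact (h y y.2).symm
    · intro h g hg
      rcases hZeq g hg with h1 | h1
      · rw [h1, one_mul, mul_one]
      · rw [h1]; exact h.symm
  obtain ⟨Φ, hΦ, hz₀, hrange⟩ := exists_embedding n U M hU hUcard hUM hUM' hfaith hfull (y : G)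
    (hZU y.2) hz1
  have key : ∀ C : Subgroup G, C = Subgroup.centralizer ({(y : G)} : Set G) →
      ∀ Q : Subgroup G, Q = (Cfsg.pCore 2 ↥C).map C.subtype →
      Cfsg.IsExtraspecial 2 ↥Q ∧ Nat.card ↥Q = 2 ^ (2 * n + 1) ∧
      (∃ E : Subgroup G, E ≤ Q ∧ Cfsg.IsElementaryAbelian 2 E ∧ Nat.card ↥E = 2 ^ (n + 1)) ∧
      Cfsg.IsLargeExtraspecial Q ∧
      ∃ K : Subgroup G, K ≤ C ∧ Q ⊓ K = ⊥ ∧ Q ⊔ K = C ∧
        Nonempty (↥K ≃* Matrix.GeneralLinearGroup (Fin n) (ZMod 2)) := by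
    rintro C rfl Q hQ
    have hF : Fintype.card (ZMod 2) = 2 := ZMod.card 2
    have hpc := (pCore_centralizer_eq' hF hn (Φ (y : G)) hz₀).symm
    have hH := transvection_centralizer_structure' hF hn (Φ (y : G)) hz₀ (radSub (ZMod 2) n) hpc
    obtain ⟨eSG⟩ := nonempty_sl_equiv_gl n
    have hH' : Cfsg.IsExtraspecial 2 ↥(radSub (ZMod 2) n) ∧
        Nat.card ↥(radSub (ZMod 2) n) = 2 ^ (2 * n + 1) ∧
        (∃ E : Subgroup (SpecialLinearGroup (Fin (n + 2)) (ZMod 2)), E ≤ radSub (ZMod 2) n ∧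
          Cfsg.IsElementaryAbelian 2 E ∧ Nat.card ↥E = 2 ^ (n + 1)) ∧
        Cfsg.IsLargeExtraspecial (radSub (ZMod 2) n) ∧
        ∃ K : Subgroup (SpecialLinearGroup (Fin (n + 2)) (ZMod 2)),
          K ≤ Subgroup.centralizer ({Φ (y : G)} :
            Set (SpecialLinearGroup (Fin (n + 2)) (ZMod 2))) ∧
          radSub (ZMod 2) n ⊓ K = ⊥ ∧
          radSub (ZMod 2) n ⊔ K = Subgroup.centralizer ({Φ (y : G)} :
            Set (SpecialLinearGroup (Fin (n + 2)) (ZMod 2))) ∧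
          Nonempty (↥K ≃* Matrix.GeneralLinearGroup (Fin n) (ZMod 2)) := by
      obtain ⟨h1, h2, h3, h4, K, hK1, hK2, hK3, ⟨eK⟩⟩ := hH
      exact ⟨h1, h2, h3, h4, K, hK1, hK2, hK3, ⟨eK.trans eSG⟩⟩
    exact transfer_structure Φ hΦ (y : G) hrange (radSub (ZMod 2) n) hpc (qdata_radSub hF hz₀)
      _ _ _ hH' Q hQ
  exact key _ hcent Q hQ

end Cfsg.Agent.Lib.helper92
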