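import Mathlib
import Cfsg.Prelude.Def_MonsterType
import Cfsg.Agent.Lib.helper92.Extraspecial

set_option autoImplicit false

namespace Cfsg.Agent.Lib.helper92

/-- Key lemma on a pair of extraspecial-like subgroups: if `Q` has centre `⟨z⟩`, `Q'` has centre
`⟨b⟩` with `b ∈ Q`, `b ≠ z`, every element conjugating `z` to `b` conjugates `Q` into `Q'`, and the
centralizer of `b` in `Q` is non-abelian, then `z ∈ Q'`. -/
theorem center_mem_of_qdata_pair {G : Type*} [Group G] {Q Q' : Subgroup G} {z b : G}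
    (hQ : QData Q z) (hQ' : QData Q' b) (hbQ : b ∈ Q) (hbz : b ≠ z)
    (hE : ∀ n : G, n * z * n⁻¹ = b → ∀ q ∈ Q, n * q * n⁻¹ ∈ Q')
    (hP : ∃ a ∈ Q, ∃ c ∈ Q, a * b = b * a ∧ c * b = b * c ∧ a * c ≠ c * a) : z ∈ Q' := by
  by_contra hz
  have hzz := hQ.sq
  have hbb := hQ'.sq
  have hzi : z⁻¹ = z := inv_eq_of_mul_eq_one_left hzz
  have hbi : b⁻¹ = b := inv_eq_of_mul_eq_one_left hbb
  have hzb : z * b = b * z := (hQ.central b hbQ).symm
  have hb1 : b ≠ 1 := hQ'.ne_one
  have memB := mem_zpowers_invol hbb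
  have memZ := mem_zpowers_invol hzz
  have hzbQ' : z * b ∉ Q' := by
    intro h
    apply hz
    have := Q'.mul_mem h (Q'.inv_mem hQ'.mem)
    simpa using this
  have Bcentral : ∀ β ∈ Subgroup.zpowers b, ∀ x ∈ Q', x * β = β * x := by
    intro β hβ x hx
    rcases (memB β).1 hβ with rfl | rfl
    · simp
    · exact hQ'.central x hx
  have BleQ' : ∀ β ∈ Subgroup.zpowers b, β ∈ Q' := by
    intro β hβ
    rcases (memB β).1 hβ with rfl | rfl
    · exact Q'.one_mem
    · exact hQ'.mem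
  -- an element of `Q` moving `b`
  have hc₀ : ∃ c₀ ∈ Q, c₀ * b * c₀⁻¹ = z * b := by
    by_contra hno
    push Not at hno
    have hall : ∀ q ∈ Q, q * b = b * q := by
      intro q hq
      rcases (memZ _).1 (hQ.comm q hq b hbQ) with h | h
      · have : q * b * q⁻¹ = b := mul_inv_eq_one.1 h
        calc q * b = q * b * q⁻¹ * q := by group
          _ = b * q := by rw [this]
      · exfalso
        apply hno q hq
        calc q * b * q⁻¹ = q * b * q⁻¹ * b⁻¹ * b := by group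
          _ = z * b := by rw [h]
    rcases (memZ b).1 (hQ.cent b hall) with h | h
    · exact hb1 h
    · exact hbz h
  obtain ⟨c₀, hc₀Q, hc₀b⟩ := hc₀
  have hc₀z : c₀ * z = z * c₀ := hQ.central c₀ hc₀Q
  have hc₀b' : c₀⁻¹ * (z * b) * c₀ = b := by rw [← hc₀b]; group
  have Qsplit : ∀ q ∈ Q, q * b = b * q ∨ (c₀⁻¹ * q) * b = b * (c₀⁻¹ * q) := by
    intro q hq
    rcases (memZ _).1 (hQ.comm q hq b hbQ) with h | h
    · left
      have : q * b * q⁻¹ = b := mul_inv_eq_one.1 h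
      calc q * b = q * b * q⁻¹ * q := by group
        _ = b * q := by rw [this]
    · right
      have h1 : q * b * q⁻¹ = z * b := by
        calc q * b * q⁻¹ = q * b * q⁻¹ * b⁻¹ * b := by group
          _ = z * b := by rw [h]
      calc (c₀⁻¹ * q) * b = c₀⁻¹ * (q * b * q⁻¹) * c₀ * (c₀⁻¹ * q) := by group
        _ = c₀⁻¹ * (z * b) * c₀ * (c₀⁻¹ * q) := by rw [h1]
        _ = b * (c₀⁻¹ * q) := by rw [hc₀b']
  have centQ : ∀ e : G, (∀ p ∈ Q, p * b = b * p → p * e = e * p) → c₀ * e = e * c₀ →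
      ∀ q ∈ Q, q * e = e * q := by
    intro e heP hec q hq
    rcases Qsplit q hq with h | h
    · exact heP q hq h
    · have h1 := heP _ (Q.mul_mem (Q.inv_mem hc₀Q) hq) h
      calc q * e = c₀ * ((c₀⁻¹ * q) * e) := by group
        _ = c₀ * (e * (c₀⁻¹ * q)) := by rw [h1]
        _ = (c₀ * e) * (c₀⁻¹ * q) := by group
        _ = (e * c₀) * (c₀⁻¹ * q) := by rw [hec]
        _ = e * q := by group
  -- (a) `Q ∩ Q' ≤ ⟨b⟩`
  have hEB : ∀ e ∈ Q, e ∈ Q' → e ∈ Subgroup.zpowers b := by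
    intro e heQ heQ'
    have heb : e * b = b * e := hQ'.central e heQ'
    have hez : e * z = z * e := hQ.central e heQ
    have heP : ∀ p ∈ Q, p * b = b * p → p * e = e * p := by
      intro p hp hpb
      have h1 := hQ.comm e heQ p hp
      have h2 : e * p * e⁻¹ * p⁻¹ ∈ Q' := by
        have := hQ'.norm p hpb e⁻¹ (Q'.inv_mem heQ')
        have := Q'.mul_mem heQ' this
        simpa [mul_assoc] using this
      rcases (memZ _).1 h1 with h | h
      · have : e * p * e⁻¹ = p := mul_inv_eq_one.1 h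
        calc p * e = e * p * e⁻¹ * e := by rw [this]
          _ = e * p := by group
      · exfalso; rw [h] at h2; exact hz h2
    by_cases hec : c₀ * e = e * c₀
    · rcases (memZ e).1 (hQ.cent e (centQ e heP hec)) with h | h
      · rw [h]; exact Subgroup.one_mem _
      · exfalso; rw [h] at heQ'; exact hz heQ'
    · have h1 := hQ.comm e heQ c₀ hc₀Q
      have h2 : e * c₀ * e⁻¹ * c₀⁻¹ = z := by
        rcases (memZ _).1 h1 with h | h
        · exfalso
          apply hec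
          have : e * c₀ * e⁻¹ = c₀ := mul_inv_eq_one.1 h
          calc c₀ * e = e * c₀ * e⁻¹ * e := by rw [this]
            _ = e * c₀ := by group
        · exact h
      have h3 : c₀ * e = z * (e * c₀) := by
        have : e * c₀ = z * (c₀ * e) := by
          calc e * c₀ = e * c₀ * e⁻¹ * c₀⁻¹ * (c₀ * e) := by group
            _ = z * (c₀ * e) := by rw [h2]
        rw [this, ← mul_assoc, hzz, one_mul]
      have h4 : c₀ * b = z * b * c₀ := by
        calc c₀ * b = c₀ * b * c₀⁻¹ * c₀ := by group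
          _ = z * b * c₀ := by rw [hc₀b]
      have h5 : c₀ * (e * b) = (e * b) * c₀ := by
        calc c₀ * (e * b) = (c₀ * e) * b := by group
          _ = z * (e * c₀) * b := by rw [h3]
          _ = z * e * (c₀ * b) := by group
          _ = z * e * (z * b * c₀) := by rw [h4]
          _ = z * (e * z) * b * c₀ := by group
          _ = z * (z * e) * b * c₀ := by rw [hez]
          _ = (z * z) * e * b * c₀ := by group
          _ = (e * b) * c₀ := by rw [hzz]; group
      have h6 : ∀ p ∈ Q, p * b = b * p → p * (e * b) = (e * b) * p := by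
        intro p hp hpb
        calc p * (e * b) = (p * e) * b := by group
          _ = (e * p) * b := by rw [heP p hp hpb]
          _ = e * (p * b) := by group
          _ = e * (b * p) := by rw [hpb]
          _ = (e * b) * p := by group
      rcases (memZ _).1 (hQ.cent _ (centQ _ h6 h5)) with h | h
      · have : e = b := by
          have : e = b⁻¹ := eq_inv_of_mul_eq_one_left h
          rw [this, hbi]
        rw [this]; exact Subgroup.mem_zpowers b
      · exfalso
        apply hzbQ'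
        have : e = z * b := by
          calc e = (e * b) * b⁻¹ := by group
            _ = z * b := by rw [h, hbi]
        rw [← this]; exact heQ'
  -- (b) commutators of `C_Q(b)` with `C_{Q'}(z)` lie in `⟨b⟩`
  have hPP' : ∀ p ∈ Q, p * b = b * p → ∀ y ∈ Q', y * z = z * y →
      p * y * p⁻¹ * y⁻¹ ∈ Subgroup.zpowers b := by
    intro p hp hpb y hy hyz
    apply hEB
    · have := hQ.norm y hyz p⁻¹ (Q.inv_mem hp)
      have := Q.mul_mem hp this
      simpa [mul_assoc] using this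
    · exact Q'.mul_mem (hQ'.norm p hpb y hy) (Q'.inv_mem hy)
  -- (c) no element of `Q'` conjugates `z` to `b z`
  have hnc : ∀ x ∈ Q', x * z * x⁻¹ ≠ b * z := by
    intro x hx hxz
    apply hzbQ'
    have h1 : (c₀ * x) * z * (c₀ * x)⁻¹ = b := by
      calc (c₀ * x) * z * (c₀ * x)⁻¹ = c₀ * (x * z * x⁻¹) * c₀⁻¹ := by group
        _ = c₀ * (b * z) * c₀⁻¹ := by rw [hxz]
        _ = (c₀ * b * c₀⁻¹) * (c₀ * z) * c₀⁻¹ := by group
        _ = (z * b) * (z * c₀) * c₀⁻¹ := by rw [hc₀b, hc₀z]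
        _ = z * (b * z) := by group
        _ = z * (z * b) := by rw [hzb]
        _ = b := by rw [← mul_assoc, hzz, one_mul]
    have h2 := hE _ h1 b hbQ
    have h3 : (c₀ * x) * b * (c₀ * x)⁻¹ = z * b := by
      calc (c₀ * x) * b * (c₀ * x)⁻¹ = c₀ * (x * b) * x⁻¹ * c₀⁻¹ := by group
        _ = c₀ * (b * x) * x⁻¹ * c₀⁻¹ := by rw [hQ'.central x hx]
        _ = c₀ * b * c₀⁻¹ := by group
        _ = z * b := hc₀b
    rw [h3] at h2
    exact h2
  -- (d) an element of `Q'` moved by `z` at most by `⟨b⟩` is fixed by `z`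
  have hd : ∀ x ∈ Q', z * x * z⁻¹ * x⁻¹ ∈ Subgroup.zpowers b → z * x = x * z := by
    intro x hx h
    rcases (memB _).1 h with h1 | h1
    · have : z * x * z⁻¹ = x := mul_inv_eq_one.1 h1
      calc z * x = z * x * z⁻¹ * z := by group
        _ = x * z := by rw [this]
    · exfalso
      apply hnc x⁻¹ (Q'.inv_mem hx)
      have hxb : x⁻¹ * b * x = b := by
        calc x⁻¹ * b * x = x⁻¹ * (b * x) := by group
          _ = x⁻¹ * (x * b) := by rw [hQ'.central x hx]
          _ = b := by group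
      calc x⁻¹ * z * x⁻¹⁻¹ = x⁻¹ * (z * x * z⁻¹ * x⁻¹) * x * z := by group
        _ = x⁻¹ * b * x * z := by rw [h1]
        _ = b * z := by rw [hxb]
  -- (F1) commutators `[p, x]` with `p ∈ C_Q(b)`, `x ∈ Q'` commute with `z`
  have hF1 : ∀ p ∈ Q, p * b = b * p → ∀ x ∈ Q',
      (p * x * p⁻¹ * x⁻¹) * z = z * (p * x * p⁻¹ * x⁻¹) := by
    intro p hp hpb x hx
    have hpz : p * z = z * p := hQ.central p hp
    have hyQ' : p * x * p⁻¹ * x⁻¹ ∈ Q' := Q'.mul_mem (hQ'.norm p hpb x hx) (Q'.inv_mem hx)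
    obtain ⟨t, ht⟩ : ∃ t : G, t = x⁻¹ * (z * x * z⁻¹) := ⟨_, rfl⟩
    have htQ' : t ∈ Q' := by
      rw [ht]; exact Q'.mul_mem (Q'.inv_mem hx) (hQ'.norm z hzb x hx)
    have ht1 : z * t * z⁻¹ * t⁻¹ = (t * t)⁻¹ := by
      have e1 : z * t * z⁻¹ = t⁻¹ := by
        rw [ht, hzi]
        have e2 : (x⁻¹ * (z * x * z))⁻¹ = z⁻¹ * x⁻¹ * z⁻¹ * x := by group
        rw [e2, hzi]
        calc z * (x⁻¹ * (z * x * z)) * z = z * x⁻¹ * z * x * (z * z) := by group
          _ = z * x⁻¹ * z * x := by rw [hzz, mul_one]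
      rw [e1]; group
    have htz : z * t = t * z := by
      apply hd t htQ'
      rw [ht1]
      exact Subgroup.inv_mem _ (hQ'.sqmem t htQ')
    have hβ := hPP' p hp hpb t htQ' htz.symm
    have hzx : z * x * z⁻¹ = x * t := by rw [ht]; group
    have hzy : z * (p * x * p⁻¹ * x⁻¹) * z⁻¹ = p * (x * t) * p⁻¹ * (x * t)⁻¹ := by
      calc z * (p * x * p⁻¹ * x⁻¹) * z⁻¹ = (z * p) * x * p⁻¹ * x⁻¹ * z⁻¹ := by group
        _ = (p * z) * x * p⁻¹ * x⁻¹ * z⁻¹ := by rw [hpz]
        _ = p * (z * x * z⁻¹) * (z * p⁻¹) * x⁻¹ * z⁻¹ := by group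
        _ = p * (z * x * z⁻¹) * (p⁻¹ * z) * x⁻¹ * z⁻¹ := by
            have : z * p⁻¹ = p⁻¹ * z := by
              calc z * p⁻¹ = p⁻¹ * (p * z) * p⁻¹ := by group
                _ = p⁻¹ * (z * p) * p⁻¹ := by rw [hpz]
                _ = p⁻¹ * z := by group
            rw [this]
        _ = p * (z * x * z⁻¹) * p⁻¹ * (z * x * z⁻¹)⁻¹ := by group
        _ = p * (x * t) * p⁻¹ * (x * t)⁻¹ := by rw [hzx]
    have hpx : p * x * p⁻¹ ∈ Q' := hQ'.norm p hpb x hx
    have hcomm := Bcentral _ hβ _ hpx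
    have hzy2 : z * (p * x * p⁻¹ * x⁻¹) * z⁻¹ * (p * x * p⁻¹ * x⁻¹)⁻¹ = p * t * p⁻¹ * t⁻¹ := by
      rw [hzy]
      calc p * (x * t) * p⁻¹ * (x * t)⁻¹ * (p * x * p⁻¹ * x⁻¹)⁻¹
          = (p * x * p⁻¹) * (p * t * p⁻¹ * t⁻¹) * (p * x * p⁻¹)⁻¹ := by group
        _ = (p * t * p⁻¹ * t⁻¹) * (p * x * p⁻¹) * (p * x * p⁻¹)⁻¹ := by rw [hcomm]
        _ = p * t * p⁻¹ * t⁻¹ := by group
    have := hd _ hyQ' (by rw [hzy2]; exact hβ)
    exact this.symm
  -- (G') the actions of two elements of `C_Q(b)` on `Q' / ⟨b⟩` commute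
  have hG' : ∀ p ∈ Q, p * b = b * p → ∀ p' ∈ Q, p' * b = b * p' → ∀ x ∈ Q',
      (p * p') * x * (p * p')⁻¹ * ((p' * p) * x * (p' * p)⁻¹)⁻¹ ∈ Subgroup.zpowers b := by
    intro p hp hpb p' hp' hp'b x hx
    have huQ' : p' * x * p'⁻¹ * x⁻¹ ∈ Q' := Q'.mul_mem (hQ'.norm p' hp'b x hx) (Q'.inv_mem hx)
    have hvQ' : p * x * p⁻¹ * x⁻¹ ∈ Q' := Q'.mul_mem (hQ'.norm p hpb x hx) (Q'.inv_mem hx)
    have huz := hF1 p' hp' hp'b x hx
    have hvz := hF1 p hp hpb x hx
    have hβ₁ := hPP' p hp hpb _ huQ' huz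
    have hβ₂ := hPP' p' hp' hp'b _ hvQ' hvz
    have hγ := hQ'.comm _ huQ' _ hvQ'
    have e : (p * p') * x * (p * p')⁻¹ * ((p' * p) * x * (p' * p)⁻¹)⁻¹ =
        (p * (p' * x * p'⁻¹ * x⁻¹) * p⁻¹ * (p' * x * p'⁻¹ * x⁻¹)⁻¹) *
        ((p' * x * p'⁻¹ * x⁻¹) * (p * x * p⁻¹ * x⁻¹) * (p' * x * p'⁻¹ * x⁻¹)⁻¹ * (p * x * p⁻¹ * x⁻¹)⁻¹) *
        (p' * (p * x * p⁻¹ * x⁻¹) * p'⁻¹ * (p * x * p⁻¹ * x⁻¹)⁻¹)⁻¹ := by group
    rw [e]
    exact Subgroup.mul_mem _ (Subgroup.mul_mem _ hβ₁ hγ) (Subgroup.inv_mem _ hβ₂)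
  -- (G), (H): `z` centralizes `Q'`
  obtain ⟨a, haQ, c, hcQ, hab, hcb, hac⟩ := hP
  have hacz : a * c * a⁻¹ * c⁻¹ = z := by
    rcases (memZ _).1 (hQ.comm a haQ c hcQ) with h | h
    · exfalso
      apply hac
      have : a * c * a⁻¹ = c := mul_inv_eq_one.1 h
      calc a * c = a * c * a⁻¹ * a := by group
        _ = c * a := by rw [this]
    · exact h
  have hcab : (c * a)⁻¹ * b = b * (c * a)⁻¹ := by
    have h1 : (c * a) * b = b * (c * a) := by
      calc (c * a) * b = c * (a * b) := by group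
        _ = c * (b * a) := by rw [hab]
        _ = (c * b) * a := by group
        _ = (b * c) * a := by rw [hcb]
        _ = b * (c * a) := by group
    calc (c * a)⁻¹ * b = (c * a)⁻¹ * (b * (c * a)) * (c * a)⁻¹ := by group
      _ = (c * a)⁻¹ * ((c * a) * b) * (c * a)⁻¹ := by rw [h1]
      _ = b * (c * a)⁻¹ := by group
  have hzall : ∀ x ∈ Q', x * z = z * x := by
    intro x hx
    have hx' : (c * a)⁻¹ * x * ((c * a)⁻¹)⁻¹ ∈ Q' := hQ'.norm _ hcab x hx
    have h1 := hG' a haQ hab c hcQ hcb _ hx'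
    have e : (a * c) * ((c * a)⁻¹ * x * ((c * a)⁻¹)⁻¹) * (a * c)⁻¹ *
        ((c * a) * ((c * a)⁻¹ * x * ((c * a)⁻¹)⁻¹) * (c * a)⁻¹)⁻¹ =
        (a * c * a⁻¹ * c⁻¹) * x * (a * c * a⁻¹ * c⁻¹)⁻¹ * x⁻¹ := by group
    rw [e, hacz] at h1
    exact (hd x hx h1).symm
  rcases (memB z).1 (hQ'.cent z hzall) with h | h
  · exact hQ.ne_one h
  · exact hbz h.symm

/-- An element of `Q` outside the centre is moved by some element of `Q`, and then `Q` is the
union of the centralizer of `b` and one further coset. -/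
theorem qdata_split {G : Type*} [Group G] {Q : Subgroup G} {z b : G}
    (hQ : QData Q z) (hbQ : b ∈ Q) (hb1 : b ≠ 1) (hbz : b ≠ z) :
    ∃ c₀ ∈ Q, c₀ * b * c₀⁻¹ = z * b ∧
      (∀ q ∈ Q, q * b = b * q ∨ (c₀⁻¹ * q) * b = b * (c₀⁻¹ * q)) ∧
      (∀ e : G, (∀ p ∈ Q, p * b = b * p → p * e = e * p) → c₀ * e = e * c₀ →
        ∀ q ∈ Q, q * e = e * q) := by
  have hzz := hQ.sq
  have memZ := mem_zpowers_invol hzz
  have hc₀ : ∃ c₀ ∈ Q, c₀ * b * c₀⁻¹ = z * b := by
    by_contra hno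
    push Not at hno
    have hall : ∀ q ∈ Q, q * b = b * q := by
      intro q hq
      rcases (memZ _).1 (hQ.comm q hq b hbQ) with h | h
      · have : q * b * q⁻¹ = b := mul_inv_eq_one.1 h
        calc q * b = q * b * q⁻¹ * q := by group
          _ = b * q := by rw [this]
      · exfalso
        apply hno q hq
        calc q * b * q⁻¹ = q * b * q⁻¹ * b⁻¹ * b := by group
          _ = z * b := by rw [h]
    rcases (memZ b).1 (hQ.cent b hall) with h | h
    · exact hb1 h
    · exact hbz h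
  obtain ⟨c₀, hc₀Q, hc₀b⟩ := hc₀
  have hc₀b' : c₀⁻¹ * (z * b) * c₀ = b := by rw [← hc₀b]; group
  have Qsplit : ∀ q ∈ Q, q * b = b * q ∨ (c₀⁻¹ * q) * b = b * (c₀⁻¹ * q) := by
    intro q hq
    rcases (memZ _).1 (hQ.comm q hq b hbQ) with h | h
    · left
      have : q * b * q⁻¹ = b := mul_inv_eq_one.1 h
      calc q * b = q * b * q⁻¹ * q := by group
        _ = b * q := by rw [this]
    · right
      have h1 : q * b * q⁻¹ = z * b := by
        calc q * b * q⁻¹ = q * b * q⁻¹ * b⁻¹ * b := by group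
          _ = z * b := by rw [h]
      calc (c₀⁻¹ * q) * b = c₀⁻¹ * (q * b * q⁻¹) * c₀ * (c₀⁻¹ * q) := by group
        _ = c₀⁻¹ * (z * b) * c₀ * (c₀⁻¹ * q) := by rw [h1]
        _ = b * (c₀⁻¹ * q) := by rw [hc₀b']
  refine ⟨c₀, hc₀Q, hc₀b, Qsplit, ?_⟩
  intro e heP hec q hq
  rcases Qsplit q hq with h | h
  · exact heP q hq h
  · have h1 := heP _ (Q.mul_mem (Q.inv_mem hc₀Q) hq) h
    calc q * e = c₀ * ((c₀⁻¹ * q) * e) := by group
      _ = c₀ * (e * (c₀⁻¹ * q)) := by rw [h1]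
      _ = (c₀ * e) * (c₀⁻¹ * q) := by group
      _ = (e * c₀) * (c₀⁻¹ * q) := by rw [hec]
      _ = e * q := by group

/-- The centralizer in `Q` of the centralizer of a non-central involution `b` is `{1, z, b, z b}`. -/
theorem qdata_cent_cent {G : Type*} [Group G] {Q : Subgroup G} {z b : G}
    (hQ : QData Q z) (hbQ : b ∈ Q) (hb1 : b ≠ 1) (hbz : b ≠ z) (hbb : b * b = 1) :
    ∀ e ∈ Q, (∀ p ∈ Q, p * b = b * p → p * e = e * p) → e = 1 ∨ e = z ∨ e = b ∨ e = z * b := by
  obtain ⟨c₀, hc₀Q, hc₀b, -, centQ⟩ := qdata_split hQ hbQ hb1 hbz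
  have hzz := hQ.sq
  have memZ := mem_zpowers_invol hzz
  have hbi : b⁻¹ = b := inv_eq_of_mul_eq_one_left hbb
  intro e heQ heP
  have hez : e * z = z * e := hQ.central e heQ
  by_cases hec : c₀ * e = e * c₀
  · rcases (memZ e).1 (hQ.cent e (centQ e heP hec)) with h | h
    · exact Or.inl h
    · exact Or.inr (Or.inl h)
  · have h1 := hQ.comm e heQ c₀ hc₀Q
    have h2 : e * c₀ * e⁻¹ * c₀⁻¹ = z := by
      rcases (memZ _).1 h1 with h | h
      · exfalso
        apply hec
        have : e * c₀ * e⁻¹ = c₀ := mul_inv_eq_one.1 h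
        calc c₀ * e = e * c₀ * e⁻¹ * e := by rw [this]
          _ = e * c₀ := by group
      · exact h
    have h3 : c₀ * e = z * (e * c₀) := by
      have : e * c₀ = z * (c₀ * e) := by
        calc e * c₀ = e * c₀ * e⁻¹ * c₀⁻¹ * (c₀ * e) := by group
          _ = z * (c₀ * e) := by rw [h2]
      rw [this, ← mul_assoc, hzz, one_mul]
    have h4 : c₀ * b = z * b * c₀ := by
      calc c₀ * b = c₀ * b * c₀⁻¹ * c₀ := by group
        _ = z * b * c₀ := by rw [hc₀b]
    have h5 : c₀ * (e * b) = (e * b) * c₀ := by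
      calc c₀ * (e * b) = (c₀ * e) * b := by group
        _ = z * (e * c₀) * b := by rw [h3]
        _ = z * e * (c₀ * b) := by group
        _ = z * e * (z * b * c₀) := by rw [h4]
        _ = z * (e * z) * b * c₀ := by group
        _ = z * (z * e) * b * c₀ := by rw [hez]
        _ = (z * z) * e * b * c₀ := by group
        _ = (e * b) * c₀ := by rw [hzz]; group
    have h6 : ∀ p ∈ Q, p * b = b * p → p * (e * b) = (e * b) * p := by
      intro p hp hpb
      calc p * (e * b) = (p * e) * b := by group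
        _ = (e * p) * b := by rw [heP p hp hpb]
        _ = e * (p * b) := by group
        _ = e * (b * p) := by rw [hpb]
        _ = (e * b) * p := by group
    rcases (memZ _).1 (hQ.cent _ (centQ _ h6 h5)) with h | h
    · right; right; left
      have : e = b⁻¹ := eq_inv_of_mul_eq_one_left h
      rw [this, hbi]
    · right; right; right
      calc e = (e * b) * b⁻¹ := by group
        _ = z * b := by rw [h, hbi]

/-- If `Q` has more than `8` elements, the centralizer in `Q` of a non-central involution `b`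
is non-abelian. -/
theorem exists_noncomm_pair {G : Type*} [Group G] {Q : Subgroup G} {z b : G}
    (hQ : QData Q z) (hbQ : b ∈ Q) (hb1 : b ≠ 1) (hbz : b ≠ z) (hbb : b * b = 1)
    (hcard : 8 < Nat.card Q) :
    ∃ a ∈ Q, ∃ c ∈ Q, a * b = b * a ∧ c * b = b * c ∧ a * c ≠ c * a := by
  classical
  by_contra hno
  push Not at hno
  obtain ⟨c₀, hc₀Q, hc₀b, Qsplit, -⟩ := qdata_split hQ hbQ hb1 hbz
  have hPV : ∀ p ∈ Q, p * b = b * p → p = 1 ∨ p = z ∨ p = b ∨ p = z * b := by
    intro p hp hpb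
    apply qdata_cent_cent hQ hbQ hb1 hbz hbb p hp
    intro p' hp' hp'b
    exact hno p' hp' p hp hp'b hpb
  have hsub : (Q : Set G) ⊆ ((({1, z, b, z * b, c₀, c₀ * z, c₀ * b, c₀ * (z * b)} : Finset G)) : Set G) := by
    intro q hq
    have hq' : q ∈ Q := hq
    simp only [Finset.coe_insert, Finset.coe_singleton, Set.mem_insert_iff, Set.mem_singleton_iff]
    rcases Qsplit q hq' with h | h
    · rcases hPV q hq' h with h1 | h1 | h1 | h1
      · exact Or.inl h1
      · exact Or.inr (Or.inl h1)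
      · exact Or.inr (Or.inr (Or.inl h1))
      · exact Or.inr (Or.inr (Or.inr (Or.inl h1)))
    · have hq2 : q = c₀ * (c₀⁻¹ * q) := by group
      rcases hPV _ (Q.mul_mem (Q.inv_mem hc₀Q) hq') h with h1 | h1 | h1 | h1
      · right; right; right; right; left
        rw [hq2, h1, mul_one]
      · right; right; right; right; right; left
        rw [hq2, h1]
      · right; right; right; right; right; right; left
        rw [hq2, h1]
      · right; right; right; right; right; right; right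
        rw [hq2, h1]
  have h1 : Nat.card Q = (Q : Set G).ncard := Nat.card_coe_set_eq (Q : Set G)
  have h2 := Set.ncard_le_ncard hsub (Finset.finite_toSet _)
  rw [Set.ncard_coe_finset] at h2
  have h3 : ({1, z, b, z * b, c₀, c₀ * z, c₀ * b, c₀ * (z * b)} : Finset G).card ≤ 8 := by
    refine (Finset.card_insert_le _ _).trans ?_
    refine Nat.succ_le_succ ((Finset.card_insert_le _ _).trans ?_)
    refine Nat.succ_le_succ ((Finset.card_insert_le _ _).trans ?_)
    refine Nat.succ_le_succ ((Finset.card_insert_le _ _).trans ?_)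
    refine Nat.succ_le_succ ((Finset.card_insert_le _ _).trans ?_)
    refine Nat.succ_le_succ ((Finset.card_insert_le _ _).trans ?_)
    refine Nat.succ_le_succ ((Finset.card_insert_le _ _).trans ?_)
    simp
  omega

end Cfsg.Agent.Lib.helper92
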