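import Mathlib
import Cfsg.Agent.Lib.helper92.ExtraPair
import Cfsg.Agent.Lib.helper92.Cosets

/-!
# A pair of extraspecial `2`-subgroups `Q`, `Q'` with centres `⟨z⟩`, `⟨b⟩`, `b ∈ Q`, `z ∈ Q'`

Setting of Aschbacher, *Sporadic groups*, Lemma 8.7: `Q' = Q^g` with `z^g ∈ Q`, `z^g ≠ z`.
`PairData Q Q' z b` bundles the (symmetric) hypotheses; the lemmas describe
`E = Q ⊓ Q'`, `R = C_{Q'}(z) ⊔ C_Q(b)`, `V = ⟨z, b⟩` and `X = Q ⊔ Q'`.
-/

set_option autoImplicit false

namespace Cfsg.Agent.Lib.helper92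

/-- The four-group `{1, z, b, z b}` of two commuting involutions. -/
def fourSub {G : Type*} [Group G] (z b : G) (hzz : z * z = 1) (hbb : b * b = 1)
    (hzb : z * b = b * z) : Subgroup G where
  carrier := {x | x = 1 ∨ x = z ∨ x = b ∨ x = z * b}
  mul_mem' := by
    have hbzz : b * z = z * b := hzb.symm
    rintro x y (rfl | rfl | rfl | rfl) (rfl | rfl | rfl | rfl)
    · simp
    · simp
    · simp
    · simp
    · simp
    · left; exact hzz
    · simp
    · right; right; left; rw [← mul_assoc, hzz, one_mul]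
    · simp
    · right; right; right; exact hbzz
    · left; exact hbb
    · right; left; rw [← mul_assoc, hbzz, mul_assoc, hbb, mul_one]
    · simp
    · right; right; left; rw [hzb, mul_assoc, hzz, mul_one]
    · right; left; rw [mul_assoc, hbb, mul_one]
    · left; rw [mul_assoc, ← mul_assoc b z b, hbzz, mul_assoc, hbb, mul_one, hzz]
  one_mem' := Or.inl rfl
  inv_mem' := by
    have hzi : z⁻¹ = z := inv_eq_of_mul_eq_one_left hzz
    have hbi : b⁻¹ = b := inv_eq_of_mul_eq_one_left hbb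
    rintro x (rfl | rfl | rfl | rfl)
    · simp
    · right; left; exact hzi
    · right; right; left; exact hbi
    · right; right; right; rw [mul_inv_rev, hzi, hbi, hzb]

/-- Membership in the subgroup generated by two commuting involutions. -/
theorem mem_closure_pair_iff {G : Type*} [Group G] {z b : G} (hzz : z * z = 1) (hbb : b * b = 1)
    (hzb : z * b = b * z) (x : G) :
    x ∈ Subgroup.closure ({z, b} : Set G) ↔ x = 1 ∨ x = z ∨ x = b ∨ x = z * b := by
  constructor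
  · intro hx
    have hle : Subgroup.closure ({z, b} : Set G) ≤ fourSub z b hzz hbb hzb := by
      rw [Subgroup.closure_le]
      intro y hy
      rcases hy with rfl | hy
      · exact Or.inr (Or.inl rfl)
      · rw [Set.mem_singleton_iff] at hy
        subst hy
        exact Or.inr (Or.inr (Or.inl rfl))
    exact hle hx
  · rintro (rfl | rfl | rfl | rfl)
    · exact Subgroup.one_mem _
    · exact Subgroup.subset_closure (Set.mem_insert _ _)
    · exact Subgroup.subset_closure (Set.mem_insert_of_mem _ rfl)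
    · exact Subgroup.mul_mem _ (Subgroup.subset_closure (Set.mem_insert _ _))
        (Subgroup.subset_closure (Set.mem_insert_of_mem _ rfl))

/-- The elements normalizing `E` whose commutators with all elements of `T` lie in `E`. -/
def commModSub {G : Type*} [Group G] (E : Subgroup G) (T : Set G) : Subgroup G where
  carrier := {y | (∀ e ∈ E, y * e * y⁻¹ ∈ E) ∧ (∀ e ∈ E, y⁻¹ * e * y ∈ E) ∧
    ∀ t ∈ T, y * t * y⁻¹ * t⁻¹ ∈ E}
  one_mem' := by
    refine ⟨fun e he => by simpa using he, fun e he => by simpa using he, fun t _ => ?_⟩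
    have : (1 : G) * t * 1⁻¹ * t⁻¹ = 1 := by group
    rw [this]; exact E.one_mem
  mul_mem' := by
    rintro x y ⟨hx1, hx2, hx3⟩ ⟨hy1, hy2, hy3⟩
    refine ⟨fun e he => ?_, fun e he => ?_, fun t ht => ?_⟩
    · have := hx1 _ (hy1 e he)
      have e1 : x * y * e * (x * y)⁻¹ = x * (y * e * y⁻¹) * x⁻¹ := by group
      rw [e1]; exact this
    · have := hy2 _ (hx2 e he)
      have e1 : (x * y)⁻¹ * e * (x * y) = y⁻¹ * (x⁻¹ * e * x) * y := by group
      rw [e1]; exact this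
    · have h1 := hx1 _ (hy3 t ht)
      have h2 := E.mul_mem h1 (hx3 t ht)
      have e1 : x * y * t * (x * y)⁻¹ * t⁻¹
          = x * (y * t * y⁻¹ * t⁻¹) * x⁻¹ * (x * t * x⁻¹ * t⁻¹) := by group
      rw [e1]; exact h2
  inv_mem' := by
    rintro x ⟨hx1, hx2, hx3⟩
    refine ⟨fun e he => ?_, fun e he => ?_, fun t ht => ?_⟩
    · have := hx2 e he
      simpa using this
    · have := hx1 e he
      simpa using this
    · have h1 := hx2 _ (E.inv_mem (hx3 t ht))
      have e1 : x⁻¹ * t * x⁻¹⁻¹ * t⁻¹ = x⁻¹ * (x * t * x⁻¹ * t⁻¹)⁻¹ * x := by group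
      rw [e1]; exact h1

theorem mem_commModSub_iff {G : Type*} [Group G] (E : Subgroup G) (T : Set G) (y : G) :
    y ∈ commModSub E T ↔ (∀ e ∈ E, y * e * y⁻¹ ∈ E) ∧ (∀ e ∈ E, y⁻¹ * e * y ∈ E) ∧
      ∀ t ∈ T, y * t * y⁻¹ * t⁻¹ ∈ E := Iff.rfl

/-- If `A` and `B` normalize `E` and commute with themselves and each other modulo `E`, then
`A ⊔ B` is commutative modulo `E`. -/
theorem comm_mem_of_sup {G : Type*} [Group G] (E A B : Subgroup G)
    (hA : ∀ a ∈ A, ∀ e ∈ E, a * e * a⁻¹ ∈ E) (hB : ∀ b ∈ B, ∀ e ∈ E, b * e * b⁻¹ ∈ E)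
    (hAA : ∀ x ∈ A, ∀ y ∈ A, x * y * x⁻¹ * y⁻¹ ∈ E)
    (hBB : ∀ x ∈ B, ∀ y ∈ B, x * y * x⁻¹ * y⁻¹ ∈ E)
    (hAB : ∀ x ∈ A, ∀ y ∈ B, x * y * x⁻¹ * y⁻¹ ∈ E) :
    ∀ x ∈ A ⊔ B, ∀ y ∈ A ⊔ B, x * y * x⁻¹ * y⁻¹ ∈ E := by
  have hA' : ∀ a ∈ A, ∀ e ∈ E, a⁻¹ * e * a ∈ E := by
    intro a ha e he
    have := hA a⁻¹ (A.inv_mem ha) e he
    rwa [inv_inv] at this
  have hB' : ∀ b ∈ B, ∀ e ∈ E, b⁻¹ * e * b ∈ E := by
    intro b hb e he
    have := hB b⁻¹ (B.inv_mem hb) e he
    rwa [inv_inv] at this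
  have hBA : ∀ x ∈ B, ∀ y ∈ A, x * y * x⁻¹ * y⁻¹ ∈ E := by
    intro x hx y hy
    have := E.inv_mem (hAB y hy x hx)
    have e1 : (y * x * y⁻¹ * x⁻¹)⁻¹ = x * y * x⁻¹ * y⁻¹ := by group
    rwa [e1] at this
  have h1 : A ⊔ B ≤ commModSub E ((A : Set G) ∪ (B : Set G)) := by
    apply sup_le
    · intro a ha
      refine ⟨hA a ha, hA' a ha, ?_⟩
      rintro t (ht | ht)
      · exact hAA a ha t ht
      · exact hAB a ha t ht
    · intro b hb
      refine ⟨hB b hb, hB' b hb, ?_⟩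
      rintro t (ht | ht)
      · exact hBA b hb t ht
      · exact hBB b hb t ht
  have h2 : A ⊔ B ≤ commModSub E ((A ⊔ B : Subgroup G) : Set G) := by
    apply sup_le
    · intro a ha
      refine ⟨hA a ha, hA' a ha, ?_⟩
      intro t ht
      have h3 := (h1 ht).2.2 a (Or.inl ha)
      have := E.inv_mem h3
      have e1 : (t * a * t⁻¹ * a⁻¹)⁻¹ = a * t * a⁻¹ * t⁻¹ := by group
      rwa [e1] at this
    · intro b hb
      refine ⟨hB b hb, hB' b hb, ?_⟩
      intro t ht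
      have h3 := (h1 ht).2.2 b (Or.inr hb)
      have := E.inv_mem h3
      have e1 : (t * b * t⁻¹ * b⁻¹)⁻¹ = b * t * b⁻¹ * t⁻¹ := by group
      rwa [e1] at this
  intro x hx y hy
  exact (h2 hx).2.2 y hy

/-- The elements of `R` whose square lies in `E`, when `R` is commutative modulo `E`. -/
def sqSub {G : Type*} [Group G] (E R : Subgroup G)
    (hcomm : ∀ x ∈ R, ∀ y ∈ R, x * y * x⁻¹ * y⁻¹ ∈ E) : Subgroup G where
  carrier := {x | x ∈ R ∧ x * x ∈ E}
  one_mem' := ⟨R.one_mem, by rw [mul_one]; exact E.one_mem⟩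
  mul_mem' := by
    rintro x y ⟨hx, hx2⟩ ⟨hy, hy2⟩
    refine ⟨R.mul_mem hx hy, ?_⟩
    have h1 := hcomm x⁻¹ (R.inv_mem hx) y hy
    have e1 : x * y * (x * y) = (x * x) * (x⁻¹ * y * x⁻¹⁻¹ * y⁻¹) * (y * y) := by group
    rw [e1]
    exact E.mul_mem (E.mul_mem hx2 h1) hy2
  inv_mem' := by
    rintro x ⟨hx, hx2⟩
    refine ⟨R.inv_mem hx, ?_⟩
    have e1 : x⁻¹ * x⁻¹ = (x * x)⁻¹ := by group
    rw [e1]; exact E.inv_mem hx2

/-- Squares of `A ⊔ B` lie in `E` when `A ⊔ B` is commutative modulo `E` and the squares of `A` and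
of `B` lie in `E`. -/
theorem sq_mem_of_sup {G : Type*} [Group G] (E A B : Subgroup G)
    (hcomm : ∀ x ∈ A ⊔ B, ∀ y ∈ A ⊔ B, x * y * x⁻¹ * y⁻¹ ∈ E)
    (hA : ∀ a ∈ A, a * a ∈ E) (hB : ∀ b ∈ B, b * b ∈ E) : ∀ x ∈ A ⊔ B, x * x ∈ E := by
  have hS : A ⊔ B ≤ sqSub E (A ⊔ B) hcomm :=
    sup_le (fun a ha => ⟨Subgroup.mem_sup_left ha, hA a ha⟩)
      (fun b hb => ⟨Subgroup.mem_sup_right hb, hB b hb⟩)
  intro x hx
  exact (hS hx).2

/-- An element of `C_G(z)` centralizing `C_Q(b)` lies in `{1, z, b, z b}`. -/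
theorem cent_cent_global {G : Type*} [Group G] {Q : Subgroup G} {z b : G}
    (hQ : QData Q z) (hbQ : b ∈ Q) (hb1 : b ≠ 1) (hbz : b ≠ z) (hbb : b * b = 1) :
    ∀ c : G, c * z = z * c → (∀ p ∈ Q, p * b = b * p → p * c = c * p) →
      c = 1 ∨ c = z ∨ c = b ∨ c = z * b := by
  obtain ⟨u, huQ, hub, -, centQ⟩ := qdata_split hQ hbQ hb1 hbz
  intro c hcz hcP
  have hzz := hQ.sq
  have memZ := mem_zpowers_invol hzz
  have hzi : z⁻¹ = z := inv_eq_of_mul_eq_one_left hzz
  have hbi : b⁻¹ = b := inv_eq_of_mul_eq_one_left hbb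
  have hzb : z * b = b * z := (hQ.central b hbQ).symm
  have huz : u * z = z * u := hQ.central u huQ
  have hcu : c * u * c⁻¹ ∈ Q := hQ.norm c hcz u huQ
  obtain ⟨y, hy⟩ : ∃ y, y = u⁻¹ * (c * u * c⁻¹) := ⟨_, rfl⟩
  have hyQ : y ∈ Q := by rw [hy]; exact Q.mul_mem (Q.inv_mem huQ) hcu
  have hcuy : c * u * c⁻¹ = u * y := by rw [hy]; group
  have hub' : u⁻¹ * b * u = z * b := by
    have h1 : u⁻¹ * (z * b) * u = b := by rw [← hub]; group
    have h2 : u⁻¹ * (z * b) * u = z * (u⁻¹ * b * u) := by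
      calc u⁻¹ * (z * b) * u = u⁻¹ * (z * u) * (u⁻¹ * b * u) := by group
        _ = u⁻¹ * (u * z) * (u⁻¹ * b * u) := by rw [huz]
        _ = z * (u⁻¹ * b * u) := by group
    calc u⁻¹ * b * u = z⁻¹ * (z * (u⁻¹ * b * u)) := by group
      _ = z⁻¹ * b := by rw [← h2, h1]
      _ = z * b := by rw [hzi]
  have hP_norm : ∀ p ∈ Q, p * b = b * p → (u * p * u⁻¹) * b = b * (u * p * u⁻¹) := by
    intro p hp hpb
    have hpz : p * z = z * p := hQ.central p hp
    have h1 : p * (z * b) = (z * b) * p := by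
      calc p * (z * b) = (p * z) * b := by group
        _ = z * (p * b) := by rw [hpz]; group
        _ = z * b * p := by rw [hpb]; group
    calc u * p * u⁻¹ * b = u * (p * (u⁻¹ * b * u)) * u⁻¹ := by group
      _ = u * ((z * b) * p) * u⁻¹ := by rw [hub', h1]
      _ = u * (u⁻¹ * b * u * p) * u⁻¹ := by rw [hub']
      _ = b * (u * p * u⁻¹) := by group
  have hyP : ∀ p ∈ Q, p * b = b * p → p * y = y * p := by
    intro p hp hpb
    have hp' : u * p * u⁻¹ ∈ Q := Q.mul_mem (Q.mul_mem huQ hp) (Q.inv_mem huQ)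
    have h1 := hcP (u * p * u⁻¹) hp' (hP_norm p hp hpb)
    have h2 := hcP p hp hpb
    have h3 : (u * y) * p * (u * y)⁻¹ = u * p * u⁻¹ := by
      calc (u * y) * p * (u * y)⁻¹ = (c * u * c⁻¹) * p * (c * u * c⁻¹)⁻¹ := by rw [hcuy]
        _ = c * u * (c⁻¹ * (p * c)) * u⁻¹ * c⁻¹ := by group
        _ = c * u * (c⁻¹ * (c * p)) * u⁻¹ * c⁻¹ := by rw [h2]
        _ = c * (u * p * u⁻¹) * c⁻¹ := by group
        _ = (u * p * u⁻¹ * c) * c⁻¹ := by rw [h1]
        _ = u * p * u⁻¹ := by group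
    calc p * y = y * (y⁻¹ * (u⁻¹ * (u * p * u⁻¹) * u) * y) := by group
      _ = y * (y⁻¹ * (u⁻¹ * ((u * y) * p * (u * y)⁻¹) * u) * y) := by rw [h3]
      _ = y * p := by group
  have hyV := qdata_cent_cent hQ hbQ hb1 hbz hbb y hyQ hyP
  have husq : (u * y) * (u * y) = u * u := by
    have h1 : u * u ∈ Subgroup.zpowers z := hQ.sqmem u huQ
    have h2 : c * (u * u) = (u * u) * c := by
      rcases (memZ _).1 h1 with h | h
      · rw [h, mul_one, one_mul]
      · rw [h]; exact hcz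
    calc (u * y) * (u * y) = (c * u * c⁻¹) * (c * u * c⁻¹) := by rw [hcuy]
      _ = c * (u * u) * c⁻¹ := by group
      _ = (u * u) * c * c⁻¹ := by rw [h2]
      _ = u * u := by group
  have hyy : (u⁻¹ * y * u) * y = 1 := by
    have h1 : u * u * ((u⁻¹ * y * u) * y) = u * u * 1 := by
      calc u * u * ((u⁻¹ * y * u) * y) = (u * y) * (u * y) := by group
        _ = u * u := husq
        _ = u * u * 1 := (mul_one _).symm
    exact mul_left_cancel h1
  rcases hyV with h | h | h | h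
  · -- `y = 1`: `c` centralizes `Q`
    have hcu' : u * c = c * u := by
      rw [h, mul_one] at hcuy
      calc u * c = (c * u * c⁻¹) * c := by rw [hcuy]
        _ = c * u := by group
    have hall := centQ c hcP hcu'
    rcases (memZ _).1 (hQ.cent c hall) with h1 | h1
    · exact Or.inl h1
    · exact Or.inr (Or.inl h1)
  · -- `y = z`: `b c` centralizes `Q`
    rw [h] at hcuy
    have hbu : b * u = z * u * b := by
      calc b * u = u * (u⁻¹ * b * u) := by group
        _ = u * (z * b) := by rw [hub']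
        _ = (u * z) * b := by group
        _ = z * u * b := by rw [huz]
    have hbcP : ∀ p ∈ Q, p * b = b * p → p * (b * c) = (b * c) * p := by
      intro p hp hpb
      calc p * (b * c) = (p * b) * c := by group
        _ = b * (p * c) := by rw [hpb]; group
        _ = b * c * p := by rw [hcP p hp hpb]; group
    have hbcu : u * (b * c) = (b * c) * u := by
      have h1 : c * u = u * z * c := by
        calc c * u = (c * u * c⁻¹) * c := by group
          _ = u * z * c := by rw [hcuy]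
      have h2 : u * b = z * b * u := by
        calc u * b = (u * b * u⁻¹) * u := by group
          _ = z * b * u := by rw [hub]
      calc u * (b * c) = (u * b) * c := by group
        _ = z * b * u * c := by rw [h2]
        _ = b * (z * u) * c := by rw [hzb]; group
        _ = b * (u * z) * c := by rw [huz]
        _ = b * (u * z * c) := by group
        _ = b * (c * u) := by rw [h1]
        _ = b * c * u := by group
    have hall := centQ (b * c) hbcP hbcu
    rcases (memZ _).1 (hQ.cent (b * c) hall) with h1 | h1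
    · right; right; left
      calc c = b⁻¹ * (b * c) := by group
        _ = b := by rw [h1, mul_one, hbi]
    · right; right; right
      calc c = b⁻¹ * (b * c) := by group
        _ = b * z := by rw [h1, hbi]
        _ = z * b := hzb.symm
  · -- `y = b`: squares
    exfalso
    rw [h, hub', mul_assoc, hbb, mul_one] at hyy
    exact hQ.ne_one hyy
  · -- `y = z b`: squares
    exfalso
    have h1 : u⁻¹ * (z * b) * u = b := by rw [← hub]; group
    rw [h, h1] at hyy
    have h2 : b * (z * b) = z := by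
      calc b * (z * b) = (b * z) * b := by group
        _ = z * (b * b) := by rw [← hzb]; group
        _ = z := by rw [hbb, mul_one]
    rw [h2] at hyy
    exact hQ.ne_one hyy

/-- The symmetric hypotheses on a pair of extraspecial subgroups. -/
structure PairData {G : Type*} [Group G] (Q Q' : Subgroup G) (z b : G) : Prop where
  hQ : QData Q z
  hQ' : QData Q' b
  hbQ : b ∈ Q
  hzQ' : z ∈ Q'
  hbz : b ≠ z

namespace PairData

variable {G : Type*} [Group G] {Q Q' : Subgroup G} {z b : G}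

theorem symm (h : PairData Q Q' z b) : PairData Q' Q b z :=
  ⟨h.hQ', h.hQ, h.hzQ', h.hbQ, fun e => h.hbz e.symm⟩

theorem comm (h : PairData Q Q' z b) : z * b = b * z := (h.hQ.central b h.hbQ).symm

theorem zpow_inter (h : PairData Q Q' z b) :
    ∀ x, x ∈ Subgroup.zpowers z → x ∈ Subgroup.zpowers b → x = 1 := by
  intro x hx hx'
  rcases (mem_zpowers_invol h.hQ.sq x).1 hx with h1 | h1
  · exact h1
  · rcases (mem_zpowers_invol h.hQ'.sq x).1 hx' with h2 | h2
    · exact h2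
    · exact absurd (h2.symm.trans h1) h.hbz

theorem E_sq (h : PairData Q Q' z b) : ∀ e ∈ Q ⊓ Q', e * e = 1 := fun e he =>
  h.zpow_inter _ (h.hQ.sqmem e he.1) (h.hQ'.sqmem e he.2)

theorem E_comm (h : PairData Q Q' z b) : ∀ e ∈ Q ⊓ Q', ∀ f ∈ Q ⊓ Q', e * f = f * e := by
  intro e he f hf
  have h1 := h.zpow_inter _ (h.hQ.comm e he.1 f hf.1) (h.hQ'.comm e he.2 f hf.2)
  calc e * f = (e * f * e⁻¹ * f⁻¹) * f * e := by group
    _ = f * e := by rw [h1, one_mul]

theorem z_mem_E (h : PairData Q Q' z b) : z ∈ Q ⊓ Q' := ⟨h.hQ.mem, h.hzQ'⟩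

theorem b_mem_E (h : PairData Q Q' z b) : b ∈ Q ⊓ Q' := ⟨h.hbQ, h.hQ'.mem⟩

theorem zpowers_z_le_E (h : PairData Q Q' z b) : Subgroup.zpowers z ≤ Q ⊓ Q' := by
  rw [Subgroup.zpowers_le]; exact h.z_mem_E

theorem zpowers_b_le_E (h : PairData Q Q' z b) : Subgroup.zpowers b ≤ Q ⊓ Q' := by
  rw [Subgroup.zpowers_le]; exact h.b_mem_E

/-- `R = C_{Q'}(z) ⊔ C_Q(b)` is commutative modulo `E = Q ⊓ Q'`, with squares in `E`. -/
theorem R_comm_sq (h : PairData Q Q' z b) :
    ∀ x ∈ (Q' ⊓ Subgroup.centralizer {z}) ⊔ (Q ⊓ Subgroup.centralizer {b}),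
    ∀ y ∈ (Q' ⊓ Subgroup.centralizer {z}) ⊔ (Q ⊓ Subgroup.centralizer {b}),
      x * y * x⁻¹ * y⁻¹ ∈ Q ⊓ Q' ∧ x * x ∈ Q ⊓ Q' := by
  have hcomm : ∀ x ∈ (Q' ⊓ Subgroup.centralizer {z}) ⊔ (Q ⊓ Subgroup.centralizer {b}),
      ∀ y ∈ (Q' ⊓ Subgroup.centralizer {z}) ⊔ (Q ⊓ Subgroup.centralizer {b}),
      x * y * x⁻¹ * y⁻¹ ∈ Q ⊓ Q' := by
    apply comm_mem_of_sup
    · intro a ha e he
      exact ⟨h.hQ.norm a (Subgroup.mem_centralizer_singleton_iff.1 ha.2) e he.1,
        Q'.mul_mem (Q'.mul_mem ha.1 he.2) (Q'.inv_mem ha.1)⟩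
    · intro a ha e he
      exact ⟨Q.mul_mem (Q.mul_mem ha.1 he.1) (Q.inv_mem ha.1),
        h.hQ'.norm a (Subgroup.mem_centralizer_singleton_iff.1 ha.2) e he.2⟩
    · intro x hx y hy
      exact h.zpowers_b_le_E (h.hQ'.comm x hx.1 y hy.1)
    · intro x hx y hy
      exact h.zpowers_z_le_E (h.hQ.comm x hx.1 y hy.1)
    · intro x hx y hy
      refine ⟨?_, ?_⟩
      · exact Q.mul_mem (h.hQ.norm x (Subgroup.mem_centralizer_singleton_iff.1 hx.2) y hy.1)
          (Q.inv_mem hy.1)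
      · have h1 := h.hQ'.norm y (Subgroup.mem_centralizer_singleton_iff.1 hy.2) x⁻¹
          (Q'.inv_mem hx.1)
        have h2 := Q'.mul_mem hx.1 h1
        have e1 : x * (y * x⁻¹ * y⁻¹) = x * y * x⁻¹ * y⁻¹ := by group
        rw [e1] at h2
        exact h2
  have hsq := sq_mem_of_sup (Q ⊓ Q') _ _ hcomm
    (fun a ha => h.zpowers_b_le_E (h.hQ'.sqmem a ha.1))
    (fun a ha => h.zpowers_z_le_E (h.hQ.sqmem a ha.1))
  intro x hx y hy
  exact ⟨hcomm x hx y hy, hsq x hx⟩

/-- `R` centralizes `z` and `b`. -/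
theorem R_le_cent (h : PairData Q Q' z b) :
    (Q' ⊓ Subgroup.centralizer {z}) ⊔ (Q ⊓ Subgroup.centralizer {b}) ≤
      Subgroup.centralizer {z} ⊓ Subgroup.centralizer {b} := by
  apply sup_le
  · intro x hx
    exact Subgroup.mem_inf.2 ⟨hx.2,
      Subgroup.mem_centralizer_singleton_iff.2 (h.hQ'.central x hx.1)⟩
  · intro x hx
    exact Subgroup.mem_inf.2 ⟨Subgroup.mem_centralizer_singleton_iff.2 (h.hQ.central x hx.1),
      hx.2⟩

/-- The centre of `R` lies in `V`. -/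
theorem center_R (h : PairData Q Q' z b) (c : G)
    (hc : c ∈ (Q' ⊓ Subgroup.centralizer {z}) ⊔ (Q ⊓ Subgroup.centralizer {b}))
    (hcR : ∀ r ∈ (Q' ⊓ Subgroup.centralizer {z}) ⊔ (Q ⊓ Subgroup.centralizer {b}), r * c = c * r) :
    c = 1 ∨ c = z ∨ c = b ∨ c = z * b := by
  have hcz := (h.R_le_cent hc).1
  apply cent_cent_global h.hQ h.hbQ h.hQ'.ne_one h.hbz h.hQ'.sq c
    (Subgroup.mem_centralizer_singleton_iff.1 hcz)
  intro p hp hpb
  exact hcR p (Subgroup.mem_sup_right (Subgroup.mem_inf.2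
    ⟨hp, Subgroup.mem_centralizer_singleton_iff.2 hpb⟩))

/-- Conjugates of `b` under `Q`. -/
theorem conj_b (h : PairData Q Q' z b) : ∀ q ∈ Q, q * b * q⁻¹ = b ∨ q * b * q⁻¹ = z * b := by
  intro q hq
  rcases (mem_zpowers_invol h.hQ.sq _).1 (h.hQ.comm q hq b h.hbQ) with h1 | h1
  · left
    calc q * b * q⁻¹ = (q * b * q⁻¹ * b⁻¹) * b := by group
      _ = b := by rw [h1, one_mul]
  · right
    calc q * b * q⁻¹ = (q * b * q⁻¹ * b⁻¹) * b := by group
      _ = z * b := by rw [h1]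

/-- `Q` normalizes `V` and commutes with `E` modulo `V`. -/
theorem Q_le_commMod (h : PairData Q Q' z b) :
    Q ≤ commModSub (Subgroup.closure ({z, b} : Set G)) ((Q ⊓ Q' : Subgroup G) : Set G) := by
  have hzz := h.hQ.sq
  have hbb := h.hQ'.sq
  have hzb := h.comm
  have key : ∀ q ∈ Q, ∀ v ∈ Subgroup.closure ({z, b} : Set G),
      q * v * q⁻¹ ∈ Subgroup.closure ({z, b} : Set G) := by
    intro q hq v hv
    have hqz : q * z * q⁻¹ = z := by
      rw [h.hQ.central q hq]; group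
    rw [mem_closure_pair_iff hzz hbb hzb] at hv ⊢
    rcases hv with rfl | rfl | rfl | rfl
    · left; group
    · right; left; exact hqz
    · rcases h.conj_b q hq with h1 | h1
      · right; right; left; exact h1
      · right; right; right; exact h1
    · have e1 : q * (z * b) * q⁻¹ = (q * z * q⁻¹) * (q * b * q⁻¹) := by group
      rw [e1, hqz]
      rcases h.conj_b q hq with h1 | h1
      · right; right; right; rw [h1]
      · right; right; left; rw [h1, ← mul_assoc, hzz, one_mul]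
  intro q hq
  refine ⟨key q hq, ?_, ?_⟩
  · intro v hv
    have := key q⁻¹ (Q.inv_mem hq) v hv
    rwa [inv_inv] at this
  · intro e he
    have h1 := h.hQ.comm q hq e he.1
    have hle : Subgroup.zpowers z ≤ Subgroup.closure ({z, b} : Set G) := by
      rw [Subgroup.zpowers_le]
      exact Subgroup.subset_closure (Set.mem_insert _ _)
    exact hle h1

/-- `X = Q ⊔ Q'` normalizes `V` and commutes with `E` modulo `V`. -/
theorem X_le_commMod (h : PairData Q Q' z b) :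
    Q ⊔ Q' ≤ commModSub (Subgroup.closure ({z, b} : Set G)) ((Q ⊓ Q' : Subgroup G) : Set G) := by
  apply sup_le h.Q_le_commMod
  have h1 := h.symm.Q_le_commMod
  rw [Set.pair_comm b z, inf_comm] at h1
  exact h1

/-- `V` is central in `R`. -/
theorem V_central (h : PairData Q Q' z b) :
    ∀ v ∈ Subgroup.closure ({z, b} : Set G),
    ∀ r ∈ (Q' ⊓ Subgroup.centralizer {z}) ⊔ (Q ⊓ Subgroup.centralizer {b}), r * v = v * r := by
  intro v hv r hr
  have h1 := h.R_le_cent hr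
  have hrz : r * z = z * r := Subgroup.mem_centralizer_singleton_iff.1 h1.1
  have hrb : r * b = b * r := Subgroup.mem_centralizer_singleton_iff.1 h1.2
  rw [mem_closure_pair_iff h.hQ.sq h.hQ'.sq h.comm] at hv
  rcases hv with rfl | rfl | rfl | rfl
  · rw [mul_one, one_mul]
  · exact hrz
  · exact hrb
  · calc r * (z * b) = (r * z) * b := by group
      _ = z * (r * b) := by rw [hrz]; group
      _ = z * b * r := by rw [hrb]; group

/-- `R ≤ X`. -/
theorem R_le_X (_h : PairData Q Q' z b) :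
    (Q' ⊓ Subgroup.centralizer {z}) ⊔ (Q ⊓ Subgroup.centralizer {b}) ≤ Q ⊔ Q' :=
  sup_le (inf_le_left.trans le_sup_right) (inf_le_left.trans le_sup_left)

/-- `E ≤ R`. -/
theorem E_le_R (h : PairData Q Q' z b) :
    Q ⊓ Q' ≤ (Q' ⊓ Subgroup.centralizer {z}) ⊔ (Q ⊓ Subgroup.centralizer {b}) := by
  intro e he
  exact Subgroup.mem_sup_right (Subgroup.mem_inf.2 ⟨he.1,
    Subgroup.mem_centralizer_singleton_iff.2 (h.hQ'.central e he.2)⟩)

/-- Commutators of `E` with `R` are central in `R`. -/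
theorem E_comm_R_central (h : PairData Q Q' z b) :
    ∀ e ∈ Q ⊓ Q', ∀ y ∈ (Q' ⊓ Subgroup.centralizer {z}) ⊔ (Q ⊓ Subgroup.centralizer {b}),
    ∀ r ∈ (Q' ⊓ Subgroup.centralizer {z}) ⊔ (Q ⊓ Subgroup.centralizer {b}),
      r * (e * y * e⁻¹ * y⁻¹) = (e * y * e⁻¹ * y⁻¹) * r := by
  intro e he y hy r hr
  have h1 := (h.X_le_commMod (h.R_le_X hy)).2.2 e he
  have h2 := Subgroup.inv_mem _ h1
  have e1 : (y * e * y⁻¹ * e⁻¹)⁻¹ = e * y * e⁻¹ * y⁻¹ := by group
  rw [e1] at h2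
  exact h.V_central _ h2 r hr

end PairData

/-- The pair `(Q, Q^g)` for `g` with `z^g ∈ Q`, `z^g ≠ z`, when `|Q| > 8`. -/
theorem pairData_of_conj {G : Type*} [Group G] {Q : Subgroup G} {z : G} (hQ : QData Q z)
    (hcard : 8 < Nat.card Q) (g : G) (hgz : g * z * g⁻¹ ≠ z) (hgQ : g * z * g⁻¹ ∈ Q) :
    PairData Q (Q.map (MulAut.conj g).toMonoidHom) z (g * z * g⁻¹) := by
  have hQ' : QData (Q.map (MulAut.conj g).toMonoidHom) (g * z * g⁻¹) := hQ.conj g
  have hP := exists_noncomm_pair hQ hgQ hQ'.ne_one hgz hQ'.sq hcard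
  have hE : ∀ n : G, n * z * n⁻¹ = g * z * g⁻¹ →
      ∀ q ∈ Q, n * q * n⁻¹ ∈ Q.map (MulAut.conj g).toMonoidHom := by
    intro n hn q hq
    rw [mem_map_conj_iff]
    have h1 : (g⁻¹ * n) * z = z * (g⁻¹ * n) := by
      calc (g⁻¹ * n) * z = g⁻¹ * (n * z * n⁻¹) * n := by group
        _ = g⁻¹ * (g * z * g⁻¹) * n := by rw [hn]
        _ = z * (g⁻¹ * n) := by group
    have h2 := hQ.norm _ h1 q hq
    have e : g⁻¹ * (n * q * n⁻¹) * g = g⁻¹ * n * q * (g⁻¹ * n)⁻¹ := by group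
    rw [e]
    exact h2
  exact ⟨hQ, hQ', hgQ, center_mem_of_qdata_pair hQ hQ' hgQ hgz hE hP, hgz⟩

end Cfsg.Agent.Lib.helper92
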