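import Mathlib
import Cfsg.Agent.Lib.helper92.Pair
import Cfsg.Agent.Lib.helper27.Radical

/-!
# The function `x ↦ O_2(C_G(x))` and large extraspecial subgroups

`QO x` is `O_2(C_G(x))` as a subgroup of `G`.  We prove the symmetry lemma
`z^g ∈ Q_z → z ∈ Q_{z^g}` for an extraspecial `Q_z = O_2(C_G(z))` with `C_G(Q_z) ≤ Q_z`
(Aschbacher, *Sporadic groups*, 8.7.1) without restriction on the width, and the double
centralizer property of extraspecial groups in the form needed for the groups `Q_U`, `L_U`.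
-/

set_option autoImplicit false

namespace Cfsg.Agent.Lib.helper92

/-- `O_2(C_G(x))` as a subgroup of `G`. -/
def QO {G : Type*} [Group G] (x : G) : Subgroup G :=
  (Cfsg.pCore 2 ↥(Subgroup.centralizer ({x} : Set G))).map
    (Subgroup.centralizer ({x} : Set G)).subtype

theorem QO_le_centralizer {G : Type*} [Group G] (x : G) :
    QO x ≤ Subgroup.centralizer ({x} : Set G) := Subgroup.map_subtype_le _

theorem QO_isPGroup {G : Type*} [Group G] [Finite G] (x : G) : IsPGroup 2 (QO x) :=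
  Cfsg.Agent.Lib.helper27.map_pCore_isPGroup 2 _

theorem QO_conj_mem {G : Type*} [Group G] (x h : G) (hh : h * x = x * h) :
    ∀ q ∈ QO x, h * q * h⁻¹ ∈ QO x := by
  rintro q ⟨q₀, hq₀, rfl⟩
  have hhC : h ∈ Subgroup.centralizer ({x} : Set G) :=
    Subgroup.mem_centralizer_singleton_iff.2 hh
  have hn : (Cfsg.pCore 2 ↥(Subgroup.centralizer ({x} : Set G))).Normal := inferInstance
  exact ⟨⟨h, hhC⟩ * q₀ * ⟨h, hhC⟩⁻¹, hn.conj_mem q₀ hq₀ ⟨h, hhC⟩, rfl⟩

theorem map_conj_QO_le {G : Type*} [Group G] [Finite G] (g x : G) :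
    (QO x).map (MulAut.conj g).toMonoidHom ≤ QO (g * x * g⁻¹) := by
  refine Cfsg.Agent.Lib.helper27.le_map_pCore_of_normal (p := 2)
    (H := Subgroup.centralizer ({g * x * g⁻¹} : Set G)) ?_ ?_ ?_
  · intro y hy
    rw [mem_map_conj_iff] at hy
    have h1 := QO_le_centralizer x hy
    rw [Subgroup.mem_centralizer_singleton_iff] at h1 ⊢
    calc y * (g * x * g⁻¹) = g * ((g⁻¹ * y * g) * x) * g⁻¹ := by group
      _ = g * (x * (g⁻¹ * y * g)) * g⁻¹ := by rw [h1]
      _ = g * x * g⁻¹ * y := by group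
  · intro h hh
    rw [Subgroup.mem_centralizer_singleton_iff] at hh
    rw [Subgroup.mem_normalizer_iff]
    intro y
    rw [mem_map_conj_iff, mem_map_conj_iff]
    have hc : (g⁻¹ * h * g) * x = x * (g⁻¹ * h * g) := by
      calc (g⁻¹ * h * g) * x = g⁻¹ * (h * (g * x * g⁻¹)) * g := by group
        _ = g⁻¹ * ((g * x * g⁻¹) * h) * g := by rw [hh]
        _ = x * (g⁻¹ * h * g) := by group
    have hc' : (g⁻¹ * h * g)⁻¹ * x = x * (g⁻¹ * h * g)⁻¹ :=
      Subgroup.mem_centralizer_singleton_iff.1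
        (Subgroup.inv_mem _ (Subgroup.mem_centralizer_singleton_iff.2 hc))
    constructor
    · intro hy
      have := QO_conj_mem x _ hc _ hy
      have e : g⁻¹ * (h * y * h⁻¹) * g = g⁻¹ * h * g * (g⁻¹ * y * g) * (g⁻¹ * h * g)⁻¹ := by
        group
      rw [e]; exact this
    · intro hy
      have := QO_conj_mem x _ hc' _ hy
      have e : g⁻¹ * y * g
          = (g⁻¹ * h * g)⁻¹ * (g⁻¹ * (h * y * h⁻¹) * g) * (g⁻¹ * h * g)⁻¹⁻¹ := by group
      rw [e]; exact this
  · exact Cfsg.Agent.Lib.helper27.isPGroup_map_conj g (QO_isPGroup x)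

theorem map_conj_QO {G : Type*} [Group G] [Finite G] (g x : G) :
    (QO x).map (MulAut.conj g).toMonoidHom = QO (g * x * g⁻¹) := by
  apply le_antisymm (map_conj_QO_le g x)
  intro y hy
  rw [mem_map_conj_iff]
  have h1 := map_conj_QO_le g⁻¹ (g * x * g⁻¹)
  have e : g⁻¹ * (g * x * g⁻¹) * g⁻¹⁻¹ = x := by group
  rw [e] at h1
  apply h1
  rw [mem_map_conj_iff]
  have e3 : g⁻¹⁻¹ * (g⁻¹ * y * g) * g⁻¹ = y := by group
  rw [e3]; exact hy

/-- `QData` for `Q_z = O_2(C_G(z))` extraspecial with `C_G(Q_z) ≤ Q_z`. -/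
theorem qdata_QO {G : Type*} [Group G] [Finite G] (z : G) (hz : orderOf z = 2)
    (hE : Cfsg.IsExtraspecial 2 ↥(QO z))
    (hC : Subgroup.centralizer ((QO z : Subgroup G) : Set G) ≤ QO z) : QData (QO z) z := by
  have hz1 : z ≠ 1 := by
    intro h; rw [h, orderOf_one] at hz; exact absurd hz (by norm_num)
  have hcz : ∀ q ∈ QO z, q * z = z * q := fun q hq =>
    Subgroup.mem_centralizer_singleton_iff.1 (QO_le_centralizer z hq)
  have hzC : z ∈ Subgroup.centralizer ((QO z : Subgroup G) : Set G) := by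
    rw [Subgroup.mem_centralizer_iff]
    intro q hq
    exact hcz q hq
  have hL2 : Subgroup.centralizer ((QO z : Subgroup G) : Set G)
      = (Subgroup.center ↥(QO z)).map (QO z).subtype := by
    ext x
    rw [mem_center_map_iff, Subgroup.mem_centralizer_iff]
    constructor
    · intro hx
      exact ⟨hC (Subgroup.mem_centralizer_iff.2 hx), fun q hq => hx q hq⟩
    · rintro ⟨-, hx⟩ q hq
      exact hx q hq
  have hzZ : z ∈ (Subgroup.center ↥(QO z)).map (QO z).subtype := by rw [← hL2]; exact hzC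
  have hL3 : Subgroup.centralizer (((Subgroup.center ↥(QO z)).map (QO z).subtype : Subgroup G) :
      Set G) ≤ Subgroup.normalizer ((QO z : Subgroup G) : Set G) := by
    intro x hx
    rw [Subgroup.mem_centralizer_iff] at hx
    have hxz : x * z = z * x := (hx z hzZ).symm
    have hxz' : x⁻¹ * z = z * x⁻¹ :=
      Subgroup.mem_centralizer_singleton_iff.1
        (Subgroup.inv_mem _ (Subgroup.mem_centralizer_singleton_iff.2 hxz))
    rw [Subgroup.mem_normalizer_iff]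
    intro q
    constructor
    · exact QO_conj_mem z x hxz q
    · intro hq
      have := QO_conj_mem z x⁻¹ hxz' _ hq
      have e : x⁻¹ * (x * q * x⁻¹) * x⁻¹⁻¹ = q := by group
      rw [e] at this; exact this
  obtain ⟨z', hq', hZ'⟩ := exists_qdata (QO z) hE hL2 hL3
  have hzz' : z' = z := by
    rw [hZ'] at hzZ
    rcases (mem_zpowers_invol hq'.sq z).1 hzZ with h | h
    · exact absurd h hz1
    · exact h.symm
  rw [hzz'] at hq'
  exact hq'

/-- Conjugation by an element of `Q` fixes or multiplies by the central involution. -/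
theorem QData.conj_eq_or {G : Type*} [Group G] {Q : Subgroup G} {z : G} (h : QData Q z)
    {q x : G} (hq : q ∈ Q) (hx : x ∈ Q) : q * x * q⁻¹ = x ∨ q * x * q⁻¹ = z * x := by
  rcases (mem_zpowers_invol h.sq _).1 (h.comm q hq x hx) with h1 | h1
  · left
    calc q * x * q⁻¹ = (q * x * q⁻¹ * x⁻¹) * x := by group
      _ = x := by rw [h1, one_mul]
  · right
    calc q * x * q⁻¹ = (q * x * q⁻¹ * x⁻¹) * x := by group
      _ = z * x := by rw [h1]

theorem QData.conj_eq_of_not_comm {G : Type*} [Group G] {Q : Subgroup G} {z : G} (h : QData Q z)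
    {q x : G} (hq : q ∈ Q) (hx : x ∈ Q) (hne : q * x ≠ x * q) : q * x * q⁻¹ = z * x := by
  rcases h.conj_eq_or hq hx with h1 | h1
  · exfalso; apply hne
    calc q * x = (q * x * q⁻¹) * q := by group
      _ = x * q := by rw [h1]
  · exact h1

/-- The symmetry lemma when the centralizer in `Q'` of the involution `b'` is abelian
(this covers extraspecial groups of order `8`). -/
theorem center_mem_of_qdata_pair_abelian {G : Type*} [Group G] {Q Q' : Subgroup G} {z b b' : G}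
    (hQ : QData Q z) (hQ' : QData Q' b) (hbQ : b ∈ Q) (hbz : b ≠ z)
    (hE : ∀ n : G, n * z * n⁻¹ = b → ∀ q ∈ Q, n * q * n⁻¹ ∈ Q')
    (hb'Q' : b' ∈ Q') (hb'1 : b' ≠ 1) (hb'b : b' ≠ b) (hb'sq : b' * b' = 1)
    (hab : ∀ p ∈ Q', ∀ c ∈ Q', p * b' = b' * p → c * b' = b' * c → p * c = c * p) :
    z ∈ Q' := by
  by_contra hz
  have hzz := hQ.sq
  have hbb := hQ'.sq
  have hzi : z⁻¹ = z := inv_eq_of_mul_eq_one_left hzz
  have hzb : z * b = b * z := (hQ.central b hbQ).symm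
  have hb1 : b ≠ 1 := hQ'.ne_one
  have memB := mem_zpowers_invol hbb
  have hzN : ∀ q ∈ Q', z * q * z⁻¹ ∈ Q' := hQ'.norm z hzb
  obtain ⟨x, hxQ, hxb, -, -⟩ := qdata_split hQ hbQ hb1 hbz
  have stepA : ∀ q ∈ Q', q * z * q⁻¹ ≠ z * b := by
    intro q hq hqz
    apply hz
    have hn : (x⁻¹ * q) * z * (x⁻¹ * q)⁻¹ = b := by
      calc (x⁻¹ * q) * z * (x⁻¹ * q)⁻¹ = x⁻¹ * (q * z * q⁻¹) * x := by group
        _ = x⁻¹ * (x * b * x⁻¹) * x := by rw [hqz, hxb]
        _ = b := by group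
    have h1 := hE _ hn b hbQ
    have hqb : q * b = b * q := hQ'.central q hq
    have hxz : x * z = z * x := hQ.central x hxQ
    have h2 : x⁻¹ * b * x = z * b := by
      have h3 : x⁻¹ * (z * b) * x = b := by rw [← hxb]; group
      have h4 : x⁻¹ * z * x = z := by
        calc x⁻¹ * z * x = x⁻¹ * (z * x) := by group
          _ = x⁻¹ * (x * z) := by rw [hxz]
          _ = z := by group
      calc x⁻¹ * b * x = (x⁻¹ * z * x)⁻¹ * (x⁻¹ * (z * b) * x) := by group
        _ = z⁻¹ * b := by rw [h4, h3]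
        _ = z * b := by rw [hzi]
    have e : (x⁻¹ * q) * b * (x⁻¹ * q)⁻¹ = z * b := by
      calc (x⁻¹ * q) * b * (x⁻¹ * q)⁻¹ = x⁻¹ * (q * b) * q⁻¹ * x := by group
        _ = x⁻¹ * (b * q) * q⁻¹ * x := by rw [hqb]
        _ = x⁻¹ * b * x := by group
        _ = z * b := h2
    rw [e] at h1
    have h5 := Q'.mul_mem h1 (Q'.inv_mem hQ'.mem)
    have e2 : z * b * b⁻¹ = z := by group
    rw [e2] at h5; exact h5
  have stepA' : ∀ q ∈ Q', z * q * z⁻¹ ≠ q * b := by
    intro q hq h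
    apply stepA q⁻¹ (Q'.inv_mem hq)
    calc q⁻¹ * z * q⁻¹⁻¹ = q⁻¹ * (z * q * z⁻¹) * z := by group
      _ = q⁻¹ * (q * b) * z := by rw [h]
      _ = b * z := by group
      _ = z * b := hzb.symm
  have stepB : ∀ u ∈ Q', u * (z * u * z⁻¹) = (z * u * z⁻¹) * u := by
    intro u hu
    have hu' := hzN u hu
    rcases (memB _).1 (hQ'.comm u hu _ hu') with h | h
    · calc u * (z * u * z⁻¹)
          = (u * (z * u * z⁻¹) * u⁻¹ * (z * u * z⁻¹)⁻¹) * ((z * u * z⁻¹) * u) := by group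
        _ = (z * u * z⁻¹) * u := by rw [h, one_mul]
    · exfalso
      have hw : u * (z * u * z⁻¹) ∈ Q' := Q'.mul_mem hu hu'
      apply stepA' _ hw
      have hbw : (u * (z * u * z⁻¹)) * b = b * (u * (z * u * z⁻¹)) := hQ'.central _ hw
      rw [hbw]
      calc z * (u * (z * u * z⁻¹)) * z⁻¹ = (z * u * z⁻¹) * ((z * z) * u * (z * z)⁻¹) := by group
        _ = (b * b) * ((z * u * z⁻¹) * u) := by rw [hzz, hbb]; group
        _ = b * ((u * (z * u * z⁻¹) * u⁻¹ * (z * u * z⁻¹)⁻¹) * ((z * u * z⁻¹) * u)) := by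
            rw [h]; group
        _ = b * (u * (z * u * z⁻¹)) := by group
  have hcentb' : ∀ e ∈ Q', e * b' = b' * e → e = 1 ∨ e = b ∨ e = b' ∨ e = b * b' := by
    intro e he heb
    exact qdata_cent_cent hQ' hb'Q' hb'1 hb'b hb'sq e he (fun p hp hpb => hab p hp e he hpb heb)
  have hbb' : b' * b = b * b' := hQ'.central b' hb'Q'
  -- `z` commutes with `b'`
  have hzb' : z * b' = b' * z := by
    have h1 := stepB b' hb'Q'
    rcases hcentb' _ (hzN b' hb'Q') h1.symm with h | h | h | h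
    · exfalso; apply hb'1
      calc b' = z⁻¹ * (z * b' * z⁻¹) * z := by group
        _ = 1 := by rw [h]; group
    · exfalso; apply hb'b
      calc b' = z⁻¹ * (z * b' * z⁻¹) * z := by group
        _ = z⁻¹ * b * z := by rw [h]
        _ = z⁻¹ * (b * z) := by group
        _ = z⁻¹ * (z * b) := by rw [hzb]
        _ = b := by group
    · calc z * b' = (z * b' * z⁻¹) * z := by group
        _ = b' * z := by rw [h]
    · exfalso
      apply stepA' b' hb'Q'
      rw [h, hbb']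
  obtain ⟨c₀, hc₀Q, hc₀b, -, centQ⟩ := qdata_split hQ' hb'Q' hb'1 hb'b
  have hzc₀ : c₀ * z = z * c₀ := by
    have h1 := stepB c₀ hc₀Q
    have hy : c₀⁻¹ * (z * c₀ * z⁻¹) ∈ Q' := Q'.mul_mem (Q'.inv_mem hc₀Q) (hzN c₀ hc₀Q)
    have hzb'i : z⁻¹ * b' = b' * z⁻¹ := by rw [hzi]; exact hzb'
    have hyb : (c₀⁻¹ * (z * c₀ * z⁻¹)) * b' = b' * (c₀⁻¹ * (z * c₀ * z⁻¹)) := by
      have hbbz : z * (b * b') = (b * b') * z := by
        calc z * (b * b') = (z * b) * b' := by group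
          _ = (b * z) * b' := by rw [hzb]
          _ = b * (z * b') := by group
          _ = b * (b' * z) := by rw [hzb']
          _ = (b * b') * z := by group
      calc (c₀⁻¹ * (z * c₀ * z⁻¹)) * b' = c₀⁻¹ * z * c₀ * (z⁻¹ * b') := by group
        _ = c₀⁻¹ * z * c₀ * (b' * z⁻¹) := by rw [hzb'i]
        _ = c₀⁻¹ * z * (c₀ * b' * c₀⁻¹) * c₀ * z⁻¹ := by group
        _ = c₀⁻¹ * (z * (b * b')) * c₀ * z⁻¹ := by rw [hc₀b]; group
        _ = c₀⁻¹ * ((b * b') * z) * c₀ * z⁻¹ := by rw [hbbz]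
        _ = c₀⁻¹ * (c₀ * b' * c₀⁻¹) * z * c₀ * z⁻¹ := by rw [hc₀b]; group
        _ = b' * (c₀⁻¹ * (z * c₀ * z⁻¹)) := by group
    have hyc : c₀ * (c₀⁻¹ * (z * c₀ * z⁻¹)) = (c₀⁻¹ * (z * c₀ * z⁻¹)) * c₀ := by
      calc c₀ * (c₀⁻¹ * (z * c₀ * z⁻¹)) = c₀⁻¹ * (c₀ * (z * c₀ * z⁻¹)) := by group
        _ = c₀⁻¹ * ((z * c₀ * z⁻¹) * c₀) := by rw [h1]
        _ = (c₀⁻¹ * (z * c₀ * z⁻¹)) * c₀ := by group
    have hc₀b1 : ∀ t : G, c₀ * t = t * c₀ → t = b' ∨ t = b * b' → False := by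
      intro t ht htb
      have hcb : c₀ * b = b * c₀ := hQ'.central c₀ hc₀Q
      have hcb' : c₀ * b' = b' * c₀ := by
        rcases htb with e | e
        · rw [← e]; exact ht
        · rw [e] at ht
          calc c₀ * b' = b⁻¹ * (b * c₀) * b' := by group
            _ = b⁻¹ * (c₀ * b) * b' := by rw [hcb]
            _ = b⁻¹ * (c₀ * (b * b')) := by group
            _ = b⁻¹ * ((b * b') * c₀) := by rw [ht]
            _ = b' * c₀ := by group
      have h2 : c₀ * b' * c₀⁻¹ = b' := by rw [hcb']; group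
      rw [h2] at hc₀b
      apply hb1
      calc b = (b * b') * b'⁻¹ := by group
        _ = 1 := by rw [← hc₀b]; group
    rcases hcentb' _ hy hyb with h | h | h | h
    · calc c₀ * z = c₀ * (c₀⁻¹ * (z * c₀ * z⁻¹)) * z := by rw [h]; group
        _ = z * c₀ := by group
    · exfalso
      apply stepA' c₀ hc₀Q
      calc z * c₀ * z⁻¹ = c₀ * (c₀⁻¹ * (z * c₀ * z⁻¹)) := by group
        _ = c₀ * b := by rw [h]
    · exact (hc₀b1 _ hyc (Or.inl h)).elim
    · exact (hc₀b1 _ hyc (Or.inr h)).elim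
  have hall : ∀ q ∈ Q', q * z = z * q := by
    apply centQ z _ hzc₀
    intro p hp hpb
    rcases hcentb' p hp hpb with h | h | h | h
    · rw [h]; simp
    · rw [h]; exact hzb.symm
    · rw [h]; exact hzb'.symm
    · rw [h]
      calc (b * b') * z = b * (b' * z) := by group
        _ = b * (z * b') := by rw [hzb']
        _ = (b * z) * b' := by group
        _ = (z * b) * b' := by rw [hzb]
        _ = z * (b * b') := by group
  rcases (memB z).1 (hQ'.cent z hall) with h | h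
  · exact hQ.ne_one h
  · exact hbz h.symm

/-- **Symmetry lemma** (all widths): if `z^g ∈ Q` then `z ∈ Q^g`. -/
theorem mem_conj_of_conj_mem {G : Type*} [Group G] {Q : Subgroup G} {z : G} (hQ : QData Q z)
    (g : G) (hgQ : g * z * g⁻¹ ∈ Q) : z ∈ Q.map (MulAut.conj g).toMonoidHom := by
  by_cases hgz : g * z * g⁻¹ = z
  · rw [mem_map_conj_iff]
    have e : g⁻¹ * z * g = z := by
      calc g⁻¹ * z * g = g⁻¹ * (g * z * g⁻¹) * g := by rw [hgz]
        _ = z := by group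
    rw [e]; exact hQ.mem
  have hQ' : QData (Q.map (MulAut.conj g).toMonoidHom) (g * z * g⁻¹) := hQ.conj g
  have hE : ∀ n : G, n * z * n⁻¹ = g * z * g⁻¹ →
      ∀ q ∈ Q, n * q * n⁻¹ ∈ Q.map (MulAut.conj g).toMonoidHom := by
    intro n hn q hq
    rw [mem_map_conj_iff]
    have h1 : (g⁻¹ * n) * z = z * (g⁻¹ * n) := by
      calc (g⁻¹ * n) * z = g⁻¹ * (n * z * n⁻¹) * n := by group
        _ = g⁻¹ * (g * z * g⁻¹) * n := by rw [hn]
        _ = z * (g⁻¹ * n) := by group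
    have h2 := hQ.norm _ h1 q hq
    have e : g⁻¹ * (n * q * n⁻¹) * g = g⁻¹ * n * q * (g⁻¹ * n)⁻¹ := by group
    rw [e]
    exact h2
  by_cases hP : ∃ a ∈ Q, ∃ c ∈ Q, a * (g * z * g⁻¹) = (g * z * g⁻¹) * a ∧
      c * (g * z * g⁻¹) = (g * z * g⁻¹) * c ∧ a * c ≠ c * a
  · exact center_mem_of_qdata_pair hQ hQ' hgQ hgz hE hP
  · push Not at hP
    refine center_mem_of_qdata_pair_abelian (b' := g * (g * z * g⁻¹) * g⁻¹) hQ hQ' hgQ hgz hE
      ?_ ?_ ?_ ?_ ?_
    · rw [mem_map_conj_iff]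
      have e : g⁻¹ * (g * (g * z * g⁻¹) * g⁻¹) * g = g * z * g⁻¹ := by group
      rw [e]; exact hgQ
    · intro h
      apply hQ.ne_one
      calc z = g⁻¹ * (g⁻¹ * (g * (g * z * g⁻¹) * g⁻¹) * g) * g := by group
        _ = 1 := by rw [h]; group
    · intro h
      apply hgz
      calc g * z * g⁻¹ = g⁻¹ * (g * (g * z * g⁻¹) * g⁻¹) * g := by group
        _ = g⁻¹ * (g * z * g⁻¹) * g := by rw [h]
        _ = z := by group
    · calc g * (g * z * g⁻¹) * g⁻¹ * (g * (g * z * g⁻¹) * g⁻¹)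
          = g * g * (z * z) * g⁻¹ * g⁻¹ := by group
        _ = 1 := by rw [hQ.sq]; group
    · intro p hp c hc hpb hcb
      rw [mem_map_conj_iff] at hp hc
      have hp' : (g⁻¹ * p * g) * (g * z * g⁻¹) = (g * z * g⁻¹) * (g⁻¹ * p * g) := by
        calc (g⁻¹ * p * g) * (g * z * g⁻¹) = g⁻¹ * (p * (g * (g * z * g⁻¹) * g⁻¹)) * g := by
              group
          _ = g⁻¹ * ((g * (g * z * g⁻¹) * g⁻¹) * p) * g := by rw [hpb]
          _ = (g * z * g⁻¹) * (g⁻¹ * p * g) := by group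
      have hc' : (g⁻¹ * c * g) * (g * z * g⁻¹) = (g * z * g⁻¹) * (g⁻¹ * c * g) := by
        calc (g⁻¹ * c * g) * (g * z * g⁻¹) = g⁻¹ * (c * (g * (g * z * g⁻¹) * g⁻¹)) * g := by
              group
          _ = g⁻¹ * ((g * (g * z * g⁻¹) * g⁻¹) * c) * g := by rw [hcb]
          _ = (g * z * g⁻¹) * (g⁻¹ * c * g) := by group
      have h3 := hP _ hp _ hc hp' hc'
      calc p * c = g * ((g⁻¹ * p * g) * (g⁻¹ * c * g)) * g⁻¹ := by group
        _ = g * ((g⁻¹ * c * g) * (g⁻¹ * p * g)) * g⁻¹ := by rw [h3]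
        _ = c * p := by group

/-- The symmetry lemma for `QO`: if `z^g ∈ Q_z` then `z ∈ Q_{z^g}`. -/
theorem mem_QO_conj {G : Type*} [Group G] [Finite G] {z : G} (hq : QData (QO z) z)
    (g : G) (hg : g * z * g⁻¹ ∈ QO z) : z ∈ QO (g * z * g⁻¹) :=
  map_conj_QO_le g z (mem_conj_of_conj_mem hq g hg)

end Cfsg.Agent.Lib.helper92
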