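import Cfsg.Agent.Lib.helper68.W2PDefs

set_option autoImplicit false

/-!
# S0720 piece G1 (helper92): a primitive group of degree `2q` is `2`-transitive or contains a
fixed-point-free element of order `q`

Cauchy gives an element `g` of order `q`; it is a product of one or two `q`-cycles.  If it is a
single `q`-cycle, Jordan's multiple primitivity criterion (Mathlib) makes the group
`(q + 1)`-fold primitive, in particular `2`-transitive.
-/

namespace Cfsg.Agent.Lib.helper92.W2P

open Finset
open scoped Classical

theorem exists_fpf_or_two_trans {α : Type*} [Fintype α] [DecidableEq α] {q : ℕ} (hq : q.Prime)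
    (hα : Fintype.card α = 2 * q) (G : Subgroup (Equiv.Perm α))
    (hG : MulAction.IsPreprimitive G α) :
    MulAction.IsMultiplyPretransitive G α 2 ∨ ∃ g ∈ G, orderOf g = q ∧ ∀ x : α, g x ≠ x := by
  have : Fact q.Prime := ⟨hq⟩
  have hq2 : 2 ≤ q := hq.two_le
  have hpos : 0 < Fintype.card α := by rw [hα]; omega
  obtain ⟨a⟩ : Nonempty α := Fintype.card_pos_iff.mp hpos
  have htr : MulAction.IsPretransitive G α := hG.toIsPretransitive
  have hdvd : q ∣ Nat.card G := by
    have h1 : (MulAction.stabilizer G a).index = Nat.card α :=
      MulAction.index_stabilizer_of_transitive (G := G) (x := a)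
    have h2 : (MulAction.stabilizer G a).index ∣ Nat.card G := Subgroup.index_dvd_card _
    rw [h1, Nat.card_eq_fintype_card, hα] at h2
    exact dvd_trans (Dvd.intro_left 2 rfl) h2
  obtain ⟨g, hg⟩ := exists_prime_orderOf_dvd_card' q hdvd
  have hgo : orderOf (g : Equiv.Perm α) = q := by rw [Subgroup.orderOf_coe]; exact hg
  obtain ⟨n, hn⟩ := Equiv.Perm.cycleType_prime_order (σ := (g : Equiv.Perm α)) (by rw [hgo]; exact hq)
  rw [hgo] at hn
  have hsupp : (g : Equiv.Perm α).support.card = (n + 1) * q := by
    rw [← Equiv.Perm.sum_cycleType, hn]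
    simp
    ring
  have hle : (n + 1) * q ≤ 2 * q := by
    rw [← hsupp, ← hα]
    exact Finset.card_le_univ _
  have hn01 : n = 0 ∨ n = 1 := by
    have := Nat.le_of_mul_le_mul_right hle hq.pos
    omega
  rcases hn01 with rfl | rfl
  · left
    have hsupp' : (g : Equiv.Perm α).support.card = q := by rw [hsupp]; simp
    have hcyc : (g : Equiv.Perm α).IsCycle := by
      rw [← Equiv.Perm.card_cycleType_eq_one, hn]
      simp
    have hsc : Set.ncard ((((g : Equiv.Perm α).support : Set α))ᶜ) = (q - 1) + 1 := by
      apply Nat.add_left_cancel (n := (((g : Equiv.Perm α).support : Set α)).ncard)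
      rw [Set.ncard_add_ncard_compl, Set.ncard_coe_finset, hsupp', Nat.card_eq_fintype_card, hα]
      omega
    have hmp : MulAction.IsMultiplyPreprimitive G α ((q - 1) + 2) := by
      apply hG.isMultiplyPreprimitive hsc
      · rw [Nat.card_eq_fintype_card, hα]; omega
      have := Equiv.Perm.isPretransitive_of_isCycle_mem hcyc g.2
      apply MulAction.IsPreprimitive.of_prime_card
      convert hq
      rw [Nat.card_eq_fintype_card, Fintype.card_subtype, ← hsupp']
      apply congr_arg
      ext x
      simp [SubMulAction.mem_ofFixingSubgroup_iff]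
    have h2 : MulAction.IsMultiplyPretransitive G α ((q - 1) + 2) :=
      MulAction.IsMultiplyPreprimitive.isMultiplyPretransitive ..
    exact MulAction.isMultiplyPretransitive_of_le (n := q - 1 + 2) (by omega)
      (by rw [Nat.card_eq_fintype_card, hα]; omega)
  · right
    refine ⟨g, g.2, hgo, fun x hx => ?_⟩
    have h1 : (g : Equiv.Perm α).support = Finset.univ :=
      Finset.eq_univ_of_card _ (by rw [hsupp, hα])
    have hx' : x ∈ (g : Equiv.Perm α).support := by rw [h1]; exact Finset.mem_univ x
    exact (Equiv.Perm.mem_support.mp hx') hx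

end Cfsg.Agent.Lib.helper92.W2P
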