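import Cfsg.Agent.Lib.helper68.W2PDefs

set_option autoImplicit false

/-!
# S0720 piece G2 (helper92): coordinates for a fixed-point-free element of order `p` on `2p` points
-/

namespace Cfsg.Agent.Lib.helper92.W2P

open Finset
open scoped Classical

variable {p : ℕ} [Fact p.Prime]

theorem g2_dvd_of_pow_fix {α : Type*} [Fintype α] (g : Equiv.Perm α) (hg : orderOf g = p)
    (hfpf : ∀ x : α, g x ≠ x) (n : ℕ) (a : α) (h : (g ^ n) a = a) : p ∣ n := by
  have hp : p.Prime := Fact.out
  by_contra hn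
  have hcop : Nat.Coprime n p := (Nat.Coprime.symm ((Nat.Prime.coprime_iff_not_dvd hp).mpr hn))
  obtain ⟨m, -, hm⟩ := Nat.exists_mul_mod_eq_one_of_coprime hcop hp.one_lt
  have h1 : (g ^ (n * m)) a = a := by
    rw [pow_mul]
    exact Equiv.Perm.pow_apply_eq_self_of_apply_eq_self h m
  have h2 : g ^ (n * m) = g := by
    rw [← pow_mod_orderOf, hg, hm, pow_one]
  rw [h2] at h1
  exact hfpf a h1

theorem g2_modEq_of_pow_eq {α : Type*} [Fintype α] (g : Equiv.Perm α) (hg : orderOf g = p)
    (hfpf : ∀ x : α, g x ≠ x) (m n : ℕ) (a : α) (h : (g ^ m) a = (g ^ n) a) : m ≡ n [MOD p] := by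
  rcases Nat.le_total m n with hmn | hmn
  · obtain ⟨d, rfl⟩ := Nat.exists_eq_add_of_le hmn
    rw [pow_add, Equiv.Perm.mul_apply] at h
    have h1 : (g ^ d) a = a := ((g ^ m).injective h).symm
    have h2 := g2_dvd_of_pow_fix g hg hfpf d a h1
    exact (Nat.modEq_iff_dvd' (Nat.le_add_right m d)).mpr (by simpa using h2)
  · obtain ⟨d, rfl⟩ := Nat.exists_eq_add_of_le hmn
    rw [pow_add, Equiv.Perm.mul_apply] at h
    have h1 : (g ^ d) a = a := ((g ^ n).injective h)
    have h2 := g2_dvd_of_pow_fix g hg hfpf d a h1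
    exact ((Nat.modEq_iff_dvd' (Nat.le_add_right n d)).mpr (by simpa using h2)).symm

theorem exists_coords {α : Type*} [Fintype α] [DecidableEq α]
    (hα : Fintype.card α = 2 * p) (g : Equiv.Perm α) (hg : orderOf g = p)
    (hfpf : ∀ x : α, g x ≠ x) :
    ∃ e : ZMod p × Fin 2 ≃ α, ∀ (x : ZMod p) (j : Fin 2), g (e (x, j)) = e (x + 1, j) := by
  have hp : p.Prime := Fact.out
  have : NeZero p := ⟨hp.ne_zero⟩
  have : Fact (1 < p) := ⟨hp.one_lt⟩
  have hpos : 0 < Fintype.card α := by rw [hα]; have := hp.pos; omega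
  obtain ⟨a0⟩ : Nonempty α := Fintype.card_pos_iff.mp hpos
  -- a point outside the orbit of a0
  have hex : ∃ a1 : α, ∀ n : ℕ, (g ^ n) a0 ≠ a1 := by
    by_contra hcon
    push Not at hcon
    have hsurj : Function.Surjective (fun x : ZMod p => (g ^ x.val) a0) := by
      intro b
      obtain ⟨n, hn⟩ := hcon b
      refine ⟨(n : ZMod p), ?_⟩
      show (g ^ ((n : ZMod p)).val) a0 = b
      rw [ZMod.val_natCast, ← hg, pow_mod_orderOf]
      exact hn
    have hle := Fintype.card_le_of_surjective _ hsurj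
    rw [ZMod.card, hα] at hle
    have := hp.pos
    omega
  obtain ⟨a1, ha1⟩ := hex
  let a : Fin 2 → α := ![a0, a1]
  let f : ZMod p × Fin 2 → α := fun z => (g ^ z.1.val) (a z.2)
  have hgp : g ^ p = 1 := by rw [← hg]; exact pow_orderOf_eq_one g
  have hcross : ∀ x y : ZMod p, (g ^ x.val) a0 ≠ (g ^ y.val) a1 := by
    intro x y h
    apply ha1 (p - y.val + x.val)
    have hy : y.val ≤ p := (ZMod.val_lt y).le
    calc (g ^ (p - y.val + x.val)) a0 = (g ^ (p - y.val)) ((g ^ x.val) a0) := by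
          rw [pow_add, Equiv.Perm.mul_apply]
      _ = (g ^ (p - y.val)) ((g ^ y.val) a1) := by rw [h]
      _ = (g ^ (p - y.val + y.val)) a1 := by rw [pow_add, Equiv.Perm.mul_apply]
      _ = a1 := by rw [Nat.sub_add_cancel hy, hgp]; rfl
  have hinj : Function.Injective f := by
    rintro ⟨x, j⟩ ⟨y, k⟩ h
    have hsame : ∀ b : α, (g ^ x.val) b = (g ^ y.val) b → x = y := by
      intro b hb
      have h1 := g2_modEq_of_pow_eq g hg hfpf x.val y.val b hb
      apply ZMod.val_injective p
      have h2 := Nat.ModEq.eq_of_lt_of_lt h1 (ZMod.val_lt x) (ZMod.val_lt y)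
      exact h2
    fin_cases j <;> fin_cases k
    · have := hsame a0 h
      simp [this]
    · exact absurd h (hcross x y)
    · exact absurd h.symm (hcross y x)
    · have := hsame a1 h
      simp [this]
  have hbij : Function.Bijective f := by
    rw [Fintype.bijective_iff_injective_and_card]
    refine ⟨hinj, ?_⟩
    rw [Fintype.card_prod, ZMod.card, Fintype.card_fin, hα, mul_comm]
  refine ⟨Equiv.ofBijective f hbij, ?_⟩
  intro x j
  show g ((g ^ x.val) (a j)) = (g ^ (x + 1).val) (a j)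
  have h1 : g ^ (x + 1).val = g ^ (x.val + 1) := by
    have h2 := pow_mod_orderOf g (x.val + 1)
    rw [hg] at h2
    rw [ZMod.val_add, ZMod.val_one, h2]
  rw [h1, pow_succ', Equiv.Perm.mul_apply]

end Cfsg.Agent.Lib.helper92.W2P
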