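import Cfsg.Agent.Lib.helper68.W2PDefs

set_option autoImplicit false

/-!
# S0720 piece G6 (helper92): rank and subdegrees from the scheme of orbitals
-/

namespace Cfsg.Agent.Lib.helper92.W2P

open Finset
open Cfsg.Agent.Lib.helper68.W2P
open scoped Classical

variable {p : ℕ} [Fact p.Prime] {ι : Type*}

theorem g6_mem_orbit_iff {α : Type*} (G : Subgroup (Equiv.Perm α))
    (e : ZMod p × Fin 2 ≃ α) (D : Scheme p ι)
    (hcol : ∀ a b a' b' : α, D.col (e.symm a) (e.symm b) = D.col (e.symm a') (e.symm b') ↔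
        ∃ h ∈ G, h a = a' ∧ h b = b') (a₀ b b' : α) :
    b' ∈ MulAction.orbit (MulAction.stabilizer G a₀) b ↔
      D.col (e.symm a₀) (e.symm b) = D.col (e.symm a₀) (e.symm b') := by
  rw [hcol]
  constructor
  · rintro ⟨k, rfl⟩
    refine ⟨((k : G) : Equiv.Perm α), (k : G).2, ?_, rfl⟩
    have h := k.2
    rw [MulAction.mem_stabilizer_iff] at h
    exact h
  · rintro ⟨h, hh, h1, rfl⟩
    exact ⟨⟨⟨h, hh⟩, by rw [MulAction.mem_stabilizer_iff]; exact h1⟩, rfl⟩

theorem two_trans_of_card_two {α : Type*} [Fintype α] [DecidableEq α]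
    (G : Subgroup (Equiv.Perm α)) (hG : MulAction.IsPretransitive G α)
    (e : ZMod p × Fin 2 ≃ α) [Fintype ι] (D : Scheme p ι)
    (hcol : ∀ a b a' b' : α, D.col (e.symm a) (e.symm b) = D.col (e.symm a') (e.symm b') ↔
        ∃ h ∈ G, h a = a' ∧ h b = b')
    (hcard : Fintype.card ι = 2) : MulAction.IsMultiplyPretransitive G α 2 := by
  rw [MulAction.is_two_pretransitive_iff]
  intro a b c d hab hcd
  have h1 : D.col (e.symm a) (e.symm b) ≠ D.i0 := by
    rw [Ne, D.diag]
    exact fun h => hab (e.symm.injective h)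
  have h2 : D.col (e.symm c) (e.symm d) ≠ D.i0 := by
    rw [Ne, D.diag]
    exact fun h => hcd (e.symm.injective h)
  have h3 : D.col (e.symm a) (e.symm b) = D.col (e.symm c) (e.symm d) := by
    by_contra hne
    have h4 : 2 < Fintype.card ι :=
      Fintype.two_lt_card_iff.mpr ⟨D.i0, _, _, h1.symm, h2.symm, hne⟩
    omega
  obtain ⟨h, hh, h4, h5⟩ := (hcol a b c d).mp h3
  exact ⟨⟨h, hh⟩, h4, h5⟩

theorem rank_of_card {α : Type*} [Fintype α] [DecidableEq α]
    (G : Subgroup (Equiv.Perm α)) (hG : MulAction.IsPretransitive G α)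
    (e : ZMod p × Fin 2 ≃ α) [Fintype ι] (D : Scheme p ι)
    (hcol : ∀ a b a' b' : α, D.col (e.symm a) (e.symm b) = D.col (e.symm a') (e.symm b') ↔
        ∃ h ∈ G, h a = a' ∧ h b = b') (a₀ : α) :
    Nat.card (MulAction.orbitRel.Quotient (MulAction.stabilizer G a₀) α) = Fintype.card ι := by
  rw [← Nat.card_eq_fintype_card]
  let f : MulAction.orbitRel.Quotient (MulAction.stabilizer G a₀) α → ι :=
    Quotient.lift (fun b => D.col (e.symm a₀) (e.symm b)) (by
      intro b b' h
      exact ((g6_mem_orbit_iff G e D hcol a₀ b' b).mp h).symm)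
  apply Nat.card_eq_of_bijective f
  constructor
  · intro x y
    induction x using Quotient.inductionOn with
    | _ a =>
    induction y using Quotient.inductionOn with
    | _ b =>
    intro h
    apply Quotient.sound
    exact (g6_mem_orbit_iff G e D hcol a₀ b a).mpr h.symm
  · intro j
    obtain ⟨ω, ω', hj⟩ := D.surj j
    obtain ⟨h, hh⟩ := MulAction.exists_smul_eq G (e ω) a₀
    refine ⟨Quotient.mk _ (h • (e ω')), ?_⟩
    show D.col (e.symm a₀) (e.symm (h • e ω')) = j
    rw [← hj]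
    have h1 := (hcol (e ω) (e ω') a₀ (h • e ω')).mpr ⟨h, h.2, hh, rfl⟩
    simpa using h1.symm

theorem suborbit_card {α : Type*} [Fintype α] [DecidableEq α]
    (G : Subgroup (Equiv.Perm α)) (hG : MulAction.IsPretransitive G α)
    (e : ZMod p × Fin 2 ≃ α) (D : Scheme p ι)
    (hcol : ∀ a b a' b' : α, D.col (e.symm a) (e.symm b) = D.col (e.symm a') (e.symm b') ↔
        ∃ h ∈ G, h a = a' ∧ h b = b') (a₀ b : α) :
    Nat.card (MulAction.orbit (MulAction.stabilizer G a₀) b) =
      D.n (D.col (e.symm a₀) (e.symm b)) := by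
  rw [← D.valency (D.col (e.symm a₀) (e.symm b)) (e.symm a₀)]
  have hset : MulAction.orbit (MulAction.stabilizer G a₀) b =
      e '' ((univ.filter (fun ω' => D.col (e.symm a₀) ω' =
        D.col (e.symm a₀) (e.symm b)) : Finset (ZMod p × Fin 2)) : Set (ZMod p × Fin 2)) := by
    ext b'
    rw [g6_mem_orbit_iff G e D hcol a₀ b b']
    constructor
    · intro h
      exact ⟨e.symm b', by simp [h], by simp⟩
    · rintro ⟨ω, hω, rfl⟩
      simp only [coe_filter, mem_univ, true_and, Set.mem_ofPred_eq] at hω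
      simp [hω]
  rw [Nat.card_coe_set_eq, hset, Set.ncard_image_of_injective _ e.injective,
    Set.ncard_coe_finset]

end Cfsg.Agent.Lib.helper92.W2P
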