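import Cfsg.Agent.Lib.helper92.TT15a

/-!
# 3-transposition classes with a triple: the counting argument

For a triple `(d; a, b)` no member of `D` commuting with `a` and `b` fails to commute with `d`.
-/

set_option autoImplicit false

namespace Cfsg.Agent.Lib.helper92.TT15

open Cfsg.Agent.Lib.helper91

universe u

variable {G : Type u} [Group G] {D : Set G}

theorem conj_eq_of_commute {r d : G} (h : Commute r d) : r * d * r⁻¹ = d := by
  rw [h.eq]; group

theorem commute_of_conj_eq {r s : G} (h : r * s * r⁻¹ = s) : Commute r s :=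
  mul_inv_eq_iff_eq_mul.mp h

theorem conj_image_ncard (g : G) (S : Set G) : ((fun y => g * y * g⁻¹) '' S).ncard = S.ncard :=
  Set.ncard_image_of_injective S (fun _ _ h => mul_left_cancel (mul_right_cancel h))

theorem dp_conj_image (hconj : ∀ g : G, ∀ x ∈ D, g * x * g⁻¹ ∈ D) (g u : G) :
    (fun y => g * y * g⁻¹) '' Dp D u = Dp D (g * u * g⁻¹) := by
  ext z
  constructor
  · rintro ⟨y, hy, rfl⟩
    exact (mem_dp_conj_iff hconj g u y).mpr hy
  · intro hz
    refine ⟨g⁻¹ * z * g, ?_, by group⟩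
    apply (mem_dp_conj_iff hconj g u _).mp
    have : g * (g⁻¹ * z * g) * g⁻¹ = z := by group
    rw [this]; exact hz

theorem dp_ncard_eq (hD : Cfsg.IsThreeTranspositionClass D) {u v : G} (hu : u ∈ D) (hv : v ∈ D) :
    (Dp D u).ncard = (Dp D v).ncard := by
  obtain ⟨g, hg⟩ := isConj_iff.mp (tt_class_isConj hD hu hv)
  rw [← hg, ← dp_conj_image (fun g x hx => tt_class_conj_mem hD g hx) g u, conj_image_ncard]

theorem pCore_three_eq_bot [Finite G]
    (hsol : ∀ N : Subgroup G, N.Normal → Group.IsSolvable ↥N → N = ⊥) : Cfsg.pCore 3 G = ⊥ := by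
  have : Fact (Nat.Prime 3) := ⟨Nat.prime_three⟩
  apply hsol _ (pCore_normal'' 3 G)
  have := (pCore_isPGroup' 3 G).isNilpotent
  infer_instance

/-- No member of `D` has its commuting set inside that of another member. -/
theorem dp_subset_eq [Finite G] (hD : Cfsg.IsThreeTranspositionClass D)
    (hsol : ∀ N : Subgroup G, N.Normal → Group.IsSolvable ↥N → N = ⊥) :
    ∀ u ∈ D, ∀ v ∈ D, Dp D u ⊆ Dp D v → u = v := by
  intro u hu v hv h
  have heq : Dp D u = Dp D v :=
    Set.eq_of_subset_of_ncard_le h (le_of_eq (dp_ncard_eq hD hu hv).symm) (Set.toFinite _)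
  have hth : Th D u v := ⟨hu, hv, heq⟩
  have hm := th_mul_mem_pCore hD.1 (fun g x hx => tt_class_conj_mem hD g hx) hth
  rw [pCore_three_eq_bot hsol, Subgroup.mem_bot] at hm
  have := eq_inv_of_mul_eq_one_left hm
  rw [this, tt_inv hD.1 hv]

/-- Fixed-point congruence for a `p`-subgroup acting by conjugation on a stable subset. -/
theorem conj_card_modEq [Finite G] (p : ℕ) [Fact p.Prime] (R : Subgroup G) (hR : IsPGroup p R)
    (S : Set G) (hS : ∀ r ∈ R, ∀ s ∈ S, r * s * r⁻¹ ∈ S) :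
    S.ncard ≡ {s : G | s ∈ S ∧ ∀ r ∈ R, r * s * r⁻¹ = s}.ncard [MOD p] := by
  let _ : MulAction R S :=
    { smul := fun r s => ⟨(r : G) * s * (r : G)⁻¹, hS r r.2 s s.2⟩
      one_smul := fun s => Subtype.ext (by
        show ((1 : R) : G) * s * ((1 : R) : G)⁻¹ = s
        simp)
      mul_smul := fun r r' s => Subtype.ext (by
        show ((r * r' : R) : G) * s * ((r * r' : R) : G)⁻¹ =
          (r : G) * ((r' : G) * s * (r' : G)⁻¹) * (r : G)⁻¹
        simp [mul_assoc]) }
  have h := hR.card_modEq_card_fixedPoints (↥S)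
  rw [Nat.card_coe_set_eq] at h
  have e : Nat.card (MulAction.fixedPoints R S) =
      {s : G | s ∈ S ∧ ∀ r ∈ R, r * s * r⁻¹ = s}.ncard := by
    rw [← Nat.card_coe_set_eq]
    apply Nat.card_congr
    exact
      { toFun := fun s => ⟨(s.1 : G), s.1.2, fun r hr => congrArg Subtype.val (s.2 ⟨r, hr⟩)⟩
        invFun := fun s => ⟨⟨s.1, s.2.1⟩, fun r => Subtype.ext (s.2.2 r r.2)⟩
        left_inv := fun _ => rfl
        right_inv := fun _ => rfl }
  rw [e] at h
  exact h

theorem three_dvd_of_no_fixed [Finite G] (R : Subgroup G) (hR : IsPGroup 3 R) (S : Set G)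
    (hS : ∀ r ∈ R, ∀ s ∈ S, r * s * r⁻¹ ∈ S)
    (hfix : ∀ s ∈ S, ¬ ∀ r ∈ R, r * s * r⁻¹ = s) : 3 ∣ S.ncard := by
  have : Fact (Nat.Prime 3) := ⟨Nat.prime_three⟩
  have h := conj_card_modEq 3 R hR S hS
  have e : {s : G | s ∈ S ∧ ∀ r ∈ R, r * s * r⁻¹ = s} = ∅ := by
    ext s
    simp only [Set.mem_ofPred_eq, Set.mem_empty_iff_false, iff_false]
    rintro ⟨hs, h⟩
    exact hfix s hs h
  rw [e, Set.ncard_empty] at h
  exact (Nat.modEq_zero_iff_dvd).mp h

theorem isPGroup_three_zpowers {τ : G} (h : τ ^ 3 = 1) : IsPGroup 3 (Subgroup.zpowers τ) := by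
  rintro ⟨g, hg⟩
  refine ⟨1, ?_⟩
  obtain ⟨k, rfl⟩ := Subgroup.mem_zpowers_iff.mp hg
  apply Subtype.ext
  simp only [Subgroup.coe_pow, Subgroup.coe_one, pow_one]
  rw [← zpow_natCast, ← zpow_mul, mul_comm, zpow_mul, zpow_natCast, h, one_zpow]

theorem A_stable (hconj : ∀ g : G, ∀ x ∈ D, g * x * g⁻¹ ∈ D) {d r s : G} (hrd : Commute r d)
    (hs : s ∈ {y | y ∈ D ∧ ¬ Commute d y}) : r * s * r⁻¹ ∈ {y | y ∈ D ∧ ¬ Commute d y} := by
  refine ⟨hconj r s hs.1, fun hc => hs.2 ?_⟩
  have e := conj_eq_of_commute hrd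
  have hc' : Commute (r * d * r⁻¹) (r * s * r⁻¹) := by rw [e]; exact hc
  exact (Commute.conj_iff r).mp hc'

/-- For a triple `(d; a, b)` the product `a * b` lies in the largest normal 3-subgroup of the
centralizer of `d`. -/
theorem Trip.mul_mem [Finite G] (hT : Cfsg.IsThreeTranspositionSet D)
    (hconj : ∀ g : G, ∀ x ∈ D, g * x * g⁻¹ ∈ D) {d a b : G} (h : Trip D d a b)
    (C : Subgroup G) (hC : ∀ g ∈ C, Commute g d) (haC : a ∈ C) (hbC : b ∈ C) :
    a * b ∈ (Cfsg.pCore 3 ↥C).map C.subtype := by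
  let D' : Set C := {y | (y : G) ∈ Dp D d}
  have hT' : Cfsg.IsThreeTranspositionSet D' := by
    refine ⟨fun y hy => ?_, fun y hy z hz => ?_⟩
    · rw [← Subgroup.orderOf_coe]; exact hT.1 _ hy.1
    · rcases hT.2 _ hy.1 _ hz.1 with h1 | h1
      · left; apply Subtype.ext; simpa using h1
      · right; apply Subtype.ext; simpa using h1
  have hconj' : ∀ g : C, ∀ y ∈ D', g * y * g⁻¹ ∈ D' := by
    intro g y hy
    have hg := hC g g.2
    show ((g * y * g⁻¹ : C) : G) ∈ Dp D d
    have e : ((g * y * g⁻¹ : C) : G) = (g : G) * (y : G) * (g : G)⁻¹ := by simp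
    rw [e]
    have := (mem_dp_conj_iff hconj (g : G) d (y : G)).mpr hy
    rwa [conj_eq_of_commute hg] at this
  have hTh : Th D' ⟨a, haC⟩ ⟨b, hbC⟩ := by
    refine ⟨⟨h.ha, h.had, h.cda⟩, ⟨h.hb, h.hbd, h.cdb⟩, ?_⟩
    ext z
    have key := h.heq (z : G)
    constructor
    · rintro ⟨hz, hza, haz⟩
      have := (key hz.1 hz.2.1 hz.2.2).mp
        ⟨fun e => hza (Subtype.ext e), congrArg Subtype.val haz.eq⟩
      exact ⟨hz, fun e => this.1 (congrArg Subtype.val e), Subtype.ext this.2.eq⟩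
    · rintro ⟨hz, hzb, hbz⟩
      have := (key hz.1 hz.2.1 hz.2.2).mpr
        ⟨fun e => hzb (Subtype.ext e), congrArg Subtype.val hbz.eq⟩
      exact ⟨hz, fun e => this.1 (congrArg Subtype.val e), Subtype.ext this.2.eq⟩
  have := th_mul_mem_pCore hT' hconj' hTh
  exact Subgroup.mem_map.mpr ⟨_, this, rfl⟩

theorem Trip.c1 [Finite G] (hT : Cfsg.IsThreeTranspositionSet D)
    (hconj : ∀ g : G, ∀ x ∈ D, g * x * g⁻¹ ∈ D)
    (hsub : ∀ u ∈ D, ∀ v ∈ D, Dp D u ⊆ Dp D v → u = v) {d a b : G} (h : Trip D d a b) {x : G}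
    (hx : x ∈ D) (hxa : Commute x a) (hxb : Commute x b) (hxd : ¬ Commute x d) :
    3 ∣ (insert d {y | y ∈ D ∧ Commute y a ∧ Commute y b ∧ ¬ Commute y d}).ncard := by
  have hdd := tt_sq hT h.hd
  have hxx := tt_sq hT hx
  have hbr : d * x * d = x * d * x := tt_braid hT h.hd hx (fun hc => hxd hc.symm)
  have h3 : (d * x) ^ 3 = 1 := cube_of_braid hdd hxx hbr
  have hle : Subgroup.zpowers (d * x) ≤ Subgroup.centralizer
      {g | g = a ∨ g = b ∨ (g ∈ D ∧ g ≠ d ∧ Commute d g ∧ g ≠ a ∧ Commute a g)} := by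
    apply Subgroup.zpowers_le.mpr
    rw [Subgroup.mem_centralizer_iff]
    rintro g (rfl | rfl | ⟨hg, hgd, hdg, hga, hag⟩)
    · exact (h.cda.symm.mul_right hxa.symm).eq
    · exact (h.cdb.symm.mul_right hxb.symm).eq
    · exact (hdg.symm.mul_right (h.F6 hT hconj hsub hg hgd hdg hga hag hx hxa hxb hxd)).eq
  apply three_dvd_of_no_fixed (Subgroup.zpowers (d * x)) (isPGroup_three_zpowers h3)
  · intro r hr s hs
    have hr' := hle hr
    rw [Subgroup.mem_centralizer_iff] at hr'
    have hra : Commute a r := hr' a (Or.inl rfl)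
    have hrb : Commute b r := hr' b (Or.inr (Or.inl rfl))
    have hs' : s ∈ D ∧ Commute s a ∧ Commute s b ∧ (s = d ∨ ¬ Commute s d) := by
      rcases hs with rfl | hs
      · exact ⟨h.hd, h.cda, h.cdb, Or.inl rfl⟩
      · exact ⟨hs.1, hs.2.1, hs.2.2.1, Or.inr hs.2.2.2⟩
    obtain ⟨hsD, hsa, hsb, hsd⟩ := hs'
    have h1 : r * s * r⁻¹ ∈ D := hconj r s hsD
    have h2 : Commute (r * s * r⁻¹) a := by
      have := (Commute.conj_iff r).mpr hsa
      rwa [conj_eq_of_commute hra.symm] at this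
    have h2b : Commute (r * s * r⁻¹) b := by
      have := (Commute.conj_iff r).mpr hsb
      rwa [conj_eq_of_commute hrb.symm] at this
    by_cases h4 : r * s * r⁻¹ = d
    · left; exact h4
    · right
      refine ⟨h1, h2, h2b, ?_⟩
      intro h5
      have h6 : r * s * r⁻¹ ≠ a := by
        intro h6
        have hsa' : s = a := by
          have e := conj_eq_of_commute hra.symm
          rw [← e] at h6
          exact mul_left_cancel (mul_right_cancel h6)
        rcases hsd with hsd | hsd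
        · exact h.had (hsa' ▸ hsd)
        · rw [hsa'] at hsd; exact hsd h.cda.symm
      have h7 : Commute (r * s * r⁻¹) r :=
        hr' _ (Or.inr (Or.inr ⟨h1, h4, h5.symm, h6, h2.symm⟩))
      have h8 : r * s * r⁻¹ = s := by
        have e := h7.eq
        have e2 : r * s * r⁻¹ * r = r * s := by group
        rw [e2] at e
        exact (mul_left_cancel e).symm
      rw [h8] at h4 h5
      rcases hsd with hsd | hsd
      · exact h4 hsd
      · exact hsd h5
  · intro s hs hfix
    have hτs : Commute (d * x) s := commute_of_conj_eq (hfix (d * x) (Subgroup.mem_zpowers _))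
    rcases hs with rfl | hs
    · have h1 : Commute (s * (s * x)) s := (Commute.refl s).mul_left hτs
      rw [← mul_assoc, hdd, one_mul] at h1
      exact hxd h1
    · have hinv : d * (d * x) * d = (d * x)⁻¹ := by
        rw [mul_inv_rev, tt_inv hT hx, tt_inv hT h.hd, ← mul_assoc, hdd, one_mul]
      have h1 := lemA hdd (tt_sq hT hs.1) (tt_braid hT h.hd hs.1 (fun hc => hs.2.2.2 hc.symm))
        hinv h3 hτs.symm
      have h2 : x = d := by
        have := eq_inv_of_mul_eq_one_right h1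
        rw [this, tt_inv hT h.hd]
      rw [h2] at hxd
      exact hxd (Commute.refl d)

theorem Trip.c2 [Finite G] (hT : Cfsg.IsThreeTranspositionSet D)
    (hconj : ∀ g : G, ∀ x ∈ D, g * x * g⁻¹ ∈ D) {d a b : G} (h : Trip D d a b) :
    {y | y ∈ D ∧ ¬ Commute d y}.ncard ≡
      {y | y ∈ D ∧ Commute y a ∧ Commute y b ∧ ¬ Commute y d}.ncard [MOD 3] := by
  have : Fact (Nat.Prime 3) := ⟨Nat.prime_three⟩
  have hab := h.nab
  have h3 : (a * b) ^ 3 = 1 :=
    cube_of_braid (tt_sq hT h.ha) (tt_sq hT h.hb) (tt_braid hT h.ha h.hb hab)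
  have hle : Subgroup.zpowers (a * b) ≤ Subgroup.centralizer {d} := by
    apply Subgroup.zpowers_le.mpr
    rw [Subgroup.mem_centralizer_iff]
    rintro g rfl
    exact (h.cda.mul_right h.cdb).eq
  have key := conj_card_modEq 3 (Subgroup.zpowers (a * b)) (isPGroup_three_zpowers h3)
    {y | y ∈ D ∧ ¬ Commute d y} (by
      intro r hr s hs
      have hrd : Commute d r := by
        have := hle hr
        rw [Subgroup.mem_centralizer_iff] at this
        exact this d rfl
      exact A_stable hconj hrd.symm hs)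
  have e : {s : G | s ∈ {y | y ∈ D ∧ ¬ Commute d y} ∧
      ∀ r ∈ Subgroup.zpowers (a * b), r * s * r⁻¹ = s} =
      {y | y ∈ D ∧ Commute y a ∧ Commute y b ∧ ¬ Commute y d} := by
    ext s
    constructor
    · rintro ⟨⟨hsD, hds⟩, hfix⟩
      have hts : Commute (a * b) s := commute_of_conj_eq (hfix _ (Subgroup.mem_zpowers _))
      have hsa : Commute s a := tt_commute_of_commute_mul hT h.ha h.hb hsD hab hts.symm
      have hsb : Commute s b := by
        have : Commute s (a * (a * b)) := hsa.mul_right hts.symm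
        rwa [← mul_assoc, tt_sq hT h.ha, one_mul] at this
      exact ⟨hsD, hsa, hsb, fun hc => hds hc.symm⟩
    · rintro ⟨hsD, hsa, hsb, hsd⟩
      refine ⟨⟨hsD, fun hc => hsd hc.symm⟩, ?_⟩
      intro r hr
      have hle2 : Subgroup.zpowers (a * b) ≤ Subgroup.centralizer {s} := by
        apply Subgroup.zpowers_le.mpr
        rw [Subgroup.mem_centralizer_iff]
        rintro g rfl
        exact (hsa.mul_right hsb).eq
      have := hle2 hr
      rw [Subgroup.mem_centralizer_iff] at this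
      exact conj_eq_of_commute (this s rfl).symm
  rw [e] at key
  exact key

theorem Trip.c3 [Finite G] (hD : Cfsg.IsThreeTranspositionClass D)
    (hP : Cfsg.IsPrimitiveUnderConj D)
    (hsub : ∀ u ∈ D, ∀ v ∈ D, Dp D u ⊆ Dp D v → u = v) {d a b : G} (h : Trip D d a b) :
    3 ∣ {y | y ∈ D ∧ ¬ Commute d y}.ncard := by
  have hT := hD.1
  have hconj : ∀ g : G, ∀ x ∈ D, g * x * g⁻¹ ∈ D := fun g x hx => tt_class_conj_mem hD g hx
  have : Fact (Nat.Prime 3) := ⟨Nat.prime_three⟩
  have hC : ∀ g ∈ Subgroup.centralizer ({d} : Set G), Commute g d := by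
    intro g hg
    rw [Subgroup.mem_centralizer_iff] at hg
    exact (hg d rfl).symm
  have hC' : ∀ g : G, Commute g d → g ∈ Subgroup.centralizer ({d} : Set G) := by
    intro g hg
    rw [Subgroup.mem_centralizer_iff]
    rintro k rfl
    exact hg.symm.eq
  apply three_dvd_of_no_fixed
    ((Cfsg.pCore 3 ↥(Subgroup.centralizer ({d} : Set G))).map
      (Subgroup.centralizer ({d} : Set G)).subtype)
    ((pCore_isPGroup' 3 ↥(Subgroup.centralizer ({d} : Set G))).map _)
  · intro r hr s hs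
    have hrC : r ∈ Subgroup.centralizer ({d} : Set G) := Subgroup.map_subtype_le _ hr
    exact A_stable hconj (hC r hrC) hs
  · rintro s ⟨hsD, hds⟩ hfix
    apply hds
    have hds' : d = s := by
      apply hsub d h.hd s hsD
      rintro a' ⟨ha'D, ha'd, hda'⟩
      obtain ⟨g, hg, hga⟩ :=
        tt_rank3_commute hD hP h.hd h.ha ha'D h.had.symm ha'd.symm h.cda hda'
      have t' := h.conj_fix hconj hg
      rw [hga] at t'
      have hmem := t'.mul_mem hT hconj (Subgroup.centralizer ({d} : Set G)) hC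
        (hC' _ t'.cda.symm) (hC' _ t'.cdb.symm)
      have hc : Commute (a' * (g * b * g⁻¹)) s := commute_of_conj_eq (hfix _ hmem)
      have hsa' : Commute s a' := tt_commute_of_commute_mul hT ha'D t'.hb hsD t'.nab hc.symm
      refine ⟨ha'D, ?_, hsa'⟩
      rintro rfl
      exact hds hda'
    rw [hds']

/-- Case 2 is impossible: a member of `D` commuting with `a` and `b` commutes with `d`. -/
theorem Trip.noB [Finite G] (hD : Cfsg.IsThreeTranspositionClass D)
    (hP : Cfsg.IsPrimitiveUnderConj D)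
    (hsub : ∀ u ∈ D, ∀ v ∈ D, Dp D u ⊆ Dp D v → u = v) {d a b : G} (h : Trip D d a b) :
    ∀ x ∈ D, Commute x a → Commute x b → Commute x d := by
  intro x hx hxa hxb
  by_contra hxd
  have hT := hD.1
  have hconj : ∀ g : G, ∀ x ∈ D, g * x * g⁻¹ ∈ D := fun g x hx => tt_class_conj_mem hD g hx
  have c1 := h.c1 hT hconj hsub hx hxa hxb hxd
  have c2 := h.c2 hT hconj
  have c3 := h.c3 hD hP hsub
  have hdB : d ∉ {y | y ∈ D ∧ Commute y a ∧ Commute y b ∧ ¬ Commute y d} :=
    fun hd => hd.2.2.2 (Commute.refl d)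
  rw [Set.ncard_insert_of_notMem hdB] at c1
  unfold Nat.ModEq at c2
  omega

end Cfsg.Agent.Lib.helper92.TT15
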