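import Mathlib
import Cfsg.Agent.Lib.helper21.M11Defs
import Cfsg.Agent.Lib.helper21.ExcData
import Cfsg.Agent.Lib.helper21.SylowCard
import Cfsg.Agent.Lib.helper82.CharSums
import Cfsg.Agent.Lib.helper46.M11_K1
import Cfsg.Agent.Lib.helper1.M11_C
import Cfsg.Agent.Lib.helper77.M11_E
import Cfsg.Agent.Lib.helper42.M11_D
import Cfsg.Agent.Lib.helper77.M11_F
import Cfsg.Agent.Lib.helper17.M11_G

set_option autoImplicit false

/-!
# The chain of facts on a simple group of order 7920 (helper92)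

Assembly of the pieces of the S4429 project (helper21's blueprint): for every Sylow
`11`-subgroup `P` and Sylow `5`-subgroup `Q` of a simple group of order `7920`:
`|P| = 11`, `|N(P)| = 55`, `C(P) ≤ P`, pattern (I) holds for `P`, `|Q| = 5`, `C(Q) ≤ Q`,
`|N(Q)| = 20`, and the irreducible characters form a list of degrees
`1, 10, 10, 10, 45, 16, 16, 11, 44, 55`.
-/

namespace Cfsg.Agent.Lib.helper92.M11Chain

open Cfsg Cfsg.Agent.Lib.helper4 Cfsg.Agent.Lib.helper21

universe u

theorem m11_patI {G : Type u} [Group G] [Fintype G] [Fintype (IrrCharacter G)]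
    [IsSimpleGroup G] (hG : Nat.card G = 7920) (P : Sylow 11 G) :
    Nat.card (P : Subgroup G) = 11 ∧
      Nat.card (Subgroup.normalizer ((P : Subgroup G) : Set G)) = 55 ∧
      Subgroup.centralizer ((P : Subgroup G) : Set G) ≤ (P : Subgroup G) ∧
      M11PatI (P : Subgroup G) := by
  classical
  have hnp : ¬ (Nat.card G).Prime := by rw [hG]; norm_num
  have : Fact (Nat.Prime 11) := ⟨by norm_num⟩
  obtain ⟨hN, hC⟩ := Cfsg.Agent.Lib.helper46.m11_sylow_eleven hG P
  have hP : Nat.card (P : Subgroup G) = 11 :=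
    sylow_card_eq_prime P (by rw [hG]; norm_num) (by rw [hG]; norm_num)
  refine ⟨hP, hN, hC, ?_⟩
  obtain ⟨ε, b, S, b₀, f₀, hex⟩ := exceptional_data (p := 11) (e := 5) (by norm_num)
    (P : Subgroup G) hP hC (by rw [hN]) (by norm_num)
  rcases Cfsg.Agent.Lib.helper1.m11_pattern hG (P : Subgroup G) ε b S b₀ f₀ hex with h | h | h
  · exact h
  · exact (Cfsg.Agent.Lib.helper77.m11_not_patII hG (P : Subgroup G) hP hC hN h).elim
  · exfalso
    obtain ⟨ψ, hψd, hψx⟩ := h
    have : Nontrivial (P : Subgroup G) :=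
      Finite.one_lt_card_iff_nontrivial.mp (by rw [hP]; norm_num)
    obtain ⟨⟨y, hyP⟩, hy⟩ := exists_ne (1 : (P : Subgroup G))
    have hy1 : y ≠ 1 := fun h => hy (Subtype.ext h)
    have hne : ψ ≠ trivIrr G := by
      rintro rfl
      have h1 := Cfsg.Agent.Lib.helper82.irr_one_eq (trivIrr G)
      rw [hψd] at h1
      have h2 : ((trivIrr G : IrrCharacter G) : G → ℂ) 1 = 1 := rfl
      rw [h2] at h1
      norm_num at h1
    apply Cfsg.Agent.Lib.helper42.irr_apply_ne_degree_of_simple hnp ψ hne y hy1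
    rw [hψx y hyP hy1, Cfsg.Agent.Lib.helper82.irr_one_eq, hψd]
    norm_num

theorem m11_chain {G : Type u} [Group G] [Fintype G] [Fintype (IrrCharacter G)]
    [IsSimpleGroup G] (hG : Nat.card G = 7920) (P : Sylow 11 G) (Q : Sylow 5 G) :
    Nat.card (P : Subgroup G) = 11 ∧
      Nat.card (Subgroup.normalizer ((P : Subgroup G) : Set G)) = 55 ∧
      Subgroup.centralizer ((P : Subgroup G) : Set G) ≤ (P : Subgroup G) ∧
      M11PatI (P : Subgroup G) ∧
      Nat.card (Q : Subgroup G) = 5 ∧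
      Subgroup.centralizer ((Q : Subgroup G) : Set G) ≤ (Q : Subgroup G) ∧
      Nat.card (Subgroup.normalizer ((Q : Subgroup G) : Set G)) = 20 ∧
      ∃ l : List (IrrCharacter G), l.Nodup ∧ (∀ ψ : IrrCharacter G, ψ ∈ l) ∧
        l.map (fun ψ : IrrCharacter G => charDegree (ψ : G → ℂ)) =
          [1, 10, 10, 10, 45, 16, 16, 11, 44, 55] := by
  classical
  have : Fact (Nat.Prime 5) := ⟨by norm_num⟩
  obtain ⟨hP, hN, hC, hpat⟩ := m11_patI hG P
  have hQ : Nat.card (Q : Subgroup G) = 5 :=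
    sylow_card_eq_prime Q (by rw [hG]; norm_num) (by rw [hG]; norm_num)
  obtain ⟨hQC, hQN⟩ :=
    Cfsg.Agent.Lib.helper77.m11_sylow_five_of_patI hG (P : Subgroup G) hP hpat Q
  exact ⟨hP, hN, hC, hpat, hQ, hQC, hQN,
    Cfsg.Agent.Lib.helper17.m11_list_of_patI hG (P : Subgroup G) hpat (Q : Subgroup G) hQ hQC hQN⟩

end Cfsg.Agent.Lib.helper92.M11Chain
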