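import Mathlib

set_option autoImplicit false

/-!
# Arithmetic for the involution centralizer of a simple group of order 7920 (helper92)
-/

namespace Cfsg.Agent.Lib.helper92.M11Inv

set_option synthInstance.maxHeartbeats 400000 in
set_option synthInstance.maxSize 4096 in
/-- Stage 1, natural-number parametrisation: `a = 45 - 4 i`, `b_j = 10 - 4 j`. -/
theorem arith1_nat : ∀ i : ℕ, i < 23 → ∀ j1 : ℕ, j1 < 6 → ∀ j2 : ℕ, j2 < 6 → ∀ j3 : ℕ, j3 < 6 →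
    (720 + 16 * (45 - 4 * (i : ℤ)) ^ 2
        - 72 * ((10 - 4 * (j1 : ℤ)) ^ 2 + (10 - 4 * (j2 : ℤ)) ^ 2 + (10 - 4 * (j3 : ℤ)) ^ 2)
        - 45 * (1 - (10 - 4 * (j1 : ℤ)) - (10 - 4 * (j2 : ℤ)) - (10 - 4 * (j3 : ℤ))
            + (45 - 4 * (i : ℤ))) ^ 2 = 0) →
      (i = 12 ∧ j1 + j2 + j3 = 8 ∧
        (10 - 4 * (j1 : ℤ)) ^ 2 + (10 - 4 * (j2 : ℤ)) ^ 2 + (10 - 4 * (j3 : ℤ)) ^ 2 = 12) ∨
      (i = 0 ∧ j1 = 0 ∧ j2 = 0 ∧ j3 = 0) := by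
  decide +kernel

/-- Stage 2 (true branch). -/
theorem arith2_nat : ∀ i : ℕ, i < 6 → ∀ j : ℕ, j < 23 → ∀ k : ℕ, k < 28 →
    (11 - 4 * (i : ℤ)) + 4 * (44 - 4 * (j : ℤ)) + 5 * (55 - 4 * (k : ℤ)) = 14 →
    (22 + (11 - 4 * (i : ℤ)) ^ 2 + (44 - 4 * (j : ℤ)) ^ 2 + (55 - 4 * (k : ℤ)) ^ 2) ∣ (7920 : ℤ) →
    22 + (11 - 4 * (i : ℤ)) ^ 2 + (44 - 4 * (j : ℤ)) ^ 2 + (55 - 4 * (k : ℤ)) ^ 2 = 48 := by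
  decide +kernel

/-- Stage 2 (fake branch). -/
theorem arith3_nat : ∀ i : ℕ, i < 6 → ∀ j : ℕ, j < 23 → ∀ k : ℕ, k < 28 →
    (11 - 4 * (i : ℤ)) + 4 * (44 - 4 * (j : ℤ)) + 5 * (55 - 4 * (k : ℤ)) = -258 →
    ¬ (2838 + (11 - 4 * (i : ℤ)) ^ 2 + (44 - 4 * (j : ℤ)) ^ 2 + (55 - 4 * (k : ℤ)) ^ 2) ∣
      (7920 : ℤ) := by
  decide +kernel

end Cfsg.Agent.Lib.helper92.M11Inv
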