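import Mathlib
import Cfsg.Agent.Lib.helper21.M11Defs
import Cfsg.Agent.Lib.helper83.CharBasic
import Cfsg.Agent.Lib.helper82.CharSums
import Cfsg.Agent.Lib.helper92.M11InvArith

set_option autoImplicit false

/-!
# Involution centralizers of a simple group of order 7920 (helper92)

Core lemma: from pattern (I) of the characters of degree prime to `11`, the complete list of
character degrees, the values at an involution (integers, congruent to the degree mod `4`), the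
class equation for `(t, t, x)` (`x` of order `11`) and the second orthogonality relations, the
centralizer of an involution has order `48`.
-/

namespace Cfsg.Agent.Lib.helper92.M11Inv

open Cfsg Cfsg.Agent.Lib.helper4 Cfsg.Agent.Lib.helper21
open scoped ComplexConjugate

universe u

theorem exists_param (d : ℕ) (v : ℤ) (h4 : (4 : ℤ) ∣ (d : ℤ) - v) (habs : |v| ≤ (d : ℤ)) :
    ∃ i : ℕ, 2 * i ≤ d ∧ v = (d : ℤ) - 4 * (i : ℤ) := by
  obtain ⟨m, hm⟩ := h4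
  obtain ⟨h1, h2⟩ := abs_le.mp habs
  have hm0 : 0 ≤ m := by omega
  lift m to ℕ using hm0
  exact ⟨m, by omega, by omega⟩

set_option maxHeartbeats 1600000 in
theorem card_centralizer_involution {G : Type u} [Group G] [Fintype G]
    [Fintype (IrrCharacter G)]
    (hG : Nat.card G = 7920) (P : Subgroup G) (hP : Nat.card P = 11)
    (hN : Nat.card (Subgroup.normalizer (P : Set G)) = 55) (hpat : M11PatI P)
    (l : List (IrrCharacter G)) (hnd : l.Nodup) (hall : ∀ ψ : IrrCharacter G, ψ ∈ l)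
    (hdeg : l.map (fun ψ : IrrCharacter G => charDegree (ψ : G → ℂ)) =
        [1, 10, 10, 10, 45, 16, 16, 11, 44, 55])
    (t : G) (ht : orderOf t = 2)
    (hV : ∀ (ψ : IrrCharacter G) (x : G), 11 ∣ charDegree (ψ : G → ℂ) → orderOf x = 11 →
      (ψ : G → ℂ) x = 0)
    (hM4 : ∀ ψ : IrrCharacter G, ∃ s : ℤ, (ψ : G → ℂ) t = (s : ℂ) ∧
      (4 : ℤ) ∣ (charDegree (ψ : G → ℂ) : ℤ) - s ∧ |s| ≤ (charDegree (ψ : G → ℂ) : ℤ))
    (hCL : ∀ c : G, ∃ N : ℕ,
      (N : ℂ) * (Nat.card (Subgroup.centralizer ({t} : Set G)) : ℂ) *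
        (Nat.card (Subgroup.centralizer ({t} : Set G)) : ℂ) =
      (Nat.card G : ℂ) * ∑ χ : IrrCharacter G,
        (χ : G → ℂ) t * (χ : G → ℂ) t * (starRingEnd ℂ) ((χ : G → ℂ) c) / (χ : G → ℂ) 1 ∧
      (N = 0 ↔ ¬ ∃ u v : G, IsConj t u ∧ IsConj t v ∧ u * v = c)) :
    Nat.card (Subgroup.centralizer ({t} : Set G)) = 48 := by
  classical
  -- destructure the list
  rcases l with _ | ⟨l0, l⟩
  · simp at hdeg
  rcases l with _ | ⟨l1, l⟩
  · simp at hdeg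
  rcases l with _ | ⟨l2, l⟩
  · simp at hdeg
  rcases l with _ | ⟨l3, l⟩
  · simp at hdeg
  rcases l with _ | ⟨l4, l⟩
  · simp at hdeg
  rcases l with _ | ⟨l5, l⟩
  · simp at hdeg
  rcases l with _ | ⟨l6, l⟩
  · simp at hdeg
  rcases l with _ | ⟨l7, l⟩
  · simp at hdeg
  rcases l with _ | ⟨l8, l⟩
  · simp at hdeg
  rcases l with _ | ⟨l9, l⟩
  · simp at hdeg
  rcases l with _ | ⟨l10, l⟩
  swap
  · simp at hdeg
  simp only [List.map_cons, List.map_nil, List.cons.injEq, and_true] at hdeg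
  obtain ⟨hd0, hd1, hd2, hd3, hd4, hd5, hd6, hd7, hd8, hd9⟩ := hdeg
  obtain ⟨α₁, α₂, α₃, β, γ₁, γ₂, hnd7, hα₁, hα₂, hα₃, hβ, hγ₁, hγ₂, -, hPx, hrel⟩ := hpat
  have htriv1 : ((trivIrr G : IrrCharacter G) : G → ℂ) = fun _ => 1 := rfl
  have hone : ∀ ψ : IrrCharacter G, (ψ : G → ℂ) 1 = (charDegree (ψ : G → ℂ) : ℂ) :=
    fun ψ => Cfsg.Agent.Lib.helper82.irr_one_eq ψ
  have hdtriv : charDegree ((trivIrr G : IrrCharacter G) : G → ℂ) = 1 := by
    have h := hone (trivIrr G)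
    have h' : ((trivIrr G : IrrCharacter G) : G → ℂ) 1 = 1 := by rw [htriv1]
    rw [h'] at h
    exact_mod_cast h.symm
  have hcard : Fintype.card (IrrCharacter G) = 10 := by
    have h1 : (Finset.univ : Finset (IrrCharacter G)) =
        [l0, l1, l2, l3, l4, l5, l6, l7, l8, l9].toFinset := by
      ext ψ
      simp only [Finset.mem_univ, List.mem_toFinset, true_iff]
      exact hall ψ
    rw [← Finset.card_univ, h1, List.toFinset_card_of_nodup hnd]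
    rfl
  have hL7 : ∀ a ∈ [trivIrr G, α₁, α₂, α₃, β, γ₁, γ₂],
      ¬ 11 ∣ charDegree ((a : IrrCharacter G) : G → ℂ) := by
    intro a ha
    simp only [List.mem_cons, List.not_mem_nil, or_false] at ha
    rcases ha with rfl | rfl | rfl | rfl | rfl | rfl | rfl
    · rw [hdtriv]; decide
    · rw [hα₁]; decide
    · rw [hα₂]; decide
    · rw [hα₃]; decide
    · rw [hβ]; decide
    · rw [hγ₁]; decide
    · rw [hγ₂]; decide
  have hL3 : ∀ b ∈ [l7, l8, l9], 11 ∣ charDegree ((b : IrrCharacter G) : G → ℂ) := by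
    intro b hb
    simp only [List.mem_cons, List.not_mem_nil, or_false] at hb
    rcases hb with rfl | rfl | rfl
    · rw [hd7]
    · rw [hd8]; decide
    · rw [hd9]; decide
  have hnd3 : [l7, l8, l9].Nodup := by
    have h : [l0, l1, l2, l3, l4, l5, l6, l7, l8, l9] =
        [l0, l1, l2, l3, l4, l5, l6] ++ [l7, l8, l9] := rfl
    rw [h] at hnd
    exact (List.nodup_append.mp hnd).2.1
  have hnd' : ([trivIrr G, α₁, α₂, α₃, β, γ₁, γ₂] ++ [l7, l8, l9]).Nodup := by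
    rw [List.nodup_append]
    exact ⟨hnd7, hnd3, fun a ha b hb hab => hL7 a ha (hab ▸ hL3 b hb)⟩
  have hsum : ∀ F : IrrCharacter G → ℂ, ∑ ψ, F ψ =
      F (trivIrr G) + F α₁ + F α₂ + F α₃ + F β + F γ₁ + F γ₂ + F l7 + F l8 + F l9 := by
    intro F
    have h1 : (Finset.univ : Finset (IrrCharacter G)) =
        ([trivIrr G, α₁, α₂, α₃, β, γ₁, γ₂] ++ [l7, l8, l9]).toFinset := by
      symm
      apply Finset.eq_univ_of_card
      rw [List.toFinset_card_of_nodup hnd', hcard]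
      rfl
    rw [h1, List.sum_toFinset F hnd']
    simp only [List.cons_append, List.nil_append, List.map_cons, List.map_nil, List.sum_cons,
      List.sum_nil]
    ring
  -- the involution
  have ht2 : t * t = 1 := by rw [← pow_two, ← ht]; exact pow_orderOf_eq_one t
  have ht1 : t ≠ 1 := by
    intro h
    rw [h, orderOf_one] at ht
    norm_num at ht
  -- values at t
  obtain ⟨b1, hb1, hb1m, hb1a⟩ := hM4 α₁
  obtain ⟨b2, hb2, hb2m, hb2a⟩ := hM4 α₂
  obtain ⟨b3, hb3, hb3m, hb3a⟩ := hM4 α₃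
  obtain ⟨a, ha, ham, haa⟩ := hM4 β
  obtain ⟨s, hs, hsm, hsa⟩ := hM4 γ₁
  obtain ⟨c11, hc11, hc11m, hc11a⟩ := hM4 l7
  obtain ⟨c44, hc44, hc44m, hc44a⟩ := hM4 l8
  obtain ⟨c55, hc55, hc55m, hc55a⟩ := hM4 l9
  rw [hα₁] at hb1m hb1a
  rw [hα₂] at hb2m hb2a
  rw [hα₃] at hb3m hb3a
  rw [hβ] at ham haa
  rw [hγ₁] at hsm hsa
  rw [hd7] at hc11m hc11a
  rw [hd8] at hc44m hc44a
  rw [hd9] at hc55m hc55a
  have htt : (((trivIrr G : IrrCharacter G) : G → ℂ) t) = 1 := by rw [htriv1]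
  -- an element of order 11
  have : Nontrivial P := Finite.one_lt_card_iff_nontrivial.mp (by rw [hP]; norm_num)
  obtain ⟨⟨x, hxP⟩, hx⟩ := exists_ne (1 : P)
  have hx1 : x ≠ 1 := fun h => hx (Subtype.ext h)
  have hxo : orderOf x = 11 := by
    have h1 : orderOf x ∣ 11 := hP ▸ Subgroup.orderOf_dvd_natCard P hxP
    rcases (Nat.dvd_prime (by norm_num : Nat.Prime 11)).mp h1 with h | h
    · exact absurd (orderOf_eq_one_iff.mp h) hx1
    · exact h
  have hzp : ∀ g ∈ P, ∃ k : ℤ, x ^ k = g := by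
    intro g hg
    have : Fact (Nat.Prime 11) := ⟨by norm_num⟩
    have h1 : Subgroup.zpowers (⟨x, hxP⟩ : P) = ⊤ := zpowers_eq_top_of_prime_card hP hx
    have h2 : (⟨g, hg⟩ : P) ∈ Subgroup.zpowers (⟨x, hxP⟩ : P) := by rw [h1]; trivial
    obtain ⟨k, hk⟩ := Subgroup.mem_zpowers_iff.mp h2
    exact ⟨k, by simpa using congrArg Subtype.val hk⟩
  -- the relation at t
  have hrt := hrel t (by
    intro h hh
    have h1 : orderOf (h * t * h⁻¹) ∣ 11 := hP ▸ Subgroup.orderOf_dvd_natCard P hh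
    have h2 : orderOf (h * t * h⁻¹) ∣ 2 := by
      apply orderOf_dvd_of_pow_eq_one
      rw [conj_pow, pow_two, ht2]
      group
    have h3 : orderOf (h * t * h⁻¹) ∣ Nat.gcd 11 2 := Nat.dvd_gcd h1 h2
    have h4 : h * t * h⁻¹ = 1 := orderOf_eq_one_iff.mp (Nat.dvd_one.mp (by simpa using h3))
    calc t = h⁻¹ * (h * t * h⁻¹) * h := by group
      _ = 1 := by rw [h4]; group)
  obtain ⟨hrt1, hrt2⟩ := hrt
  rw [hs, hb1, hb2, hb3, ha] at hrt1
  have hsrel : s = 1 - b1 - b2 - b3 + a := by exact_mod_cast hrt1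
  rw [hs] at hrt2
  -- values at x
  obtain ⟨hx1v, hx2v, hx3v, hxβ, hxγ⟩ := hPx x hxP hx1
  have hx7 := hV l7 x (by rw [hd7]) hxo
  have hx8 := hV l8 x (by rw [hd8]; decide) hxo
  have hx9 := hV l9 x (by rw [hd9]; decide) hxo
  -- the class equation for (t, t, x)
  obtain ⟨N, hNeq, hN0⟩ := hCL x
  have hNzero : N = 0 := by
    rw [hN0]
    rintro ⟨u, v, hu, hv, huv⟩
    obtain ⟨c, hc⟩ := isConj_iff.mp hu
    obtain ⟨c', hc'⟩ := isConj_iff.mp hv
    have hu2 : u * u = 1 := by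
      rw [← hc]
      calc c * t * c⁻¹ * (c * t * c⁻¹) = c * (t * t) * c⁻¹ := by group
        _ = 1 := by rw [ht2]; group
    have hv2 : v * v = 1 := by
      rw [← hc']
      calc c' * t * c'⁻¹ * (c' * t * c'⁻¹) = c' * (t * t) * c'⁻¹ := by group
        _ = 1 := by rw [ht2]; group
    have hu1 : u ≠ 1 := by
      intro h
      rw [h] at hc
      apply ht1
      calc t = c⁻¹ * (c * t * c⁻¹) * c := by group
        _ = 1 := by rw [hc]; group
    have huinv : u⁻¹ = u := inv_eq_of_mul_eq_one_left hu2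
    have hvinv : v⁻¹ = v := inv_eq_of_mul_eq_one_left hv2
    have hux : u * x * u⁻¹ = x⁻¹ := by
      rw [← huv, mul_inv_rev, huinv, hvinv]
      calc u * (u * v) * u = (u * u) * v * u := by group
        _ = v * u := by rw [hu2, one_mul]
    have hfwd : ∀ g ∈ P, u * g * u⁻¹ ∈ P := by
      intro g hg
      obtain ⟨k, rfl⟩ := hzp g hg
      have h1 : u * x ^ k * u⁻¹ = (u * x * u⁻¹) ^ k := by rw [conj_zpow]
      rw [h1, hux]
      exact P.zpow_mem (P.inv_mem hxP) k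
    have hun : u ∈ Subgroup.normalizer (P : Set G) := by
      rw [Subgroup.mem_normalizer_iff]
      intro g
      refine ⟨fun hg => hfwd g hg, fun hg => ?_⟩
      have h1 := hfwd _ hg
      have h2 : u * (u * g * u⁻¹) * u⁻¹ = g := by
        rw [huinv]
        calc u * (u * g * u) * u = (u * u) * g * (u * u) := by group
          _ = g := by rw [hu2, one_mul, mul_one]
      rw [h2] at h1
      exact h1
    have h1 : orderOf u ∣ 55 := by
      have := Subgroup.orderOf_dvd_natCard _ hun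
      rwa [hN] at this
    have h2 : orderOf u ∣ 2 := orderOf_dvd_of_pow_eq_one (by rw [pow_two, hu2])
    have h3 : orderOf u ∣ Nat.gcd 55 2 := Nat.dvd_gcd h1 h2
    exact hu1 (orderOf_eq_one_iff.mp (Nat.dvd_one.mp (by simpa using h3)))
  rw [hNzero] at hNeq
  have hGne : (Nat.card G : ℂ) ≠ 0 := by rw [hG]; norm_num
  have hS0 : ∑ χ : IrrCharacter G,
      (χ : G → ℂ) t * (χ : G → ℂ) t * (starRingEnd ℂ) ((χ : G → ℂ) x) / (χ : G → ℂ) 1 = 0 := by
    have h : (Nat.card G : ℂ) * ∑ χ : IrrCharacter G,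
        (χ : G → ℂ) t * (χ : G → ℂ) t * (starRingEnd ℂ) ((χ : G → ℂ) x) / (χ : G → ℂ) 1 = 0 := by
      rw [← hNeq]; simp
    exact (mul_eq_zero.mp h).resolve_left hGne
  rw [hsum] at hS0
  have T0 : ((trivIrr G : IrrCharacter G) : G → ℂ) t * ((trivIrr G : IrrCharacter G) : G → ℂ) t *
      (starRingEnd ℂ) (((trivIrr G : IrrCharacter G) : G → ℂ) x) /
      ((trivIrr G : IrrCharacter G) : G → ℂ) 1 = 1 := by
    rw [htriv1]; simp
  have T1 : (α₁ : G → ℂ) t * (α₁ : G → ℂ) t * (starRingEnd ℂ) ((α₁ : G → ℂ) x) /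
      (α₁ : G → ℂ) 1 = -(b1 : ℂ) ^ 2 / 10 := by
    rw [hb1, hx1v, hone, hα₁]; simp; ring
  have T2 : (α₂ : G → ℂ) t * (α₂ : G → ℂ) t * (starRingEnd ℂ) ((α₂ : G → ℂ) x) /
      (α₂ : G → ℂ) 1 = -(b2 : ℂ) ^ 2 / 10 := by
    rw [hb2, hx2v, hone, hα₂]; simp; ring
  have T3 : (α₃ : G → ℂ) t * (α₃ : G → ℂ) t * (starRingEnd ℂ) ((α₃ : G → ℂ) x) /
      (α₃ : G → ℂ) 1 = -(b3 : ℂ) ^ 2 / 10 := by
    rw [hb3, hx3v, hone, hα₃]; simp; ring
  have T4 : (β : G → ℂ) t * (β : G → ℂ) t * (starRingEnd ℂ) ((β : G → ℂ) x) /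
      (β : G → ℂ) 1 = (a : ℂ) ^ 2 / 45 := by
    rw [ha, hxβ, hone, hβ]; simp; ring
  have T56 : (γ₁ : G → ℂ) t * (γ₁ : G → ℂ) t * (starRingEnd ℂ) ((γ₁ : G → ℂ) x) /
      (γ₁ : G → ℂ) 1 + (γ₂ : G → ℂ) t * (γ₂ : G → ℂ) t * (starRingEnd ℂ) ((γ₂ : G → ℂ) x) /
      (γ₂ : G → ℂ) 1 = -(s : ℂ) ^ 2 / 16 := by
    rw [hrt2, hs, hone, hone, hγ₁, hγ₂]
    have h : (starRingEnd ℂ) ((γ₁ : G → ℂ) x) + (starRingEnd ℂ) ((γ₂ : G → ℂ) x) = -1 := by
      rw [← map_add, hxγ]; simp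
    push_cast
    linear_combination ((s : ℂ) ^ 2 / 16) * h
  have T7 : (l7 : G → ℂ) t * (l7 : G → ℂ) t * (starRingEnd ℂ) ((l7 : G → ℂ) x) /
      (l7 : G → ℂ) 1 = 0 := by rw [hx7]; simp
  have T8 : (l8 : G → ℂ) t * (l8 : G → ℂ) t * (starRingEnd ℂ) ((l8 : G → ℂ) x) /
      (l8 : G → ℂ) 1 = 0 := by rw [hx8]; simp
  have T9 : (l9 : G → ℂ) t * (l9 : G → ℂ) t * (starRingEnd ℂ) ((l9 : G → ℂ) x) /
      (l9 : G → ℂ) 1 = 0 := by rw [hx9]; simp
  have hCLc : (720 : ℂ) + 16 * (a : ℂ) ^ 2 - 72 * ((b1 : ℂ) ^ 2 + (b2 : ℂ) ^ 2 + (b3 : ℂ) ^ 2)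
      - 45 * (s : ℂ) ^ 2 = 0 := by
    linear_combination 720 * hS0 - 720 * T0 - 720 * T1 - 720 * T2 - 720 * T3 - 720 * T4
      - 720 * T56 - 720 * T7 - 720 * T8 - 720 * T9
  have hCLz : (720 : ℤ) + 16 * a ^ 2 - 72 * (b1 ^ 2 + b2 ^ 2 + b3 ^ 2) - 45 * s ^ 2 = 0 := by
    exact_mod_cast hCLc
  -- second orthogonality
  have hO1 := Cfsg.Agent.Lib.helper83.second_orthogonality_of_not_isConj (g := t) (h := 1)
    (by rw [isConj_one_left]; exact ht1)
  rw [hsum] at hO1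
  have hO1z : (1 : ℤ) + 10 * b1 + 10 * b2 + 10 * b3 + 45 * a + 16 * s + 16 * s + 11 * c11
      + 44 * c44 + 55 * c55 = 0 := by
    rw [htt, hb1, hb2, hb3, ha, hrt2, hs, hc11, hc44, hc55, hone, hone, hone, hone, hone, hone,
      hone, hone, hone, hone, hdtriv, hα₁, hα₂, hα₃, hβ, hγ₁, hγ₂, hd7, hd8, hd9] at hO1
    simp only [map_natCast, map_ofNat, Nat.cast_ofNat, Nat.cast_one, map_one] at hO1
    have h : ((1 : ℤ) + 10 * b1 + 10 * b2 + 10 * b3 + 45 * a + 16 * s + 16 * s + 11 * c11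
        + 44 * c44 + 55 * c55 : ℂ) = 0 := by
      linear_combination hO1
    exact_mod_cast h
  have hO2 := Cfsg.Agent.Lib.helper83.second_orthogonality_of_isConj (IsConj.refl t)
  rw [hsum] at hO2
  have hO2z : (1 : ℤ) + b1 ^ 2 + b2 ^ 2 + b3 ^ 2 + a ^ 2 + s ^ 2 + s ^ 2 + c11 ^ 2
      + c44 ^ 2 + c55 ^ 2 = (Nat.card (Subgroup.centralizer ({t} : Set G)) : ℤ) := by
    rw [htt, hb1, hb2, hb3, ha, hrt2, hs, hc11, hc44, hc55] at hO2
    simp only [map_intCast, map_one] at hO2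
    have h : ((1 : ℤ) + b1 ^ 2 + b2 ^ 2 + b3 ^ 2 + a ^ 2 + s ^ 2 + s ^ 2 + c11 ^ 2
        + c44 ^ 2 + c55 ^ 2 : ℂ) = ((Nat.card (Subgroup.centralizer ({t} : Set G)) : ℤ) : ℂ) := by
      push_cast
      linear_combination hO2
    exact_mod_cast h
  have hdvd : (Nat.card (Subgroup.centralizer ({t} : Set G)) : ℤ) ∣ 7920 := by
    have h := Subgroup.card_subgroup_dvd_card (Subgroup.centralizer ({t} : Set G))
    rw [hG] at h
    exact_mod_cast h
  -- arithmetic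
  obtain ⟨i, hi, rfl⟩ := exists_param 45 a ham haa
  obtain ⟨j1, hj1, rfl⟩ := exists_param 10 b1 hb1m hb1a
  obtain ⟨j2, hj2, rfl⟩ := exists_param 10 b2 hb2m hb2a
  obtain ⟨j3, hj3, rfl⟩ := exists_param 10 b3 hb3m hb3a
  obtain ⟨k1, hk1, rfl⟩ := exists_param 11 c11 hc11m hc11a
  obtain ⟨k2, hk2, rfl⟩ := exists_param 44 c44 hc44m hc44a
  obtain ⟨k3, hk3, rfl⟩ := exists_param 55 c55 hc55m hc55a
  subst hsrel
  push_cast at hCLz hO1z hO2z
  have hA := arith1_nat i (by omega) j1 (by omega) j2 (by omega) j3 (by omega)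
    (by linear_combination hCLz)
  rcases hA with ⟨rfl, hj, hsq⟩ | ⟨rfl, rfl, rfl, rfl⟩
  · have hlin : (11 - 4 * (k1 : ℤ)) + 4 * (44 - 4 * (k2 : ℤ)) + 5 * (55 - 4 * (k3 : ℤ)) = 14 := by
      push_cast at hO1z
      omega
    have hcen : (22 + (11 - 4 * (k1 : ℤ)) ^ 2 + (44 - 4 * (k2 : ℤ)) ^ 2 + (55 - 4 * (k3 : ℤ)) ^ 2)
        = (Nat.card (Subgroup.centralizer ({t} : Set G)) : ℤ) := by
      have hj' : (j1 : ℤ) + j2 + j3 = 8 := by exact_mod_cast hj
      rw [← hO2z]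
      push_cast
      linear_combination (-1 : ℤ) * hsq - 32 * ((j1 : ℤ) + j2 + j3 - 8) * hj'
    have h48 := arith2_nat k1 (by omega) k2 (by omega) k3 (by omega) hlin (hcen ▸ hdvd)
    rw [hcen] at h48
    exact_mod_cast h48
  · exfalso
    have hlin : (11 - 4 * (k1 : ℤ)) + 4 * (44 - 4 * (k2 : ℤ)) + 5 * (55 - 4 * (k3 : ℤ)) = -258 := by
      push_cast at hO1z
      omega
    have hcen : (2838 + (11 - 4 * (k1 : ℤ)) ^ 2 + (44 - 4 * (k2 : ℤ)) ^ 2 + (55 - 4 * (k3 : ℤ)) ^ 2)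
        = (Nat.card (Subgroup.centralizer ({t} : Set G)) : ℤ) := by
      rw [← hO2z]
      push_cast
      ring
    exact arith3_nat k1 (by omega) k2 (by omega) k3 (by omega) hlin (hcen ▸ hdvd)

end Cfsg.Agent.Lib.helper92.M11Inv
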