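import Mathlib
import Cfsg.Prelude.Def_Sporadic_a
import Cfsg.Prelude.Def_Sporadic
import Cfsg.Agent.Lib.helper21.M11Defs2
import Cfsg.Agent.Lib.helper83.CharBasic
import Cfsg.Agent.Lib.helper82.CharSums
import Cfsg.Agent.Lib.helper73.M11_V
import Cfsg.Agent.Lib.helper4.Burnside2
import Cfsg.Agent.Lib.helper4.DefectZero

set_option autoImplicit false

/-!
# S0420 piece B3 (helper92): the character of degree 11 takes the value 1 at elements of order 5
-/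

open Cfsg Cfsg.Agent.Lib.helper4 Cfsg.Agent.Lib.helper21
open scoped ComplexConjugate

universe u

namespace Cfsg.Agent.Lib.helper92.M11U

theorem isIntegral_natCast_c (N : ℕ) : IsIntegral ℤ (N : ℂ) := by
  have h5 := isIntegral_algebraMap (R := ℤ) (A := ℂ) (x := (N : ℤ))
  simpa using h5

set_option maxHeartbeats 800000 in
/-- PIECE B3: value of the character of degree 11 at elements of order 5. -/
theorem m11_psi_five {G : Type u} [Group G] [Fintype G] [Fintype (IrrCharacter G)]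
    [IsSimpleGroup G] (hG : Nat.card G = 7920) (P : Subgroup G) (hP : Nat.card P = 11)
    (α₁ α₂ α₃ β γ₁ γ₂ ψ₁ ψ₂ ψ₃ : IrrCharacter G)
    (h : M11FullData P α₁ α₂ α₃ β γ₁ γ₂ ψ₁ ψ₂ ψ₃) (k : G) (hk : orderOf k = 5)
    (hCk : Nat.card (Subgroup.centralizer ({k} : Set G)) = 5)
    (hconj : ∀ i : ℕ, ¬ 5 ∣ i → IsConj k (k ^ i)) :
    (ψ₁ : G → ℂ) k = 1 := by
  classical
  obtain ⟨hnd, hall, hα₁, hα₂, hα₃, hβ, hγ₁, hγ₂, hψ₁, hψ₂, hψ₃, hPx, hrel⟩ := h
  have htriv1 : ((trivIrr G : IrrCharacter G) : G → ℂ) = fun _ => 1 := rfl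
  have hone : ∀ ψ : IrrCharacter G, (ψ : G → ℂ) 1 = (charDegree (ψ : G → ℂ) : ℂ) :=
    fun ψ => Cfsg.Agent.Lib.helper82.irr_one_eq ψ
  have hsum : ∀ F : IrrCharacter G → ℂ, ∑ ψ, F ψ =
      F (trivIrr G) + F α₁ + F α₂ + F α₃ + F β + F γ₁ + F γ₂ + F ψ₁ + F ψ₂ + F ψ₃ := by
    intro F
    have h1 : (Finset.univ : Finset (IrrCharacter G)) =
        [trivIrr G, α₁, α₂, α₃, β, γ₁, γ₂, ψ₁, ψ₂, ψ₃].toFinset := by
      ext ψ
      simp only [Finset.mem_univ, List.mem_toFinset, true_iff]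
      exact hall ψ
    rw [h1, List.sum_toFinset F hnd]
    simp only [List.map_cons, List.map_nil, List.sum_cons, List.sum_nil]
    ring
  -- the element `k`
  have hk5 : k ^ 5 = 1 := by rw [← hk]; exact pow_orderOf_eq_one k
  have hk1 : k ≠ 1 := by
    intro h
    rw [h, orderOf_one] at hk
    norm_num at hk
  -- vanishing of the characters of degree divisible by 5
  have hV : ∀ ψ : IrrCharacter G, 5 ∣ charDegree (ψ : G → ℂ) → (ψ : G → ℂ) k = 0 := fun ψ hd =>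
    Cfsg.Agent.Lib.helper73.irr_vanish_of_defect_zero ψ 5 1 (by norm_num)
      (by rw [hG]; norm_num) (by rw [hG]; norm_num) (by simpa using hd) k (by rw [hk])
  have h1v := hV α₁ (by rw [hα₁]; decide)
  have h2v := hV α₂ (by rw [hα₂]; decide)
  have h3v := hV α₃ (by rw [hα₃]; decide)
  have hβv := hV β (by rw [hβ]; decide)
  have h9v := hV ψ₃ (by rw [hψ₃]; decide)
  -- the relation at `k`
  obtain ⟨hr1, hr2⟩ := hrel k (by
    intro h hh
    exfalso
    have h1 : orderOf (h * k * h⁻¹) ∣ 11 := hP ▸ Subgroup.orderOf_dvd_natCard P hh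
    have h2 : orderOf (h * k * h⁻¹) = 5 := by
      have h3 := MulEquiv.orderOf_eq (MulAut.conj h) k
      rw [MulAut.conj_apply] at h3
      rw [h3, hk]
    rw [h2] at h1
    norm_num at h1)
  rw [h1v, h2v, h3v, hβv] at hr1
  have hg1 : (γ₁ : G → ℂ) k = 1 := by rw [hr1]; ring
  have hg2 : (γ₂ : G → ℂ) k = 1 := by rw [hr2, hg1]
  -- the values at `k` are real
  have hreal : ∀ ψ : IrrCharacter G, conj ((ψ : G → ℂ) k) = (ψ : G → ℂ) k := by
    intro ψ
    obtain ⟨c, hc⟩ := isConj_iff.mp (hconj 4 (by norm_num))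
    have hinv : k ^ 4 = k⁻¹ := by
      apply eq_inv_of_mul_eq_one_left
      rw [← pow_succ, hk5]
    rw [← Cfsg.Agent.Lib.helper83.irr_inv, ← hinv, ← hc, Cfsg.Agent.Lib.helper83.irr_conj]
  obtain ⟨a, ha⟩ : ∃ a : ℂ, (ψ₁ : G → ℂ) k = a := ⟨_, rfl⟩
  obtain ⟨b, hb⟩ : ∃ b : ℂ, (ψ₂ : G → ℂ) k = b := ⟨_, rfl⟩
  have hbint : IsIntegral ℤ b := by
    rw [← hb]
    exact isIntegral_of_isCharacter (Cfsg.Agent.Lib.helper83.isCharacter_of_irr ψ₂.2) k
  have hdtriv : charDegree ((trivIrr G : IrrCharacter G) : G → ℂ) = 1 := by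
    have h := hone (trivIrr G)
    have h' : ((trivIrr G : IrrCharacter G) : G → ℂ) 1 = 1 := by rw [htriv1]
    rw [h'] at h
    exact_mod_cast h.symm
  -- column orthogonality for `(k, 1)`
  have hO1 := Cfsg.Agent.Lib.helper83.second_orthogonality_of_not_isConj (g := k) (h := 1)
    (by rw [isConj_one_left]; exact hk1)
  rw [hsum] at hO1
  have e0 : ((trivIrr G : IrrCharacter G) : G → ℂ) k *
      conj (((trivIrr G : IrrCharacter G) : G → ℂ) 1) = 1 := by rw [htriv1]; simp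
  have e1 : (α₁ : G → ℂ) k * conj ((α₁ : G → ℂ) 1) = 0 := by rw [h1v]; simp
  have e2 : (α₂ : G → ℂ) k * conj ((α₂ : G → ℂ) 1) = 0 := by rw [h2v]; simp
  have e3 : (α₃ : G → ℂ) k * conj ((α₃ : G → ℂ) 1) = 0 := by rw [h3v]; simp
  have e4 : (β : G → ℂ) k * conj ((β : G → ℂ) 1) = 0 := by rw [hβv]; simp
  have e5 : (γ₁ : G → ℂ) k * conj ((γ₁ : G → ℂ) 1) = 16 := by
    rw [hg1, hone, hγ₁, map_natCast]; norm_num
  have e6 : (γ₂ : G → ℂ) k * conj ((γ₂ : G → ℂ) 1) = 16 := by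
    rw [hg2, hone, hγ₂, map_natCast]; norm_num
  have e7 : (ψ₁ : G → ℂ) k * conj ((ψ₁ : G → ℂ) 1) = 11 * a := by
    rw [ha, hone, hψ₁, map_natCast]; push_cast; ring
  have e8 : (ψ₂ : G → ℂ) k * conj ((ψ₂ : G → ℂ) 1) = 44 * b := by
    rw [hb, hone, hψ₂, map_natCast]; push_cast; ring
  have e9 : (ψ₃ : G → ℂ) k * conj ((ψ₃ : G → ℂ) 1) = 0 := by rw [h9v]; simp
  have hL : (33 : ℂ) + 11 * a + 44 * b = 0 := by
    linear_combination hO1 - e0 - e1 - e2 - e3 - e4 - e5 - e6 - e7 - e8 - e9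
  -- column orthogonality for `(k, k)`
  have hO2 := Cfsg.Agent.Lib.helper83.second_orthogonality_of_isConj (IsConj.refl k)
  rw [hsum, hCk] at hO2
  have f0 : ((trivIrr G : IrrCharacter G) : G → ℂ) k *
      conj (((trivIrr G : IrrCharacter G) : G → ℂ) k) = 1 := by rw [htriv1]; simp
  have f1 : (α₁ : G → ℂ) k * conj ((α₁ : G → ℂ) k) = 0 := by rw [h1v]; simp
  have f2 : (α₂ : G → ℂ) k * conj ((α₂ : G → ℂ) k) = 0 := by rw [h2v]; simp
  have f3 : (α₃ : G → ℂ) k * conj ((α₃ : G → ℂ) k) = 0 := by rw [h3v]; simp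
  have f4 : (β : G → ℂ) k * conj ((β : G → ℂ) k) = 0 := by rw [hβv]; simp
  have f5 : (γ₁ : G → ℂ) k * conj ((γ₁ : G → ℂ) k) = 1 := by rw [hg1]; simp
  have f6 : (γ₂ : G → ℂ) k * conj ((γ₂ : G → ℂ) k) = 1 := by rw [hg2]; simp
  have f7 : (ψ₁ : G → ℂ) k * conj ((ψ₁ : G → ℂ) k) = a * a := by rw [hreal, ha]
  have f8 : (ψ₂ : G → ℂ) k * conj ((ψ₂ : G → ℂ) k) = b * b := by rw [hreal, hb]
  have f9 : (ψ₃ : G → ℂ) k * conj ((ψ₃ : G → ℂ) k) = 0 := by rw [h9v]; simp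
  have hQ : a * a + b * b = 2 := by
    have h5 : ((5 : ℕ) : ℂ) = 5 := by norm_num
    rw [h5] at hO2
    linear_combination hO2 - f0 - f1 - f2 - f3 - f4 - f5 - f6 - f7 - f8 - f9
  -- arithmetic
  have ha' : a = -3 - 4 * b := by linear_combination hL / 11
  have hfac : (b + 1) * (17 * b + 7) = 0 := by
    rw [ha'] at hQ
    linear_combination hQ
  rcases mul_eq_zero.mp hfac with h1 | h1
  · rw [ha, ha']
    linear_combination (-4 : ℂ) * h1
  · exfalso
    have e17 : (((17 : ℕ) : ℂ))⁻¹ = -((2 : ℕ) : ℂ) - ((5 : ℕ) : ℂ) * b := by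
      apply inv_eq_of_mul_eq_one_right
      push_cast
      linear_combination (-5 : ℂ) * h1
    have hint : IsIntegral ℤ (((17 : ℕ) : ℂ))⁻¹ := by
      rw [e17]
      exact (isIntegral_natCast_c 2).neg.sub ((isIntegral_natCast_c 5).mul hbint)
    exact not_isIntegral_inv_prime (by norm_num : Nat.Prime 17) hint

end Cfsg.Agent.Lib.helper92.M11U
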