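import Cfsg.Agent.Lib.helper88.SecFree2
import Cfsg.Agent.Lib.helper87.Model
import Cfsg.Agent.S5111
import Cfsg.Agent.S5103

/-!
S5156, piece RS-C1: in a model `G` of `F`, conjugation by an element of the subgroup generated
by the `p`-elements of `G` is a map of every saturated subsystem of index prime to `p`.
-/

set_option autoImplicit false

namespace Cfsg.Agent.Lib.helper92.RS

open Cfsg Cfsg.FusionSystem

theorem conj_mem_of_primeToPIndex {Ω : Type*} [Group Ω] {S : Subgroup Ω} [Finite S] (p : ℕ)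
    [Fact p.Prime] (hS : IsPGroup p S) (F : Cfsg.FusionSystem S) (hF : F.IsSaturated p)
    {G : Type*} [Group G] (ι : S →* G) (hM : F.IsModel p G ι)
    (E : Cfsg.FusionSystem S) (hEs : E.IsSaturated p) (hEi : E.HasPrimeToPIndexIn F p)
    (h : G) (hh : h ∈ Subgroup.closure {g : G | ∃ k : ℕ, orderOf g = p ^ k})
    (P : Subgroup Ω) (hP : P ≤ S) (φ : P →* Ω) (hφ : ∀ x : P, φ x ∈ S)
    (hc : ∀ x : P, ι ⟨φ x, hφ x⟩ = h * ι ⟨x, hP x.2⟩ * h⁻¹) : φ ∈ E.Hom P := by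
  classical
  have _hfin : Finite G := hM.1
  have hinj : Function.Injective ι := hM.2.1.1
  obtain ⟨-, Q, hQn, hQc⟩ := Cfsg.Agent.S5103.result p hS F ι hM
  have hQS : Q ≤ S := hQn.1
  have hQsc := Cfsg.Agent.Lib.helper87.stronglyClosed_of_isNormal' F hQn
  have hSQ : ∀ g ∈ S, ∀ x ∈ Q, g * x * g⁻¹ ∈ Q := by
    intro g hg x hx
    exact hQsc.2 Q le_rfl (conjHom Q g) (F.conj_mem hQS hg) ⟨x, hx⟩
  have hnormQ : S ≤ Subgroup.normalizer (Q : Set Ω) := by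
    intro g hg
    rw [Subgroup.mem_normalizer_iff]
    intro x
    constructor
    · intro hx
      exact hSQ g hg x hx
    · intro hx
      have h1 := hSQ g⁻¹ (S.inv_mem hg) _ hx
      have h2 : g⁻¹ * (g * x * g⁻¹) * g⁻¹⁻¹ = x := by group
      rw [h2] at h1
      exact h1
  -- the action of the model on `Q`
  have hAspec : ∀ (g : G) (x : Q),
      ι ⟨(Cfsg.Agent.Lib.helper88.modelAct hM hQn g x : Q),
        hQS (Cfsg.Agent.Lib.helper88.modelAct hM hQn g x).2⟩ = g * ι ⟨x, hQS x.2⟩ * g⁻¹ :=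
    fun g x => Cfsg.Agent.Lib.helper88.modelAct_spec hM hQn g x
  -- step 1: the action of `h` on `Q` is an automorphism of `E`
  have hAE : Cfsg.Agent.Lib.helper88.modelAct hM hQn h ∈ E.autGroup Q := by
    have hle : Subgroup.closure {g : G | ∃ k : ℕ, orderOf g = p ^ k} ≤
        (E.autGroup Q).comap (Cfsg.Agent.Lib.helper88.modelAct hM hQn) := by
      rw [Subgroup.closure_le]
      rintro g ⟨k, hk⟩
      show Cfsg.Agent.Lib.helper88.modelAct hM hQn g ∈ E.autGroup Q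
      have hmem : Cfsg.Agent.Lib.helper88.modelAct hM hQn g ∈ F.autGroup Q :=
        Cfsg.Agent.Lib.helper88.modelAct_mem hM hQn g
      have hpow : (⟨Cfsg.Agent.Lib.helper88.modelAct hM hQn g, hmem⟩ : F.autGroup Q) ^ (p ^ k)
          = 1 := by
        apply Subtype.ext
        rw [Subgroup.coe_pow]
        show (Cfsg.Agent.Lib.helper88.modelAct hM hQn g) ^ (p ^ k) = 1
        rw [← map_pow, ← hk, pow_orderOf_eq_one, map_one]
      obtain ⟨j, -, hj⟩ := (Nat.dvd_prime_pow Fact.out).1 (orderOf_dvd_of_pow_eq_one hpow)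
      apply hEi.2 Q hQS
      exact ⟨⟨Cfsg.Agent.Lib.helper88.modelAct hM hQn g, hmem⟩,
        Subgroup.subset_closure ⟨j, hj⟩, rfl⟩
    exact hle hh
  have hψ₀ : Q.subtype.comp (Cfsg.Agent.Lib.helper88.modelAct hM hQn h).toMonoidHom ∈ E.Hom Q :=
    (Cfsg.Agent.Lib.helper88.mem_autGroup_iff' E hQS _).1 hAE
  -- step 2: `Q` is fully normalized, hence receptive, in `E`
  have hfn : E.IsFullyNormalized Q :=
    Cfsg.Agent.Lib.helper88.fullyNormalized_of_le_normalizer E hQS hnormQ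
  have hrec : E.IsReceptive Q := ((Cfsg.Agent.S5111.result p hS E).1 hEs).2 Q hfn
  have hrange : (Q.subtype.comp (Cfsg.Agent.Lib.helper88.modelAct hM hQn h).toMonoidHom).range
      = Q := by
    ext x
    constructor
    · rintro ⟨y, rfl⟩
      exact (Cfsg.Agent.Lib.helper88.modelAct hM hQn h y).2
    · intro hx
      refine ⟨(Cfsg.Agent.Lib.helper88.modelAct hM hQn h).symm ⟨x, hx⟩, ?_⟩
      show ((Cfsg.Agent.Lib.helper88.modelAct hM hQn h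
        ((Cfsg.Agent.Lib.helper88.modelAct hM hQn h).symm ⟨x, hx⟩) : Q) : Ω) = x
      rw [MulEquiv.apply_symm_apply]
  obtain ⟨ψ, hψ, hψext⟩ := hrec.2 Q _ hψ₀ hrange
  have hextS := (E.le_of_mem hψ).1
  have hψS := (E.le_of_mem hψ).2
  -- step 3: `P` and `Q` lie in the extender
  have hPext : P ≤ extender S Q
      (Q.subtype.comp (Cfsg.Agent.Lib.helper88.modelAct hM hQn h).toMonoidHom) := by
    intro y hy
    apply Subgroup.subset_closure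
    refine ⟨hP hy, hnormQ (hP hy), φ ⟨y, hy⟩, hφ ⟨y, hy⟩, fun x hx => ?_⟩
    have e2 : ι ⟨y * (x : Ω) * y⁻¹, hQS hx⟩
        = ι ⟨y, hP hy⟩ * ι ⟨x, hQS x.2⟩ * (ι ⟨y, hP hy⟩)⁻¹ := by
      rw [← map_inv, ← map_mul, ← map_mul]
      rfl
    have e1 : ι ⟨((Cfsg.Agent.Lib.helper88.modelAct hM hQn h ⟨y * (x : Ω) * y⁻¹, hx⟩ : Q) : Ω),
          hQS (Cfsg.Agent.Lib.helper88.modelAct hM hQn h ⟨y * (x : Ω) * y⁻¹, hx⟩).2⟩
        = ι (⟨φ ⟨y, hy⟩, hφ ⟨y, hy⟩⟩ *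
            ⟨((Cfsg.Agent.Lib.helper88.modelAct hM hQn h x : Q) : Ω),
              hQS (Cfsg.Agent.Lib.helper88.modelAct hM hQn h x).2⟩ *
            ⟨φ ⟨y, hy⟩, hφ ⟨y, hy⟩⟩⁻¹) := by
      rw [map_mul, map_mul, map_inv, hAspec, hAspec, hc ⟨y, hy⟩]
      have e2' : ι ⟨((⟨y * (x : Ω) * y⁻¹, hx⟩ : Q) : Ω), hQS (⟨y * (x : Ω) * y⁻¹, hx⟩ : Q).2⟩
          = ι ⟨y, hP hy⟩ * ι ⟨x, hQS x.2⟩ * (ι ⟨y, hP hy⟩)⁻¹ := e2
      rw [e2']
      group
    exact congrArg Subtype.val (hinj e1)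
  have hQext : Q ≤ extender S Q
      (Q.subtype.comp (Cfsg.Agent.Lib.helper88.modelAct hM hQn h).toMonoidHom) := by
    intro y hy
    apply Subgroup.subset_closure
    refine ⟨hQS hy, hnormQ (hQS hy),
      ((Cfsg.Agent.Lib.helper88.modelAct hM hQn h ⟨y, hy⟩ : Q) : Ω),
      hQS (Cfsg.Agent.Lib.helper88.modelAct hM hQn h ⟨y, hy⟩).2, fun x hx => ?_⟩
    have e1 : (⟨y * (x : Ω) * y⁻¹, hx⟩ : Q) = ⟨y, hy⟩ * x * ⟨y, hy⟩⁻¹ := rfl
    show ((Cfsg.Agent.Lib.helper88.modelAct hM hQn h ⟨y * (x : Ω) * y⁻¹, hx⟩ : Q) : Ω)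
      = ((Cfsg.Agent.Lib.helper88.modelAct hM hQn h ⟨y, hy⟩ : Q) : Ω) *
        ((Cfsg.Agent.Lib.helper88.modelAct hM hQn h x : Q) : Ω) *
        (((Cfsg.Agent.Lib.helper88.modelAct hM hQn h ⟨y, hy⟩ : Q) : Ω))⁻¹
    rw [e1, map_mul, map_mul, map_inv]
    rfl
  -- step 4: `ψ` is realized by some `g`, and `h⁻¹ g` centralizes the image of `Q`
  obtain ⟨g, hg⟩ := (hM.2.1.2 _ hextS ψ hψS).1 (hEi.1 _ hψ)
  have hcent : ∀ r : S, (r : Ω) ∈ Q → (h⁻¹ * g) * ι r * (h⁻¹ * g)⁻¹ = ι r := by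
    intro r hr
    have h1 := hg ⟨(r : Ω), hQext hr⟩
    have h2 : ψ ⟨(r : Ω), hQext hr⟩
        = ((Cfsg.Agent.Lib.helper88.modelAct hM hQn h ⟨(r : Ω), hr⟩ : Q) : Ω) :=
      hψext (r : Ω) hr (hQext hr)
    have h3 : ι ⟨ψ ⟨(r : Ω), hQext hr⟩, hψS ⟨(r : Ω), hQext hr⟩⟩ = h * ι r * h⁻¹ := by
      have h4 := hAspec h ⟨(r : Ω), hr⟩
      have h5 : (⟨ψ ⟨(r : Ω), hQext hr⟩, hψS ⟨(r : Ω), hQext hr⟩⟩ : S)
          = ⟨((Cfsg.Agent.Lib.helper88.modelAct hM hQn h ⟨(r : Ω), hr⟩ : Q) : Ω),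
            hQS (Cfsg.Agent.Lib.helper88.modelAct hM hQn h ⟨(r : Ω), hr⟩).2⟩ :=
        Subtype.ext h2
      rw [h5]
      exact h4
    have h6 : g * ι r * g⁻¹ = h * ι r * h⁻¹ := by
      rw [← h3, h1]
    calc (h⁻¹ * g) * ι r * (h⁻¹ * g)⁻¹ = h⁻¹ * (g * ι r * g⁻¹) * h := by group
      _ = h⁻¹ * (h * ι r * h⁻¹) * h := by rw [h6]
      _ = ι r := by group
  obtain ⟨t, htQ, ht⟩ := Cfsg.Agent.Lib.helper88.model_centralizer_le hS hF hM hQn hQc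
    (h⁻¹ * g) hcent
  have hgt : g = h * ι t := by
    rw [ht]
    group
  -- step 5: `φ = ψ ∘ c_{t⁻¹}` on `P`
  have hconjmem : ∀ y : P, conjHom P ((t : Ω)⁻¹) y ∈ extender S Q
      (Q.subtype.comp (Cfsg.Agent.Lib.helper88.modelAct hM hQn h).toMonoidHom) := by
    intro y
    show (t : Ω)⁻¹ * (y : Ω) * ((t : Ω)⁻¹)⁻¹ ∈ _
    exact Subgroup.mul_mem _ (Subgroup.mul_mem _ (Subgroup.inv_mem _ (hQext htQ)) (hPext y.2))
      (Subgroup.inv_mem _ (Subgroup.inv_mem _ (hQext htQ)))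
  have hcomp := E.comp_mem (E.conj_mem hP (S.inv_mem t.2)) hψ hconjmem
  have heq : φ = ψ.comp ((conjHom P ((t : Ω)⁻¹)).codRestrict _ hconjmem) := by
    ext y
    have h1 := hg ⟨conjHom P ((t : Ω)⁻¹) y, hconjmem y⟩
    have h2 : ι ⟨conjHom P ((t : Ω)⁻¹) y, hextS (hconjmem y)⟩
        = (ι t)⁻¹ * ι ⟨y, hP y.2⟩ * ι t := by
      rw [← map_inv, ← map_mul, ← map_mul]
      congr 1
      apply Subtype.ext
      show (t : Ω)⁻¹ * (y : Ω) * ((t : Ω)⁻¹)⁻¹ = _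
      rw [inv_inv]
      rfl
    have h3 : ι ⟨ψ ⟨conjHom P ((t : Ω)⁻¹) y, hconjmem y⟩,
        hψS ⟨conjHom P ((t : Ω)⁻¹) y, hconjmem y⟩⟩ = ι ⟨φ y, hφ y⟩ := by
      have h1' : ι ⟨ψ ⟨conjHom P ((t : Ω)⁻¹) y, hconjmem y⟩,
          hψS ⟨conjHom P ((t : Ω)⁻¹) y, hconjmem y⟩⟩
          = g * ι ⟨conjHom P ((t : Ω)⁻¹) y, hextS (hconjmem y)⟩ * g⁻¹ := h1
      rw [h1', h2, hc y, hgt]
      group
    exact (congrArg Subtype.val (hinj h3)).symm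
  rw [heq]
  exact hcomp

end Cfsg.Agent.Lib.helper92.RS
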