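import Mathlib
import Cfsg.Agent.Lib.helper85.McLDefs

set_option autoImplicit false

open Cfsg.Agent.Lib.helper85.McL

namespace Cfsg.Agent.Lib.helper92.McL

universe u

variable {p : ℕ} [Fact p.Prime] {V : Type u} [AddCommGroup V] [Module (ZMod p) V]

/-- The symplectic transvection `x ↦ x + (a * B c x) • c`. -/
noncomputable def helper92_stv (B : LinearMap.BilinForm (ZMod p) V) (hA : B.IsAlt) (c : V)
    (a : ZMod p) : V ≃ₗ[ZMod p] V :=
  LinearEquiv.ofLinear (LinearMap.id + a • (B c).smulRight c) (LinearMap.id - a • (B c).smulRight c)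
    (by
      ext x
      simp only [LinearMap.comp_apply, LinearMap.add_apply, LinearMap.sub_apply, LinearMap.id_apply,
        LinearMap.smul_apply, LinearMap.smulRight_apply, map_sub, map_smul, hA c, smul_eq_mul,
        mul_zero, zero_smul, smul_zero, sub_zero]
      abel)
    (by
      ext x
      simp only [LinearMap.comp_apply, LinearMap.add_apply, LinearMap.sub_apply, LinearMap.id_apply,
        LinearMap.smul_apply, LinearMap.smulRight_apply, map_add, map_smul, hA c, smul_eq_mul,
        mul_zero, zero_smul, smul_zero, add_zero]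
      abel)

theorem helper92_stv_apply (B : LinearMap.BilinForm (ZMod p) V) (hA : B.IsAlt) (c : V)
    (a : ZMod p) (x : V) : helper92_stv B hA c a x = x + (a * B c x) • c := by
  show x + a • (B c x • c) = x + (a * B c x) • c
  rw [smul_smul]

theorem helper92_stv_mem (B : LinearMap.BilinForm (ZMod p) V) (hA : B.IsAlt) (c : V)
    (a : ZMod p) (hc : c ≠ 0) (ha : a ≠ 0) :
    helper92_stv B hA c a ∈ {t : V ≃ₗ[ZMod p] V |
      ∃ (c : V) (a : ZMod p), c ≠ 0 ∧ a ≠ 0 ∧ ∀ x, t x = x + (a * B c x) • c} :=
  ⟨c, a, hc, ha, fun x => helper92_stv_apply B hA c a x⟩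

theorem helper92_stv_isom (B : LinearMap.BilinForm (ZMod p) V) (hA : B.IsAlt) (c : V)
    (a : ZMod p) (x y : V) :
    B (helper92_stv B hA c a x) (helper92_stv B hA c a y) = B x y := by
  rw [helper92_stv_apply, helper92_stv_apply]
  have h1 : B x c = - B c x := by
    have := hA.neg_eq x c
    rw [← this, neg_neg]
  simp only [map_add, map_smul, LinearMap.add_apply, LinearMap.smul_apply, smul_eq_mul, hA c, h1]
  ring

/-- The fixed space of a linear equivalence. -/
def helper92_fix (g : V ≃ₗ[ZMod p] V) : Submodule (ZMod p) V :=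
  LinearMap.ker ((g : V →ₗ[ZMod p] V) - LinearMap.id)

theorem helper92_mem_fix (g : V ≃ₗ[ZMod p] V) (x : V) : x ∈ helper92_fix g ↔ g x = x := by
  unfold helper92_fix
  rw [LinearMap.mem_ker, LinearMap.sub_apply, LinearMap.id_apply, sub_eq_zero]
  rfl

/-- One step: an isometry `g` moving `v` can be multiplied by a product `s` of symplectic
transvections so that `s * g` still fixes the fixed space of `g` and also fixes `v`. -/
theorem helper92_step [Finite V] (B : LinearMap.BilinForm (ZMod p) V) (hA : B.IsAlt)
    (hN : B.Nondegenerate) (g : V ≃ₗ[ZMod p] V) (hg : ∀ x y, B (g x) (g y) = B x y)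
    (v : V) (hv : g v ≠ v) :
    ∃ s : V ≃ₗ[ZMod p] V,
      s ∈ Subgroup.closure {t : V ≃ₗ[ZMod p] V |
        ∃ (c : V) (a : ZMod p), c ≠ 0 ∧ a ≠ 0 ∧ ∀ x, t x = x + (a * B c x) • c} ∧
      (∀ x y, B (s x) (s y) = B x y) ∧ (∀ x, g x = x → s x = x) ∧ s (g v) = v := by
  have hskew : ∀ x y, B x y = - B y x := fun x y => (hA.neg_eq y x).symm
  by_cases h0 : B v (g v) = 0
  · -- case (ii)
    have : Module.Finite (ZMod p) V := Module.Finite.of_finite
    -- functionals separating `v`, `g v` from the fixed space
    have hv' : v ∉ helper92_fix g := fun h => hv ((helper92_mem_fix g v).mp h)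
    have hgv' : g v ∉ helper92_fix g := by
      intro h
      have := (helper92_mem_fix g (g v)).mp h
      exact hv (g.injective this)
    obtain ⟨f1, hf1v, hf1⟩ := Submodule.exists_le_ker_of_notMem hv'
    obtain ⟨f2, hf2v, hf2⟩ := Submodule.exists_le_ker_of_notMem hgv'
    obtain ⟨y1, hy1⟩ : ∃ y1, ∀ x, B y1 x = f1 x :=
      ⟨(B.toDual hN).symm f1, fun x => LinearMap.BilinForm.apply_toDual_symm_apply f1 x⟩
    obtain ⟨y2, hy2⟩ : ∃ y2, ∀ x, B y2 x = f2 x :=
      ⟨(B.toDual hN).symm f2, fun x => LinearMap.BilinForm.apply_toDual_symm_apply f2 x⟩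
    have hfix1 : ∀ x, g x = x → B y1 x = 0 := by
      intro x hx
      rw [hy1]
      exact hf1 ((helper92_mem_fix g x).mpr hx)
    have hfix2 : ∀ x, g x = x → B y2 x = 0 := by
      intro x hx
      rw [hy2]
      exact hf2 ((helper92_mem_fix g x).mpr hx)
    -- a vector `y` perpendicular to the fixed space, not perpendicular to `v` nor to `g v`
    obtain ⟨y, hyfix, hyv, hygv⟩ : ∃ y, (∀ x, g x = x → B y x = 0) ∧ B y v ≠ 0 ∧ B y (g v) ≠ 0 := by
      by_cases ha : B y1 (g v) = 0
      · by_cases hb : B y2 v = 0
        · refine ⟨y1 + y2, ?_, ?_, ?_⟩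
          · intro x hx
            rw [map_add, LinearMap.add_apply, hfix1 x hx, hfix2 x hx, add_zero]
          · rw [map_add, LinearMap.add_apply, hb, add_zero, hy1]
            exact hf1v
          · rw [map_add, LinearMap.add_apply, ha, zero_add, hy2]
            exact hf2v
        · refine ⟨y2, hfix2, hb, ?_⟩
          rw [hy2]
          exact hf2v
      · refine ⟨y1, hfix1, ?_, ha⟩
        rw [hy1]
        exact hf1v
    -- the two transvections
    obtain ⟨c1, hc1⟩ : ∃ c1, c1 = v + y - g v := ⟨_, rfl⟩
    have hB1 : B c1 (g v) = B y (g v) := by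
      rw [hc1, map_sub, map_add, LinearMap.sub_apply, LinearMap.add_apply, h0, hA (g v)]
      ring
    have hc1ne : c1 ≠ 0 := by
      intro h
      rw [h, map_zero, LinearMap.zero_apply] at hB1
      exact hygv hB1.symm
    have hc1fix : ∀ x, g x = x → B c1 x = 0 := by
      intro x hx
      have h1 : B (g v) x = B v x := by
        conv_lhs => rw [← hx]
        exact hg v x
      rw [hc1, map_sub, map_add, LinearMap.sub_apply, LinearMap.add_apply, hyfix x hx, h1]
      ring
    have hyne : -y ≠ 0 := by
      intro h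
      have : y = 0 := neg_eq_zero.mp h
      rw [this, map_zero, LinearMap.zero_apply] at hyv
      exact hyv rfl
    refine ⟨helper92_stv B hA (-y) (-(B y v)⁻¹) * helper92_stv B hA c1 (B y (g v))⁻¹, ?_, ?_, ?_, ?_⟩
    · apply Subgroup.mul_mem
      · exact Subgroup.subset_closure
          (helper92_stv_mem B hA _ _ hyne (neg_ne_zero.mpr (inv_ne_zero hyv)))
      · exact Subgroup.subset_closure (helper92_stv_mem B hA _ _ hc1ne (inv_ne_zero hygv))
    · intro x z
      rw [LinearEquiv.mul_apply, LinearEquiv.mul_apply, helper92_stv_isom, helper92_stv_isom]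
    · intro x hx
      have hin : helper92_stv B hA c1 (B y (g v))⁻¹ x = x := by
        rw [helper92_stv_apply, hc1fix x hx, mul_zero, zero_smul, add_zero]
      rw [LinearEquiv.mul_apply, hin,
        helper92_stv_apply, map_neg, LinearMap.neg_apply, hyfix x hx, neg_zero, mul_zero, zero_smul,
        add_zero]
    · have hin : helper92_stv B hA c1 (B y (g v))⁻¹ (g v) = v + y := by
        rw [helper92_stv_apply, hB1, inv_mul_cancel₀ hygv, one_smul, hc1]
        abel
      rw [LinearEquiv.mul_apply, hin, helper92_stv_apply]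
      have h2 : B (-y) (v + y) = - B y v := by
        rw [map_neg, LinearMap.neg_apply, map_add, hA y, add_zero]
      rw [h2]
      have h3 : -(B y v)⁻¹ * -(B y v) = 1 := by
        rw [neg_mul_neg, inv_mul_cancel₀ hyv]
      rw [h3, one_smul]
      abel
  · -- case (i)
    obtain ⟨u, hu⟩ : ∃ u, u = g v - v := ⟨_, rfl⟩
    have hune : u ≠ 0 := by
      intro h
      rw [hu, sub_eq_zero] at h
      exact hv h
    have hufix : ∀ x, g x = x → B u x = 0 := by
      intro x hx
      have h1 : B (g v) x = B v x := by
        conv_lhs => rw [← hx]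
        exact hg v x
      rw [hu, map_sub, LinearMap.sub_apply, h1, sub_self]
    have hB : B u (g v) = - B v (g v) := by
      rw [hu, map_sub, LinearMap.sub_apply, hA (g v), zero_sub]
    refine ⟨helper92_stv B hA u (B v (g v))⁻¹, ?_, ?_, ?_, ?_⟩
    · exact Subgroup.subset_closure (helper92_stv_mem B hA _ _ hune (inv_ne_zero h0))
    · intro x z
      exact helper92_stv_isom B hA _ _ x z
    · intro x hx
      rw [helper92_stv_apply, hufix x hx, mul_zero, zero_smul, add_zero]
    · rw [helper92_stv_apply, hB, mul_neg, inv_mul_cancel₀ h0, neg_one_smul, hu]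
      abel

/-- PIECE SPGEN. -/
theorem sp_gen [Finite V] (B : LinearMap.BilinForm (ZMod p) V) (hA : B.IsAlt) (hN : B.Nondegenerate)
    (g : V ≃ₗ[ZMod p] V) (hg : ∀ x y, B (g x) (g y) = B x y) :
    g ∈ Subgroup.closure {t : V ≃ₗ[ZMod p] V |
      ∃ (c : V) (a : ZMod p), c ≠ 0 ∧ a ≠ 0 ∧ ∀ x, t x = x + (a * B c x) • c} := by
  have : Module.Finite (ZMod p) V := Module.Finite.of_finite
  -- induction on the codimension of the fixed space
  have key : ∀ n : ℕ, ∀ g : V ≃ₗ[ZMod p] V, (∀ x y, B (g x) (g y) = B x y) →
      Module.finrank (ZMod p) V - Module.finrank (ZMod p) (helper92_fix g) = n →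
      g ∈ Subgroup.closure {t : V ≃ₗ[ZMod p] V |
        ∃ (c : V) (a : ZMod p), c ≠ 0 ∧ a ≠ 0 ∧ ∀ x, t x = x + (a * B c x) • c} := by
    intro n
    induction n using Nat.strong_induction_on with
    | _ n ih =>
      intro g hg hn
      by_cases hall : ∀ v, g v = v
      · have : g = 1 := by
          ext v
          exact hall v
        rw [this]
        exact Subgroup.one_mem _
      · push Not at hall
        obtain ⟨v, hv⟩ := hall
        obtain ⟨s, hs, hsiso, hsfix, hsv⟩ := helper92_step B hA hN g hg v hv
        have hlt : helper92_fix g < helper92_fix (s * g) := by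
          refine lt_of_le_of_ne ?_ ?_
          · intro x hx
            rw [helper92_mem_fix] at hx ⊢
            rw [LinearEquiv.mul_apply, hx]
            exact hsfix x hx
          · intro heq
            have h1 : v ∈ helper92_fix (s * g) := by
              rw [helper92_mem_fix, LinearEquiv.mul_apply]
              exact hsv
            rw [← heq, helper92_mem_fix] at h1
            exact hv h1
        have hrk := Submodule.finrank_lt_finrank_of_lt hlt
        have hle : Module.finrank (ZMod p) (helper92_fix (s * g)) ≤ Module.finrank (ZMod p) V :=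
          Submodule.finrank_le _
        have hsg : s * g ∈ Subgroup.closure {t : V ≃ₗ[ZMod p] V |
            ∃ (c : V) (a : ZMod p), c ≠ 0 ∧ a ≠ 0 ∧ ∀ x, t x = x + (a * B c x) • c} := by
          apply ih (Module.finrank (ZMod p) V - Module.finrank (ZMod p) (helper92_fix (s * g)))
            (by omega) (s * g) _ rfl
          intro x y
          rw [LinearEquiv.mul_apply, LinearEquiv.mul_apply, hsiso, hg]
        have : g = s⁻¹ * (s * g) := by group
        rw [this]
        exact Subgroup.mul_mem _ (Subgroup.inv_mem _ hs) hsg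
  exact key _ g hg rfl

end Cfsg.Agent.Lib.helper92.McL
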