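import Mathlib
import Cfsg.Agent.Lib.helper9.Srg77Defs

/-!
S0429, PIECE H1: every line of an SRG(77,16,0,4) lies in exactly two cocliques of size 21.
-/

set_option autoImplicit false

namespace Cfsg.Agent.Lib.helper92

open Finset Cfsg.Agent.Lib.helper9

variable {V : Type*} [Fintype V] [DecidableEq V] {G : SimpleGraph V} [DecidableRel G.Adj]

theorem card_cocl_of_line
    (hcl : ∀ x y : V, x ≠ y → ¬ G.Adj x y → (line G x y).card = 5)
    (hnear : ∀ L : Finset V, IsLine G L →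
      (Finset.univ.filter (fun v => v ∉ L ∧ ∀ a ∈ L, ¬ G.Adj v a)).card = 32)
    (hF : ∀ L : Finset V, IsLine G L → ∀ v : V, v ∉ L → (∀ a ∈ L, ¬ G.Adj v a) →
      L.biUnion (fun a => line G v a) ∈ cocl G ∧ L ⊆ L.biUnion (fun a => line G v a) ∧
        v ∈ L.biUnion (fun a => line G v a))
    (hG2 : ∀ C : Finset V, C ∈ cocl G → ∀ x c : V, x ∈ C → c ∈ C → x ≠ c → line G x c ⊆ C)
    {L : Finset V} (hLine : IsLine G L) :
    ((cocl G).filter (fun C => L ⊆ C)).card = 2 := by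
  classical
  have hLcard : L.card = 5 := by
    obtain ⟨x, y, hne, hxy, rfl⟩ := hLine
    exact hcl x y hne hxy
  have hkey : ∀ C ∈ (cocl G).filter (fun C => L ⊆ C), ∀ v ∈ C \ L,
      C = L.biUnion (fun a => line G v a) := by
    intro C hC v hv
    rw [Finset.mem_filter] at hC
    rw [Finset.mem_sdiff] at hv
    have hcoc := mem_cocl.1 hC.1
    have hvL : ∀ a ∈ L, ¬ G.Adj v a := fun a ha => hcoc.1 v hv.1 a (hC.2 ha)
    have hK := hF L hLine v hv.2 hvL
    have hsub : L.biUnion (fun a => line G v a) ⊆ C := by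
      intro u hu
      rw [Finset.mem_biUnion] at hu
      obtain ⟨a, ha, hua⟩ := hu
      exact hG2 C hC.1 v a hv.1 (hC.2 ha) (fun h => hv.2 (h ▸ ha)) hua
    exact (Finset.eq_of_subset_of_card_le hsub (by rw [hcoc.2, (mem_cocl.1 hK.1).2])).symm
  have hunion : Finset.univ.filter (fun v => v ∉ L ∧ ∀ a ∈ L, ¬ G.Adj v a)
      = ((cocl G).filter (fun C => L ⊆ C)).biUnion (fun C => C \ L) := by
    ext v
    rw [Finset.mem_filter, Finset.mem_biUnion]
    constructor
    · rintro ⟨-, hv1, hv2⟩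
      have hK := hF L hLine v hv1 hv2
      exact ⟨_, Finset.mem_filter.2 ⟨hK.1, hK.2.1⟩, Finset.mem_sdiff.2 ⟨hK.2.2, hv1⟩⟩
    · rintro ⟨C, hC, hv⟩
      rw [Finset.mem_filter] at hC
      rw [Finset.mem_sdiff] at hv
      exact ⟨Finset.mem_univ _, hv.2, fun a ha => (mem_cocl.1 hC.1).1 v hv.1 a (hC.2 ha)⟩
  have hdisj : ∀ C ∈ (cocl G).filter (fun C => L ⊆ C), ∀ C' ∈ (cocl G).filter (fun C => L ⊆ C),
      C ≠ C' → Disjoint (C \ L) (C' \ L) := by
    intro C hC C' hC' hne
    rw [Finset.disjoint_left]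
    intro v hv hv'
    exact hne ((hkey C hC v hv).trans (hkey C' hC' v hv').symm)
  have hcard := hnear L hLine
  rw [hunion, Finset.card_biUnion hdisj] at hcard
  have h16 : ∀ C ∈ (cocl G).filter (fun C => L ⊆ C), (C \ L).card = 16 := by
    intro C hC
    rw [Finset.mem_filter] at hC
    rw [Finset.card_sdiff_of_subset hC.2, (mem_cocl.1 hC.1).2, hLcard]
  rw [Finset.sum_congr rfl h16, Finset.sum_const, smul_eq_mul] at hcard
  omega

end Cfsg.Agent.Lib.helper92
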