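import Cfsg.Agent.Lib.helper92.Large

/-!
# Central involutions in groups of order `2 * odd`, and the product `C_G(A) * A`
-/

set_option autoImplicit false

namespace Cfsg.Agent.Lib.helper92

/-- In a finite group `D` whose order is not divisible by `4`, with a central involution `z`,
every element is `h` or `z * h` with `h ∈ O(D)`. -/
theorem mem_oddCore_or_of_central_invol {D : Type*} [Group D] [Finite D] (z : D)
    (hzz : z * z = 1) (hz1 : z ≠ 1) (hzc : ∀ d : D, d * z = z * d) (h4 : ¬ 4 ∣ Nat.card D) :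
    ∀ d : D, d ∈ Cfsg.pPrimeCore 2 D ∨ z * d ∈ Cfsg.pPrimeCore 2 D := by
  have : Fact (Nat.Prime 2) := ⟨Nat.prime_two⟩
  have memZ := mem_zpowers_invol hzz
  have hNn : (Subgroup.zpowers z).Normal := by
    constructor
    intro n hn d
    rcases (memZ n).1 hn with h | h
    · rw [h, mul_one, mul_inv_cancel]; exact Subgroup.one_mem _
    · rw [h]
      have e : d * z * d⁻¹ = z := by rw [hzc d]; group
      rw [e]; exact Subgroup.mem_zpowers z
  have hord : orderOf z = 2 := orderOf_eq_prime (by rw [sq]; exact hzz) hz1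
  have hcardN : Nat.card (Subgroup.zpowers z) = 2 := by rw [Nat.card_zpowers, hord]
  have hidx : Nat.card (Subgroup.zpowers z) * (Subgroup.zpowers z).index = Nat.card D :=
    Subgroup.card_mul_index _
  have hcop : Nat.Coprime (Nat.card (Subgroup.zpowers z)) (Subgroup.zpowers z).index := by
    rw [hcardN, Nat.coprime_two_left, ← Nat.not_even_iff_odd]
    intro he
    apply h4
    rw [← hidx, hcardN]
    obtain ⟨k, hk⟩ := he
    exact ⟨k, by rw [hk]; ring⟩
  obtain ⟨H, hH⟩ := Subgroup.exists_right_complement'_of_coprime hcop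
  have hHcard : Nat.card (Subgroup.zpowers z) * Nat.card H = Nat.card D := hH.card_mul_card
  have hHodd : Odd (Nat.card H) := by
    rw [← Nat.not_even_iff_odd]
    intro he
    apply h4
    rw [← hHcard, hcardN]
    obtain ⟨k, hk⟩ := he
    exact ⟨k, by rw [hk]; ring⟩
  have hdecomp : ∀ d : D, ∃ h ∈ H, d = h ∨ d = z * h := by
    intro d
    obtain ⟨⟨n, h⟩, hnh, -⟩ := (Subgroup.isComplement_iff_existsUnique.1 hH) d
    refine ⟨h, h.2, ?_⟩
    have hnh' : (n : D) * (h : D) = d := hnh
    rcases (memZ n).1 n.2 with h1 | h1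
    · left; rw [← hnh', h1, one_mul]
    · right; rw [← hnh', h1]
  have hHn : H.Normal := by
    constructor
    intro n hn d
    obtain ⟨h, hh, hd | hd⟩ := hdecomp d
    · rw [hd]; exact H.mul_mem (H.mul_mem hh hn) (H.inv_mem hh)
    · rw [hd]
      have e : z * h * n * (z * h)⁻¹ = h * n * h⁻¹ := by
        calc z * h * n * (z * h)⁻¹ = z * (h * n * h⁻¹) * z⁻¹ := by group
          _ = (h * n * h⁻¹) * z * z⁻¹ := by rw [hzc (h * n * h⁻¹)]
          _ = h * n * h⁻¹ := by group
      rw [e]; exact H.mul_mem (H.mul_mem hh hn) (H.inv_mem hh)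
  have hHle : H ≤ Cfsg.pPrimeCore 2 D := le_sSup ⟨hHn, Nat.coprime_two_right.2 hHodd⟩
  intro d
  obtain ⟨h, hh, hd | hd⟩ := hdecomp d
  · left; rw [hd]; exact hHle hh
  · right; rw [hd, ← mul_assoc, hzz, one_mul]; exact hHle hh

/-- Elements of `C_G(A) ⊔ A` are products `c * a`. -/
theorem mem_centralizer_sup_iff {G : Type*} [Group G] (A : Subgroup G) (m : G) :
    m ∈ Subgroup.centralizer (A : Set G) ⊔ A ↔
      ∃ c a, (∀ a' ∈ A, a' * c = c * a') ∧ a ∈ A ∧ m = c * a := by
  constructor
  · intro hm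
    let S : Subgroup G :=
      { carrier := {m | ∃ c a, (∀ a' ∈ A, a' * c = c * a') ∧ a ∈ A ∧ m = c * a}
        one_mem' := ⟨1, 1, fun a' _ => by rw [mul_one, one_mul], A.one_mem, (mul_one 1).symm⟩
        mul_mem' := by
          rintro x y ⟨c, a, hc, ha, rfl⟩ ⟨c', a', hc', ha', rfl⟩
          refine ⟨c * c', a * a', ?_, A.mul_mem ha ha', ?_⟩
          · intro a'' ha''
            calc a'' * (c * c') = (a'' * c) * c' := by group
              _ = (c * a'') * c' := by rw [hc a'' ha'']
              _ = c * (a'' * c') := by group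
              _ = c * (c' * a'') := by rw [hc' a'' ha'']
              _ = c * c' * a'' := by group
          · calc c * a * (c' * a') = c * (a * c') * a' := by group
              _ = c * (c' * a) * a' := by rw [hc' a ha]
              _ = c * c' * (a * a') := by group
        inv_mem' := by
          rintro x ⟨c, a, hc, ha, rfl⟩
          refine ⟨c⁻¹, a⁻¹, ?_, A.inv_mem ha, ?_⟩
          · intro a'' ha''
            calc a'' * c⁻¹ = c⁻¹ * (c * a'') * c⁻¹ := by group
              _ = c⁻¹ * (a'' * c) * c⁻¹ := by rw [hc a'' ha'']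
              _ = c⁻¹ * a'' := by group
          · calc (c * a)⁻¹ = a⁻¹ * c⁻¹ := by group
              _ = c⁻¹ * (c * a⁻¹) * c⁻¹ := by group
              _ = c⁻¹ * (a⁻¹ * c) * c⁻¹ := by rw [hc a⁻¹ (A.inv_mem ha)]
              _ = c⁻¹ * a⁻¹ := by group }
    have hle : Subgroup.centralizer (A : Set G) ⊔ A ≤ S :=
      sup_le (fun c hc => ⟨c, 1, fun a' ha' => Subgroup.mem_centralizer_iff.1 hc a' ha',
        A.one_mem, (mul_one c).symm⟩)
        (fun a ha => ⟨1, a, fun a' _ => by rw [mul_one, one_mul], ha, (one_mul a).symm⟩)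
    exact hle hm
  · rintro ⟨c, a, hc, ha, rfl⟩
    exact Subgroup.mul_mem _ (Subgroup.mem_sup_left (Subgroup.mem_centralizer_iff.2 hc))
      (Subgroup.mem_sup_right ha)

/-- An element of an odd-order subgroup whose fourth power is trivial is trivial. -/
theorem eq_one_of_pow_four_of_odd {G : Type*} [Group G] {A : Subgroup G}
    (hA : Odd (Nat.card A)) {a : G} (ha : a ∈ A) (h4 : a ^ 4 = 1) : a = 1 := by
  have h2 : (a * a) * (a * a) = 1 := by
    have e : a ^ 4 = (a * a) * (a * a) := by
      have e4 : (4 : ℕ) = 2 * 2 := rfl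
      rw [e4, pow_mul, pow_two, pow_two]
    rw [← e]; exact h4
  exact eq_one_of_sq_eq_one_of_odd hA ha (eq_one_of_sq_eq_one_of_odd hA (A.mul_mem ha ha) h2)

/-- Elements of a subgroup with `QData` have fourth power `1`. -/
theorem QData.pow_four {G : Type*} [Group G] {Q : Subgroup G} {z : G} (h : QData Q z) :
    ∀ r ∈ Q, r ^ 4 = 1 := by
  intro r hr
  have e : r ^ 4 = (r * r) * (r * r) := by
    have e4 : (4 : ℕ) = 2 * 2 := rfl
    rw [e4, pow_mul, pow_two, pow_two]
  rw [e]
  rcases (mem_zpowers_invol h.sq _).1 (h.sqmem r hr) with h1 | h1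
  · rw [h1, one_mul]
  · rw [h1, h.sq]

end Cfsg.Agent.Lib.helper92
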