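import Mathlib
import Cfsg.Agent.Lib.helper92.QFun
import Cfsg.Agent.Lib.helper92.Simple
import Cfsg.Agent.Lib.helper28.Layer
import Cfsg.Agent.Lib.helper28.PCores

/-!
# Components in a group with a large extraspecial subgroup

Tools for the structure theorem on `F*(G)` when `G` has a large extraspecial `2`-subgroup `Q`:
components have trivial centre when `F(G) = 1`, decomposition of the layer along a product of
components, no component centralizes `z`, and `Q` is transitive on the components.
-/

set_option autoImplicit false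

namespace Cfsg.Agent.Lib.helper92

open Cfsg Cfsg.Agent.Lib.helper28

/-- A finite group with an involution `t` whose centralizer is `{1, t}` is not perfect. -/
theorem not_isPerfect_of_centralizer_invol {L : Type*} [Group L] [Finite L] (t : L) (ht1 : t ≠ 1)
    (hC : ∀ d : L, d * t = t * d → d = 1 ∨ d = t) : ¬ Group.IsPerfect L := by
  intro hperf
  have : Fact (Nat.Prime 2) := ⟨Nat.prime_two⟩
  have htt : t * t = 1 := by
    rcases hC (t * t) (by group) with h | h
    · exact h
    · exfalso; apply ht1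
      calc t = t⁻¹ * (t * t) := by group
        _ = t⁻¹ * t := by rw [h]
        _ = 1 := by group
  have hp : IsPGroup 2 (Subgroup.zpowers t) := by
    apply IsPGroup.of_card (n := 1)
    rw [Nat.card_zpowers, pow_one]
    exact orderOf_eq_prime (by rw [pow_two]; exact htt) ht1
  obtain ⟨R, hR⟩ := hp.exists_le_sylow
  have htR : t ∈ (R : Subgroup L) := hR (Subgroup.mem_zpowers t)
  have hRall : ∀ r ∈ (R : Subgroup L), r = 1 ∨ r = t := by
    have hnt : Nontrivial ↥(R : Subgroup L) :=
      ⟨⟨⟨t, htR⟩, 1, fun h => ht1 (congrArg Subtype.val h)⟩⟩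
    have hcen : Nontrivial (Subgroup.center ↥(R : Subgroup L)) :=
      IsPGroup.center_nontrivial R.isPGroup'
    obtain ⟨c, hc1⟩ := exists_ne (1 : Subgroup.center ↥(R : Subgroup L))
    have hcc := c.2
    have hct : ((c : ↥(R : Subgroup L)) : L) * t = t * ((c : ↥(R : Subgroup L)) : L) := by
      have h1 := Subgroup.mem_center_iff.1 hcc ⟨t, htR⟩
      exact (congrArg Subtype.val h1).symm
    have hc_eq : ((c : ↥(R : Subgroup L)) : L) = t := by
      rcases hC _ hct with h | h
      · exfalso; apply hc1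
        apply Subtype.ext; apply Subtype.ext; exact h
      · exact h
    intro r hr
    apply hC
    have h1 := Subgroup.mem_center_iff.1 hcc ⟨r, hr⟩
    have h2 := congrArg Subtype.val h1
    rw [← hc_eq]; exact h2
  have hP : Subgroup.normalizer ((R : Subgroup L) : Set L) ≤
      Subgroup.centralizer ((R : Subgroup L) : Set L) := by
    intro g hg
    rw [Subgroup.mem_centralizer_iff]
    intro r hr
    rcases hRall r hr with h | h
    · rw [h]; simp
    · rw [h]
      have h1 := (Subgroup.mem_normalizer_iff.1 hg t).1 htR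
      rcases hRall _ h1 with h2 | h2
      · exfalso; apply ht1
        calc t = g⁻¹ * (g * t * g⁻¹) * g := by group
          _ = 1 := by rw [h2]; group
      · calc t * g = (g * t * g⁻¹) * g := by rw [h2]
          _ = g * t := by group
  have hcomp := MonoidHom.ker_transferSylow_isComplement' R hP
  have hcard := hcomp.card_mul_card
  have hker : (MonoidHom.transferSylow R hP).ker = ⊤ := by
    rw [eq_top_iff, ← hperf.commutator_eq_top, commutator_def, Subgroup.commutator_le]
    intro a _ b _
    rw [MonoidHom.mem_ker, map_commutatorElement, commutatorElement_eq_one_iff_commute]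
    have hx := hRall _ (MonoidHom.transferSylow R hP a).2
    have hy := hRall _ (MonoidHom.transferSylow R hP b).2
    show _ * _ = _ * _
    apply Subtype.ext
    rw [Subgroup.coe_mul, Subgroup.coe_mul]
    rcases hx with hx | hx <;> rcases hy with hy | hy <;> rw [hx, hy] <;> simp
  rw [hker, Subgroup.card_top] at hcard
  have hpos : 0 < Nat.card L := Nat.card_pos
  have h1 : Nat.card ↥(R : Subgroup L) = 1 := by
    have h2 : Nat.card L * Nat.card ↥(R : Subgroup L) = Nat.card L * 1 := by
      rw [mul_one]; exact hcard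
    exact Nat.eq_of_mul_eq_mul_left hpos h2
  have h2 : (R : Subgroup L) = ⊥ := Subgroup.card_eq_one.1 h1
  rw [h2, Subgroup.mem_bot] at htR
  exact ht1 htR

section
variable {G : Type*} [Group G] [Finite G]

/-- In a finite group with trivial Fitting subgroup, components have trivial centre. -/
theorem isComponent_eq_one_of_central (hF : fittingSubgroup G = ⊥) {K : Subgroup G}
    (hK : IsComponent K) {x : G} (hx : x ∈ K) (hc : ∀ k ∈ K, k * x = x * k) : x = 1 := by
  have hsub : ((Subgroup.center ↥K).map K.subtype).IsSubnormal :=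
    (Subgroup.Normal.isSubnormal inferInstance).trans' hK.1
  have hcomm : IsMulCommutative ↥((Subgroup.center ↥K).map K.subtype) := by
    rw [isMulCommutative_iff_of_setLike]
    intro a ha b hb
    rw [mem_center_map_iff] at ha hb
    exact (hb.2 a ha.1)
  have hnil : Group.IsNilpotent ↥((Subgroup.center ↥K).map K.subtype) :=
    isNilpotent_of_isMulCommutative _
  have h1 := le_fittingSubgroup_of_isSubnormal hsub hnil
    ((mem_center_map_iff K x).2 ⟨hx, hc⟩)
  rw [hF, Subgroup.mem_bot] at h1
  exact h1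

omit [Finite G] in
theorem isComponent_conj {K : Subgroup G} (hK : IsComponent K) (g : G) :
    IsComponent (K.map (MulAut.conj g).toMonoidHom) :=
  isComponent_map_equiv (MulAut.conj g) hK

theorem isComponent_commute_elem {K K' : Subgroup G} (hK : IsComponent K) (hK' : IsComponent K')
    (hne : K ≠ K') : ∀ x ∈ K, ∀ y ∈ K', x * y = y * x := by
  have h1 := isComponent_commute hK hK' hne
  rw [Subgroup.commutator_eq_bot_iff_le_centralizer] at h1
  intro x hx y hy
  exact ((Subgroup.mem_centralizer_iff.1 (h1 hx)) y hy).symm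

omit [Finite G] in
/-- Decomposition of the layer along a subgroup `B` such that every component lies in `B` or
centralizes `B`. -/
theorem layer_decomp (B : Subgroup G)
    (hB : ∀ K : Subgroup G, IsComponent K → K ≤ B ∨ K ≤ Subgroup.centralizer (B : Set G)) :
    ∀ x ∈ layer G, ∃ b ∈ B, ∃ c ∈ Subgroup.centralizer (B : Set G), x = b * c := by
  intro x hx
  have hle : layer G ≤ Subgroup.centralizer (B : Set G) ⊔ B := by
    apply sSup_le
    intro K hK
    rcases hB K hK with h | h
    · exact h.trans le_sup_right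
    · exact h.trans le_sup_left
  obtain ⟨c, hc, b, hb, hcb⟩ :=
    exists_mul_of_mem_sup_of_le_normalizer (Subgroup.centralizer_le_normalizer _) (hle hx)
  refine ⟨b, hb, c, hc, ?_⟩
  rw [← hcb]
  exact ((Subgroup.mem_centralizer_iff.1 hc) b hb).symm

theorem layer_decomp_unique (hF : fittingSubgroup G = ⊥) (B : Subgroup G) (hBE : B ≤ layer G)
    (hB : ∀ K : Subgroup G, IsComponent K → K ≤ B ∨ K ≤ Subgroup.centralizer (B : Set G))
    {b b' c c' : G} (hb : b ∈ B) (hb' : b' ∈ B) (hc : c ∈ Subgroup.centralizer (B : Set G))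
    (hc' : c' ∈ Subgroup.centralizer (B : Set G)) (h : b * c = b' * c') : b = b' ∧ c = c' := by
  have hkey : ∀ x ∈ B, x ∈ Subgroup.centralizer (B : Set G) → x = 1 := by
    intro x hxB hxC
    have hxZ : x ∈ (Subgroup.center ↥(layer G)).map (layer G).subtype := by
      rw [mem_center_map_iff]
      refine ⟨hBE hxB, ?_⟩
      have hle : layer G ≤ Subgroup.centralizer ({x} : Set G) := by
        apply sSup_le
        intro K hK k hk
        rw [Subgroup.mem_centralizer_singleton_iff]
        rcases hB K hK with h1 | h1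
        · exact (Subgroup.mem_centralizer_iff.1 hxC) k (h1 hk)
        · exact ((Subgroup.mem_centralizer_iff.1 (h1 hk)) x hxB).symm
      intro q hq
      exact Subgroup.mem_centralizer_singleton_iff.1 (hle hq)
    rw [map_center_layer, hF] at hxZ
    exact (Subgroup.mem_bot.1 hxZ.1)
  have h1 : b'⁻¹ * b = c' * c⁻¹ := by
    calc b'⁻¹ * b = b'⁻¹ * (b * c) * c⁻¹ := by group
      _ = b'⁻¹ * (b' * c') * c⁻¹ := by rw [h]
      _ = c' * c⁻¹ := by group
  have h2 : b'⁻¹ * b = 1 := by
    apply hkey _ (B.mul_mem (B.inv_mem hb') hb)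
    rw [h1]
    exact Subgroup.mul_mem _ hc' (Subgroup.inv_mem _ hc)
  constructor
  · calc b = b' * (b'⁻¹ * b) := by group
      _ = b' := by rw [h2, mul_one]
  · rw [h2] at h1
    calc c = (c' * c⁻¹)⁻¹ * c' := by group
      _ = c' := by rw [← h1]; group

/-- The product of the `Q`-conjugates of `K`. -/
def orbitSup (Q K : Subgroup G) : Subgroup G :=
  ⨆ q : Q, K.map (MulAut.conj (q : G)).toMonoidHom

omit [Finite G] in
theorem le_orbitSup (Q K : Subgroup G) {q : G} (hq : q ∈ Q) :
    K.map (MulAut.conj q).toMonoidHom ≤ orbitSup Q K :=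
  le_iSup (fun q : Q => K.map (MulAut.conj (q : G)).toMonoidHom) ⟨q, hq⟩

omit [Finite G] in
theorem self_le_orbitSup (Q K : Subgroup G) : K ≤ orbitSup Q K := by
  intro k hk
  apply le_orbitSup Q K Q.one_mem
  rw [mem_map_conj_iff]
  have e : (1 : G)⁻¹ * k * 1 = k := by group
  rw [e]; exact hk

omit [Finite G] in
theorem conj_mem_orbitSup (Q K : Subgroup G) {q : G} (hq : q ∈ Q) {b : G}
    (hb : b ∈ orbitSup Q K) : q * b * q⁻¹ ∈ orbitSup Q K := by
  have hle : (orbitSup Q K).map (MulAut.conj q).toMonoidHom ≤ orbitSup Q K := by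
    unfold orbitSup
    rw [Subgroup.map_iSup]
    apply iSup_le
    intro q'
    rw [Subgroup.map_map]
    have e : (MulAut.conj q).toMonoidHom.comp (MulAut.conj (q' : G)).toMonoidHom
        = (MulAut.conj (q * q')).toMonoidHom := by
      ext x; simp [MulAut.conj_apply, mul_assoc]
    rw [e]
    exact le_iSup (fun q : Q => K.map (MulAut.conj (q : G)).toMonoidHom)
      ⟨q * q', Q.mul_mem hq q'.2⟩
  apply hle
  rw [mem_map_conj_iff]
  have e : q⁻¹ * (q * b * q⁻¹) * q = b := by group
  rw [e]; exact hb

omit [Finite G] in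
theorem orbitSup_le_layer (Q : Subgroup G) {K : Subgroup G} (hK : IsComponent K) :
    orbitSup Q K ≤ layer G := by
  unfold orbitSup
  apply iSup_le
  intro q
  exact le_layer (isComponent_conj hK q)

theorem le_centralizer_orbitSup (Q : Subgroup G) {K K' : Subgroup G} (hK : IsComponent K)
    (hK' : IsComponent K') (hno : ∀ q ∈ Q, K' ≠ K.map (MulAut.conj q).toMonoidHom) :
    K' ≤ Subgroup.centralizer (orbitSup Q K : Set G) := by
  rw [Subgroup.le_centralizer_iff]
  unfold orbitSup
  apply iSup_le
  intro q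
  have hne : K.map (MulAut.conj (q : G)).toMonoidHom ≠ K' := fun e => hno q q.2 e.symm
  have h1 := isComponent_commute (isComponent_conj hK q) hK' hne
  rwa [Subgroup.commutator_eq_bot_iff_le_centralizer] at h1

theorem orbitSup_dichotomy (Q : Subgroup G) {K : Subgroup G} (hK : IsComponent K) :
    ∀ K' : Subgroup G, IsComponent K' →
      K' ≤ orbitSup Q K ∨ K' ≤ Subgroup.centralizer (orbitSup Q K : Set G) := by
  intro K' hK'
  by_cases h : ∃ q ∈ Q, K' = K.map (MulAut.conj q).toMonoidHom
  · obtain ⟨q, hq, rfl⟩ := h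
    exact Or.inl (le_orbitSup Q K hq)
  · push Not at h
    exact Or.inr (le_centralizer_orbitSup Q hK hK' h)

/-- No component of `G` centralizes `z` (when `O_2(G) = 1`). -/
theorem not_le_centralizer_of_isComponent {Q : Subgroup G} {z : G} (hq : QData Q z)
    (h2 : pCore 2 G = ⊥) {K : Subgroup G} (hK : IsComponent K) :
    ¬ K ≤ Subgroup.centralizer ({z} : Set G) := by
  intro hKz
  have hBz : orbitSup Q K ≤ Subgroup.centralizer ({z} : Set G) := by
    unfold orbitSup
    apply iSup_le
    intro q x hx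
    rw [mem_map_conj_iff] at hx
    have h1 := Subgroup.mem_centralizer_singleton_iff.1 (hKz hx)
    have hqz : (q : G) * z = z * q := hq.central q q.2
    have hqz' : (q : G)⁻¹ * z = z * (q : G)⁻¹ := hq.central _ (Q.inv_mem q.2)
    rw [Subgroup.mem_centralizer_singleton_iff]
    calc x * z = (q : G) * ((q : G)⁻¹ * x * q) * ((q : G)⁻¹ * z) := by group
      _ = q * ((q : G)⁻¹ * x * q) * (z * (q : G)⁻¹) := by rw [hqz']
      _ = q * (((q : G)⁻¹ * x * q) * z) * (q : G)⁻¹ := by group
      _ = q * (z * ((q : G)⁻¹ * x * q)) * (q : G)⁻¹ := by rw [h1]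
      _ = ((q : G) * z) * ((q : G)⁻¹ * x * q) * (q : G)⁻¹ := by group
      _ = (z * q) * ((q : G)⁻¹ * x * q) * (q : G)⁻¹ := by rw [hqz]
      _ = z * x := by group
  have hBE : orbitSup Q K ≤ layer G := orbitSup_le_layer Q hK
  have hEN : layer G ≤ Subgroup.normalizer (orbitSup Q K : Set G) := by
    intro e he
    rw [← map_conj_eq_self_iff_mem_normalizer]
    unfold orbitSup
    rw [Subgroup.map_iSup]
    congr 1
    funext q
    exact (map_conj_eq_self_iff_mem_normalizer e _).2
      (layer_le_normalizer_of_isComponent (isComponent_conj hK q) he)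
  have hBsub : (orbitSup Q K).IsSubnormal :=
    Subgroup.IsSubnormal.step _ (layer G) hBE (Subgroup.Normal.isSubnormal inferInstance)
      ((Subgroup.normal_subgroupOf_iff_le_normalizer hBE).2 hEN)
  have hDn : orbitSup Q K ≤ Subgroup.normalizer ((orbitSup Q K ⊓ Q : Subgroup G) : Set G) := by
    intro b hb
    rw [Subgroup.mem_normalizer_iff]
    have hbz := Subgroup.mem_centralizer_singleton_iff.1 (hBz hb)
    have hbz' : b⁻¹ * z = z * b⁻¹ :=
      Subgroup.mem_centralizer_singleton_iff.1 (hBz (Subgroup.inv_mem _ hb))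
    intro x
    constructor
    · rintro ⟨hx1, hx2⟩
      exact ⟨Subgroup.mul_mem _ (Subgroup.mul_mem _ hb hx1) (Subgroup.inv_mem _ hb),
        hq.norm b hbz x hx2⟩
    · rintro ⟨hx1, hx2⟩
      have e : b⁻¹ * (b * x * b⁻¹) * b⁻¹⁻¹ = x := by group
      rw [← e]
      exact ⟨Subgroup.mul_mem _ (Subgroup.mul_mem _ (Subgroup.inv_mem _ hb) hx1)
        (Subgroup.inv_mem _ (Subgroup.inv_mem _ hb)), hq.norm b⁻¹ hbz' _ hx2⟩
  have hDsub : (orbitSup Q K ⊓ Q).IsSubnormal :=
    Subgroup.IsSubnormal.step _ (orbitSup Q K) inf_le_left hBsub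
      ((Subgroup.normal_subgroupOf_iff_le_normalizer inf_le_left).2 hDn)
  have hD : orbitSup Q K ⊓ Q = ⊥ := by
    rw [eq_bot_iff, ← h2]
    exact Cfsg.Agent.Lib.helper27.subnormal_pGroup_le_pCore 2 _ hDsub
      (hq.isPGroup.to_le inf_le_right)
  have hcomm : ∀ b ∈ orbitSup Q K, ∀ q ∈ Q, q * b = b * q := by
    intro b hb q hqQ
    have h1 : b * q * b⁻¹ * q⁻¹ ∈ orbitSup Q K ⊓ Q := by
      constructor
      · have h3 := conj_mem_orbitSup Q K hqQ (Subgroup.inv_mem _ hb)
        have e : b * q * b⁻¹ * q⁻¹ = b * (q * b⁻¹ * q⁻¹) := by group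
        rw [e]; exact Subgroup.mul_mem _ hb h3
      · exact Q.mul_mem (hq.norm b (Subgroup.mem_centralizer_singleton_iff.1 (hBz hb)) q hqQ)
          (Q.inv_mem hqQ)
    rw [hD, Subgroup.mem_bot] at h1
    calc q * b = (b * q * b⁻¹ * q⁻¹)⁻¹ * (b * q) := by group
      _ = b * q := by rw [h1]; group
  have hBZ : ∀ b ∈ orbitSup Q K, b ∈ Subgroup.zpowers z := fun b hb => hq.cent b (hcomm b hb)
  apply (isComponent_qs hK).not_isMulCommutative
  rw [isMulCommutative_iff_of_setLike]
  intro a ha b hb
  have hKB : K ≤ orbitSup Q K := self_le_orbitSup Q K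
  rcases (mem_zpowers_invol hq.sq a).1 (hBZ a (hKB ha)) with h | h <;>
    rcases (mem_zpowers_invol hq.sq b).1 (hBZ b (hKB hb)) with h' | h' <;> rw [h, h'] <;> simp

/-- `Q` is transitive on the components of `G` (when `F(G) = 1`). -/
theorem exists_conj_eq_of_isComponent {Q : Subgroup G} {z : G} (hq : QData Q z)
    (hF : fittingSubgroup G = ⊥) (h2 : pCore 2 G = ⊥) (hzE : z ∈ layer G)
    {K K' : Subgroup G} (hK : IsComponent K) (hK' : IsComponent K') :
    ∃ q ∈ Q, K' = K.map (MulAut.conj q).toMonoidHom := by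
  by_contra hno
  push Not at hno
  have hB := orbitSup_dichotomy Q hK
  have hBE : orbitSup Q K ≤ layer G := orbitSup_le_layer Q hK
  obtain ⟨b, hb, c, hc, hzbc⟩ := layer_decomp (orbitSup Q K) hB z hzE
  have hbQ : ∀ q ∈ Q, q * b = b * q := by
    intro q hqQ
    have h1 : q * b * q⁻¹ ∈ orbitSup Q K := conj_mem_orbitSup Q K hqQ hb
    have h2' : q * c * q⁻¹ ∈ Subgroup.centralizer (orbitSup Q K : Set G) := by
      rw [Subgroup.mem_centralizer_iff]
      intro y hy
      have h3 : q⁻¹ * y * q⁻¹⁻¹ ∈ orbitSup Q K := conj_mem_orbitSup Q K (Q.inv_mem hqQ) hy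
      have h4 := (Subgroup.mem_centralizer_iff.1 hc) _ h3
      calc y * (q * c * q⁻¹) = q * ((q⁻¹ * y * q⁻¹⁻¹) * c) * q⁻¹ := by group
        _ = q * (c * (q⁻¹ * y * q⁻¹⁻¹)) * q⁻¹ := by rw [h4]
        _ = q * c * q⁻¹ * y := by group
    have h5 : (q * b * q⁻¹) * (q * c * q⁻¹) = b * c := by
      calc (q * b * q⁻¹) * (q * c * q⁻¹) = q * (b * c) * q⁻¹ := by group
        _ = q * z * q⁻¹ := by rw [hzbc]
        _ = (z * q) * q⁻¹ := by rw [hq.central q hqQ]
        _ = z := by group
        _ = b * c := hzbc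
    have h6 := (layer_decomp_unique hF _ hBE hB h1 hb h2' hc h5).1
    calc q * b = (q * b * q⁻¹) * q := by group
      _ = b * q := by rw [h6]
  rcases (mem_zpowers_invol hq.sq b).1 (hq.cent b hbQ) with h | h
  · apply not_le_centralizer_of_isComponent hq h2 hK
    intro k hk
    rw [Subgroup.mem_centralizer_singleton_iff]
    have hzc : z = c := by rw [hzbc, h, one_mul]
    rw [hzc]
    exact (Subgroup.mem_centralizer_iff.1 hc) k (self_le_orbitSup Q K hk)
  · apply not_le_centralizer_of_isComponent hq h2 hK'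
    intro k hk
    rw [Subgroup.mem_centralizer_singleton_iff]
    have h3 := le_centralizer_orbitSup Q hK hK' hno hk
    have h4 := (Subgroup.mem_centralizer_iff.1 h3) b hb
    rw [h] at h4
    exact h4.symm

end

end Cfsg.Agent.Lib.helper92
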