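import Mathlib

/-!
# Two fixed-point-free elements of order `p` in a `p`-group acting coprimely commute

`fpf_commute`: a `p`-group `D` acts on an abelian `p'`-group `W`; if `f`, `g` act as
fixed-point-free automorphisms with `p`-th power `1`, then their images commute.
(Piece F for helper5's S3786.)
-/

namespace Cfsg.Agent.Lib.helper92

section FpfCommute

variable {W : Type*} [CommGroup W] [Finite W] {p : ℕ} [Fact p.Prime]

omit [Finite W] [Fact p.Prime] in
theorem fpfc_norm_fixed (x : MulAut W) (hx : x ^ p = 1) (w : W) :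
    x (∏ k ∈ Finset.range p, (x ^ k) w) = ∏ k ∈ Finset.range p, (x ^ k) w := by
  rw [map_prod]
  have h1 : ∏ k ∈ Finset.range p, x ((x ^ k) w) = ∏ k ∈ Finset.range p, (x ^ (k + 1)) w := by
    refine Finset.prod_congr rfl fun k _ => ?_
    rw [pow_succ']; rfl
  rw [h1]
  have h2 := Finset.prod_range_succ (fun k => (x ^ k) w) p
  have h3 := Finset.prod_range_succ' (fun k => (x ^ k) w) p
  rw [h2] at h3
  simp only [hx, pow_zero] at h3
  exact (mul_right_cancel h3).symm

omit [Finite W] [Fact p.Prime] in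
theorem fpfc_norm (x : MulAut W) (hx : x ^ p = 1) (hfx : ∀ w : W, x w = w → w = 1) (w : W) :
    ∏ k ∈ Finset.range p, (x ^ k) w = 1 :=
  hfx _ (fpfc_norm_fixed x hx w)

omit [Finite W] in
theorem fpfc_pow_fixed (x : MulAut W) (u : W) (h : x u = u) (m : ℕ) : (x ^ m) u = u := by
  induction m with
  | zero => simp
  | succ m ih => rw [pow_succ, MulAut.mul_apply, h, ih]

omit [Finite W] in
theorem fpfc_key (hW : (Nat.card W).Coprime p) (a b : MulAut W) (ha : a ^ p = 1)
    (hfa : ∀ w : W, a w = w → w = 1)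
    (h1 : a * (b * a * b⁻¹) = (b * a * b⁻¹) * a)
    (h2 : b * (a⁻¹ * b * a) = (a⁻¹ * b * a) * b) : a * b = b * a := by
  have hp : p.Prime := Fact.out
  obtain ⟨e, he⟩ : ∃ e, e = a⁻¹ * (b * a * b⁻¹) := ⟨_, rfl⟩
  have hea : Commute a e := by
    show a * e = e * a
    rw [he]
    calc a * (a⁻¹ * (b * a * b⁻¹)) = a⁻¹ * (a * (b * a * b⁻¹)) := by group
      _ = a⁻¹ * ((b * a * b⁻¹) * a) := by rw [h1]
      _ = a⁻¹ * (b * a * b⁻¹) * a := by group
  have heb : Commute b e := by
    show b * e = e * b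
    rw [he]
    calc b * (a⁻¹ * (b * a * b⁻¹)) = (b * (a⁻¹ * b * a)) * b⁻¹ := by group
      _ = ((a⁻¹ * b * a) * b) * b⁻¹ := by rw [h2]
      _ = a⁻¹ * (b * a * b⁻¹) * b := by group
  have hep : e ^ p = 1 := by
    have hc : Commute a⁻¹ (b * a * b⁻¹) := Commute.inv_left h1
    rw [he, hc.mul_pow, conj_pow, inv_pow, ha]
    simp
  have hbab : b * a * b⁻¹ = a * e := by rw [he]; group
  have hd : ∀ j : ℕ, b ^ j * a * (b ^ j)⁻¹ = a * e ^ j := by
    intro j
    induction j with
    | zero => simp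
    | succ j ih =>
      have hbe : b * e ^ j * b⁻¹ = e ^ j := by
        have h := (heb.pow_right j).eq
        rw [h]; simp
      calc b ^ (j + 1) * a * (b ^ (j + 1))⁻¹ = b * (b ^ j * a * (b ^ j)⁻¹) * b⁻¹ := by
            rw [pow_succ']; simp [mul_assoc]
        _ = b * (a * e ^ j) * b⁻¹ := by rw [ih]
        _ = (b * a * b⁻¹) * (b * e ^ j * b⁻¹) := by simp [mul_assoc]
        _ = a * e * e ^ j := by rw [hbab, hbe]
        _ = a * e ^ (j + 1) := by rw [pow_succ', mul_assoc]
  have hdf : ∀ j : ℕ, ∀ w : W, (a * e ^ j) w = w → w = 1 := by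
    intro j w hw
    rw [← hd j] at hw
    have h3 : a ((b ^ j)⁻¹ w) = (b ^ j)⁻¹ w := by
      have := congrArg (fun v => (b ^ j)⁻¹ v) hw
      simpa [MulAut.mul_apply] using this
    have h4 := hfa _ h3
    have := congrArg (fun v => (b ^ j) v) h4
    simpa using this
  have hdp : ∀ j : ℕ, (a * e ^ j) ^ p = 1 := by
    intro j
    rw [(hea.pow_right j).mul_pow, ha, ← pow_mul, mul_comm, pow_mul, hep]
    simp
  have hfix : ∀ w : W, e w = w := by
    intro w
    -- for each j the norm of `a * e^j` vanishes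
    have hj : ∀ j : ℕ, ∏ k ∈ Finset.range p, (a ^ k) ((e ^ (j * k)) w) = 1 := by
      intro j
      have h := fpfc_norm (a * e ^ j) (hdp j) (hdf j) w
      rw [← h]
      refine Finset.prod_congr rfl fun k _ => ?_
      rw [(hea.pow_right j).mul_pow, ← pow_mul]; rfl
    have hsum : ∏ k ∈ Finset.range p, ∏ j ∈ Finset.range p, (a ^ k) ((e ^ (j * k)) w) = 1 := by
      rw [Finset.prod_comm]
      exact Finset.prod_eq_one fun j _ => hj j
    have hU : ∀ k : ℕ, ∏ j ∈ Finset.range p, (a ^ k) ((e ^ (j * k)) w)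
        = (a ^ k) (∏ j ∈ Finset.range p, ((e ^ k) ^ j) w) := by
      intro k
      rw [map_prod]
      refine Finset.prod_congr rfl fun j _ => ?_
      rw [pow_mul']
    have hsum2 : ∏ k ∈ Finset.range p, (a ^ k) (∏ j ∈ Finset.range p, ((e ^ k) ^ j) w) = 1 := by
      rw [← hsum]
      exact Finset.prod_congr rfl fun k _ => (hU k).symm
    obtain ⟨q, hq⟩ : ∃ q, p = q + 1 := ⟨p - 1, by have := hp.pos; omega⟩
    obtain ⟨T, hT⟩ : ∃ T, T = ∏ k ∈ Finset.range q,
        (a ^ (k + 1)) (∏ j ∈ Finset.range p, ((e ^ (k + 1)) ^ j) w) := ⟨_, rfl⟩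
    have hTw : T * w ^ p = 1 := by
      have h := Finset.prod_range_succ'
        (fun k => (a ^ k) (∏ j ∈ Finset.range p, ((e ^ k) ^ j) w)) q
      have hr : Finset.range (q + 1) = Finset.range p := by rw [hq]
      rw [hr, hsum2] at h
      simp only [pow_zero, one_pow, MulAut.one_apply, Finset.prod_const, Finset.card_range] at h
      rw [hT]; exact h.symm
    have heT : e T = T := by
      rw [hT, map_prod]
      refine Finset.prod_congr rfl fun k hk => ?_
      have hk' : k + 1 < p := by have := Finset.mem_range.mp hk; omega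
      -- `e` fixes the norm `U (k+1)`
      have hfixU : e (∏ j ∈ Finset.range p, ((e ^ (k + 1)) ^ j) w)
          = ∏ j ∈ Finset.range p, ((e ^ (k + 1)) ^ j) w := by
        have hx : (e ^ (k + 1)) ^ p = 1 := by rw [← pow_mul, mul_comm, pow_mul, hep, one_pow]
        have h5 := fpfc_norm_fixed (e ^ (k + 1)) hx w
        have hcop : Nat.Coprime (k + 1) p :=
          Nat.Coprime.symm (hp.coprime_iff_not_dvd.mpr (Nat.not_dvd_of_pos_of_lt (by omega) hk'))
        obtain ⟨m, -, hm⟩ := Nat.exists_mul_mod_eq_one_of_coprime hcop hp.one_lt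
        have h6 := fpfc_pow_fixed (e ^ (k + 1)) _ h5 m
        have h7 : (e ^ (k + 1)) ^ m = e := by
          rw [← pow_mul, pow_eq_pow_mod _ hep, hm, pow_one]
        rw [h7] at h6
        exact h6
      have hc : e * a ^ (k + 1) = a ^ (k + 1) * e := ((hea.pow_left (k + 1)).eq).symm
      calc e ((a ^ (k + 1)) (∏ j ∈ Finset.range p, ((e ^ (k + 1)) ^ j) w))
          = (e * a ^ (k + 1)) (∏ j ∈ Finset.range p, ((e ^ (k + 1)) ^ j) w) := rfl
        _ = (a ^ (k + 1) * e) (∏ j ∈ Finset.range p, ((e ^ (k + 1)) ^ j) w) := by rw [hc]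
        _ = (a ^ (k + 1)) (e (∏ j ∈ Finset.range p, ((e ^ (k + 1)) ^ j) w)) := rfl
        _ = _ := by rw [hfixU]
    have hwp : w ^ p = T⁻¹ := eq_inv_of_mul_eq_one_right hTw
    have hewp : e (w ^ p) = w ^ p := by rw [hwp, map_inv, heT]
    have hv : (e w * w⁻¹) ^ p = 1 := by
      rw [mul_pow, ← map_pow, hewp, inv_pow, mul_inv_cancel]
    have ho1 : orderOf (e w * w⁻¹) ∣ p := orderOf_dvd_of_pow_eq_one hv
    have ho2 : orderOf (e w * w⁻¹) ∣ Nat.card W := orderOf_dvd_natCard _
    have ho3 : orderOf (e w * w⁻¹) = 1 := Nat.eq_one_of_dvd_coprimes hW ho2 ho1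
    have := orderOf_eq_one_iff.mp ho3
    exact mul_inv_eq_one.mp this
  have he1 : e = 1 := MulEquiv.ext hfix
  rw [he1, mul_one] at hbab
  calc a * b = (b * a * b⁻¹) * b := by rw [hbab]
    _ = b * a := by group

theorem fpfc_core (hW : (Nat.card W).Coprime p) :
    ∀ n : ℕ, ∀ P : Subgroup (MulAut W), Nat.card P ≤ n → IsPGroup p P →
      ∀ a ∈ P, ∀ b ∈ P, a ^ p = 1 → b ^ p = 1 → (∀ w : W, a w = w → w = 1) →
        (∀ w : W, b w = w → w = 1) → a * b = b * a := by
  intro n
  induction n with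
  | zero =>
    intro P hP
    have := Nat.card_pos (α := P)
    omega
  | succ n ih =>
    intro P hPn hPp a haP b hbP ha hb hfa hfb
    have hnil : Group.IsNilpotent P := hPp.isNilpotent
    have hnc : NormalizerCondition P := Group.normalizerCondition_of_isNilpotent
    -- general step: `x` commutes with all its `P`-conjugates, or `P` is cyclic generated by `x`
    have step : ∀ x ∈ P, x ^ p = 1 → (∀ w : W, x w = w → w = 1) →
        (∀ y ∈ P, y ∈ Subgroup.zpowers x) ∨ ∀ y ∈ P, x * (y * x * y⁻¹) = (y * x * y⁻¹) * x := by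
      intro x hxP hx hfx
      rcases eq_top_or_exists_le_coatom ((Subgroup.zpowers x).subgroupOf P) with htop | ⟨M, hM, hle⟩
      · left
        intro y hy
        have : (⟨y, hy⟩ : P) ∈ (Subgroup.zpowers x).subgroupOf P := by rw [htop]; trivial
        exact Subgroup.mem_subgroupOf.mp this
      · right
        intro y hy
        have hMn : M.Normal := Subgroup.NormalizerCondition.normal_of_coatom M hnc hM
        have hxM : (⟨x, hxP⟩ : P) ∈ M :=
          hle (Subgroup.mem_subgroupOf.mpr (Subgroup.mem_zpowers x))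
        have hcM : (⟨y, hy⟩ : P) * ⟨x, hxP⟩ * (⟨y, hy⟩ : P)⁻¹ ∈ M := hMn.conj_mem _ hxM _
        have hcard : Nat.card (M.map P.subtype) ≤ n := by
          have h1 : Nat.card (M.map P.subtype) = Nat.card M :=
            Nat.card_congr (M.equivMapOfInjective P.subtype P.subtype_injective).symm.toEquiv
          have h2 : Nat.card M ≤ Nat.card P := Subgroup.card_le_card_group M
          have h3 : Nat.card M ≠ Nat.card P := fun h => hM.1 (Subgroup.eq_top_of_card_eq M h)
          omega
        have hpM : IsPGroup p (M.map P.subtype) :=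
          hPp.to_le (Subgroup.map_subtype_le M)
        have hx1 : x ∈ M.map P.subtype := ⟨⟨x, hxP⟩, hxM, rfl⟩
        have hx2 : y * x * y⁻¹ ∈ M.map P.subtype := ⟨_, hcM, rfl⟩
        have hfc : ∀ w : W, (y * x * y⁻¹) w = w → w = 1 := by
          intro w hw
          have h3 : x (y⁻¹ w) = y⁻¹ w := by
            have := congrArg (fun v => y⁻¹ v) hw
            simpa [MulAut.mul_apply] using this
          have h4 := hfx _ h3
          have := congrArg (fun v => y v) h4
          simpa using this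
        have hpc : (y * x * y⁻¹) ^ p = 1 := by rw [conj_pow, hx]; simp
        exact ih (M.map P.subtype) hcard hpM x hx1 _ hx2 hx hpc hfx hfc
    rcases step a haP ha hfa with hcyc | hca
    · obtain ⟨k, hk⟩ := Subgroup.mem_zpowers_iff.mp (hcyc b hbP)
      rw [← hk]
      exact (Commute.zpow_right (Commute.refl a) k).eq
    rcases step b hbP hb hfb with hcyc | hcb
    · obtain ⟨k, hk⟩ := Subgroup.mem_zpowers_iff.mp (hcyc a haP)
      rw [← hk]
      exact ((Commute.zpow_right (Commute.refl b) k).eq).symm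
    refine fpfc_key hW a b ha hfa (hca b hbP) ?_
    have := hcb a⁻¹ (P.inv_mem haP)
    simpa using this

end FpfCommute

/-- **Piece F.** A `p`-group `D` acts on a finite abelian `p'`-group `W`; two elements acting
fixed-point-freely with `p`-th power `1` act by commuting automorphisms. -/
theorem fpf_commute {D W : Type*} [Group D] [Finite D] [Group W] [Finite W] {p : ℕ} [Fact p.Prime]
    (hWc : ∀ a b : W, a * b = b * a) (hD : IsPGroup p D) (hW : (Nat.card W).Coprime p)
    (φ : D →* MulAut W) (f g : D) (hf : φ f ^ p = 1) (hg : φ g ^ p = 1)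
    (hff : ∀ w : W, φ f w = w → w = 1) (hgf : ∀ w : W, φ g w = w → w = 1) :
    φ f * φ g = φ g * φ f := by
  let _ : CommGroup W := { (inferInstance : Group W) with mul_comm := hWc }
  have hP : IsPGroup p φ.range := hD.of_surjective φ.rangeRestrict φ.rangeRestrict_surjective
  exact fpfc_core hW (Nat.card φ.range) φ.range le_rfl hP (φ f) ⟨f, rfl⟩ (φ g) ⟨g, rfl⟩ hf hg hff hgf

end Cfsg.Agent.Lib.helper92
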