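import Mathlib

/-!
S1906 split (helper38), PIECE EL: an `E_8` inside a group embedded in `GL_3(F)` contains the
preimage of `-1`.
-/

set_option autoImplicit false

namespace Cfsg.Agent.Lib.helper92.G3

open Matrix

theorem el_units_sq {F : Type*} [Field F] (u : Fˣ) (hu : u ^ 2 = 1) : u = 1 ∨ u = -1 := by
  have h : ((u : F)) ^ 2 = 1 := by
    have := congrArg (fun v : Fˣ => (v : F)) hu
    simpa using this
  have h' : ((u : F) - 1) * ((u : F) + 1) = 0 := by ring_nf; rw [h]; ring
  rcases mul_eq_zero.mp h' with h1 | h1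
  · left; apply Units.ext; simpa using sub_eq_zero.mp h1
  · right; apply Units.ext
    have : (u : F) = -1 := eq_neg_of_add_eq_zero_left h1
    simpa using this

/-- PIECE EL. An `E_8` inside a group embedded in `GL_3(F)` contains the preimage of `-1`. -/
theorem neg_one_mem {F : Type*} [Field F] (h2 : (2 : F) ≠ 0) {P : Type*} [Group P]
    (f : P →* GL (Fin 3) F) (hf : Function.Injective f) (E : Subgroup P)
    (hEc : ∀ a ∈ E, ∀ b ∈ E, a * b = b * a) (hE2 : ∀ a ∈ E, a ^ 2 = 1) (hE8 : Nat.card E = 8)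
    (hcore : ∀ c₁ c₂ : Matrix (Fin 3) (Fin 3) F, c₁ * c₁ = 1 → c₂ * c₂ = 1 →
      c₁ * c₂ = c₂ * c₁ → c₁.det = 1 → c₂.det = 1 → c₁ ≠ 1 → c₂ ≠ 1 → c₁ ≠ c₂ →
      ∀ e : Matrix (Fin 3) (Fin 3) F, e * e = 1 → e * c₁ = c₁ * e → e * c₂ = c₂ * e →
        e = 1 ∨ e = -1 ∨ e = c₁ ∨ e = -c₁ ∨ e = c₂ ∨ e = -c₂ ∨ e = c₁ * c₂ ∨
          e = -(c₁ * c₂)) :
    ∃ z ∈ E, ((f z : GL (Fin 3) F) : Matrix (Fin 3) (Fin 3) F) = -1 := by
  classical
  have hfin : Finite E := Nat.finite_of_card_ne_zero (by rw [hE8]; norm_num)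
  letI : Fintype E := Fintype.ofFinite E
  -- the matrix map
  obtain ⟨m, hm⟩ : ∃ m : E → Matrix (Fin 3) (Fin 3) F,
      m = fun a : E => ((f (a : P) : GL (Fin 3) F) : Matrix (Fin 3) (Fin 3) F) := ⟨_, rfl⟩
  have hm_mul : ∀ a b : E, m (a * b) = m a * m b := by
    intro a b; subst hm; simp
  have hm_one : m 1 = 1 := by subst hm; simp
  have hm_inj : Function.Injective m := by
    intro a b hab
    subst hm
    have : f (a : P) = f (b : P) := Units.ext hab
    exact Subtype.ext (hf this)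
  have hm_sq : ∀ a : E, m a * m a = 1 := by
    intro a
    rw [← hm_mul, ← hm_one]
    congr 1
    apply Subtype.ext
    have := hE2 a a.2
    simpa [pow_two] using this
  have hm_comm : ∀ a b : E, m a * m b = m b * m a := by
    intro a b
    rw [← hm_mul, ← hm_mul]
    congr 1
    exact Subtype.ext (hEc a a.2 b b.2)
  -- the determinant character
  let δ : E →* Fˣ := (Matrix.GeneralLinearGroup.det).comp (f.comp E.subtype)
  have hδ_val : ∀ a : E, ((δ a : Fˣ) : F) = (m a).det := by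
    intro a; subst hm; rfl
  have hδ_sq : ∀ a : E, δ a = 1 ∨ δ a = -1 := by
    intro a
    apply el_units_sq
    rw [← map_pow]
    have : a ^ 2 = 1 := Subtype.ext (by simpa using hE2 a a.2)
    rw [this, map_one]
  -- the kernel has at least 4 elements
  have hker : 4 ≤ Nat.card δ.ker := by
    have h1 : Nat.card δ.ker * δ.ker.index = Nat.card E := Subgroup.card_mul_index _
    have h3 : δ.ker.index ≤ 2 := by
      rw [Subgroup.index_ker]
      have hsub : (δ.range : Set Fˣ) ⊆ ({1, -1} : Set Fˣ) := by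
        rintro _ ⟨a, rfl⟩
        rcases hδ_sq a with h | h <;> simp [h]
      calc Nat.card δ.range = (δ.range : Set Fˣ).ncard := (Nat.card_coe_set_eq _)
        _ ≤ ({1, -1} : Set Fˣ).ncard := Set.ncard_le_ncard hsub (Set.toFinite _)
        _ ≤ 2 := (Set.ncard_insert_le _ _).trans (by simp)
    have hpos : 0 < δ.ker.index := Nat.pos_of_ne_zero Subgroup.index_ne_zero_of_finite
    rw [hE8] at h1
    by_contra hlt
    push Not at hlt
    have : Nat.card δ.ker * δ.ker.index ≤ 3 * 2 := Nat.mul_le_mul (by omega) h3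
    omega
  -- two distinct non-identity elements of the kernel
  letI : Fintype δ.ker := Fintype.ofFinite _
  have hcardk : 4 ≤ Fintype.card δ.ker := by rwa [Nat.card_eq_fintype_card] at hker
  obtain ⟨c₁, hc₁⟩ : ∃ c₁ : δ.ker, c₁ ≠ 1 := by
    by_contra h
    push Not at h
    have : Fintype.card δ.ker ≤ 1 := Fintype.card_le_one_iff.mpr (fun a b => by rw [h a, h b])
    omega
  obtain ⟨c₂, -, hc₂⟩ : ∃ c₂ ∈ (Finset.univ : Finset δ.ker), c₂ ∉ ({1, c₁} : Finset δ.ker) := by
    apply Finset.exists_mem_notMem_of_card_lt_card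
    calc ({1, c₁} : Finset δ.ker).card ≤ 2 := Finset.card_le_two
      _ < Fintype.card δ.ker := by omega
      _ = (Finset.univ : Finset δ.ker).card := Finset.card_univ.symm
  have hc₂1 : c₂ ≠ 1 := fun h => hc₂ (by simp [h])
  have hc₂c : c₂ ≠ c₁ := fun h => hc₂ (by simp [h])
  have hdet : ∀ c : δ.ker, (m (c : E)).det = 1 := by
    intro c
    rw [← hδ_val]
    have : δ (c : E) = 1 := c.2
    rw [this]; rfl
  have hne1 : ∀ c : δ.ker, c ≠ 1 → m (c : E) ≠ 1 := by
    intro c hc h
    apply hc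
    apply Subtype.ext
    apply hm_inj
    rw [h, ← hm_one]; rfl
  have hC12 : m (c₁ : E) ≠ m (c₂ : E) := by
    intro h
    exact hc₂c (Subtype.ext (hm_inj h)).symm
  -- every element of E maps into the 8-element list
  obtain ⟨S, hS⟩ : ∃ S : Finset (Matrix (Fin 3) (Fin 3) F),
      S = {1, -1, m (c₁ : E), -m (c₁ : E), m (c₂ : E), -m (c₂ : E), m (c₁ : E) * m (c₂ : E),
        -(m (c₁ : E) * m (c₂ : E))} := ⟨_, rfl⟩
  have hScard : S.card ≤ 8 := by
    rw [hS]
    refine (Finset.card_insert_le _ _).trans ?_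
    refine Nat.succ_le_succ ((Finset.card_insert_le _ _).trans ?_)
    exact Nat.succ_le_succ Finset.card_le_six
  have himg : Finset.image m Finset.univ ⊆ S := by
    intro e he
    obtain ⟨a, -, rfl⟩ := Finset.mem_image.mp he
    have := hcore (m (c₁ : E)) (m (c₂ : E)) (hm_sq _) (hm_sq _) (hm_comm _ _) (hdet c₁) (hdet c₂)
      (hne1 c₁ hc₁) (hne1 c₂ hc₂1) hC12 (m a) (hm_sq a) (hm_comm _ _) (hm_comm _ _)
    rw [hS]
    simp only [Finset.mem_insert, Finset.mem_singleton]
    exact this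
  have hcardimg : (Finset.image m Finset.univ).card = 8 := by
    rw [Finset.card_image_of_injective _ hm_inj, Finset.card_univ, ← Nat.card_eq_fintype_card, hE8]
  have heq : Finset.image m Finset.univ = S :=
    Finset.eq_of_subset_of_card_le himg (by rw [hcardimg]; exact hScard)
  have hneg : (-1 : Matrix (Fin 3) (Fin 3) F) ∈ Finset.image m Finset.univ := by
    rw [heq, hS]; simp
  obtain ⟨z, -, hz⟩ := Finset.mem_image.mp hneg
  refine ⟨(z : P), z.2, ?_⟩
  rw [← hz, hm]

end Cfsg.Agent.Lib.helper92.G3
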