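import Mathlib
import Cfsg.Prelude.Def_MonsterType

set_option autoImplicit false

namespace Cfsg.Agent.Lib.helper92

/-- Counting cosets through an invariant: if `f x = f y ↔ x⁻¹ * y ∈ K` for `x, y ∈ L`, then the
relative index of `K` in `L` is the number of values of `f` on `L`. -/
theorem relIndex_eq_ncard_image {G α : Type*} [Group G] (K L : Subgroup G) (f : G → α)
    (hf : ∀ x ∈ L, ∀ y ∈ L, f x = f y ↔ x⁻¹ * y ∈ K) :
    K.relIndex L = (f '' (L : Set G)).ncard := by
  classical
  rw [Subgroup.relIndex, Subgroup.index, ← Nat.card_coe_set_eq]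
  apply Nat.card_congr
  refine Equiv.ofBijective (fun c => Quotient.liftOn' c
    (fun x : L => (⟨f x, ⟨x, x.2, rfl⟩⟩ : f '' (L : Set G))) ?_) ⟨?_, ?_⟩
  · intro x y hxy
    rw [QuotientGroup.leftRel_apply] at hxy
    apply Subtype.ext
    exact (hf x x.2 y y.2).2 (by simpa [Subgroup.mem_subgroupOf] using hxy)
  · intro c d
    induction c using Quotient.inductionOn' with
    | h x =>
    induction d using Quotient.inductionOn' with
    | h y =>
    intro h
    apply Quotient.sound'
    rw [QuotientGroup.leftRel_apply]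
    have h1 : f x = f y := congrArg Subtype.val h
    have h2 := (hf x x.2 y y.2).1 h1
    simpa [Subgroup.mem_subgroupOf] using h2
  · rintro ⟨_, x, hx, rfl⟩
    exact ⟨Quotient.mk'' ⟨x, hx⟩, rfl⟩

/-- If the four-group `V = {1, z, b, z b}` is normalized by elements inducing two different
transpositions on its involutions, then `N(V) / C(V)` has order `6`. -/
theorem relIndex_centralizer_normalizer_four_group {G : Type*} [Group G] (z b c₀ c₁ : G)
    (V : Subgroup G) (hV : ∀ x, x ∈ V ↔ x = 1 ∨ x = z ∨ x = b ∨ x = z * b)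
    (hzz : z * z = 1) (hbb : b * b = 1) (hzb : z * b = b * z) (hz1 : z ≠ 1) (hb1 : b ≠ 1)
    (hbz : b ≠ z) (h0z : c₀ * z * c₀⁻¹ = z) (h0b : c₀ * b * c₀⁻¹ = z * b)
    (h1z : c₁ * z * c₁⁻¹ = z * b) (h1b : c₁ * b * c₁⁻¹ = b) :
    (Subgroup.centralizer (V : Set G)).relIndex (Subgroup.normalizer (V : Set G)) = 6 := by
  classical
  have hzV : z ∈ V := (hV z).2 (Or.inr (Or.inl rfl))
  have hbV : b ∈ V := (hV b).2 (Or.inr (Or.inr (Or.inl rfl)))
  have hzbV : z * b ∈ V := (hV _).2 (Or.inr (Or.inr (Or.inr rfl)))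
  have hzb1 : z * b ≠ 1 := by
    intro h
    apply hbz
    have : z = b⁻¹ := eq_inv_of_mul_eq_one_left h
    have hbi : b⁻¹ = b := inv_eq_of_mul_eq_one_left hbb
    rw [this, hbi]
  have hzbz : z * b ≠ z := by
    intro h
    apply hb1
    have : z * b = z * 1 := by rw [mul_one]; exact h
    exact mul_left_cancel this
  have hzbb : z * b ≠ b := by
    intro h
    apply hz1
    have : z * b = 1 * b := by rw [one_mul]; exact h
    exact mul_right_cancel this
  have conj_mul : ∀ n x y : G, n * (x * y) * n⁻¹ = (n * x * n⁻¹) * (n * y * n⁻¹) := by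
    intro n x y; group
  have h0zb : c₀ * (z * b) * c₀⁻¹ = b := by
    rw [conj_mul, h0z, h0b, ← mul_assoc, hzz, one_mul]
  have h1zb : c₁ * (z * b) * c₁⁻¹ = z := by
    rw [conj_mul, h1z, h1b, mul_assoc, hbb, mul_one]
  -- membership in the normalizer from a permutation of the involutions
  have hnorm : ∀ n : G, (∀ x ∈ V, n * x * n⁻¹ ∈ V) → (∀ x ∈ V, n⁻¹ * x * n ∈ V) →
      n ∈ Subgroup.normalizer (V : Set G) := by
    intro n h1 h2
    rw [Subgroup.mem_normalizer_iff]
    intro x
    constructor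
    · exact h1 x
    · intro hx
      have := h2 _ hx
      have e : n⁻¹ * (n * x * n⁻¹) * n = x := by group
      rw [e] at this
      exact this
  have inv_conj : ∀ n x y : G, n * x * n⁻¹ = y → n⁻¹ * y * n = x := by
    intro n x y h; rw [← h]; group
  have hc₀N : c₀ ∈ Subgroup.normalizer (V : Set G) := by
    apply hnorm
    · intro x hx
      rcases (hV x).1 hx with rfl | rfl | rfl | rfl
      · simpa using V.one_mem
      · rw [h0z]; exact hzV
      · rw [h0b]; exact hzbV
      · rw [h0zb]; exact hbV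
    · intro x hx
      rcases (hV x).1 hx with rfl | rfl | rfl | rfl
      · simpa using V.one_mem
      · rw [inv_conj _ _ _ h0z]; exact hzV
      · rw [inv_conj _ _ _ h0zb]; exact hzbV
      · rw [inv_conj _ _ _ h0b]; exact hbV
  have hc₁N : c₁ ∈ Subgroup.normalizer (V : Set G) := by
    apply hnorm
    · intro x hx
      rcases (hV x).1 hx with rfl | rfl | rfl | rfl
      · simpa using V.one_mem
      · rw [h1z]; exact hzbV
      · rw [h1b]; exact hbV
      · rw [h1zb]; exact hzV
    · intro x hx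
      rcases (hV x).1 hx with rfl | rfl | rfl | rfl
      · simpa using V.one_mem
      · rw [inv_conj _ _ _ h1zb]; exact hzbV
      · rw [inv_conj _ _ _ h1b]; exact hbV
      · rw [inv_conj _ _ _ h1z]; exact hzV
  rw [relIndex_eq_ncard_image _ _ (fun n : G => (n * z * n⁻¹, n * b * n⁻¹))]
  · have himg : (fun n : G => (n * z * n⁻¹, n * b * n⁻¹)) '' (Subgroup.normalizer (V : Set G) : Set G) =
        ((({(z, b), (z, z * b), (z * b, b), (b, z * b), (z * b, z), (b, z)} : Finset (G × G))) :
          Set (G × G)) := by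
      ext ⟨u, v⟩
      simp only [Set.mem_image, SetLike.mem_coe, Prod.mk.injEq, Finset.coe_insert,
        Finset.coe_singleton, Set.mem_insert_iff, Set.mem_singleton_iff]
      constructor
      · rintro ⟨n, hn, rfl, rfl⟩
        have hu : n * z * n⁻¹ ∈ V := ((Subgroup.mem_normalizer_iff.1 hn) z).1 hzV
        have hv : n * b * n⁻¹ ∈ V := ((Subgroup.mem_normalizer_iff.1 hn) b).1 hbV
        have hu1 : n * z * n⁻¹ ≠ 1 := by
          intro h
          apply hz1
          have e : z = n⁻¹ * (n * z * n⁻¹) * n := by group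
          rw [e, h]; group
        have hv1 : n * b * n⁻¹ ≠ 1 := by
          intro h
          apply hb1
          have e : b = n⁻¹ * (n * b * n⁻¹) * n := by group
          rw [e, h]; group
        have huv : n * z * n⁻¹ ≠ n * b * n⁻¹ := by
          intro h
          apply hbz
          have e : b = n⁻¹ * (n * b * n⁻¹) * n := by group
          rw [e, ← h]; group
        rcases (hV _).1 hu with h | h | h | h
        · exact absurd h hu1
        · rcases (hV _).1 hv with h' | h' | h' | h'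
          · exact absurd h' hv1
          · exact absurd (h.trans h'.symm) huv
          · exact Or.inl ⟨h, h'⟩
          · exact Or.inr (Or.inl ⟨h, h'⟩)
        · rcases (hV _).1 hv with h' | h' | h' | h'
          · exact absurd h' hv1
          · exact Or.inr (Or.inr (Or.inr (Or.inr (Or.inr ⟨h, h'⟩))))
          · exact absurd (h.trans h'.symm) huv
          · exact Or.inr (Or.inr (Or.inr (Or.inl ⟨h, h'⟩)))
        · rcases (hV _).1 hv with h' | h' | h' | h'
          · exact absurd h' hv1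
          · exact Or.inr (Or.inr (Or.inr (Or.inr (Or.inl ⟨h, h'⟩))))
          · exact Or.inr (Or.inr (Or.inl ⟨h, h'⟩))
          · exact absurd (h.trans h'.symm) huv
      · rintro (⟨hu, hv⟩ | ⟨hu, hv⟩ | ⟨hu, hv⟩ | ⟨hu, hv⟩ | ⟨hu, hv⟩ | ⟨hu, hv⟩)
        · exact ⟨1, Subgroup.one_mem _, by rw [hu]; simp, by rw [hv]; simp⟩
        · exact ⟨c₀, hc₀N, by rw [hu]; exact h0z, by rw [hv]; exact h0b⟩
        · exact ⟨c₁, hc₁N, by rw [hu]; exact h1z, by rw [hv]; exact h1b⟩
        · refine ⟨c₀ * c₁, Subgroup.mul_mem _ hc₀N hc₁N, ?_, ?_⟩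
          · have e : c₀ * c₁ * z * (c₀ * c₁)⁻¹ = c₀ * (c₁ * z * c₁⁻¹) * c₀⁻¹ := by group
            rw [e, h1z, h0zb, hu]
          · have e : c₀ * c₁ * b * (c₀ * c₁)⁻¹ = c₀ * (c₁ * b * c₁⁻¹) * c₀⁻¹ := by group
            rw [e, h1b, h0b, hv]
        · refine ⟨c₁ * c₀, Subgroup.mul_mem _ hc₁N hc₀N, ?_, ?_⟩
          · have e : c₁ * c₀ * z * (c₁ * c₀)⁻¹ = c₁ * (c₀ * z * c₀⁻¹) * c₁⁻¹ := by group
            rw [e, h0z, h1z, hu]
          · have e : c₁ * c₀ * b * (c₁ * c₀)⁻¹ = c₁ * (c₀ * b * c₀⁻¹) * c₁⁻¹ := by group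
            rw [e, h0b, h1zb, hv]
        · refine ⟨c₀ * c₁ * c₀, Subgroup.mul_mem _ (Subgroup.mul_mem _ hc₀N hc₁N) hc₀N, ?_, ?_⟩
          · have e : c₀ * c₁ * c₀ * z * (c₀ * c₁ * c₀)⁻¹ =
                c₀ * (c₁ * (c₀ * z * c₀⁻¹) * c₁⁻¹) * c₀⁻¹ := by group
            rw [e, h0z, h1z, h0zb, hu]
          · have e : c₀ * c₁ * c₀ * b * (c₀ * c₁ * c₀)⁻¹ =
                c₀ * (c₁ * (c₀ * b * c₀⁻¹) * c₁⁻¹) * c₀⁻¹ := by group
            rw [e, h0b, h1zb, h0z, hv]
    rw [himg, Set.ncard_coe_finset]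
    rw [Finset.card_insert_of_notMem, Finset.card_insert_of_notMem, Finset.card_insert_of_notMem,
      Finset.card_insert_of_notMem, Finset.card_insert_of_notMem, Finset.card_singleton]
    all_goals
      simp only [Finset.mem_insert, Finset.mem_singleton, Prod.mk.injEq, not_or, not_and]
      tauto
  · intro x _ y _
    simp only [Prod.mk.injEq]
    rw [Subgroup.mem_centralizer_iff]
    constructor
    · rintro ⟨h1, h2⟩
      have hz' : z * (x⁻¹ * y) = (x⁻¹ * y) * z := by
        calc z * (x⁻¹ * y) = x⁻¹ * (x * z * x⁻¹) * y := by group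
          _ = x⁻¹ * (y * z * y⁻¹) * y := by rw [h1]
          _ = (x⁻¹ * y) * z := by group
      have hb' : b * (x⁻¹ * y) = (x⁻¹ * y) * b := by
        calc b * (x⁻¹ * y) = x⁻¹ * (x * b * x⁻¹) * y := by group
          _ = x⁻¹ * (y * b * y⁻¹) * y := by rw [h2]
          _ = (x⁻¹ * y) * b := by group
      intro v hv
      rcases (hV v).1 hv with rfl | rfl | rfl | rfl
      · simp
      · exact hz'
      · exact hb'
      · rw [mul_assoc, hb', ← mul_assoc, hz', mul_assoc]
    · intro h
      have hz' := h z hzV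
      have hb' := h b hbV
      constructor
      · calc x * z * x⁻¹ = x * (z * (x⁻¹ * y)) * y⁻¹ := by group
          _ = x * ((x⁻¹ * y) * z) * y⁻¹ := by rw [hz']
          _ = y * z * y⁻¹ := by group
      · calc x * b * x⁻¹ = x * (b * (x⁻¹ * y)) * y⁻¹ := by group
          _ = x * ((x⁻¹ * y) * b) * y⁻¹ := by rw [hb']
          _ = y * b * y⁻¹ := by group

end Cfsg.Agent.Lib.helper92
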