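import Mathlib
import Cfsg.Prelude.Def_Characters
import Cfsg.Agent.Lib.helper11.SmallSimple

set_option autoImplicit false

/-!
# Values of irreducible characters of a simple group at involutions (helper92)

* `inv_trace_det`: an involutive endomorphism `A` of a finite-dimensional complex space has
  `trace A = dim - 2 b` and `det A = (-1)^b` with `b = dim ker (A + 1)`.
* `irr_involution_mod_four`: in a finite simple group of non-prime order, every irreducible
  character `ψ` has `ψ J = ψ 1 - 4 k` at an involution `J` (the determinant is trivial).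
-/

namespace Cfsg.Agent.Lib.helper92

open Cfsg

universe u

theorem inv_trace_det {V : Type*} [AddCommGroup V] [Module ℂ V] [FiniteDimensional ℂ V]
    (A : V →ₗ[ℂ] V) (hA : ∀ v, A (A v) = v) :
    ∃ b : ℕ, b ≤ Module.finrank ℂ V ∧
      LinearMap.trace ℂ V A = (Module.finrank ℂ V : ℂ) - 2 * b ∧ LinearMap.det A = (-1) ^ b := by
  obtain ⟨Ep, hEp⟩ : ∃ Ep : Submodule ℂ V, Ep = LinearMap.ker (A - LinearMap.id) := ⟨_, rfl⟩
  obtain ⟨Em, hEm⟩ : ∃ Em : Submodule ℂ V, Em = LinearMap.ker (A + LinearMap.id) := ⟨_, rfl⟩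
  have hp : ∀ v, v ∈ Ep ↔ A v = v := by
    intro v
    rw [hEp, LinearMap.mem_ker, LinearMap.sub_apply, LinearMap.id_apply, sub_eq_zero]
  have hm : ∀ v, v ∈ Em ↔ A v = -v := by
    intro v
    rw [hEm, LinearMap.mem_ker, LinearMap.add_apply, LinearMap.id_apply, add_eq_zero_iff_eq_neg]
  have hcompl : IsCompl Ep Em := by
    constructor
    · rw [Submodule.disjoint_def]
      intro v h1 h2
      have e1 := (hp v).mp h1
      have e2 := (hm v).mp h2
      have h3 : (2 : ℂ) • v = 0 := by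
        rw [two_smul]
        nth_rewrite 1 [← e1]
        rw [e2, neg_add_cancel]
      exact (smul_eq_zero.mp h3).resolve_left two_ne_zero
    · rw [codisjoint_iff, eq_top_iff]
      intro v _
      have h1 : (2 : ℂ)⁻¹ • (v + A v) ∈ Ep := by
        rw [hp, map_smul, map_add, hA, add_comm]
      have h2 : (2 : ℂ)⁻¹ • (v - A v) ∈ Em := by
        rw [hm, map_smul, map_sub, hA, ← smul_neg, neg_sub]
      have h3 : v = (2 : ℂ)⁻¹ • (v + A v) + (2 : ℂ)⁻¹ • (v - A v) := by
        rw [← smul_add, add_add_sub_cancel, ← two_smul ℂ v, smul_smul,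
          inv_mul_cancel₀ (two_ne_zero), one_smul]
      rw [h3]
      exact Submodule.add_mem _ (Submodule.mem_sup_left h1) (Submodule.mem_sup_right h2)
  obtain ⟨e, he⟩ : ∃ e : (Ep × Em) ≃ₗ[ℂ] V, e = Submodule.prodEquivOfIsCompl Ep Em hcompl :=
    ⟨_, rfl⟩
  obtain ⟨B, hB⟩ : ∃ B : (Ep × Em) →ₗ[ℂ] (Ep × Em),
      B = LinearMap.prodMap LinearMap.id (-LinearMap.id) := ⟨_, rfl⟩
  have hAB : A = (e : (Ep × Em) →ₗ[ℂ] V) ∘ₗ B ∘ₗ (e.symm : V →ₗ[ℂ] (Ep × Em)) := by
    apply LinearMap.ext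
    intro v
    obtain ⟨x, rfl⟩ := e.surjective v
    show A (e x) = e (B (e.symm (e x)))
    rw [LinearEquiv.symm_apply_apply, he, Submodule.coe_prodEquivOfIsCompl',
      Submodule.coe_prodEquivOfIsCompl', hB, map_add, (hp _).mp x.1.2, (hm _).mp x.2.2]
    simp
  have hfin : Module.finrank ℂ V = Module.finrank ℂ Ep + Module.finrank ℂ Em := by
    rw [← LinearEquiv.finrank_eq e, Module.finrank_prod]
  have htr : LinearMap.trace ℂ V A
      = (Module.finrank ℂ Ep : ℂ) - (Module.finrank ℂ Em : ℂ) := by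
    have h1 : A = e.conj B := by rw [hAB]; rfl
    rw [h1, LinearMap.trace_conj', hB, LinearMap.trace_prodMap', map_neg, LinearMap.trace_id,
      LinearMap.trace_id, sub_eq_add_neg]
  have hdet : LinearMap.det A = (-1) ^ Module.finrank ℂ Em := by
    rw [hAB, LinearMap.det_conj, hB, LinearMap.det_prodMap, LinearMap.det_id, one_mul]
    have h2 : (-LinearMap.id : Em →ₗ[ℂ] Em) = (-1 : ℂ) • LinearMap.id :=
      (neg_one_smul ℂ _).symm
    rw [h2, LinearMap.det_smul, LinearMap.det_id, mul_one]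
  refine ⟨Module.finrank ℂ Em, by omega, ?_, hdet⟩
  rw [htr, hfin]
  push_cast
  ring

theorem irr_involution_mod_four {G : Type u} [Group G] [Finite G] [IsSimpleGroup G]
    (hnp : ¬ (Nat.card G).Prime) (ψ : IrrCharacter G) (J : G) (hJ : J * J = 1) :
    ∃ n k : ℕ, 2 * k ≤ n ∧ (ψ : G → ℂ) 1 = n ∧ (ψ : G → ℂ) J = (n : ℂ) - 4 * k := by
  obtain ⟨n, ρ, -, hχ⟩ := ψ.2
  have hA : ∀ v, ρ J (ρ J v) = v := by
    intro v
    have h1 : ρ J * ρ J = 1 := by rw [← map_mul, hJ, map_one]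
    have h2 := congrArg (fun f : Module.End ℂ (Fin n → ℂ) => f v) h1
    simpa using h2
  obtain ⟨b, hb, htr, hdet⟩ := inv_trace_det (ρ J) hA
  rw [Module.finrank_fin_fun] at hb htr
  obtain ⟨f, hf⟩ : ∃ f : G →* ℂˣ, ∀ g, ((f g : ℂˣ) : ℂ) = LinearMap.det (ρ g) :=
    ⟨((LinearMap.det : Module.End ℂ (Fin n → ℂ) →* ℂ).comp ρ).toHomUnits, fun g => rfl⟩
  have hfJ : f J = 1 := by
    rcases f.normal_ker.eq_bot_or_eq_top with h | h
    · exfalso
      have hinj : Function.Injective f := (MonoidHom.ker_eq_bot_iff f).mp h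
      have hcomm : ∀ a b : G, a * b = b * a := fun a b => hinj (by
        rw [map_mul, map_mul, mul_comm])
      exact hnp (Cfsg.Agent.Lib.helper11.prime_card_of_simple_of_isCyclic
        (Cfsg.Agent.Lib.helper11.isCyclic_of_simple_of_comm hcomm))
    · have : J ∈ f.ker := by rw [h]; trivial
      exact MonoidHom.mem_ker.mp this
  have hdet1 : ((-1 : ℂ)) ^ b = 1 := by
    rw [← hdet, ← hf J, hfJ]; rfl
  have hev : Even b := (neg_one_pow_eq_one_iff_even (by norm_num : (-1 : ℂ) ≠ 1)).mp hdet1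
  obtain ⟨k, hk⟩ := hev
  refine ⟨n, k, by omega, ?_, ?_⟩
  · rw [← hχ, Representation.char_one, Module.finrank_fin_fun]
  · rw [← hχ]
    show LinearMap.trace ℂ (Fin n → ℂ) (ρ J) = (n : ℂ) - 4 * k
    rw [htr, hk]
    push_cast
    ring

end Cfsg.Agent.Lib.helper92
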