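import Mathlib
import Cfsg.Agent.Lib.helper92.Comp
import Cfsg.Agent.Lib.helper92.SylowConj
import Cfsg.Agent.Lib.helper3.PGroupNormal
import Cfsg.Agent.Lib.helper27.Radical

/-!
# Two components interchanged by a large extraspecial subgroup

`TwoComp Q z L u z₁`: `L` and `u L u⁻¹` commute elementwise and meet trivially, `u ∈ Q` and
`z = z₁ (u z₁ u⁻¹)` with `z₁ ∈ L`.  Then `C_L(z₁)` has exponent `4`, squares and commutators in
`{1, z₁}`; it is a Sylow `2`-subgroup of `L` when `L (u L u⁻¹)` is normal and `L`, `u L u⁻¹` are its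
only conjugates of `L`.
-/

set_option autoImplicit false

namespace Cfsg.Agent.Lib.helper92

open Cfsg

section
variable {G : Type*} [Group G]

/-- The product map `L × L → G`, `(a, b) ↦ a (u b u⁻¹)`. -/
def twoHom (L : Subgroup G) (u : G)
    (hc : ∀ a ∈ L, ∀ b ∈ L, a * (u * b * u⁻¹) = (u * b * u⁻¹) * a) : ↥L × ↥L →* G :=
  MonoidHom.noncommCoprod L.subtype ((MulAut.conj u).toMonoidHom.comp L.subtype)
    (fun a b => hc a a.2 b b.2)

theorem twoHom_apply (L : Subgroup G) (u : G)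
    (hc : ∀ a ∈ L, ∀ b ∈ L, a * (u * b * u⁻¹) = (u * b * u⁻¹) * a) (a b : ↥L) :
    twoHom L u hc (a, b) = (a : G) * (u * (b : G) * u⁻¹) := by
  simp [twoHom, MonoidHom.noncommCoprod_apply, MulAut.conj_apply]

/-- Two commuting conjugates `L`, `u L u⁻¹` with trivial intersection, where `u` lies in the
extraspecial subgroup `Q` and the central involution is `z = z₁ (u z₁ u⁻¹)`. -/
structure TwoComp (Q : Subgroup G) (z : G) (L : Subgroup G) (u : G) (z₁ : ↥L) : Prop where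
  hq : QData Q z
  uQ : u ∈ Q
  comm : ∀ a ∈ L, ∀ b ∈ L, a * (u * b * u⁻¹) = (u * b * u⁻¹) * a
  inj : ∀ a ∈ L, ∀ b ∈ L, a * (u * b * u⁻¹) = 1 → a = 1 ∧ b = 1
  hz : z = (z₁ : G) * (u * (z₁ : G) * u⁻¹)

namespace TwoComp

variable {Q : Subgroup G} {z : G} {L : Subgroup G} {u : G} {z₁ : ↥L}

/-- The product map attached to the configuration. -/
def hom (h : TwoComp Q z L u z₁) : ↥L × ↥L →* G := twoHom L u h.comm

theorem hom_apply (h : TwoComp Q z L u z₁) (a b : ↥L) :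
    h.hom (a, b) = (a : G) * (u * (b : G) * u⁻¹) := twoHom_apply L u h.comm a b

theorem hom_injective (h : TwoComp Q z L u z₁) : Function.Injective h.hom := by
  rw [injective_iff_map_eq_one]
  rintro ⟨a, b⟩ hab
  rw [h.hom_apply] at hab
  obtain ⟨h1, h2⟩ := h.inj a a.2 b b.2 hab
  rw [Prod.mk_eq_one]
  exact ⟨Subtype.ext h1, Subtype.ext h2⟩

theorem hom_z (h : TwoComp Q z L u z₁) : h.hom (z₁, z₁) = z := by
  rw [h.hom_apply]; exact h.hz.symm

theorem hom_left (h : TwoComp Q z L u z₁) (a : ↥L) : h.hom (a, 1) = (a : G) := by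
  rw [h.hom_apply]; simp

theorem comm_z_iff (h : TwoComp Q z L u z₁) (a : ↥L) :
    (a : G) * z = z * a ↔ a * z₁ = z₁ * a := by
  rw [← h.hom_z, ← h.hom_left a, ← map_mul, ← map_mul, h.hom_injective.eq_iff]
  simp

theorem z₁_sq (h : TwoComp Q z L u z₁) : z₁ * z₁ = 1 := by
  have h1 : h.hom ((z₁, z₁) * (z₁, z₁)) = h.hom 1 := by
    rw [map_mul, h.hom_z, map_one]; exact h.hq.sq
  have h2 := h.hom_injective h1
  rw [Prod.mk_mul_mk, Prod.mk_eq_one] at h2
  exact h2.1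

theorem x_mem (h : TwoComp Q z L u z₁) (a : ↥L) (ha : a * z₁ = z₁ * a) :
    h.hom (a, a⁻¹) ∈ Q := by
  have h1 := h.hq.norm a ((h.comm_z_iff a).2 ha) u h.uQ
  have e : h.hom (a, a⁻¹) = ((a : G) * u * (a : G)⁻¹) * u⁻¹ := by
    rw [h.hom_apply]; push_cast; group
  rw [e]
  exact Q.mul_mem h1 (Q.inv_mem h.uQ)

theorem sq_cases (h : TwoComp Q z L u z₁) (a : ↥L) (ha : a * z₁ = z₁ * a) :
    a * a = 1 ∨ a * a = z₁ := by
  have h1 := h.hq.sqmem _ (h.x_mem a ha)
  rw [← map_mul, Prod.mk_mul_mk] at h1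
  rcases (mem_zpowers_invol h.hq.sq _).1 h1 with h2 | h2
  · left
    rw [← map_one h.hom] at h2
    have h3 := h.hom_injective h2
    rw [Prod.mk_eq_one] at h3
    exact h3.1
  · right
    have h3 := h.hom_injective (h2.trans h.hom_z.symm)
    rw [Prod.mk.injEq] at h3
    exact h3.1

theorem pow_four (h : TwoComp Q z L u z₁) (a : ↥L) (ha : a * z₁ = z₁ * a) : a ^ 4 = 1 := by
  have e : a ^ 4 = (a * a) * (a * a) := by
    have e4 : (4 : ℕ) = 2 * 2 := rfl
    rw [e4, pow_mul, pow_two, pow_two]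
  rw [e]
  rcases h.sq_cases a ha with h1 | h1
  · rw [h1, one_mul]
  · rw [h1, h.z₁_sq]

theorem comm_cases (h : TwoComp Q z L u z₁) (a b : ↥L) (ha : a * z₁ = z₁ * a)
    (hb : b * z₁ = z₁ * b) : a * b * a⁻¹ * b⁻¹ = 1 ∨ a * b * a⁻¹ * b⁻¹ = z₁ := by
  have h1 := h.hq.comm _ (h.x_mem a ha) _ (h.x_mem b hb)
  rw [← map_inv, ← map_inv, ← map_mul, ← map_mul, ← map_mul] at h1
  simp only [Prod.mk_mul_mk, Prod.inv_mk] at h1
  rcases (mem_zpowers_invol h.hq.sq _).1 h1 with h2 | h2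
  · left
    rw [← map_one h.hom] at h2
    have h3 := h.hom_injective h2
    rw [Prod.mk_eq_one] at h3
    exact h3.1
  · right
    have h3 := h.hom_injective (h2.trans h.hom_z.symm)
    rw [Prod.mk.injEq] at h3
    exact h3.1

/-- An element of `L ∩ Q` is `1` or `z₁`. -/
theorem mem_Q_cases (h : TwoComp Q z L u z₁) (a : ↥L) (haQ : (a : G) ∈ Q) : a = 1 ∨ a = z₁ := by
  have h1 := h.hq.comm u h.uQ a haQ
  have e : u * (a : G) * u⁻¹ * (a : G)⁻¹ = h.hom (a⁻¹, a) := by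
    rw [h.hom_apply]
    push_cast
    exact (h.comm _ (L.inv_mem a.2) _ a.2).symm
  rw [e] at h1
  rcases (mem_zpowers_invol h.hq.sq _).1 h1 with h2 | h2
  · left
    rw [← map_one h.hom] at h2
    have h3 := h.hom_injective h2
    rw [Prod.mk_eq_one] at h3
    exact h3.2
  · right
    have h3 := h.hom_injective (h2.trans h.hom_z.symm)
    rw [Prod.mk.injEq] at h3
    exact h3.2

/-- Elements of `L (u L u⁻¹)` centralizing `z` have fourth power `1`. -/
theorem cent_pow_four (h : TwoComp Q z L u z₁) (p : ↥L × ↥L)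
    (hp : h.hom p * z = z * h.hom p) : h.hom p ^ 4 = 1 := by
  obtain ⟨a, b⟩ := p
  have hp' : h.hom ((a, b) * (z₁, z₁)) = h.hom ((z₁, z₁) * (a, b)) := by
    rw [map_mul, map_mul, h.hom_z]; exact hp
  have h3 := h.hom_injective hp'
  rw [Prod.mk_mul_mk, Prod.mk_mul_mk, Prod.mk.injEq] at h3
  rw [← map_pow, Prod.pow_mk, h.pow_four a h3.1, h.pow_four b h3.2]
  exact map_one h.hom

/-- `N ∩ C_G(z)` is a `2`-group when `N = L (u L u⁻¹)`. -/
theorem isPGroup_inf (h : TwoComp Q z L u z₁) (N : Subgroup G)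
    (hN : ∀ x ∈ N, ∃ p : ↥L × ↥L, h.hom p = x) :
    IsPGroup 2 ↥(N ⊓ Subgroup.centralizer ({z} : Set G)) := by
  rintro ⟨x, hx⟩
  refine ⟨2, ?_⟩
  apply Subtype.ext
  obtain ⟨p, rfl⟩ := hN x hx.1
  have hxz := Subgroup.mem_centralizer_singleton_iff.1 hx.2
  have h4 := h.cent_pow_four p hxz
  simpa using h4

end TwoComp

theorem QData.centralizer_le_normalizer {Q : Subgroup G} {z : G} (h : QData Q z) :
    Subgroup.centralizer ({z} : Set G) ≤ Subgroup.normalizer (Q : Set G) := by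
  intro x hx
  have hxz : x * z = z * x := Subgroup.mem_centralizer_singleton_iff.1 hx
  rw [Subgroup.mem_normalizer_iff]
  intro q
  constructor
  · exact h.norm x hxz q
  · intro hq
    have hxz' : x⁻¹ * z = z * x⁻¹ := by
      calc x⁻¹ * z = x⁻¹ * (z * x) * x⁻¹ := by group
        _ = x⁻¹ * (x * z) * x⁻¹ := by rw [hxz]
        _ = z * x⁻¹ := by group
    have h1 := h.norm x⁻¹ hxz' _ hq
    have e1 : x⁻¹ * (x * q * x⁻¹) * x⁻¹⁻¹ = q := by group
    rwa [e1] at h1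

namespace TwoComp

variable {Q : Subgroup G} {z : G} {L : Subgroup G} {u : G} {z₁ : ↥L} [Finite G]

/-- A `2`-subgroup of `L` containing `C_L(z₁)` equals `C_L(z₁)`, when `L` and `u L u⁻¹` are the
only conjugates of `L`. -/
theorem sylow_max (h : TwoComp Q z L u z₁)
    (hconj : ∀ g : G, L.map (MulAut.conj g).toMonoidHom = L ∨
      L.map (MulAut.conj g).toMonoidHom = L.map (MulAut.conj u).toMonoidHom)
    (Y : Subgroup G) (hY : IsPGroup 2 Y) (hYL : Y ≤ L)
    (hDY : L ⊓ Subgroup.centralizer ({(z₁ : G)} : Set G) ≤ Y) :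
    Y ≤ L ⊓ Subgroup.centralizer ({(z₁ : G)} : Set G) := by
  have : Fact (Nat.Prime 2) := ⟨Nat.prime_two⟩
  obtain ⟨T, hQT⟩ := h.hq.isPGroup.exists_le_sylow
  have hTz : ∀ t ∈ (T : Subgroup G), t * z = z * t := by
    have hnt : Nontrivial ↥(T : Subgroup G) :=
      ⟨⟨⟨z, hQT h.hq.mem⟩, 1, fun h' => h.hq.ne_one (congrArg Subtype.val h')⟩⟩
    have hcen : Nontrivial (Subgroup.center ↥(T : Subgroup G)) :=
      IsPGroup.center_nontrivial T.isPGroup'
    obtain ⟨c, hc1⟩ := exists_ne (1 : Subgroup.center ↥(T : Subgroup G))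
    have hcc := c.2
    have hcQ : ∀ q ∈ Q, q * ((c : ↥(T : Subgroup G)) : G) = ((c : ↥(T : Subgroup G)) : G) * q := by
      intro q hq
      have h1 := Subgroup.mem_center_iff.1 hcc ⟨q, hQT hq⟩
      exact congrArg Subtype.val h1
    have hc_eq : ((c : ↥(T : Subgroup G)) : G) = z := by
      rcases (mem_zpowers_invol h.hq.sq _).1 (h.hq.cent _ hcQ) with h' | h'
      · exfalso; apply hc1
        apply Subtype.ext; apply Subtype.ext; exact h'
      · exact h'
    intro t ht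
    have h1 := Subgroup.mem_center_iff.1 hcc ⟨t, ht⟩
    have h2 := congrArg Subtype.val h1
    rw [← hc_eq]; exact h2
  obtain ⟨k, hk⟩ := exists_conj_mem_sylow T hY
  have hg : ∃ g : G, ∀ y ∈ Y, g⁻¹ * y * g ∈ L ⊓ Subgroup.centralizer ({(z₁ : G)} : Set G) := by
    rcases hconj k⁻¹ with h1 | h1
    · refine ⟨k, fun y hy => ?_⟩
      have h2 : k⁻¹ * y * k ∈ L := by
        rw [← h1, mem_map_conj_iff]
        have e : k⁻¹⁻¹ * (k⁻¹ * y * k) * k⁻¹ = y := by group
        rw [e]; exact hYL hy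
      refine Subgroup.mem_inf.2 ⟨h2, ?_⟩
      rw [Subgroup.mem_centralizer_singleton_iff]
      have h3 := (h.comm_z_iff ⟨_, h2⟩).1 (hTz _ (hk y hy))
      exact congrArg Subtype.val h3
    · refine ⟨k * u, fun y hy => ?_⟩
      have h2 : k⁻¹ * y * k ∈ L.map (MulAut.conj u).toMonoidHom := by
        rw [← h1, mem_map_conj_iff]
        have e : k⁻¹⁻¹ * (k⁻¹ * y * k) * k⁻¹ = y := by group
        rw [e]; exact hYL hy
      rw [mem_map_conj_iff] at h2
      have e : (k * u)⁻¹ * y * (k * u) = u⁻¹ * (k⁻¹ * y * k) * u := by group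
      rw [e]
      refine Subgroup.mem_inf.2 ⟨h2, ?_⟩
      rw [Subgroup.mem_centralizer_singleton_iff]
      have hz1 := hTz _ (hk y hy)
      have hz2 : u * z = z * u := h.hq.central u h.uQ
      have hz3 : u⁻¹ * z = z * u⁻¹ := h.hq.central _ (Q.inv_mem h.uQ)
      have h3 : u⁻¹ * (k⁻¹ * y * k) * u * z = z * (u⁻¹ * (k⁻¹ * y * k) * u) := by
        calc u⁻¹ * (k⁻¹ * y * k) * u * z = u⁻¹ * (k⁻¹ * y * k) * (u * z) := by group
          _ = u⁻¹ * (k⁻¹ * y * k) * (z * u) := by rw [hz2]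
          _ = u⁻¹ * ((k⁻¹ * y * k) * z) * u := by group
          _ = u⁻¹ * (z * (k⁻¹ * y * k)) * u := by rw [hz1]
          _ = (u⁻¹ * z) * (k⁻¹ * y * k) * u := by group
          _ = (z * u⁻¹) * (k⁻¹ * y * k) * u := by rw [hz3]
          _ = z * (u⁻¹ * (k⁻¹ * y * k) * u) := by group
      have h4 := (h.comm_z_iff ⟨_, h2⟩).1 h3
      exact congrArg Subtype.val h4
  obtain ⟨g, hg⟩ := hg
  have hle : Y.map (MulAut.conj g⁻¹).toMonoidHom ≤
      L ⊓ Subgroup.centralizer ({(z₁ : G)} : Set G) := by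
    intro x hx
    rw [mem_map_conj_iff] at hx
    have h1 := hg _ hx
    have e : g⁻¹ * (g⁻¹⁻¹ * x * g⁻¹) * g = x := by group
    rwa [e] at h1
  have hcard : Nat.card Y ≤ Nat.card ↥(L ⊓ Subgroup.centralizer ({(z₁ : G)} : Set G)) := by
    rw [← Cfsg.Agent.Lib.helper27.card_map_conj Y g⁻¹]
    exact Subgroup.card_le_of_le hle
  exact (Subgroup.eq_of_le_of_card_ge hDY hcard).ge

/-- `Φ(C_L(z₁)) ≤ ⟨z₁⟩`. -/
theorem frattini_le (h : TwoComp Q z L u z₁) (R : Sylow 2 ↥L)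
    (hR : (R : Subgroup ↥L) = (Subgroup.centralizer ({(z₁ : G)} : Set G)).subgroupOf L) :
    (frattini ↥(R : Subgroup ↥L)).map ((L.subtype).comp (R : Subgroup ↥L).subtype) ≤
      Subgroup.zpowers (z₁ : G) := by
  have : Fact (Nat.Prime 2) := ⟨Nat.prime_two⟩
  have hmem : ∀ a : ↥(R : Subgroup ↥L), (a : ↥L) * z₁ = z₁ * (a : ↥L) := by
    intro a
    have h0 : ∀ x : ↥L, x ∈ (R : Subgroup ↥L) → x * z₁ = z₁ * x := by
      intro x hx
      rw [hR, Subgroup.mem_subgroupOf, Subgroup.mem_centralizer_singleton_iff] at hx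
      exact Subtype.ext hx
    exact h0 _ a.2
  have hz : ∀ x : ↥L, x = 1 ∨ x = z₁ → (x : G) ∈ Subgroup.zpowers (z₁ : G) := by
    rintro x (rfl | rfl)
    · exact Subgroup.one_mem _
    · exact Subgroup.mem_zpowers _
  rw [Subgroup.map_le_iff_le_comap]
  apply Cfsg.Agent.Lib.helper3.frattini_le_of_pow_mem_of_commutator_le (p := 2)
  · intro x
    rw [Subgroup.mem_comap]
    have e : ((L.subtype).comp (R : Subgroup ↥L).subtype) (x ^ 2) =
        (((x : ↥L) * (x : ↥L) : ↥L) : G) := by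
      simp [pow_two]
    rw [e]
    exact hz _ (h.sq_cases _ (hmem x))
  · rw [commutator_def, Subgroup.commutator_le]
    intro a _ b _
    rw [Subgroup.mem_comap, commutatorElement_def]
    have e : ((L.subtype).comp (R : Subgroup ↥L).subtype) (a * b * a⁻¹ * b⁻¹) =
        ((((a : ↥L) * (b : ↥L) * (a : ↥L)⁻¹ * (b : ↥L)⁻¹ : ↥L)) : G) := by
      simp
    rw [e]
    exact hz _ (h.comm_cases _ _ (hmem a) (hmem b))

/-- `C_L(z₁)` is a Sylow `2`-subgroup of `L` with Frattini subgroup inside `⟨z₁⟩`. -/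
theorem exists_sylow (h : TwoComp Q z L u z₁)
    (hconj : ∀ g : G, L.map (MulAut.conj g).toMonoidHom = L ∨
      L.map (MulAut.conj g).toMonoidHom = L.map (MulAut.conj u).toMonoidHom) :
    ∃ R : Sylow 2 ↥L, (R : Subgroup ↥L) =
        (Subgroup.centralizer ({(z₁ : G)} : Set G)).subgroupOf L ∧
      (frattini ↥(R : Subgroup ↥L)).map ((L.subtype).comp (R : Subgroup ↥L).subtype) ≤
        Subgroup.zpowers (z₁ : G) := by
  have hmem : ∀ a : ↥L, a ∈ (Subgroup.centralizer ({(z₁ : G)} : Set G)).subgroupOf L ↔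
      a * z₁ = z₁ * a := by
    intro a
    rw [Subgroup.mem_subgroupOf, Subgroup.mem_centralizer_singleton_iff]
    constructor
    · intro h1; exact Subtype.ext h1
    · intro h1; exact congrArg Subtype.val h1
  have hpg : IsPGroup 2 ↥((Subgroup.centralizer ({(z₁ : G)} : Set G)).subgroupOf L) := by
    rintro ⟨a, ha⟩
    refine ⟨2, ?_⟩
    apply Subtype.ext
    have h4 := h.pow_four a ((hmem a).1 ha)
    simpa using h4
  have hmax : ∀ {P' : Subgroup ↥L}, IsPGroup 2 ↥P' →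
      (Subgroup.centralizer ({(z₁ : G)} : Set G)).subgroupOf L ≤ P' →
      P' = (Subgroup.centralizer ({(z₁ : G)} : Set G)).subgroupOf L := by
    intro P' hP' hle
    apply le_antisymm _ hle
    have hD : L ⊓ Subgroup.centralizer ({(z₁ : G)} : Set G) ≤ P'.map L.subtype := by
      rintro x ⟨hxL, hxC⟩
      exact ⟨⟨x, hxL⟩, hle (Subgroup.mem_subgroupOf.2 hxC), rfl⟩
    have hY := h.sylow_max hconj (P'.map L.subtype) (hP'.map L.subtype)
      (Subgroup.map_subtype_le P') hD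
    intro a ha
    have h1 : (a : G) ∈ P'.map L.subtype := Subgroup.mem_map_of_mem L.subtype ha
    exact Subgroup.mem_subgroupOf.2 (hY h1).2
  exact ⟨⟨_, hpg, hmax⟩, rfl, h.frattini_le ⟨_, hpg, hmax⟩ rfl⟩

/-- `Q` is not `O_2(C_G(z))`. -/
theorem not_QO (h : TwoComp Q z L u z₁) (hperf : Group.IsPerfect ↥L) (hz₁ : z₁ ≠ 1)
    (N : Subgroup G) [hNn : N.Normal] (hLN : L ≤ N)
    (hN : ∀ x ∈ N, ∃ p : ↥L × ↥L, h.hom p = x) : Q ≠ QO z := by
  intro hQ
  have hC := h.isPGroup_inf N hN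
  have hCn : Subgroup.centralizer ({z} : Set G) ≤
      Subgroup.normalizer ((N ⊓ Subgroup.centralizer ({z} : Set G) : Subgroup G) : Set G) := by
    intro x hx
    rw [Subgroup.mem_normalizer_iff]
    intro y
    constructor
    · rintro ⟨hy1, hy2⟩
      exact ⟨hNn.conj_mem y hy1 x,
        Subgroup.mul_mem _ (Subgroup.mul_mem _ hx hy2) (Subgroup.inv_mem _ hx)⟩
    · rintro ⟨hy1, hy2⟩
      have e : y = x⁻¹ * (x * y * x⁻¹) * x⁻¹⁻¹ := by group
      rw [e]
      exact ⟨hNn.conj_mem _ hy1 x⁻¹,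
        Subgroup.mul_mem _ (Subgroup.mul_mem _ (Subgroup.inv_mem _ hx) hy2)
          (Subgroup.inv_mem _ (Subgroup.inv_mem _ hx))⟩
  have hCQ : N ⊓ Subgroup.centralizer ({z} : Set G) ≤ Q := by
    rw [hQ]
    exact Cfsg.Agent.Lib.helper27.le_map_pCore_of_normal inf_le_right hCn hC
  apply not_isPerfect_of_centralizer_invol z₁ hz₁ _ hperf
  intro d hd
  apply h.mem_Q_cases d
  apply hCQ
  exact ⟨hLN d.2, Subgroup.mem_centralizer_singleton_iff.2 ((h.comm_z_iff d).2 hd)⟩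

end TwoComp

end

end Cfsg.Agent.Lib.helper92
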