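import Mathlib
import Cfsg.Agent.Lib.helper92.TwoComp

/-!
# The generalized Fitting subgroup of a group with a large extraspecial `2`-subgroup

For `Q` large extraspecial in `G` with centre `⟨z⟩` and `M = ⟨z^G⟩`: either `M` is abelian and
`F*(G) = O_2(G)`, or `M = F*(G)` is simple, or `M = F*(G) = L × L^u` with `u ∈ Q`.
-/

set_option autoImplicit false

namespace Cfsg.Agent.Lib.helper92

open Cfsg Cfsg.Agent.Lib.helper28

section
variable {G : Type*} [Group G] [Finite G]

/-- In a finite group with trivial Fitting subgroup, components are simple. -/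
theorem isSimpleGroup_of_isComponent (hF : fittingSubgroup G = ⊥) {K : Subgroup G}
    (hK : IsComponent K) : IsSimpleGroup ↥K := by
  obtain ⟨hperf, hnt, hN⟩ := isComponent_qs hK
  have hcen : Subgroup.center ↥K = ⊥ := by
    rw [Subgroup.eq_bot_iff_forall]
    intro x hx
    apply Subtype.ext
    apply isComponent_eq_one_of_central hF hK x.2
    intro k hk
    have h1 := Subgroup.mem_center_iff.1 hx ⟨k, hk⟩
    exact congrArg Subtype.val h1
  refine ⟨fun N hNn => ?_⟩
  rcases hN N hNn with h | h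
  · left; rw [hcen] at h; exact le_bot_iff.1 h
  · right; exact h

omit [Finite G] in
theorem pPrimeCore_eq_bot_of_large {Q : Subgroup G}
    (hlarge : ∀ K : Subgroup G, Odd (Nat.card K) → Q ≤ Subgroup.normalizer (K : Set G) → K = ⊥) :
    pPrimeCore 2 G = ⊥ := by
  unfold pPrimeCore
  rw [sSup_eq_bot]
  rintro N ⟨hN, hc⟩
  apply hlarge N (Nat.Coprime.odd_of_right hc)
  rw [Subgroup.normalizer_eq_top]
  exact le_top

/-- If `O_2(G) ≠ 1` then `⟨z^G⟩` is abelian and `F*(G) = O_2(G)`. -/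
theorem fstar_of_pCore_ne_bot {Q : Subgroup G} {z : G} (hq : QData Q z)
    (hlarge : ∀ K : Subgroup G, Odd (Nat.card K) → Q ≤ Subgroup.normalizer (K : Set G) → K = ⊥)
    (h2 : pCore 2 G ≠ ⊥) :
    IsMulCommutative ↥(Subgroup.normalClosure ({z} : Set G)) ∧
      generalizedFittingSubgroup G = pCore 2 G := by
  have : Fact (Nat.Prime 2) := ⟨Nat.prime_two⟩
  have hFp : fittingSubgroup G = pCore 2 G :=
    fittingSubgroup_eq_pCore_of_pPrimeCore_eq_bot (pPrimeCore_eq_bot_of_large hlarge)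
  have hZn : ((Subgroup.center ↥(pCore 2 G)).map (pCore 2 G).subtype).Normal :=
    ConjAct.normal_of_characteristic_of_normal
  have hZ1 : (Subgroup.center ↥(pCore 2 G)).map (pCore 2 G).subtype ≠ ⊥ := by
    have hnt : Nontrivial ↥(pCore 2 G) := (Subgroup.nontrivial_iff_ne_bot _).2 h2
    have hcen : Nontrivial (Subgroup.center ↥(pCore 2 G)) :=
      IsPGroup.center_nontrivial (pCore_isPGroup 2 G)
    obtain ⟨c, hc1⟩ := exists_ne (1 : Subgroup.center ↥(pCore 2 G))
    intro hbot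
    apply hc1
    have h1 : ((c : ↥(pCore 2 G)) : G) ∈ (Subgroup.center ↥(pCore 2 G)).map (pCore 2 G).subtype :=
      ⟨c, c.2, rfl⟩
    rw [hbot, Subgroup.mem_bot] at h1
    apply Subtype.ext; apply Subtype.ext; exact h1
  have hzZ := z_mem_of_normal hq hlarge _ hZ1
  have hzZ' := (mem_center_map_iff _ _).1 hzZ
  have hMZ : Subgroup.normalClosure ({z} : Set G) ≤
      (Subgroup.center ↥(pCore 2 G)).map (pCore 2 G).subtype :=
    Subgroup.normalClosure_le_normal (by simpa using hzZ)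
  have hzF : z ∈ fittingSubgroup G := by rw [hFp]; exact hzZ'.1
  have hcF := commutator_layer_fittingSubgroup G
  rw [Subgroup.commutator_eq_bot_iff_le_centralizer] at hcF
  have hEz : ∀ e ∈ layer G, e * z = z * e := fun e he =>
    ((Subgroup.mem_centralizer_iff.1 (hcF he)) z hzF).symm
  have hDn : layer G ≤ Subgroup.normalizer ((layer G ⊓ Q : Subgroup G) : Set G) := by
    intro b hb
    rw [Subgroup.mem_normalizer_iff]
    have hbz := hEz b hb
    have hbz' : b⁻¹ * z = z * b⁻¹ := hEz _ (Subgroup.inv_mem _ hb)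
    intro x
    constructor
    · rintro ⟨hx1, hx2⟩
      exact ⟨Subgroup.mul_mem _ (Subgroup.mul_mem _ hb hx1) (Subgroup.inv_mem _ hb),
        hq.norm b hbz x hx2⟩
    · rintro ⟨hx1, hx2⟩
      have e : b⁻¹ * (b * x * b⁻¹) * b⁻¹⁻¹ = x := by group
      rw [← e]
      exact ⟨Subgroup.mul_mem _ (Subgroup.mul_mem _ (Subgroup.inv_mem _ hb) hx1)
        (Subgroup.inv_mem _ (Subgroup.inv_mem _ hb)), hq.norm b⁻¹ hbz' _ hx2⟩
  have hDsub : (layer G ⊓ Q).IsSubnormal :=
    Subgroup.IsSubnormal.step _ (layer G) inf_le_left (Subgroup.Normal.isSubnormal inferInstance)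
      ((Subgroup.normal_subgroupOf_iff_le_normalizer inf_le_left).2 hDn)
  have hDF : layer G ⊓ Q ≤ fittingSubgroup G := by
    rw [hFp]
    exact Cfsg.Agent.Lib.helper27.subnormal_pGroup_le_pCore 2 _ hDsub
      (hq.isPGroup.to_le inf_le_right)
  have h1 : ⁅⁅layer G, Q⁆, layer G⁆ = ⊥ := by
    rw [eq_bot_iff]
    have h3 : ⁅layer G, Q⁆ ≤ fittingSubgroup G := by
      refine le_trans ?_ hDF
      rw [Subgroup.commutator_le]
      intro e he q hqQ
      rw [commutatorElement_def]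
      refine Subgroup.mem_inf.2 ⟨?_, ?_⟩
      · have e1 : e * q * e⁻¹ * q⁻¹ = e * (q * e⁻¹ * q⁻¹) := by group
        rw [e1]
        exact Subgroup.mul_mem _ he
          ((inferInstance : (layer G).Normal).conj_mem _ (Subgroup.inv_mem _ he) q)
      · exact Q.mul_mem (hq.norm e (hEz e he) q hqQ) (Q.inv_mem hqQ)
    calc ⁅⁅layer G, Q⁆, layer G⁆ ≤ ⁅fittingSubgroup G, layer G⁆ :=
          Subgroup.commutator_mono h3 le_rfl
      _ = ⁅layer G, fittingSubgroup G⁆ := Subgroup.commutator_comm _ _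
      _ = ⊥ := commutator_layer_fittingSubgroup G
  have h1' : ⁅⁅Q, layer G⁆, layer G⁆ = ⊥ := by
    rw [Subgroup.commutator_comm Q (layer G)]; exact h1
  have h4 := Subgroup.commutator_commutator_eq_bot_of_rotate h1 h1'
  rw [layer_isPerfect, Subgroup.commutator_eq_bot_iff_le_centralizer] at h4
  have hEZ : ∀ e ∈ layer G, e ∈ Subgroup.zpowers z := fun e he =>
    hq.cent e (fun q hqQ => (Subgroup.mem_centralizer_iff.1 (h4 he)) q hqQ)
  have hlayer : layer G = ⊥ := by
    rw [layer_eq_bot_iff]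
    intro K hK
    apply (isComponent_qs hK).not_isMulCommutative
    rw [isMulCommutative_iff_of_setLike]
    intro a ha b hb
    rcases (mem_zpowers_invol hq.sq a).1 (hEZ a (le_layer hK ha)) with h | h <;>
      rcases (mem_zpowers_invol hq.sq b).1 (hEZ b (le_layer hK hb)) with h' | h' <;>
      rw [h, h'] <;> simp
  constructor
  · rw [isMulCommutative_iff_of_setLike]
    intro a ha b hb
    have ha' := (mem_center_map_iff _ _).1 (hMZ ha)
    have hb' := (mem_center_map_iff _ _).1 (hMZ hb)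
    exact hb'.2 a ha'.1
  · unfold generalizedFittingSubgroup
    rw [hlayer, hFp, bot_sup_eq]

/-- If `O_2(G) = 1` then `⟨z^G⟩ = E(G) = F*(G)`. -/
theorem fstar_of_pCore_eq_bot {Q : Subgroup G} {z : G} (hq : QData Q z)
    (hlarge : ∀ K : Subgroup G, Odd (Nat.card K) → Q ≤ Subgroup.normalizer (K : Set G) → K = ⊥)
    (h2 : pCore 2 G = ⊥) :
    fittingSubgroup G = ⊥ ∧ z ∈ layer G ∧ Subgroup.normalClosure ({z} : Set G) = layer G ∧
      generalizedFittingSubgroup G = layer G := by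
  have : Fact (Nat.Prime 2) := ⟨Nat.prime_two⟩
  have hF : fittingSubgroup G = ⊥ := by
    rw [fittingSubgroup_eq_pCore_of_pPrimeCore_eq_bot (pPrimeCore_eq_bot_of_large hlarge), h2]
  have hgF : generalizedFittingSubgroup G = layer G := by
    unfold generalizedFittingSubgroup
    rw [hF, sup_bot_eq]
  have hne : layer G ≠ ⊥ := by
    intro h
    have h1 := centralizer_generalizedFittingSubgroup_le G
    rw [hgF, h] at h1
    have h3 : z ∈ Subgroup.centralizer (((⊥ : Subgroup G)) : Set G) := by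
      rw [Subgroup.mem_centralizer_iff]
      intro x hx
      have hx1 : x = 1 := Subgroup.mem_bot.1 hx
      rw [hx1, one_mul, mul_one]
    exact hq.ne_one (Subgroup.mem_bot.1 (h1 h3))
  have hzE : z ∈ layer G := z_mem_of_normal hq hlarge (layer G) hne
  refine ⟨hF, hzE, ?_, hgF⟩
  apply le_antisymm
  · exact Subgroup.normalClosure_le_normal (by simpa using hzE)
  · apply sSup_le
    intro K hK
    rcases isComponent_le_or_commute hK
      (Subgroup.Normal.isSubnormal (Subgroup.normalClosure_normal (s := ({z} : Set G)))) with h | h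
    · exact h
    · exfalso
      apply not_le_centralizer_of_isComponent hq h2 hK
      rw [Subgroup.commutator_eq_bot_iff_le_centralizer] at h
      intro k hk
      rw [Subgroup.mem_centralizer_singleton_iff]
      exact ((Subgroup.mem_centralizer_iff.1 (h hk)) z
        (Subgroup.subset_normalClosure (Set.mem_singleton z))).symm

/-- If `Q` normalizes the component `L` then `E(G) = L`. -/
theorem layer_eq_of_forall_conj {Q : Subgroup G} {z : G} (hq : QData Q z)
    (hF : fittingSubgroup G = ⊥) (h2 : pCore 2 G = ⊥) (hzE : z ∈ layer G)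
    {L : Subgroup G} (hL : IsComponent L)
    (hall : ∀ q ∈ Q, L.map (MulAut.conj q).toMonoidHom = L) : layer G = L := by
  apply le_antisymm _ (le_layer hL)
  apply sSup_le
  intro K hK
  obtain ⟨q, hqQ, rfl⟩ := exists_conj_eq_of_isComponent hq hF h2 hzE hL hK
  rw [hall q hqQ]

/-- If some `u ∈ Q` moves the component `L`, then `L` and `u L u⁻¹` are the only components. -/
theorem isComponent_eq_or {Q : Subgroup G} {z : G} (hq : QData Q z)
    (hF : fittingSubgroup G = ⊥) (h2 : pCore 2 G = ⊥) (hzE : z ∈ layer G)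
    {L : Subgroup G} (hL : IsComponent L) {u : G} (huQ : u ∈ Q)
    (hne : L.map (MulAut.conj u).toMonoidHom ≠ L) :
    ∀ K : Subgroup G, IsComponent K → K = L ∨ K = L.map (MulAut.conj u).toMonoidHom := by
  intro K hK
  by_contra hcon
  push Not at hcon
  obtain ⟨hKL, hKL'⟩ := hcon
  have hL' := isComponent_conj hL u
  obtain ⟨q, hqQ, hKq⟩ := exists_conj_eq_of_isComponent hq hF h2 hzE hL hK
  have hB : ∀ K' : Subgroup G, IsComponent K' →
      K' ≤ L ∨ K' ≤ Subgroup.centralizer (L : Set G) := by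
    intro K' hK'
    by_cases h : K' = L
    · left; rw [h]
    · right
      have h1 := isComponent_commute hK' hL h
      rwa [Subgroup.commutator_eq_bot_iff_le_centralizer] at h1
  obtain ⟨z₁, hz₁L, c, hc, hzc⟩ := layer_decomp L hB z hzE
  have hz₁ : z₁ ≠ 1 := by
    intro h1
    apply not_le_centralizer_of_isComponent hq h2 hL
    intro k hk
    rw [Subgroup.mem_centralizer_singleton_iff, hzc, h1, one_mul]
    exact Subgroup.mem_centralizer_iff.1 hc k hk
  have hperf := (isComponent_qs hL).1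
  have hkey : ∀ d ∈ L, d * z₁⁻¹ = z₁⁻¹ * d → d = 1 ∨ d = z₁⁻¹ := by
    intro d hd hdz
    have hdz₁ : d * z₁ = z₁ * d := by
      calc d * z₁ = z₁ * (z₁⁻¹ * d) * z₁ := by group
        _ = z₁ * (d * z₁⁻¹) * z₁ := by rw [hdz]
        _ = z₁ * d := by group
    have hdc : d * c = c * d := Subgroup.mem_centralizer_iff.1 hc d hd
    have hdz' : d * z = z * d := by
      rw [hzc]
      calc d * (z₁ * c) = (d * z₁) * c := by group
        _ = (z₁ * d) * c := by rw [hdz₁]
        _ = z₁ * (d * c) := by group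
        _ = z₁ * (c * d) := by rw [hdc]
        _ = z₁ * c * d := by group
    have hxQ : d * u * d⁻¹ * u⁻¹ ∈ Q := Q.mul_mem (hq.norm d hdz' u huQ) (Q.inv_mem huQ)
    have hdL' : u * d⁻¹ * u⁻¹ ∈ L.map (MulAut.conj u).toMonoidHom := by
      rw [mem_map_conj_iff]
      have e : u⁻¹ * (u * d⁻¹ * u⁻¹) * u = d⁻¹ := by group
      rw [e]; exact L.inv_mem hd
    have hcL' : u * d⁻¹ * u⁻¹ ∈ Subgroup.centralizer (L : Set G) := by
      have h1 := isComponent_commute hL' hL hne
      rw [Subgroup.commutator_eq_bot_iff_le_centralizer] at h1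
      exact h1 hdL'
    have hw : q⁻¹ * (d * u * d⁻¹ * u⁻¹) * q ∈ Subgroup.centralizer (L : Set G) := by
      rw [Subgroup.mem_centralizer_iff]
      intro l hl
      have hlK : q * l * q⁻¹ ∈ K := by
        rw [hKq, mem_map_conj_iff]
        have e : q⁻¹ * (q * l * q⁻¹) * q = l := by group
        rw [e]; exact hl
      have c1 : d * (q * l * q⁻¹) = (q * l * q⁻¹) * d :=
        isComponent_commute_elem hL hK (Ne.symm hKL) d hd _ hlK
      have c2 : (u * d⁻¹ * u⁻¹) * (q * l * q⁻¹) = (q * l * q⁻¹) * (u * d⁻¹ * u⁻¹) :=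
        isComponent_commute_elem hL' hK (Ne.symm hKL') _ hdL' _ hlK
      calc l * (q⁻¹ * (d * u * d⁻¹ * u⁻¹) * q)
          = q⁻¹ * ((q * l * q⁻¹) * d * (u * d⁻¹ * u⁻¹)) * q := by group
        _ = q⁻¹ * (d * (q * l * q⁻¹) * (u * d⁻¹ * u⁻¹)) * q := by rw [c1]
        _ = q⁻¹ * (d * ((q * l * q⁻¹) * (u * d⁻¹ * u⁻¹))) * q := by group
        _ = q⁻¹ * (d * ((u * d⁻¹ * u⁻¹) * (q * l * q⁻¹))) * q := by rw [c2]
        _ = (q⁻¹ * (d * u * d⁻¹ * u⁻¹) * q) * l := by group
    rcases hq.conj_eq_or (Q.inv_mem hqQ) hxQ with h1 | h1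
    · left
      have hx : d * u * d⁻¹ * u⁻¹ ∈ Subgroup.centralizer (L : Set G) := by
        have e : q⁻¹ * (d * u * d⁻¹ * u⁻¹) * q = d * u * d⁻¹ * u⁻¹ := by
          calc q⁻¹ * (d * u * d⁻¹ * u⁻¹) * q = q⁻¹ * (d * u * d⁻¹ * u⁻¹) * q⁻¹⁻¹ := by group
            _ = d * u * d⁻¹ * u⁻¹ := h1
        rw [← e]; exact hw
      have hdC : d ∈ Subgroup.centralizer (L : Set G) := by
        have e : d = (d * u * d⁻¹ * u⁻¹) * (u * d⁻¹ * u⁻¹)⁻¹ := by group
        rw [e]; exact Subgroup.mul_mem _ hx (Subgroup.inv_mem _ hcL')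
      exact isComponent_eq_one_of_central hF hL hd
        (fun k hk => Subgroup.mem_centralizer_iff.1 hdC k hk)
    · right
      have hx : z * (d * u * d⁻¹ * u⁻¹) ∈ Subgroup.centralizer (L : Set G) := by
        have e : q⁻¹ * (d * u * d⁻¹ * u⁻¹) * q = z * (d * u * d⁻¹ * u⁻¹) := by
          calc q⁻¹ * (d * u * d⁻¹ * u⁻¹) * q = q⁻¹ * (d * u * d⁻¹ * u⁻¹) * q⁻¹⁻¹ := by group
            _ = z * (d * u * d⁻¹ * u⁻¹) := h1
        rw [← e]; exact hw
      have hzd : z₁ * d ∈ Subgroup.centralizer (L : Set G) := by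
        have e : z₁ * d = (z * (d * u * d⁻¹ * u⁻¹)) * (u * d⁻¹ * u⁻¹)⁻¹ * c⁻¹ := by
          rw [hzc]
          calc z₁ * d = z₁ * (d * c) * c⁻¹ := by group
            _ = z₁ * (c * d) * c⁻¹ := by rw [hdc]
            _ = (z₁ * c * (d * u * d⁻¹ * u⁻¹)) * (u * d⁻¹ * u⁻¹)⁻¹ * c⁻¹ := by group
        rw [e]
        exact Subgroup.mul_mem _ (Subgroup.mul_mem _ hx (Subgroup.inv_mem _ hcL'))
          (Subgroup.inv_mem _ hc)
      have h3 := isComponent_eq_one_of_central hF hL (L.mul_mem hz₁L hd)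
        (fun k hk => Subgroup.mem_centralizer_iff.1 hzd k hk)
      calc d = z₁⁻¹ * (z₁ * d) := by group
        _ = z₁⁻¹ := by rw [h3, mul_one]
  apply not_isPerfect_of_centralizer_invol (⟨z₁⁻¹, L.inv_mem hz₁L⟩ : ↥L) _ _ hperf
  · intro h
    apply hz₁
    have h1 : z₁⁻¹ = 1 := congrArg Subtype.val h
    exact inv_eq_one.1 h1
  · intro d hd
    rcases hkey d d.2 (congrArg Subtype.val hd) with h1 | h1
    · left; exact Subtype.ext h1
    · right; exact Subtype.ext h1

/-- The two-component configuration. -/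
theorem exists_twoComp {Q : Subgroup G} {z : G} (hq : QData Q z)
    (hF : fittingSubgroup G = ⊥) (h2 : pCore 2 G = ⊥) (hzE : z ∈ layer G)
    {L : Subgroup G} (hL : IsComponent L) {u : G} (huQ : u ∈ Q)
    (hne : L.map (MulAut.conj u).toMonoidHom ≠ L) :
    layer G = L ⊔ L.map (MulAut.conj u).toMonoidHom ∧
    ∃ z₁ : ↥L, z₁ ≠ 1 ∧ ∃ h : TwoComp Q z L u z₁,
      ∀ x ∈ layer G, ∃ p : ↥L × ↥L, h.hom p = x := by
  have hL' := isComponent_conj hL u
  have hall := isComponent_eq_or hq hF h2 hzE hL huQ hne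
  have hlayer : layer G = L ⊔ L.map (MulAut.conj u).toMonoidHom := by
    apply le_antisymm
    · apply sSup_le
      intro K hK
      rcases hall K hK with rfl | rfl
      · exact le_sup_left
      · exact le_sup_right
    · exact sup_le (le_layer hL) (le_layer hL')
  have hcomm : ∀ a ∈ L, ∀ b ∈ L, a * (u * b * u⁻¹) = (u * b * u⁻¹) * a := by
    intro a ha b hb
    apply isComponent_commute_elem hL hL' (Ne.symm hne) a ha
    rw [mem_map_conj_iff]
    have e : u⁻¹ * (u * b * u⁻¹) * u = b := by group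
    rw [e]; exact hb
  have hinj : ∀ a ∈ L, ∀ b ∈ L, a * (u * b * u⁻¹) = 1 → a = 1 ∧ b = 1 := by
    intro a ha b hb hab
    have ha1 : a = 1 := by
      apply isComponent_eq_one_of_central hF hL ha
      intro k hk
      have e : a = u * b⁻¹ * u⁻¹ := by
        calc a = a * (u * b * u⁻¹) * (u * b⁻¹ * u⁻¹) := by group
          _ = u * b⁻¹ * u⁻¹ := by rw [hab, one_mul]
      rw [e]
      exact hcomm k hk b⁻¹ (L.inv_mem hb)
    refine ⟨ha1, ?_⟩
    rw [ha1, one_mul] at hab
    calc b = u⁻¹ * (u * b * u⁻¹) * u := by group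
      _ = 1 := by rw [hab]; group
  have hu' : L.map (MulAut.conj u⁻¹).toMonoidHom = L.map (MulAut.conj u).toMonoidHom := by
    rcases hall _ (isComponent_conj hL u⁻¹) with h | h
    · exfalso; apply hne
      rw [map_conj_eq_self_iff_mem_normalizer] at h ⊢
      have h1 := Subgroup.inv_mem _ h
      rwa [inv_inv] at h1
    · exact h
  have hsq : ∀ a ∈ L, u * (u * a * u⁻¹) * u⁻¹ ∈ L := by
    intro a ha
    have h1 : u * a * u⁻¹ ∈ L.map (MulAut.conj u⁻¹).toMonoidHom := by
      rw [hu', mem_map_conj_iff]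
      have e : u⁻¹ * (u * a * u⁻¹) * u = a := by group
      rw [e]; exact ha
    rw [mem_map_conj_iff] at h1
    have e : u⁻¹⁻¹ * (u * a * u⁻¹) * u⁻¹ = u * (u * a * u⁻¹) * u⁻¹ := by group
    rwa [e] at h1
  have hdec : ∀ x ∈ layer G, ∃ a ∈ L, ∃ b ∈ L, x = a * (u * b * u⁻¹) := by
    intro x hx
    rw [hlayer] at hx
    have hLE : L ≤ Subgroup.normalizer
        ((L.map (MulAut.conj u).toMonoidHom : Subgroup G) : Set G) := by
      have h1 := isComponent_commute hL hL' (Ne.symm hne)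
      rw [Subgroup.commutator_eq_bot_iff_le_centralizer] at h1
      exact h1.trans (Subgroup.centralizer_le_normalizer _)
    obtain ⟨a, ha, b', hb', hab⟩ := exists_mul_of_mem_sup_of_le_normalizer hLE hx
    rw [mem_map_conj_iff] at hb'
    refine ⟨a, ha, _, hb', ?_⟩
    rw [← hab]; group
  obtain ⟨z₁, hz₁L, c₀, hc₀L, hzc⟩ := hdec z hzE
  have huz : u * z * u⁻¹ = z := by
    calc u * z * u⁻¹ = (z * u) * u⁻¹ := by rw [hq.central u huQ]
      _ = z := by group
  have huniq : ∀ a ∈ L, ∀ b ∈ L, ∀ a' ∈ L, ∀ b' ∈ L,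
      a * (u * b * u⁻¹) = a' * (u * b' * u⁻¹) → a = a' ∧ b = b' := by
    intro a ha b hb a' ha' b' hb' hab
    have h1 : (a'⁻¹ * a) * (u * (b * b'⁻¹) * u⁻¹) = 1 := by
      calc (a'⁻¹ * a) * (u * (b * b'⁻¹) * u⁻¹)
          = a'⁻¹ * (a * (u * b * u⁻¹)) * (u * b'⁻¹ * u⁻¹) := by group
        _ = a'⁻¹ * (a' * (u * b' * u⁻¹)) * (u * b'⁻¹ * u⁻¹) := by rw [hab]
        _ = 1 := by group
    obtain ⟨h2', h3⟩ := hinj _ (L.mul_mem (L.inv_mem ha') ha) _
      (L.mul_mem hb (L.inv_mem hb')) h1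
    constructor
    · calc a = a' * (a'⁻¹ * a) := by group
        _ = a' := by rw [h2', mul_one]
    · calc b = (b * b'⁻¹) * b' := by group
        _ = b' := by rw [h3, one_mul]
  have hc₀ : c₀ = z₁ := by
    have h1 : (u * (u * c₀ * u⁻¹) * u⁻¹) * (u * z₁ * u⁻¹) = z₁ * (u * c₀ * u⁻¹) := by
      calc (u * (u * c₀ * u⁻¹) * u⁻¹) * (u * z₁ * u⁻¹)
          = (u * z₁ * u⁻¹) * (u * (u * c₀ * u⁻¹) * u⁻¹) := hcomm _ (hsq c₀ hc₀L) z₁ hz₁L
        _ = u * (z₁ * (u * c₀ * u⁻¹)) * u⁻¹ := by group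
        _ = u * z * u⁻¹ := by rw [← hzc]
        _ = z := huz
        _ = z₁ * (u * c₀ * u⁻¹) := hzc
    exact ((huniq _ (hsq c₀ hc₀L) _ hz₁L _ hz₁L _ hc₀L h1).2).symm
  rw [hc₀] at hzc
  have hz₁ : z₁ ≠ 1 := by
    intro h1
    rw [h1] at hzc
    apply hq.ne_one
    rw [hzc]; group
  refine ⟨hlayer, ⟨z₁, hz₁L⟩, ?_, ⟨hq, huQ, hcomm, hinj, hzc⟩, ?_⟩
  · intro h; exact hz₁ (congrArg Subtype.val h)
  · intro x hx
    obtain ⟨a, ha, b, hb, hab⟩ := hdec x hx
    refine ⟨(⟨a, ha⟩, ⟨b, hb⟩), ?_⟩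
    rw [TwoComp.hom_apply]; exact hab.symm

/-- The structure of `F*(G)` for a group with a large extraspecial `2`-subgroup `Q`, `Z(Q) = ⟨z⟩`. -/
theorem large_extraspecial_fstar (Q : Subgroup G) (hQ : Cfsg.IsLargeExtraspecial Q) (z : G)
    (hz : ((Subgroup.center ↥Q).map Q.subtype) = Subgroup.zpowers z) :
    (IsMulCommutative ↥(Subgroup.normalClosure ({z} : Set G)) ∧
      generalizedFittingSubgroup G = pCore 2 G) ∨
    (Subgroup.normalClosure ({z} : Set G) = generalizedFittingSubgroup G ∧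
      IsSimpleGroup ↥(Subgroup.normalClosure ({z} : Set G)) ∧
      ¬ IsMulCommutative ↥(Subgroup.normalClosure ({z} : Set G))) ∨
    (Subgroup.normalClosure ({z} : Set G) = generalizedFittingSubgroup G ∧
      ∃ (L : Subgroup G) (u : G), u ∈ Q ∧ IsSimpleGroup ↥L ∧ ¬ IsMulCommutative ↥L ∧
        L ⊓ (L).map (MulAut.conj u).toMonoidHom = ⊥ ∧
        (∀ x ∈ L, ∀ y ∈ (L).map (MulAut.conj u).toMonoidHom, x * y = y * x) ∧
        L ⊔ (L).map (MulAut.conj u).toMonoidHom = Subgroup.normalClosure ({z} : Set G) ∧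
        ∃ z₁ ∈ L, z = z₁ * (u * z₁ * u⁻¹) ∧
          (∃ R : Sylow 2 ↥L,
            (R : Subgroup ↥L) = (Subgroup.centralizer ({z₁} : Set G)).subgroupOf L ∧
            (frattini ↥(R : Subgroup ↥L)).map ((L.subtype).comp (R : Subgroup ↥L).subtype) ≤
              Subgroup.zpowers z₁) ∧
          Q ≠ (pCore 2 ↥(Subgroup.centralizer ({z} : Set G))).map
            (Subgroup.centralizer ({z} : Set G)).subtype) := by
  obtain ⟨z', hq, hz'⟩ := exists_qdata Q hQ.1 hQ.2.1 hQ.2.2.1
  have hzz' : z' = z := by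
    have h1 : z' ∈ Subgroup.zpowers z := by rw [← hz, hz']; exact Subgroup.mem_zpowers z'
    have h2 : z ∈ Subgroup.zpowers z' := by rw [← hz', hz]; exact Subgroup.mem_zpowers z
    rcases (mem_zpowers_invol hq.sq z).1 h2 with h3 | h3
    · exfalso
      rw [h3, Subgroup.zpowers_one_eq_bot, Subgroup.mem_bot] at h1
      exact hq.ne_one h1
    · exact h3.symm
  subst hzz'
  have hlarge := hQ.2.2.2
  by_cases h2 : pCore 2 G = ⊥
  · obtain ⟨hF, hzE, hM, hgF⟩ := fstar_of_pCore_eq_bot hq hlarge h2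
    right
    obtain ⟨L, hL⟩ : ∃ L : Subgroup G, IsComponent L := by
      by_contra hno
      push Not at hno
      have h3 := layer_eq_bot_iff.2 hno
      rw [h3] at hzE
      exact hq.ne_one (Subgroup.mem_bot.1 hzE)
    by_cases hall : ∀ q ∈ Q, L.map (MulAut.conj q).toMonoidHom = L
    · left
      have hlay := layer_eq_of_forall_conj hq hF h2 hzE hL hall
      rw [hM, hgF, hlay]
      exact ⟨rfl, isSimpleGroup_of_isComponent hF hL, (isComponent_qs hL).not_isMulCommutative⟩
    · right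
      push Not at hall
      obtain ⟨u, huQ, hne⟩ := hall
      obtain ⟨hlayer, z₁, hz₁, h, hdec⟩ := exists_twoComp hq hF h2 hzE hL huQ hne
      have hall' := isComponent_eq_or hq hF h2 hzE hL huQ hne
      have hL' := isComponent_conj hL u
      refine ⟨by rw [hM, hgF], L, u, huQ, isSimpleGroup_of_isComponent hF hL,
        (isComponent_qs hL).not_isMulCommutative, ?_, ?_, ?_, z₁, z₁.2, h.hz, ?_, ?_⟩
      · rw [Subgroup.eq_bot_iff_forall]
        rintro x ⟨hx1, hx2⟩
        apply isComponent_eq_one_of_central hF hL hx1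
        intro k hk
        exact isComponent_commute_elem hL hL' (Ne.symm hne) k hk x hx2
      · exact isComponent_commute_elem hL hL' (Ne.symm hne)
      · rw [hM, hlayer]
      · exact h.exists_sylow (fun g => hall' _ (isComponent_conj hL g))
      · exact h.not_QO (isComponent_qs hL).1 hz₁ (layer G) (le_layer hL) hdec
  · left
    exact fstar_of_pCore_ne_bot hq hlarge h2

end

end Cfsg.Agent.Lib.helper92
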