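import Mathlib

set_option autoImplicit false

namespace Cfsg.Agent.Lib.helper92.M24B

theorem helper92_arith_bounds (M A E : ℤ)
    (hN : 10 * M ^ 2 + 566720 * A ^ 2 + 2225664 * E ^ 2 ≤ 2448230400) :
    M ≤ 16000 ∧ -65 ≤ A ∧ A ≤ 65 ∧ -33 ≤ E ∧ E ≤ 33 := by
  have hM2 : M ^ 2 ≤ 244823040 := by nlinarith [sq_nonneg A, sq_nonneg E]
  have hA2 : A ^ 2 ≤ 4320 := by nlinarith [sq_nonneg M, sq_nonneg E]
  have hE2 : E ^ 2 ≤ 1100 := by nlinarith [sq_nonneg M, sq_nonneg A]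
  refine ⟨?_, ?_, ?_, ?_, ?_⟩
  · by_contra h
    push Not at h
    nlinarith
  · by_contra h
    push Not at h
    nlinarith
  · by_contra h
    push Not at h
    nlinarith
  · by_contra h
    push Not at h
    nlinarith
  · by_contra h
    push Not at h
    nlinarith

set_option maxHeartbeats 1600000 in
theorem helper92_arith_1 (m jA jB j5 j11 : ℕ) (hmk : m = 1)
    (hRA : (1024 * m : ℤ) + 448 * (24 * jA - 1024 * m) + 64 * (24 * jB - 1024 * m)
      + 448 * (5 * j5 - 1024 * m) = 0)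
    (hRB : (1024 * m : ℤ) + 160 * (24 * jA - 1024 * m) + 480 * (24 * jB - 1024 * m)
      + 480 * (5 * j5 - 1024 * m) + 768 * (11 * j11 - 1024 * m) = 0)
    (hN : 10 * (1024 * m : ℤ) ^ 2 + 566720 * (24 * jA - 1024 * m) ^ 2
      + 2225664 * (11 * j11 - 1024 * m) ^ 2 ≤ 2448230400) : False := by
  obtain ⟨hM, ha2, ha1, he2, he1⟩ := helper92_arith_bounds _ _ _ hN
  subst hmk
  have h1 : 40 ≤ jA := by omega
  have h2 : jA ≤ 45 := by omega
  have h3 : 91 ≤ j11 := by omega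
  have h4 : j11 ≤ 96 := by omega
  clear hM ha2 ha1 he2 he1
  interval_cases jA <;> interval_cases j11 <;> omega

set_option maxHeartbeats 1600000 in
theorem helper92_arith_2 (m jA jB j5 j11 : ℕ) (hmk : m = 2)
    (hRA : (1024 * m : ℤ) + 448 * (24 * jA - 1024 * m) + 64 * (24 * jB - 1024 * m)
      + 448 * (5 * j5 - 1024 * m) = 0)
    (hRB : (1024 * m : ℤ) + 160 * (24 * jA - 1024 * m) + 480 * (24 * jB - 1024 * m)
      + 480 * (5 * j5 - 1024 * m) + 768 * (11 * j11 - 1024 * m) = 0)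
    (hN : 10 * (1024 * m : ℤ) ^ 2 + 566720 * (24 * jA - 1024 * m) ^ 2
      + 2225664 * (11 * j11 - 1024 * m) ^ 2 ≤ 2448230400) : False := by
  obtain ⟨hM, ha2, ha1, he2, he1⟩ := helper92_arith_bounds _ _ _ hN
  subst hmk
  have h1 : 83 ≤ jA := by omega
  have h2 : jA ≤ 88 := by omega
  have h3 : 184 ≤ j11 := by omega
  have h4 : j11 ≤ 189 := by omega
  clear hM ha2 ha1 he2 he1
  interval_cases jA <;> interval_cases j11 <;> omega

set_option maxHeartbeats 1600000 in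
theorem helper92_arith_3 (m jA jB j5 j11 : ℕ) (hmk : m = 3)
    (hRA : (1024 * m : ℤ) + 448 * (24 * jA - 1024 * m) + 64 * (24 * jB - 1024 * m)
      + 448 * (5 * j5 - 1024 * m) = 0)
    (hRB : (1024 * m : ℤ) + 160 * (24 * jA - 1024 * m) + 480 * (24 * jB - 1024 * m)
      + 480 * (5 * j5 - 1024 * m) + 768 * (11 * j11 - 1024 * m) = 0)
    (hN : 10 * (1024 * m : ℤ) ^ 2 + 566720 * (24 * jA - 1024 * m) ^ 2
      + 2225664 * (11 * j11 - 1024 * m) ^ 2 ≤ 2448230400) : False := by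
  obtain ⟨hM, ha2, ha1, he2, he1⟩ := helper92_arith_bounds _ _ _ hN
  subst hmk
  have h1 : 126 ≤ jA := by omega
  have h2 : jA ≤ 130 := by omega
  have h3 : 277 ≤ j11 := by omega
  have h4 : j11 ≤ 282 := by omega
  clear hM ha2 ha1 he2 he1
  interval_cases jA <;> interval_cases j11 <;> omega

set_option maxHeartbeats 1600000 in
theorem helper92_arith_4 (m jA jB j5 j11 : ℕ) (hmk : m = 4)
    (hRA : (1024 * m : ℤ) + 448 * (24 * jA - 1024 * m) + 64 * (24 * jB - 1024 * m)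
      + 448 * (5 * j5 - 1024 * m) = 0)
    (hRB : (1024 * m : ℤ) + 160 * (24 * jA - 1024 * m) + 480 * (24 * jB - 1024 * m)
      + 480 * (5 * j5 - 1024 * m) + 768 * (11 * j11 - 1024 * m) = 0)
    (hN : 10 * (1024 * m : ℤ) ^ 2 + 566720 * (24 * jA - 1024 * m) ^ 2
      + 2225664 * (11 * j11 - 1024 * m) ^ 2 ≤ 2448230400) : False := by
  obtain ⟨hM, ha2, ha1, he2, he1⟩ := helper92_arith_bounds _ _ _ hN
  subst hmk
  have h1 : 168 ≤ jA := by omega
  have h2 : jA ≤ 173 := by omega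
  have h3 : 370 ≤ j11 := by omega
  have h4 : j11 ≤ 375 := by omega
  clear hM ha2 ha1 he2 he1
  interval_cases jA <;> interval_cases j11 <;> omega

set_option maxHeartbeats 1600000 in
theorem helper92_arith_5 (m jA jB j5 j11 : ℕ) (hmk : m = 5)
    (hRA : (1024 * m : ℤ) + 448 * (24 * jA - 1024 * m) + 64 * (24 * jB - 1024 * m)
      + 448 * (5 * j5 - 1024 * m) = 0)
    (hRB : (1024 * m : ℤ) + 160 * (24 * jA - 1024 * m) + 480 * (24 * jB - 1024 * m)
      + 480 * (5 * j5 - 1024 * m) + 768 * (11 * j11 - 1024 * m) = 0)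
    (hN : 10 * (1024 * m : ℤ) ^ 2 + 566720 * (24 * jA - 1024 * m) ^ 2
      + 2225664 * (11 * j11 - 1024 * m) ^ 2 ≤ 2448230400) : False := by
  obtain ⟨hM, ha2, ha1, he2, he1⟩ := helper92_arith_bounds _ _ _ hN
  subst hmk
  have h1 : 211 ≤ jA := by omega
  have h2 : jA ≤ 216 := by omega
  have h3 : 463 ≤ j11 := by omega
  have h4 : j11 ≤ 468 := by omega
  clear hM ha2 ha1 he2 he1
  interval_cases jA <;> interval_cases j11 <;> omega

set_option maxHeartbeats 1600000 in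
theorem helper92_arith_6 (m jA jB j5 j11 : ℕ) (hmk : m = 6)
    (hRA : (1024 * m : ℤ) + 448 * (24 * jA - 1024 * m) + 64 * (24 * jB - 1024 * m)
      + 448 * (5 * j5 - 1024 * m) = 0)
    (hRB : (1024 * m : ℤ) + 160 * (24 * jA - 1024 * m) + 480 * (24 * jB - 1024 * m)
      + 480 * (5 * j5 - 1024 * m) + 768 * (11 * j11 - 1024 * m) = 0)
    (hN : 10 * (1024 * m : ℤ) ^ 2 + 566720 * (24 * jA - 1024 * m) ^ 2
      + 2225664 * (11 * j11 - 1024 * m) ^ 2 ≤ 2448230400) : False := by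
  obtain ⟨hM, ha2, ha1, he2, he1⟩ := helper92_arith_bounds _ _ _ hN
  subst hmk
  have h1 : 254 ≤ jA := by omega
  have h2 : jA ≤ 258 := by omega
  have h3 : 556 ≤ j11 := by omega
  have h4 : j11 ≤ 561 := by omega
  clear hM ha2 ha1 he2 he1
  interval_cases jA <;> interval_cases j11 <;> omega

set_option maxHeartbeats 1600000 in
theorem helper92_arith_7 (m jA jB j5 j11 : ℕ) (hmk : m = 7)
    (hRA : (1024 * m : ℤ) + 448 * (24 * jA - 1024 * m) + 64 * (24 * jB - 1024 * m)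
      + 448 * (5 * j5 - 1024 * m) = 0)
    (hRB : (1024 * m : ℤ) + 160 * (24 * jA - 1024 * m) + 480 * (24 * jB - 1024 * m)
      + 480 * (5 * j5 - 1024 * m) + 768 * (11 * j11 - 1024 * m) = 0)
    (hN : 10 * (1024 * m : ℤ) ^ 2 + 566720 * (24 * jA - 1024 * m) ^ 2
      + 2225664 * (11 * j11 - 1024 * m) ^ 2 ≤ 2448230400) : False := by
  obtain ⟨hM, ha2, ha1, he2, he1⟩ := helper92_arith_bounds _ _ _ hN
  subst hmk
  have h1 : 296 ≤ jA := by omega
  have h2 : jA ≤ 301 := by omega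
  have h3 : 649 ≤ j11 := by omega
  have h4 : j11 ≤ 654 := by omega
  clear hM ha2 ha1 he2 he1
  interval_cases jA <;> interval_cases j11 <;> omega

set_option maxHeartbeats 1600000 in
theorem helper92_arith_8 (m jA jB j5 j11 : ℕ) (hmk : m = 8)
    (hRA : (1024 * m : ℤ) + 448 * (24 * jA - 1024 * m) + 64 * (24 * jB - 1024 * m)
      + 448 * (5 * j5 - 1024 * m) = 0)
    (hRB : (1024 * m : ℤ) + 160 * (24 * jA - 1024 * m) + 480 * (24 * jB - 1024 * m)
      + 480 * (5 * j5 - 1024 * m) + 768 * (11 * j11 - 1024 * m) = 0)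
    (hN : 10 * (1024 * m : ℤ) ^ 2 + 566720 * (24 * jA - 1024 * m) ^ 2
      + 2225664 * (11 * j11 - 1024 * m) ^ 2 ≤ 2448230400) : False := by
  obtain ⟨hM, ha2, ha1, he2, he1⟩ := helper92_arith_bounds _ _ _ hN
  subst hmk
  have h1 : 339 ≤ jA := by omega
  have h2 : jA ≤ 344 := by omega
  have h3 : 742 ≤ j11 := by omega
  have h4 : j11 ≤ 747 := by omega
  clear hM ha2 ha1 he2 he1
  interval_cases jA <;> interval_cases j11 <;> omega

set_option maxHeartbeats 1600000 in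
theorem helper92_arith_9 (m jA jB j5 j11 : ℕ) (hmk : m = 9)
    (hRA : (1024 * m : ℤ) + 448 * (24 * jA - 1024 * m) + 64 * (24 * jB - 1024 * m)
      + 448 * (5 * j5 - 1024 * m) = 0)
    (hRB : (1024 * m : ℤ) + 160 * (24 * jA - 1024 * m) + 480 * (24 * jB - 1024 * m)
      + 480 * (5 * j5 - 1024 * m) + 768 * (11 * j11 - 1024 * m) = 0)
    (hN : 10 * (1024 * m : ℤ) ^ 2 + 566720 * (24 * jA - 1024 * m) ^ 2
      + 2225664 * (11 * j11 - 1024 * m) ^ 2 ≤ 2448230400) : False := by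
  obtain ⟨hM, ha2, ha1, he2, he1⟩ := helper92_arith_bounds _ _ _ hN
  subst hmk
  have h1 : 382 ≤ jA := by omega
  have h2 : jA ≤ 386 := by omega
  have h3 : 835 ≤ j11 := by omega
  have h4 : j11 ≤ 840 := by omega
  clear hM ha2 ha1 he2 he1
  interval_cases jA <;> interval_cases j11 <;> omega

set_option maxHeartbeats 1600000 in
theorem helper92_arith_10 (m jA jB j5 j11 : ℕ) (hmk : m = 10)
    (hRA : (1024 * m : ℤ) + 448 * (24 * jA - 1024 * m) + 64 * (24 * jB - 1024 * m)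
      + 448 * (5 * j5 - 1024 * m) = 0)
    (hRB : (1024 * m : ℤ) + 160 * (24 * jA - 1024 * m) + 480 * (24 * jB - 1024 * m)
      + 480 * (5 * j5 - 1024 * m) + 768 * (11 * j11 - 1024 * m) = 0)
    (hN : 10 * (1024 * m : ℤ) ^ 2 + 566720 * (24 * jA - 1024 * m) ^ 2
      + 2225664 * (11 * j11 - 1024 * m) ^ 2 ≤ 2448230400) : False := by
  obtain ⟨hM, ha2, ha1, he2, he1⟩ := helper92_arith_bounds _ _ _ hN
  subst hmk
  have h1 : 424 ≤ jA := by omega
  have h2 : jA ≤ 429 := by omega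
  have h3 : 928 ≤ j11 := by omega
  have h4 : j11 ≤ 933 := by omega
  clear hM ha2 ha1 he2 he1
  interval_cases jA <;> interval_cases j11 <;> omega

set_option maxHeartbeats 1600000 in
theorem helper92_arith_11 (m jA jB j5 j11 : ℕ) (hmk : m = 11)
    (hRA : (1024 * m : ℤ) + 448 * (24 * jA - 1024 * m) + 64 * (24 * jB - 1024 * m)
      + 448 * (5 * j5 - 1024 * m) = 0)
    (hRB : (1024 * m : ℤ) + 160 * (24 * jA - 1024 * m) + 480 * (24 * jB - 1024 * m)
      + 480 * (5 * j5 - 1024 * m) + 768 * (11 * j11 - 1024 * m) = 0)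
    (hN : 10 * (1024 * m : ℤ) ^ 2 + 566720 * (24 * jA - 1024 * m) ^ 2
      + 2225664 * (11 * j11 - 1024 * m) ^ 2 ≤ 2448230400) : False := by
  obtain ⟨hM, ha2, ha1, he2, he1⟩ := helper92_arith_bounds _ _ _ hN
  subst hmk
  have h1 : 467 ≤ jA := by omega
  have h2 : jA ≤ 472 := by omega
  have h3 : 1021 ≤ j11 := by omega
  have h4 : j11 ≤ 1027 := by omega
  clear hM ha2 ha1 he2 he1
  interval_cases jA <;> interval_cases j11 <;> first | omega | (exfalso; norm_num at hN)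

set_option maxHeartbeats 1600000 in
theorem helper92_arith_12 (m jA jB j5 j11 : ℕ) (hmk : m = 12)
    (hRA : (1024 * m : ℤ) + 448 * (24 * jA - 1024 * m) + 64 * (24 * jB - 1024 * m)
      + 448 * (5 * j5 - 1024 * m) = 0)
    (hRB : (1024 * m : ℤ) + 160 * (24 * jA - 1024 * m) + 480 * (24 * jB - 1024 * m)
      + 480 * (5 * j5 - 1024 * m) + 768 * (11 * j11 - 1024 * m) = 0)
    (hN : 10 * (1024 * m : ℤ) ^ 2 + 566720 * (24 * jA - 1024 * m) ^ 2
      + 2225664 * (11 * j11 - 1024 * m) ^ 2 ≤ 2448230400) : False := by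
  obtain ⟨hM, ha2, ha1, he2, he1⟩ := helper92_arith_bounds _ _ _ hN
  subst hmk
  have h1 : 510 ≤ jA := by omega
  have h2 : jA ≤ 514 := by omega
  have h3 : 1115 ≤ j11 := by omega
  have h4 : j11 ≤ 1120 := by omega
  clear hM ha2 ha1 he2 he1
  interval_cases jA <;> interval_cases j11 <;> omega

set_option maxHeartbeats 1600000 in
theorem helper92_arith_13 (m jA jB j5 j11 : ℕ) (hmk : m = 13)
    (hRA : (1024 * m : ℤ) + 448 * (24 * jA - 1024 * m) + 64 * (24 * jB - 1024 * m)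
      + 448 * (5 * j5 - 1024 * m) = 0)
    (hRB : (1024 * m : ℤ) + 160 * (24 * jA - 1024 * m) + 480 * (24 * jB - 1024 * m)
      + 480 * (5 * j5 - 1024 * m) + 768 * (11 * j11 - 1024 * m) = 0)
    (hN : 10 * (1024 * m : ℤ) ^ 2 + 566720 * (24 * jA - 1024 * m) ^ 2
      + 2225664 * (11 * j11 - 1024 * m) ^ 2 ≤ 2448230400) : False := by
  obtain ⟨hM, ha2, ha1, he2, he1⟩ := helper92_arith_bounds _ _ _ hN
  subst hmk
  have h1 : 552 ≤ jA := by omega
  have h2 : jA ≤ 557 := by omega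
  have h3 : 1208 ≤ j11 := by omega
  have h4 : j11 ≤ 1213 := by omega
  clear hM ha2 ha1 he2 he1
  interval_cases jA <;> interval_cases j11 <;> omega

set_option maxHeartbeats 1600000 in
theorem helper92_arith_14 (m jA jB j5 j11 : ℕ) (hmk : m = 14)
    (hRA : (1024 * m : ℤ) + 448 * (24 * jA - 1024 * m) + 64 * (24 * jB - 1024 * m)
      + 448 * (5 * j5 - 1024 * m) = 0)
    (hRB : (1024 * m : ℤ) + 160 * (24 * jA - 1024 * m) + 480 * (24 * jB - 1024 * m)
      + 480 * (5 * j5 - 1024 * m) + 768 * (11 * j11 - 1024 * m) = 0)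
    (hN : 10 * (1024 * m : ℤ) ^ 2 + 566720 * (24 * jA - 1024 * m) ^ 2
      + 2225664 * (11 * j11 - 1024 * m) ^ 2 ≤ 2448230400) : False := by
  obtain ⟨hM, ha2, ha1, he2, he1⟩ := helper92_arith_bounds _ _ _ hN
  subst hmk
  have h1 : 595 ≤ jA := by omega
  have h2 : jA ≤ 600 := by omega
  have h3 : 1301 ≤ j11 := by omega
  have h4 : j11 ≤ 1306 := by omega
  clear hM ha2 ha1 he2 he1
  interval_cases jA <;> interval_cases j11 <;> omega

set_option maxHeartbeats 1600000 in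
theorem helper92_arith_15 (m jA jB j5 j11 : ℕ) (hmk : m = 15)
    (hRA : (1024 * m : ℤ) + 448 * (24 * jA - 1024 * m) + 64 * (24 * jB - 1024 * m)
      + 448 * (5 * j5 - 1024 * m) = 0)
    (hRB : (1024 * m : ℤ) + 160 * (24 * jA - 1024 * m) + 480 * (24 * jB - 1024 * m)
      + 480 * (5 * j5 - 1024 * m) + 768 * (11 * j11 - 1024 * m) = 0)
    (hN : 10 * (1024 * m : ℤ) ^ 2 + 566720 * (24 * jA - 1024 * m) ^ 2
      + 2225664 * (11 * j11 - 1024 * m) ^ 2 ≤ 2448230400) : False := by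
  obtain ⟨hM, ha2, ha1, he2, he1⟩ := helper92_arith_bounds _ _ _ hN
  subst hmk
  have h1 : 638 ≤ jA := by omega
  have h2 : jA ≤ 642 := by omega
  have h3 : 1394 ≤ j11 := by omega
  have h4 : j11 ≤ 1399 := by omega
  clear hM ha2 ha1 he2 he1
  interval_cases jA <;> interval_cases j11 <;> omega

/-- ARITH (S5006 piece): the integer system coming from the two class-sum relations, the
divisibility of the partial sums and the norm inequality has no solution. -/
theorem arith_final (m jA jB j5 j11 : ℕ) (hm : 0 < m)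
    (hRA : (1024 * m : ℤ) + 448 * (24 * jA - 1024 * m) + 64 * (24 * jB - 1024 * m)
      + 448 * (5 * j5 - 1024 * m) = 0)
    (hRB : (1024 * m : ℤ) + 160 * (24 * jA - 1024 * m) + 480 * (24 * jB - 1024 * m)
      + 480 * (5 * j5 - 1024 * m) + 768 * (11 * j11 - 1024 * m) = 0)
    (hN : 10 * (1024 * m : ℤ) ^ 2 + 566720 * (24 * jA - 1024 * m) ^ 2
      + 2225664 * (11 * j11 - 1024 * m) ^ 2 ≤ 2448230400) : False := by
  obtain ⟨hM, -, -, -, -⟩ := helper92_arith_bounds _ _ _ hN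
  have hm15 : m ≤ 15 := by
    have h := hM
    clear hRA hRB hN hM
    omega
  clear hM
  interval_cases m
  · exact helper92_arith_1 1 jA jB j5 j11 rfl hRA hRB hN
  · exact helper92_arith_2 2 jA jB j5 j11 rfl hRA hRB hN
  · exact helper92_arith_3 3 jA jB j5 j11 rfl hRA hRB hN
  · exact helper92_arith_4 4 jA jB j5 j11 rfl hRA hRB hN
  · exact helper92_arith_5 5 jA jB j5 j11 rfl hRA hRB hN
  · exact helper92_arith_6 6 jA jB j5 j11 rfl hRA hRB hN
  · exact helper92_arith_7 7 jA jB j5 j11 rfl hRA hRB hN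
  · exact helper92_arith_8 8 jA jB j5 j11 rfl hRA hRB hN
  · exact helper92_arith_9 9 jA jB j5 j11 rfl hRA hRB hN
  · exact helper92_arith_10 10 jA jB j5 j11 rfl hRA hRB hN
  · exact helper92_arith_11 11 jA jB j5 j11 rfl hRA hRB hN
  · exact helper92_arith_12 12 jA jB j5 j11 rfl hRA hRB hN
  · exact helper92_arith_13 13 jA jB j5 j11 rfl hRA hRB hN
  · exact helper92_arith_14 14 jA jB j5 j11 rfl hRA hRB hN
  · exact helper92_arith_15 15 jA jB j5 j11 rfl hRA hRB hN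

end Cfsg.Agent.Lib.helper92.M24B
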