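import Mathlib
import Cfsg.Agent.Lib.helper85.McLDefs

set_option autoImplicit false

open Cfsg.Agent.Lib.helper85.McL

namespace Cfsg.Agent.Lib.helper92.McL

universe u

variable {p : ℕ} [Fact p.Prime] {V : Type u} [AddCommGroup V] [Module (ZMod p) V]

theorem helper92_inv_apply (g : V ≃ₗ[ZMod p] V) (w : V) : g (g⁻¹ w) = w := by
  have h : (g * g⁻¹) w = w := by rw [mul_inv_cancel]; rfl
  exact h

theorem helper92_inv_apply' (g : V ≃ₗ[ZMod p] V) (w : V) : g⁻¹ (g w) = w := by
  have h : (g⁻¹ * g) w = w := by rw [inv_mul_cancel]; rfl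
  exact h

/-- `[V, K]` is `K`-invariant. -/
theorem helper92_commSub_inv (K : Subgroup (V ≃ₗ[ZMod p] V)) (k : V ≃ₗ[ZMod p] V) (hk : k ∈ K)
    (w : V) (hw : w ∈ commSub K) : k w ∈ commSub K := by
  unfold commSub at hw ⊢
  induction hw using Submodule.span_induction with
  | mem x hx =>
    obtain ⟨k', hk', v, rfl⟩ := hx
    have h1 : k (k' v - v) = ((k * k') v - v) - (k v - v) := by
      rw [map_sub, LinearEquiv.mul_apply]
      abel
    rw [h1]
    exact Submodule.sub_mem _ (Submodule.subset_span ⟨k * k', K.mul_mem hk hk', v, rfl⟩)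
      (Submodule.subset_span ⟨k, hk, v, rfl⟩)
  | zero => rw [map_zero]; exact Submodule.zero_mem _
  | add x y _ _ hx hy => rw [map_add]; exact Submodule.add_mem _ hx hy
  | smul a x _ hx => rw [map_smul]; exact Submodule.smul_mem _ a hx

/-- `[V, ⟨C⟩] ≤ U` as soon as `(t - 1) V ⊆ U` for the generators. -/
theorem helper92_commSub_le (C : Set (V ≃ₗ[ZMod p] V)) (U : Submodule (ZMod p) V)
    (h : ∀ t ∈ C, ∀ v, t v - v ∈ U) : commSub (Subgroup.closure C) ≤ U := by
  have key : ∀ k ∈ Subgroup.closure C, ∀ v, k v - v ∈ U := by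
    intro k hk
    induction hk using Subgroup.closure_induction with
    | mem t ht => exact h t ht
    | one =>
      intro v
      have : (1 : V ≃ₗ[ZMod p] V) v - v = 0 := sub_self v
      rw [this]
      exact Submodule.zero_mem _
    | mul x y _ _ hx hy =>
      intro v
      have : (x * y) v - v = (x (y v) - y v) + (y v - v) := by
        rw [LinearEquiv.mul_apply]
        abel
      rw [this]
      exact Submodule.add_mem _ (hx (y v)) (hy v)
    | inv x _ hx =>
      intro v
      have : x⁻¹ v - v = -(x (x⁻¹ v) - x⁻¹ v) := by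
        rw [helper92_inv_apply]
        abel
      rw [this]
      exact Submodule.neg_mem _ (hx _)
  unfold commSub
  rw [Submodule.span_le]
  rintro w ⟨k, hk, v, rfl⟩
  exact key k hk v

/-- A vector fixed by the generators is fixed by the group. -/
theorem helper92_mem_fixSub_closure (C : Set (V ≃ₗ[ZMod p] V)) (v : V)
    (h : ∀ t ∈ C, t v = v) : v ∈ fixSub (Subgroup.closure C) := by
  rw [mem_fixSub]
  intro k hk
  induction hk using Subgroup.closure_induction with
  | mem t ht => exact h t ht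
  | one => rfl
  | mul x y _ _ hx hy => rw [LinearEquiv.mul_apply, hy, hx]
  | inv x _ hx =>
    have := helper92_inv_apply' x v
    rw [hx] at this
    exact this

/-- The commutator of two transvections `s = τ(c, φ)`, `t = τ(d, ψ)` with `ψ c = 0`. -/
theorem helper92_comm_tv (s t : V ≃ₗ[ZMod p] V) (c d : V) (φ ψ : Module.Dual (ZMod p) V)
    (hs : ∀ x, s x = x + φ x • c) (ht : ∀ x, t x = x + ψ x • d) (hψd : ψ d = 0) (hψc : ψ c = 0)
    (y : V) : (s * t * s⁻¹ * t⁻¹) y = y + (φ d * ψ y) • c := by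
  obtain ⟨x, hx⟩ : ∃ x, x = s⁻¹ (t⁻¹ y) := ⟨_, rfl⟩
  have hy : y = t (s x) := by
    rw [hx, helper92_inv_apply, helper92_inv_apply]
  have h1 : (s * t * s⁻¹ * t⁻¹) y = s (t x) := by
    rw [hx]
    rfl
  rw [h1]
  have h2 : ψ (t (s x)) = ψ x := by
    rw [ht, hs]
    simp only [map_add, map_smul, hψc, hψd, smul_eq_mul, mul_zero, add_zero]
  rw [hy, h2, ht (s x), hs x, hs (t x), ht x]
  simp only [map_add, map_smul, hψc, smul_eq_mul, mul_zero, zero_smul, add_zero, add_smul]
  rw [mul_comm (ψ x) (φ d)]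
  abel

/-- Two transvections `τ(c, φ)`, `τ(d, ψ)` with `φ d = 0` and `ψ c = 0` commute. -/
theorem helper92_commute_tv (s t : V ≃ₗ[ZMod p] V) (c d : V) (φ ψ : Module.Dual (ZMod p) V)
    (hs : ∀ x, s x = x + φ x • c) (ht : ∀ x, t x = x + ψ x • d) (hφd : φ d = 0) (hψc : ψ c = 0) :
    Commute s t := by
  show s * t = t * s
  ext x
  rw [LinearEquiv.mul_apply, LinearEquiv.mul_apply, ht x, hs x, hs, ht]
  simp only [map_add, map_smul, hψc, hφd, smul_eq_mul, mul_zero, add_zero]
  abel

/-- The unipotent-kernel argument: if `c ∈ U`, `U ≤ ker ψ` and `U` is `H`-invariant, then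
`φ d = 0`. -/
theorem helper92_kill (H : Subgroup (V ≃ₗ[ZMod p] V)) (hU : UnipHyp H)
    (U : Submodule (ZMod p) V) (hUH : ∀ h ∈ H, ∀ u ∈ U, h u ∈ U)
    (s t : V ≃ₗ[ZMod p] V) (hsH : s ∈ H) (htH : t ∈ H) (c d : V) (φ ψ : Module.Dual (ZMod p) V)
    (hs : ∀ x, s x = x + φ x • c) (ht : ∀ x, t x = x + ψ x • d) (hψd : ψ d = 0)
    (hc : c ≠ 0) (hψ : ψ ≠ 0) (hcU : c ∈ U) (hUψ : ∀ u ∈ U, ψ u = 0) : φ d = 0 := by
  by_contra hne
  have hψc : ψ c = 0 := hUψ c hcU
  have hk := helper92_comm_tv s t c d φ ψ hs ht hψd hψc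
  have hkH : s * t * s⁻¹ * t⁻¹ ∈ H :=
    H.mul_mem (H.mul_mem (H.mul_mem hsH htH) (H.inv_mem hsH)) (H.inv_mem htH)
  have h1 : s * t * s⁻¹ * t⁻¹ = 1 := by
    apply hU ⊥ U (fun h _ u hu => by
      rw [Submodule.mem_bot] at hu ⊢
      rw [hu, map_zero]) hUH _ hkH
    · intro v
      rw [hk v, add_sub_cancel_left]
      exact Submodule.smul_mem _ _ hcU
    · intro u hu
      rw [hk u, add_sub_cancel_left, hUψ u hu, mul_zero, zero_smul]
      exact Submodule.zero_mem _
    · intro u hu
      rw [Submodule.mem_bot] at hu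
      rw [hu, map_zero]
  obtain ⟨y, hy⟩ : ∃ y, ψ y ≠ 0 := by
    by_contra hall
    push Not at hall
    exact hψ (LinearMap.ext hall)
  have h2 := hk y
  rw [h1] at h2
  have h3 : (φ d * ψ y) • c = 0 := by
    have : y = y + (φ d * ψ y) • c := h2
    exact (left_eq_add.mp this)
  rcases smul_eq_zero.mp h3 with h | h
  · exact mul_ne_zero hne hy h
  · exact hc h

/-- The restriction of `K` to an invariant subspace. -/
noncomputable def helper92_res (K : Subgroup (V ≃ₗ[ZMod p] V)) (W : Submodule (ZMod p) V)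
    (hW : ∀ k ∈ K, ∀ w ∈ W, k w ∈ W) : ↥K →* (↥W ≃ₗ[ZMod p] ↥W) where
  toFun k := LinearEquiv.ofLinear
    (((k : V ≃ₗ[ZMod p] V) : V →ₗ[ZMod p] V).restrict (fun w hw => hW k k.2 w hw))
    ((((k : V ≃ₗ[ZMod p] V)⁻¹ : V ≃ₗ[ZMod p] V) : V →ₗ[ZMod p] V).restrict
      (fun w hw => hW _ (K.inv_mem k.2) w hw))
    (by
      apply LinearMap.ext
      intro w
      apply Subtype.ext
      exact helper92_inv_apply _ _)
    (by
      apply LinearMap.ext
      intro w
      apply Subtype.ext
      exact helper92_inv_apply' _ _)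
  map_one' := by
    apply LinearEquiv.ext
    intro w
    rfl
  map_mul' a b := by
    apply LinearEquiv.ext
    intro w
    rfl

theorem helper92_res_apply (K : Subgroup (V ≃ₗ[ZMod p] V)) (W : Submodule (ZMod p) V)
    (hW : ∀ k ∈ K, ∀ w ∈ W, k w ∈ W) (k : ↥K) (w : ↥W) :
    ((helper92_res K W hW k w : ↥W) : V) = (k : V ≃ₗ[ZMod p] V) (w : V) := rfl

/-- PIECE CFIN. -/
theorem comp_final (hp : p ≠ 2) [Finite V] (hIRR : IrrThm.{u} p) (H : Subgroup (V ≃ₗ[ZMod p] V))
    (hU : UnipHyp H) (C : Set (V ≃ₗ[ZMod p] V)) (hC : Comp H C)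
    (h1 : commSub (Subgroup.closure C) ⊓ fixSub (Subgroup.closure C) = ⊥)
    (h2 : commSub (Subgroup.closure C) ⊔ fixSub (Subgroup.closure C) = ⊤) : CompConcl C := by
  obtain ⟨K, hK⟩ : ∃ K, K = Subgroup.closure C := ⟨_, rfl⟩
  obtain ⟨W, hWdef⟩ : ∃ W, W = commSub K := ⟨_, rfl⟩
  rw [← hK] at h1 h2
  rw [← hWdef] at h1 h2
  have hKH : K ≤ H := by
    rw [hK, Subgroup.closure_le]
    exact fun t ht => hC.sub t ht
  have hCK : ∀ t ∈ C, t ∈ K := fun t ht => by
    rw [hK]
    exact Subgroup.subset_closure ht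
  have hWK : ∀ k ∈ K, ∀ w ∈ W, k w ∈ W := by
    intro k hk w hw
    rw [hWdef] at hw ⊢
    exact helper92_commSub_inv K k hk w hw
  have hfixW : ∀ h ∈ H, ∃ k ∈ K, ∀ w ∈ W, h w = k w := by
    intro h hh
    obtain ⟨k, hk, hkw⟩ := hC.fixW h hh
    refine ⟨k, by rw [hK]; exact hk, ?_⟩
    intro w hw
    rw [hWdef, hK] at hw
    exact hkw w hw
  -- `H`-invariance of `K`-invariant subspaces of `W`
  have hinvH : ∀ U : Submodule (ZMod p) V, U ≤ W → (∀ k ∈ K, ∀ u ∈ U, k u ∈ U) →
      ∀ h ∈ H, ∀ u ∈ U, h u ∈ U := by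
    intro U hUW hUK h hh u hu
    obtain ⟨k, hk, hkw⟩ := hfixW h hh
    rw [hkw u (hUW hu)]
    exact hUK k hk u hu
  -- centres lie in `W`
  have hcW : ∀ t ∈ C, ∀ (c : V) (φ : Module.Dual (ZMod p) V), φ ≠ 0 →
      (∀ x, t x = x + φ x • c) → c ∈ W := by
    intro t ht c φ hφ htx
    obtain ⟨v, hv⟩ : ∃ v, φ v ≠ 0 := by
      by_contra hall
      push Not at hall
      exact hφ (LinearMap.ext hall)
    have h3 : c = (φ v)⁻¹ • (t v - v) := by
      rw [htx v, add_sub_cancel_left, smul_smul, inv_mul_cancel₀ hv, one_smul]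
    rw [h3, hWdef]
    apply Submodule.smul_mem
    exact Submodule.subset_span ⟨t, hCK t ht, v, rfl⟩
  -- the axis functionals do not vanish on `W`
  have hφW : ∀ t ∈ C, ∀ (d : V) (ψ : Module.Dual (ZMod p) V), d ≠ 0 → ψ ≠ 0 → ψ d = 0 →
      (∀ x, t x = x + ψ x • d) → ∃ w ∈ W, ψ w ≠ 0 := by
    intro t ht d ψ hd hψ hψd htx
    by_contra hall
    push Not at hall
    have hdfix : d ∈ fixSub K := by
      rw [hK]
      apply helper92_mem_fixSub_closure
      intro s hs
      obtain ⟨c, φ, hc, hφ, hφc, hsx⟩ := hC.tv s hs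
      have := helper92_kill H hU W (hinvH W le_rfl hWK) s t (hC.sub s hs) (hC.sub t ht) c d φ ψ
        hsx htx hψd hc hψ (hcW s hs c φ hφ hsx) hall
      rw [hsx d, this, zero_smul, add_zero]
    have hdW : d ∈ W := hcW t ht d ψ hψ htx
    have : d ∈ W ⊓ fixSub K := ⟨hdW, hdfix⟩
    rw [h1, Submodule.mem_bot] at this
    exact hd this
  -- the restriction homomorphism
  obtain ⟨ρ, hρ⟩ : ∃ ρ : ↥K →* (↥W ≃ₗ[ZMod p] ↥W), ρ = helper92_res K W hWK := ⟨_, rfl⟩
  have hρa : ∀ (k : ↥K) (w : ↥W), ((ρ k w : ↥W) : V) = (k : V ≃ₗ[ZMod p] V) (w : V) := by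
    intro k w
    rw [hρ]
    rfl
  -- images of the generators are transvections
  have htv : ∀ t (ht : t ∈ C), IsTv (ρ ⟨t, hCK t ht⟩) := by
    intro t ht
    obtain ⟨d, ψ, hd, hψ, hψd, htx⟩ := hC.tv t ht
    obtain ⟨w, hw, hψw⟩ := hφW t ht d ψ hd hψ hψd htx
    refine ⟨⟨d, hcW t ht d ψ hψ htx⟩, ψ.comp W.subtype, ?_, ?_, ?_, ?_⟩
    · intro h
      exact hd (congrArg Subtype.val h)
    · intro h
      apply hψw
      have := LinearMap.congr_fun h ⟨w, hw⟩
      exact this
    · exact hψd
    · intro x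
      apply Subtype.ext
      rw [hρa]
      exact htx x
  have hne1 : ∀ g : ↥W ≃ₗ[ZMod p] ↥W, IsTv g → g ≠ 1 := by
    rintro g ⟨c, φ, hc, hφ, -, hg⟩ h
    obtain ⟨v, hv⟩ : ∃ v, φ v ≠ 0 := by
      by_contra hall
      push Not at hall
      exact hφ (LinearMap.ext hall)
    have h3 := hg v
    rw [h] at h3
    have h4 : φ v • c = 0 := by
      have : v = v + φ v • c := h3
      exact left_eq_add.mp this
    rcases smul_eq_zero.mp h4 with h5 | h5
    · exact hv h5
    · exact hc h5
  -- apply the irreducible theorem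
  have hG : IsSLSp ρ.range := by
    apply hIRR ↥W ρ.range
    · -- generation
      apply le_antisymm
      · rintro g ⟨k, rfl⟩
        obtain ⟨k, hk⟩ := k
        have hk' : k ∈ Subgroup.closure C := by rw [← hK]; exact hk
        have key : ∀ (k : V ≃ₗ[ZMod p] V) (hk' : k ∈ Subgroup.closure C) (hk : k ∈ K),
            ρ ⟨k, hk⟩ ∈ Subgroup.closure {t | t ∈ ρ.range ∧ IsTv t} := by
          intro k hk'
          induction hk' using Subgroup.closure_induction with
          | mem t ht =>
            intro hk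
            exact Subgroup.subset_closure ⟨⟨_, rfl⟩, htv t ht⟩
          | one =>
            intro hk
            have : (⟨1, hk⟩ : ↥K) = 1 := rfl
            rw [this, map_one]
            exact Subgroup.one_mem _
          | mul x y hx hy ihx ihy =>
            intro hk
            have hxK : x ∈ K := by rw [hK]; exact hx
            have hyK : y ∈ K := by rw [hK]; exact hy
            have : (⟨x * y, hk⟩ : ↥K) = ⟨x, hxK⟩ * ⟨y, hyK⟩ := rfl
            rw [this, map_mul]
            exact Subgroup.mul_mem _ (ihx hxK) (ihy hyK)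
          | inv x hx ihx =>
            intro hk
            have hxK : x ∈ K := by rw [hK]; exact hx
            have : (⟨x⁻¹, hk⟩ : ↥K) = (⟨x, hxK⟩ : ↥K)⁻¹ := rfl
            rw [this, map_inv]
            exact Subgroup.inv_mem _ (ihx hxK)
        exact key k hk' hk
      · rw [Subgroup.closure_le]
        rintro g ⟨hg, -⟩
        exact hg
    · -- nontrivial
      intro hbot
      obtain ⟨t, ht⟩ := hC.ne
      have hmem : ρ ⟨t, hCK t ht⟩ ∈ ρ.range := ⟨_, rfl⟩
      rw [hbot, Subgroup.mem_bot] at hmem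
      exact hne1 _ (htv t ht) hmem
    · -- irreducible
      intro U hUinv
      obtain ⟨U', hU'⟩ : ∃ U' : Submodule (ZMod p) V, U' = U.map W.subtype := ⟨_, rfl⟩
      have hU'W : U' ≤ W := by
        rw [hU']
        rintro _ ⟨x, -, rfl⟩
        exact x.2
      have hmemU' : ∀ x : ↥W, (x : V) ∈ U' ↔ x ∈ U := by
        intro x
        rw [hU']
        constructor
        · rintro ⟨y, hy, hyx⟩
          have : y = x := Subtype.ext hyx
          rw [← this]
          exact hy
        · intro hx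
          exact ⟨x, hx, rfl⟩
      have hU'K : ∀ k ∈ K, ∀ u ∈ U', k u ∈ U' := by
        intro k hk u hu
        have huW : u ∈ W := hU'W hu
        have h3 : (⟨u, huW⟩ : ↥W) ∈ U := (hmemU' ⟨u, huW⟩).mp hu
        have h4 := hUinv (ρ ⟨k, hk⟩) ⟨_, rfl⟩ ⟨u, huW⟩ h3
        have h5 := (hmemU' _).mpr h4
        rw [hρa] at h5
        exact h5
      have hU'H := hinvH U' hU'W hU'K
      -- dichotomy
      have hdich : ∀ t ∈ C, (∀ v, t v - v ∈ U') ∨ (∀ u ∈ U', t u = u) := by
        intro t ht
        obtain ⟨d, ψ, hd, hψ, hψd, htx⟩ := hC.tv t ht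
        by_cases hex : ∃ u ∈ U', ψ u ≠ 0
        · left
          obtain ⟨u, hu, hψu⟩ := hex
          have hdU : d ∈ U' := by
            have h3 : d = (ψ u)⁻¹ • (t u - u) := by
              rw [htx u, add_sub_cancel_left, smul_smul, inv_mul_cancel₀ hψu, one_smul]
            rw [h3]
            exact Submodule.smul_mem _ _ (Submodule.sub_mem _ (hU'K t (hCK t ht) u hu) hu)
          intro v
          rw [htx v, add_sub_cancel_left]
          exact Submodule.smul_mem _ _ hdU
        · right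
          push Not at hex
          intro u hu
          rw [htx u, hex u hu, zero_smul, add_zero]
      -- non-commuting generators are of the same kind
      have hsame : ∀ s ∈ C, ∀ t ∈ C, (∀ v, s v - v ∈ U') → ¬ (∀ v, t v - v ∈ U') → Commute s t := by
        intro s hs t ht hin hnin
        obtain ⟨c, φ, hc, hφ, hφc, hsx⟩ := hC.tv s hs
        obtain ⟨d, ψ, hd, hψ, hψd, htx⟩ := hC.tv t ht
        have hout : ∀ u ∈ U', t u = u := (hdich t ht).resolve_left hnin
        have hcU : c ∈ U' := by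
          obtain ⟨v, hv⟩ : ∃ v, φ v ≠ 0 := by
            by_contra hall
            push Not at hall
            exact hφ (LinearMap.ext hall)
          have h3 : c = (φ v)⁻¹ • (s v - v) := by
            rw [hsx v, add_sub_cancel_left, smul_smul, inv_mul_cancel₀ hv, one_smul]
          rw [h3]
          exact Submodule.smul_mem _ _ (hin v)
        have hUψ : ∀ u ∈ U', ψ u = 0 := by
          intro u hu
          have h3 := hout u hu
          rw [htx u] at h3
          have h4 : ψ u • d = 0 := by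
            have : u + ψ u • d = u := h3
            exact add_eq_left.mp this
          rcases smul_eq_zero.mp h4 with h5 | h5
          · exact h5
          · exact absurd h5 hd
        have hφd := helper92_kill H hU U' hU'H s t (hC.sub s hs) (hC.sub t ht) c d φ ψ
          hsx htx hψd hc hψ hcU hUψ
        exact helper92_commute_tv s t c d φ ψ hsx htx hφd (hUψ c hcU)
      obtain ⟨t0, ht0⟩ := hC.ne
      have hconn' : ∀ t, Relation.ReflTransGen (fun a b => a ∈ C ∧ b ∈ C ∧ ¬ Commute a b) t0 t →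
          ((∀ v, t v - v ∈ U') ↔ (∀ v, t0 v - v ∈ U')) := by
        intro t hr
        induction hr with
        | refl => exact Iff.rfl
        | @tail b c0 _ hbc ihb =>
          obtain ⟨hbC, hcC, hnc⟩ := hbc
          constructor
          · intro hcin
            by_contra hb
            have hb' : ¬ (∀ v, b v - v ∈ U') := fun h => hb (ihb.mp h)
            exact hnc (hsame c0 hcC b hbC hcin hb').symm
          · intro h0
            by_contra hcn
            exact hnc (hsame b hbC c0 hcC (ihb.mpr h0) hcn)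
      have hconn : ∀ t ∈ C, ((∀ v, t v - v ∈ U') ↔ (∀ v, t0 v - v ∈ U')) :=
        fun t ht => hconn' t (hC.conn t0 ht0 t ht)
      by_cases hin0 : ∀ v, t0 v - v ∈ U'
      · right
        have hWU : W ≤ U' := by
          rw [hWdef, hK]
          apply helper92_commSub_le
          intro t ht
          exact (hconn t ht).mpr hin0
        rw [eq_top_iff]
        intro x _
        exact (hmemU' x).mp (hWU x.2)
      · left
        have hfix : U' ≤ fixSub K := by
          intro u hu
          rw [hK]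
          apply helper92_mem_fixSub_closure
          intro t ht
          have hnin : ¬ (∀ v, t v - v ∈ U') := fun h => hin0 ((hconn t ht).mp h)
          exact (hdich t ht).resolve_left hnin u hu
        rw [eq_bot_iff]
        intro x hx
        have h3 : (x : V) ∈ W ⊓ fixSub K := ⟨x.2, hfix ((hmemU' x).mpr hx)⟩
        rw [h1, Submodule.mem_bot] at h3
        rw [Submodule.mem_bot]
        exact Subtype.ext h3
  subst hK
  subst hWdef
  exact ⟨h1, h2, ρ, hρa, hG⟩

end Cfsg.Agent.Lib.helper92.McL
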