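import Mathlib
import Cfsg.Agent.Lib.helper92.Extraspecial
import Cfsg.Agent.Lib.helper92.QFun
import Cfsg.Agent.Lib.helper92.Central
import Cfsg.Agent.Lib.helper4.BurnsidePQ
import Cfsg.Agent.Lib.helper27.Layer
import Cfsg.Agent.Lib.helper28.PCores
import Cfsg.Agent.Lib.helper91.BaerSuzuki
import Cfsg.Agent.Lib.helper36.Extraspecial
import Cfsg.Agent.Lib.helper3.SylowLemmas

set_option autoImplicit false

/-!
Groups of order `320` with `O_2(G) = F(G)` extraspecial of order `32` of minus type: the centralizer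
in `O_2(G)` of an outer involution.
-/

namespace Cfsg.Agent.Lib.helper92

/-- Fixed-point congruence for an element of prime order acting on a normal subgroup. -/
theorem card_modEq_card_inf_centralizer {G : Type*} [Group G] [Finite G] (H : Subgroup G)
    [hn : H.Normal] (u : G) (q : ℕ) [Fact q.Prime] (hu : u ^ q = 1) :
    Nat.card H ≡ Nat.card ↥(H ⊓ Subgroup.centralizer ({u} : Set G)) [MOD q] := by
  have hP : IsPGroup q ↥(Subgroup.zpowers (MulAut.conjNormal u : MulAut ↥H)) := by
    rintro ⟨g, hg⟩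
    refine ⟨1, ?_⟩
    obtain ⟨k, rfl⟩ := Subgroup.mem_zpowers_iff.1 hg
    apply Subtype.ext
    rw [pow_one, Subgroup.coe_pow, Subgroup.coe_one]
    show ((MulAut.conjNormal u : MulAut ↥H) ^ k) ^ q = 1
    rw [← zpow_natCast, ← zpow_mul, mul_comm, zpow_mul, zpow_natCast, ← map_pow, hu, map_one,
      one_zpow]
  have h1 := hP.card_modEq_card_fixedPoints ↥H
  have h2 : Nat.card ↥(MulAction.fixedPoints
      ↥(Subgroup.zpowers (MulAut.conjNormal u : MulAut ↥H)) ↥H) =
      Nat.card ↥(H ⊓ Subgroup.centralizer ({u} : Set G)) := by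
    have e1 : ∀ x : ↥H, x ∈ MulAction.fixedPoints
        ↥(Subgroup.zpowers (MulAut.conjNormal u : MulAut ↥H)) ↥H ↔
        x ∈ (H ⊓ Subgroup.centralizer ({u} : Set G)).subgroupOf H := by
      intro x
      rw [Subgroup.mem_subgroupOf, Subgroup.mem_inf, Subgroup.mem_centralizer_singleton_iff]
      constructor
      · intro hx
        have h3 := hx ⟨MulAut.conjNormal u, Subgroup.mem_zpowers _⟩
        have h4 : (MulAut.conjNormal u : MulAut ↥H) x = x := h3
        have h5 : u * (x : G) * u⁻¹ = x := by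
          have := congrArg Subtype.val h4
          rwa [MulAut.conjNormal_apply] at this
        refine ⟨x.2, ?_⟩
        calc (x : G) * u = (u * (x : G) * u⁻¹) * u := by rw [h5]
          _ = u * (x : G) := by group
      · rintro ⟨-, hx⟩
        have h3 : (MulAut.conjNormal u : MulAut ↥H) ∈ MulAction.stabilizer (MulAut ↥H) x := by
          rw [MulAction.mem_stabilizer_iff]
          show (MulAut.conjNormal u : MulAut ↥H) x = x
          apply Subtype.ext
          rw [MulAut.conjNormal_apply, ← hx]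
          group
        have h4 := Subgroup.zpowers_le.2 h3
        intro g
        exact MulAction.mem_stabilizer_iff.1 (h4 g.2)
    rw [← Nat.card_congr (Subgroup.subgroupOfEquivOfLe
      (inf_le_left : H ⊓ Subgroup.centralizer ({u} : Set G) ≤ H)).toEquiv]
    exact Nat.card_congr (Equiv.subtypeEquivRight e1)
  rw [h2] at h1
  exact h1

/-- A cyclic group generated by an element of `p`-power order is a `p`-group. -/
theorem isPGroup_zpowers_of_pow {G : Type*} [Group G] (p : ℕ) {x : G} (n : ℕ)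
    (h : x ^ p ^ n = 1) : IsPGroup p ↥(Subgroup.zpowers x) := by
  rintro ⟨g, hg⟩
  refine ⟨n, ?_⟩
  obtain ⟨k, rfl⟩ := Subgroup.mem_zpowers_iff.1 hg
  apply Subtype.ext
  rw [Subgroup.coe_pow, Subgroup.coe_one]
  show (x ^ k) ^ p ^ n = 1
  rw [← zpow_natCast, ← zpow_mul, mul_comm, zpow_mul, zpow_natCast, h, one_zpow]

/-- Two involutions whose product has `2`-power order generate a `2`-group. -/
theorem isPGroup_closure_pair_of_pow {G : Type*} [Group G] {a b : G} (ha : a * a = 1)
    (hb : b * b = 1) (n : ℕ) (h : (a * b) ^ 2 ^ n = 1) :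
    IsPGroup 2 ↥(Subgroup.closure ({a, b} : Set G)) := by
  have hainv : a⁻¹ = a := inv_eq_of_mul_eq_one_left ha
  have hbinv : b⁻¹ = b := inv_eq_of_mul_eq_one_left hb
  have h1 : IsPGroup 2 ↥(Subgroup.zpowers a) :=
    isPGroup_zpowers_of_pow 2 1 (by rw [pow_one, pow_two, ha])
  have h2 : IsPGroup 2 ↥(Subgroup.zpowers (a * b)) := isPGroup_zpowers_of_pow 2 n h
  have hconj : ∀ x ∈ Subgroup.zpowers (a * b), a * x * a⁻¹ ∈ Subgroup.zpowers (a * b) := by
    intro x hx
    obtain ⟨k, rfl⟩ := Subgroup.mem_zpowers_iff.1 hx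
    have e : a * (a * b) ^ k * a⁻¹ = ((a * b)⁻¹) ^ k := by
      have e1 : a * (a * b) ^ k * a⁻¹ = (a * (a * b) * a⁻¹) ^ k := by
        rw [conj_zpow]
      rw [e1]
      congr 1
      rw [mul_inv_rev, hainv, hbinv]
      calc a * (a * b) * a = (a * a) * b * a := by group
        _ = b * a := by rw [ha, one_mul]
    rw [e]
    exact Subgroup.zpow_mem _ (Subgroup.inv_mem _ (Subgroup.mem_zpowers _)) k
  have h3 : Subgroup.zpowers a ≤ Subgroup.normalizer (Subgroup.zpowers (a * b) : Set G) := by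
    rw [Subgroup.zpowers_le, Subgroup.mem_normalizer_iff]
    intro x
    refine ⟨hconj x, fun hx => ?_⟩
    have := hconj _ hx
    have e : a * (a * x * a⁻¹) * a⁻¹ = x := by
      rw [hainv]
      calc a * (a * x * a) * a = (a * a) * x * (a * a) := by group
        _ = x := by rw [ha, one_mul, mul_one]
    rwa [e] at this
  have h4 := IsPGroup.to_sup_of_normal_right' h1 h2 h3
  refine h4.to_le ?_
  rw [Subgroup.closure_le]
  intro x hx
  rcases hx with rfl | hx
  · exact (le_sup_left : Subgroup.zpowers x ≤ _) (Subgroup.mem_zpowers x)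
  · rw [Set.mem_singleton_iff] at hx
    subst hx
    have e : x = a⁻¹ * (a * x) := by group
    have m1 : a⁻¹ ∈ Subgroup.zpowers a ⊔ Subgroup.zpowers (a * x) :=
      (le_sup_left : Subgroup.zpowers a ≤ Subgroup.zpowers a ⊔ Subgroup.zpowers (a * x))
        (Subgroup.inv_mem _ (Subgroup.mem_zpowers a))
    have m2 : a * x ∈ Subgroup.zpowers a ⊔ Subgroup.zpowers (a * x) :=
      (le_sup_right : Subgroup.zpowers (a * x) ≤ Subgroup.zpowers a ⊔ Subgroup.zpowers (a * x))
        (Subgroup.mem_zpowers _)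
    have m3 := Subgroup.mul_mem _ m1 m2
    rw [← e] at m3
    exact m3

/-- The setting: `H` a normal extraspecial subgroup of order `32` with centre `⟨z⟩` in a group of
order `320` with `C_G(H) ≤ H`, containing every normal `2`-subgroup. -/
structure M32 {G : Type*} [Group G] (H : Subgroup G) (z : G) : Prop where
  normal : H.Normal
  qd : QData H z
  zc : ∀ g : G, g * z = z * g
  card : Nat.card H = 32
  cardG : Nat.card G = 320
  cent : Subgroup.centralizer (H : Set G) ≤ H
  maxl : ∀ N : Subgroup G, N.Normal → IsPGroup 2 N → N ≤ H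

theorem card_zpowers_invol {G : Type*} [Group G] {z : G} (hzz : z * z = 1) (hz1 : z ≠ 1) :
    Nat.card (Subgroup.zpowers z) = 2 := by
  rw [Nat.card_zpowers]
  exact orderOf_eq_prime (by rw [pow_two]; exact hzz) hz1

/-- An element of order `5` centralizes only the centre of `H`. -/
theorem M32.cent_five {G : Type*} [Group G] [Finite G] {H : Subgroup G} {z : G} (m : M32 H z)
    {u : G} (hu : u ^ 5 = 1) (hu1 : u ≠ 1) {h : G} (hh : h ∈ H) (hc : u * h = h * u) :
    h = 1 ∨ h = z := by
  have hn := m.normal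
  have : Fact (Nat.Prime 5) := ⟨by norm_num⟩
  have h1 := card_modEq_card_inf_centralizer H u 5 hu
  rw [m.card] at h1
  have hdvd : Nat.card ↥(H ⊓ Subgroup.centralizer ({u} : Set G)) ∣ 2 ^ 5 := by
    have := Subgroup.card_dvd_of_le (inf_le_left : H ⊓ Subgroup.centralizer ({u} : Set G) ≤ H)
    rw [m.card] at this
    exact this
  have hzC : Subgroup.zpowers z ≤ H ⊓ Subgroup.centralizer ({u} : Set G) := by
    rw [Subgroup.zpowers_le, Subgroup.mem_inf, Subgroup.mem_centralizer_singleton_iff]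
    exact ⟨m.qd.mem, (m.zc u).symm⟩
  have hz2 : Nat.card (Subgroup.zpowers z) = 2 := card_zpowers_invol m.qd.sq m.qd.ne_one
  have hcases : Nat.card ↥(H ⊓ Subgroup.centralizer ({u} : Set G)) = 2 ∨
      Nat.card ↥(H ⊓ Subgroup.centralizer ({u} : Set G)) = 32 := by
    obtain ⟨k, hk, hk'⟩ := (Nat.dvd_prime_pow Nat.prime_two).1 hdvd
    rw [hk'] at h1 ⊢
    unfold Nat.ModEq at h1
    interval_cases k <;> simp_all
  rcases hcases with h2 | h2
  · have e := Subgroup.eq_of_le_of_card_ge hzC (by rw [h2, hz2])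
    have hm : h ∈ H ⊓ Subgroup.centralizer ({u} : Set G) :=
      Subgroup.mem_inf.2 ⟨hh, Subgroup.mem_centralizer_singleton_iff.2 hc.symm⟩
    rw [← e] at hm
    exact (mem_zpowers_invol m.qd.sq h).1 hm
  · exfalso
    have hCH : H ⊓ Subgroup.centralizer ({u} : Set G) = H :=
      Subgroup.eq_of_le_of_card_ge inf_le_left (by rw [h2, m.card])
    have huC : u ∈ Subgroup.centralizer (H : Set G) := by
      rw [Subgroup.mem_centralizer_iff]
      intro x hx
      have hx' : x ∈ H ⊓ Subgroup.centralizer ({u} : Set G) := by rw [hCH]; exact hx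
      exact Subgroup.mem_centralizer_singleton_iff.1 (Subgroup.mem_inf.1 hx').2
    have huH := m.cent huC
    have h4 := m.qd.pow_four u huH
    apply hu1
    calc u = u ^ 5 * (u ^ 4)⁻¹ := by group
      _ = 1 := by rw [hu, h4]; simp

/-- The subgroup of `H` of elements centralized by `X` modulo the central involution `z`. -/
def modCent {G : Type*} [Group G] (H : Subgroup G) (z : G) (hzc : ∀ g : G, g * z = z * g)
    (hzz : z * z = 1) (X : G) : Subgroup G where
  carrier := {h | h ∈ H ∧ (X * h * X⁻¹ = h ∨ X * h * X⁻¹ = z * h)}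
  mul_mem' := by
    rintro a b ⟨ha, ha'⟩ ⟨hb, hb'⟩
    refine ⟨H.mul_mem ha hb, ?_⟩
    have e : X * (a * b) * X⁻¹ = (X * a * X⁻¹) * (X * b * X⁻¹) := by group
    rw [e]
    rcases ha' with ha' | ha' <;> rcases hb' with hb' | hb' <;> rw [ha', hb']
    · left; rfl
    · right
      calc a * (z * b) = (a * z) * b := by group
        _ = z * (a * b) := by rw [hzc a]; group
    · right; group
    · left
      calc z * a * (z * b) = z * (a * z) * b := by group
        _ = (z * z) * a * b := by rw [hzc a]; group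
        _ = a * b := by rw [hzz, one_mul]
  one_mem' := ⟨H.one_mem, Or.inl (by group)⟩
  inv_mem' := by
    rintro a ⟨ha, ha'⟩
    refine ⟨H.inv_mem ha, ?_⟩
    have e : X * a⁻¹ * X⁻¹ = (X * a * X⁻¹)⁻¹ := by group
    rw [e]
    rcases ha' with ha' | ha' <;> rw [ha']
    · left; rfl
    · right
      have hzinv : z⁻¹ = z := inv_eq_of_mul_eq_one_left hzz
      rw [mul_inv_rev, hzinv]
      exact hzc a⁻¹

theorem mem_modCent {G : Type*} [Group G] {H : Subgroup G} {z : G}
    {hzc : ∀ g : G, g * z = z * g} {hzz : z * z = 1} {X h : G} :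
    h ∈ modCent H z hzc hzz X ↔ h ∈ H ∧ (X * h * X⁻¹ = h ∨ X * h * X⁻¹ = z * h) := Iff.rfl

/-- The subgroup of elements centralizing `h` modulo the central involution `z`. -/
def modStab {G : Type*} [Group G] (z : G) (hzc : ∀ g : G, g * z = z * g) (hzz : z * z = 1)
    (h : G) : Subgroup G where
  carrier := {x | x * h * x⁻¹ = h ∨ x * h * x⁻¹ = z * h}
  mul_mem' := by
    rintro a b ha hb
    have e : (a * b) * h * (a * b)⁻¹ = a * (b * h * b⁻¹) * a⁻¹ := by group
    show (a * b) * h * (a * b)⁻¹ = h ∨ (a * b) * h * (a * b)⁻¹ = z * h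
    rw [e]
    rcases hb with hb | hb <;> rw [hb]
    · exact ha
    · have e2 : a * (z * h) * a⁻¹ = z * (a * h * a⁻¹) := by
        calc a * (z * h) * a⁻¹ = (a * z) * h * a⁻¹ := by group
          _ = z * (a * h * a⁻¹) := by rw [hzc a]; group
      rw [e2]
      rcases ha with ha | ha <;> rw [ha]
      · right; rfl
      · left
        calc z * (z * h) = (z * z) * h := by group
          _ = h := by rw [hzz, one_mul]
  one_mem' := Or.inl (by group)
  inv_mem' := by
    rintro a ha
    show a⁻¹ * h * a⁻¹⁻¹ = h ∨ a⁻¹ * h * a⁻¹⁻¹ = z * h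
    rcases ha with ha | ha
    · left
      calc a⁻¹ * h * a⁻¹⁻¹ = a⁻¹ * (a * h * a⁻¹) * a := by rw [ha]; group
        _ = h := by group
    · right
      have hzinv : z⁻¹ = z := inv_eq_of_mul_eq_one_left hzz
      have e1 : a⁻¹ * (z * h) * a = h := by rw [← ha]; group
      calc a⁻¹ * h * a⁻¹⁻¹ = z⁻¹ * (a⁻¹ * z) * h * a := by rw [hzc a⁻¹]; group
        _ = z⁻¹ * (a⁻¹ * (z * h) * a) := by group
        _ = z * h := by rw [e1, hzinv]

theorem card_modCent_conj {G : Type*} [Group G] {H : Subgroup G} [hn : H.Normal] {z : G}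
    (hzc : ∀ g : G, g * z = z * g) (hzz : z * z = 1) (X g : G) :
    Nat.card (modCent H z hzc hzz (g * X * g⁻¹)) = Nat.card (modCent H z hzc hzz X) := by
  have e : modCent H z hzc hzz (g * X * g⁻¹) =
      (modCent H z hzc hzz X).map (MulAut.conj g).toMonoidHom := by
    ext x
    rw [mem_map_conj_iff, mem_modCent, mem_modCent]
    have hH : x ∈ H ↔ g⁻¹ * x * g ∈ H := by
      constructor
      · intro h
        have := hn.conj_mem x h g⁻¹
        simpa using this
      · intro h
        have := hn.conj_mem _ h g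
        have e : g * (g⁻¹ * x * g) * g⁻¹ = x := by group
        rwa [e] at this
    have h1 : (g * X * g⁻¹) * x * (g * X * g⁻¹)⁻¹ = x ↔
        X * (g⁻¹ * x * g) * X⁻¹ = g⁻¹ * x * g := by
      constructor
      · intro h
        calc X * (g⁻¹ * x * g) * X⁻¹ = g⁻¹ * ((g * X * g⁻¹) * x * (g * X * g⁻¹)⁻¹) * g := by group
          _ = g⁻¹ * x * g := by rw [h]
      · intro h
        calc (g * X * g⁻¹) * x * (g * X * g⁻¹)⁻¹ = g * (X * (g⁻¹ * x * g) * X⁻¹) * g⁻¹ := by group
          _ = x := by rw [h]; group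
    have h2 : (g * X * g⁻¹) * x * (g * X * g⁻¹)⁻¹ = z * x ↔
        X * (g⁻¹ * x * g) * X⁻¹ = z * (g⁻¹ * x * g) := by
      constructor
      · intro h
        calc X * (g⁻¹ * x * g) * X⁻¹ = g⁻¹ * ((g * X * g⁻¹) * x * (g * X * g⁻¹)⁻¹) * g := by group
          _ = g⁻¹ * (z * x) * g := by rw [h]
          _ = (g⁻¹ * z) * x * g := by group
          _ = z * (g⁻¹ * x * g) := by rw [hzc g⁻¹]; group
      · intro h
        calc (g * X * g⁻¹) * x * (g * X * g⁻¹)⁻¹ = g * (X * (g⁻¹ * x * g) * X⁻¹) * g⁻¹ := by group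
          _ = g * (z * (g⁻¹ * x * g)) * g⁻¹ := by rw [h]
          _ = (g * z) * g⁻¹ * x := by group
          _ = z * x := by rw [hzc g]; group
    exact and_congr hH (or_congr h1 h2)
  rw [e]
  exact Subgroup.card_map_of_injective (MulAut.conj g).injective

/-- If the product of `T₁` and `T₂` has order divisible by `5`, the two mod-centre centralizers
meet in the centre. -/
theorem M32.modCent_inf_le {G : Type*} [Group G] [Finite G] {H : Subgroup G} {z : G}
    (m : M32 H z) {T₁ T₂ : G} (hw : (T₁ * T₂) ^ 64 ≠ 1) :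
    modCent H z m.zc m.qd.sq T₁ ⊓ modCent H z m.zc m.qd.sq T₂ ≤ Subgroup.zpowers z := by
  intro h hh
  rw [Subgroup.mem_inf, mem_modCent, mem_modCent] at hh
  obtain ⟨⟨hH, h1⟩, ⟨-, h2⟩⟩ := hh
  have m1 : T₁ ∈ modStab z m.zc m.qd.sq h := h1
  have m2 : T₂ ∈ modStab z m.zc m.qd.sq h := h2
  have m3 : (T₁ * T₂) ^ 64 ∈ modStab z m.zc m.qd.sq h :=
    Subgroup.pow_mem _ (Subgroup.mul_mem _ m1 m2) 64
  have hu5 : ((T₁ * T₂) ^ 64) ^ 5 = 1 := by
    rw [← pow_mul]
    have := pow_card_eq_one' (G := G) (x := T₁ * T₂)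
    rw [m.cardG] at this
    exact this
  generalize (T₁ * T₂) ^ 64 = u at hw m3 hu5
  have hcomm : u * h = h * u := by
    rcases m3 with h3 | h3
    · calc u * h = (u * h * u⁻¹) * u := by group
        _ = h * u := by rw [h3]
    · have e1 : u * h = z * h * u := by
        calc u * h = (u * h * u⁻¹) * u := by group
          _ = z * h * u := by rw [h3]
      have e2 : Commute (u * u) h := by
        show (u * u) * h = h * (u * u)
        calc (u * u) * h = u * (u * h) := by group
          _ = u * (z * h * u) := by rw [e1]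
          _ = (u * z) * h * u := by group
          _ = z * (u * h) * u := by rw [m.zc u]; group
          _ = z * (z * h * u) * u := by rw [e1]
          _ = (z * z) * h * (u * u) := by group
          _ = h * (u * u) := by rw [m.qd.sq, one_mul]
      have e6 : (u * u) ^ 3 = u := by
        have e7 : (u * u) ^ 3 = u ^ 5 * u := by
          rw [← pow_two, ← pow_mul, ← pow_succ]
        rw [e7, hu5, one_mul]
      have e3 := Commute.pow_left e2 3
      rw [e6] at e3
      exact e3.eq
  rw [mem_zpowers_invol m.qd.sq]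
  exact m.cent_five hu5 hw hH hcomm

/-- Baer–Suzuki bound: the mod-centre centralizer of an outer involution has order at most `8`. -/
theorem M32.card_modCent_le {G : Type*} [Group G] [Finite G] {H : Subgroup G} {z : G}
    (m : M32 H z) {T : G} (hTT : T * T = 1) (hTH : T ∉ H) :
    Nat.card (modCent H z m.zc m.qd.sq T) ≤ 8 := by
  have hn := m.normal
  have : Fact (Nat.Prime 2) := ⟨Nat.prime_two⟩
  have hex : ∃ a b : G, ((a * T * a⁻¹) * (b * T * b⁻¹)) ^ 64 ≠ 1 := by
    by_contra hcon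
    push Not at hcon
    have hconj : ∀ g : G, ∀ x ∈ {x : G | ∃ a : G, x = a * T * a⁻¹},
        g * x * g⁻¹ ∈ {x : G | ∃ a : G, x = a * T * a⁻¹} := by
      rintro g x ⟨a, rfl⟩
      exact ⟨g * a, by group⟩
    have h2 : ∀ x ∈ {x : G | ∃ a : G, x = a * T * a⁻¹},
        ∀ y ∈ {x : G | ∃ a : G, x = a * T * a⁻¹},
        IsPGroup 2 (Subgroup.closure ({x, y} : Set G)) := by
      rintro x ⟨a, rfl⟩ y ⟨b, rfl⟩
      have e : ∀ c : G, (c * T * c⁻¹) * (c * T * c⁻¹) = 1 := by
        intro c
        calc (c * T * c⁻¹) * (c * T * c⁻¹) = c * (T * T) * c⁻¹ := by group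
          _ = 1 := by rw [hTT]; group
      have e64 : (2 : ℕ) ^ 6 = 64 := by norm_num
      exact isPGroup_closure_pair_of_pow (e a) (e b) 6 (by rw [e64]; exact hcon a b)
    have h3 := Cfsg.Agent.Lib.helper91.baer_suzuki _ hconj h2
    have h4 := Cfsg.Agent.Lib.helper91.closure_normal_of_conj _ hconj
    have h5 := m.maxl _ h4 h3
    apply hTH
    apply h5
    apply Subgroup.subset_closure
    exact ⟨1, by group⟩
  obtain ⟨a, b, hab⟩ := hex
  have hB := m.modCent_inf_le hab
  have c1 := card_modCent_conj (H := H) m.zc m.qd.sq T a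
  have c2 := card_modCent_conj (H := H) m.zc m.qd.sq T b
  have r : (modCent H z m.zc m.qd.sq (a * T * a⁻¹) ⊓
      modCent H z m.zc m.qd.sq (b * T * b⁻¹)).relIndex H ≤
      (modCent H z m.zc m.qd.sq (a * T * a⁻¹)).relIndex H *
      (modCent H z m.zc m.qd.sq (b * T * b⁻¹)).relIndex H := Subgroup.relIndex_inf_le
  have le1 : modCent H z m.zc m.qd.sq (a * T * a⁻¹) ≤ H := fun x hx => hx.1
  have le2 : modCent H z m.zc m.qd.sq (b * T * b⁻¹) ≤ H := fun x hx => hx.1
  have k1 := Cfsg.Agent.Lib.helper3.card_mul_relIndex_of_le le1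
  have k2 := Cfsg.Agent.Lib.helper3.card_mul_relIndex_of_le le2
  have k3 := Cfsg.Agent.Lib.helper3.card_mul_relIndex_of_le
    ((inf_le_left : modCent H z m.zc m.qd.sq (a * T * a⁻¹) ⊓
      modCent H z m.zc m.qd.sq (b * T * b⁻¹) ≤ _).trans le1)
  have hz2 : Nat.card (Subgroup.zpowers z) = 2 := card_zpowers_invol m.qd.sq m.qd.ne_one
  have k4 := Subgroup.card_le_of_le hB
  rw [hz2] at k4
  rw [m.card] at k1 k2 k3
  rw [c1] at k1
  rw [c2] at k2
  generalize Nat.card ↥(modCent H z m.zc m.qd.sq T) = d at k1 k2 ⊢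
  generalize (modCent H z m.zc m.qd.sq (a * T * a⁻¹)).relIndex H = r₁ at k1 r
  generalize (modCent H z m.zc m.qd.sq (b * T * b⁻¹)).relIndex H = r₂ at k2 r
  generalize (modCent H z m.zc m.qd.sq (a * T * a⁻¹) ⊓
      modCent H z m.zc m.qd.sq (b * T * b⁻¹)).relIndex H = r₃ at k3 r
  generalize Nat.card ↥(modCent H z m.zc m.qd.sq (a * T * a⁻¹) ⊓
      modCent H z m.zc m.qd.sq (b * T * b⁻¹) : Subgroup G) = c at k3 k4
  by_contra hd
  push Not at hd
  have hr1 : r₁ ≤ 3 := by
    by_contra h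
    push Not at h
    nlinarith
  have hr2 : r₂ ≤ 3 := by
    by_contra h
    push Not at h
    nlinarith
  have h9 : r₁ * r₂ ≤ 3 * 3 := Nat.mul_le_mul hr1 hr2
  have h18 : c * r₃ ≤ 2 * (3 * 3) := Nat.mul_le_mul k4 (r.trans h9)
  omega

/-- If `T` centralizes the whole mod-centre centralizer `D` of order `8`, then `D` has
exponent `2`. -/
theorem M32.sq_of_cent {G : Type*} [Group G] [Finite G] {H : Subgroup G} {z : G} (m : M32 H z)
    {T : G} (hTT : T * T = 1) (hDc : Nat.card (modCent H z m.zc m.qd.sq T) = 8)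
    (hcentD : ∀ d ∈ modCent H z m.zc m.qd.sq T, T * d * T⁻¹ = d) :
    ∀ d ∈ modCent H z m.zc m.qd.sq T, d * d = 1 := by
  have hn := m.normal
  have hTinv : T⁻¹ = T := inv_eq_of_mul_eq_one_left hTT
  have hzinv : z⁻¹ = z := inv_eq_of_mul_eq_one_left m.qd.sq
  have hZn : (Subgroup.zpowers z).Normal := by
    refine ⟨fun n hn g => ?_⟩
    have e : g * n * g⁻¹ = n := by
      rcases (mem_zpowers_invol m.qd.sq n).1 hn with rfl | rfl
      · group
      · rw [m.zc g]; group
    rw [e]
    exact hn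
  have hconjH : ∀ y ∈ H, T * y * T⁻¹ ∈ H := fun y hy => m.normal.conj_mem y hy T
  have hTm : ∀ y : G, T * (y * (T * y * T⁻¹)) * T⁻¹ = (T * y * T⁻¹) * y := by
    intro y
    rw [hTinv]
    calc T * (y * (T * y * T)) * T = (T * y * T) * y * (T * T) := by group
      _ = (T * y * T) * y := by rw [hTT, mul_one]
  have hmD : ∀ y ∈ H, y * (T * y * T⁻¹) ∈ modCent H z m.zc m.qd.sq T := by
    intro y hy
    refine ⟨H.mul_mem hy (hconjH y hy), ?_⟩
    rw [hTm y]
    rcases m.qd.conj_eq_or (hconjH y hy) hy with h1 | h1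
    · left
      calc (T * y * T⁻¹) * y = ((T * y * T⁻¹) * y * (T * y * T⁻¹)⁻¹) * (T * y * T⁻¹) := by group
        _ = y * (T * y * T⁻¹) := by rw [h1]
    · right
      calc (T * y * T⁻¹) * y = ((T * y * T⁻¹) * y * (T * y * T⁻¹)⁻¹) * (T * y * T⁻¹) := by group
        _ = z * (y * (T * y * T⁻¹)) := by rw [h1]; group
  have hmsq : ∀ y ∈ H, (y * (T * y * T⁻¹)) * (y * (T * y * T⁻¹)) = 1 := by
    intro y hy
    have h1 := hcentD _ (hmD y hy)
    have hc : (T * y * T⁻¹) * y = y * (T * y * T⁻¹) := (hTm y).symm.trans h1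
    have hy2 : T * (y * y) * T⁻¹ = y * y := by
      rcases (mem_zpowers_invol m.qd.sq _).1 (m.qd.sqmem y hy) with h | h
      · rw [h]; group
      · rw [h, m.zc T]; group
    calc (y * (T * y * T⁻¹)) * (y * (T * y * T⁻¹))
        = y * ((T * y * T⁻¹) * y) * (T * y * T⁻¹) := by group
      _ = y * (y * (T * y * T⁻¹)) * (T * y * T⁻¹) := by rw [hc]
      _ = (y * y) * (T * (y * y) * T⁻¹) := by group
      _ = (y * y) * (y * y) := by rw [hy2]
      _ = y ^ 4 := by rw [show (4 : ℕ) = 2 * 2 from rfl, pow_mul, pow_two, pow_two]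
      _ = 1 := m.qd.pow_four y hy
  obtain ⟨μ, hμ⟩ : ∃ μ : ↥H →* G ⧸ Subgroup.zpowers z, ∀ y : ↥H,
      μ y = (QuotientGroup.mk ((y : G) * (T * (y : G) * T⁻¹)) : G ⧸ Subgroup.zpowers z) := by
    refine ⟨MonoidHom.mk' (fun y : ↥H =>
      (QuotientGroup.mk ((y : G) * (T * (y : G) * T⁻¹)) : G ⧸ Subgroup.zpowers z)) ?_,
      fun y => rfl⟩
    intro a b
    rw [← QuotientGroup.mk_mul, QuotientGroup.eq]
    have h1 := m.qd.comm (T * (a : G) * T⁻¹)⁻¹ (H.inv_mem (hconjH _ a.2)) (b : G)⁻¹
      (H.inv_mem b.2)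
    have h2 := hZn.conj_mem _ h1 (T * (b : G) * T⁻¹)⁻¹
    convert h2 using 1
    rw [Subgroup.coe_mul]
    group
  have hker : μ.ker ≤ (modCent H z m.zc m.qd.sq T).subgroupOf H := by
    intro y hy
    rw [MonoidHom.mem_ker, hμ, QuotientGroup.eq_one_iff, mem_zpowers_invol m.qd.sq] at hy
    rw [Subgroup.mem_subgroupOf]
    refine ⟨y.2, ?_⟩
    have hyy := (mem_zpowers_invol m.qd.sq _).1 (m.qd.sqmem (y : G) y.2)
    have e : T * (y : G) * T⁻¹ = (y : G)⁻¹ * ((y : G) * (T * (y : G) * T⁻¹)) := by group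
    have hinv : (y : G)⁻¹ = y ∨ (y : G)⁻¹ = z * y := by
      rcases hyy with h | h
      · left; exact inv_eq_of_mul_eq_one_left h
      · right
        calc (y : G)⁻¹ = ((y : G) * y)⁻¹ * y := by group
          _ = z * y := by rw [h, hzinv]
    rw [e]
    rcases hy with hy | hy <;> rw [hy] <;> rcases hinv with hi | hi <;> rw [hi]
    · left; group
    · right; group
    · right
      exact m.zc _
    · left
      calc z * (y : G) * z = z * ((y : G) * z) := by group
        _ = (z * z) * y := by rw [m.zc]; group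
        _ = y := by rw [m.qd.sq, one_mul]
  have hDH : modCent H z m.zc m.qd.sq T ≤ H := fun x hx => hx.1
  have c1 : Nat.card μ.ker ≤ 8 := by
    have h1 := Subgroup.card_le_of_le hker
    have e2 : Nat.card ((modCent H z m.zc m.qd.sq T).subgroupOf H) =
        Nat.card (modCent H z m.zc m.qd.sq T) :=
      Nat.card_congr (Subgroup.subgroupOfEquivOfLe hDH).toEquiv
    omega
  have c2 : Nat.card μ.ker * μ.ker.index = 32 := by
    rw [Subgroup.card_mul_index]
    exact m.card
  have c3 : μ.ker.index = Nat.card μ.range := Subgroup.index_ker μ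
  have hzD : Subgroup.zpowers z ≤ modCent H z m.zc m.qd.sq T := by
    rw [Subgroup.zpowers_le]
    exact ⟨m.qd.mem, Or.inl (by rw [m.zc T]; group)⟩
  have c4 := Cfsg.Agent.Lib.helper36.card_eq_card_map_mk'_mul (Subgroup.zpowers z)
    (modCent H z m.zc m.qd.sq T) hzD
  have hz2 : Nat.card (Subgroup.zpowers z) = 2 := card_zpowers_invol m.qd.sq m.qd.ne_one
  rw [hDc, hz2] at c4
  have hrange : μ.range ≤
      (modCent H z m.zc m.qd.sq T).map (QuotientGroup.mk' (Subgroup.zpowers z)) := by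
    rintro _ ⟨y, rfl⟩
    rw [hμ]
    exact ⟨_, hmD y y.2, rfl⟩
  have heq : μ.range =
      (modCent H z m.zc m.qd.sq T).map (QuotientGroup.mk' (Subgroup.zpowers z)) := by
    apply Subgroup.eq_of_le_of_card_ge hrange
    have h4 : 4 ≤ μ.ker.index := by
      by_contra h
      push Not at h
      have h5 : Nat.card μ.ker * μ.ker.index ≤ 8 * 3 := Nat.mul_le_mul c1 (by omega)
      omega
    omega
  have key : ∀ M : G, M * M = 1 → ∀ d : G, (M⁻¹ * d = 1 ∨ M⁻¹ * d = z) → d * d = 1 := by
    intro M hM d hd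
    rcases hd with h | h
    · have e : d = M := by
        calc d = M * (M⁻¹ * d) := by group
          _ = M := by rw [h, mul_one]
      rw [e]
      exact hM
    · have e : d = M * z := by
        calc d = M * (M⁻¹ * d) := by group
          _ = M * z := by rw [h]
      rw [e]
      calc M * z * (M * z) = M * (z * M) * z := by group
        _ = M * (M * z) * z := by rw [← m.zc M]
        _ = (M * M) * (z * z) := by group
        _ = 1 := by rw [hM, m.qd.sq, one_mul]
  intro d hd
  have hd' : (QuotientGroup.mk' (Subgroup.zpowers z)) d ∈ μ.range := by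
    rw [heq]
    exact ⟨d, hd, rfl⟩
  obtain ⟨y, hy⟩ := hd'
  rw [hμ] at hy
  have hy' : ((y : G) * (T * (y : G) * T⁻¹))⁻¹ * d ∈ Subgroup.zpowers z := QuotientGroup.eq.1 hy
  rw [mem_zpowers_invol m.qd.sq] at hy'
  exact key _ (hmsq y y.2) d hy'

/-- The main result in the abstract setting. -/
theorem M32.main {G : Type*} [Group G] [Finite G] {H : Subgroup G} {z : G} (m : M32 H z)
    (hminus : ∀ A : Subgroup G, A ≤ H → Cfsg.IsElementaryAbelian 2 A → Nat.card ↥A ≤ 4)
    {T : G} (hTT : T * T = 1) (hTH : T ∉ H)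
    (V : Subgroup G) (hV : V ≤ H ⊓ Subgroup.centralizer ({T} : Set G)) (hV4 : Nat.card ↥V = 4)
    (hVe : Cfsg.IsElementaryAbelian 2 V) :
    Nat.card ↥(H ⊓ Subgroup.centralizer ({T} : Set G)) = 4 ∧
      Cfsg.IsElementaryAbelian 2 (H ⊓ Subgroup.centralizer ({T} : Set G)) := by
  have hn := m.normal
  have hD8 := m.card_modCent_le hTT hTH
  have hTinv : T⁻¹ = T := inv_eq_of_mul_eq_one_left hTT
  have hCD : H ⊓ Subgroup.centralizer ({T} : Set G) ≤ modCent H z m.zc m.qd.sq T := by
    intro x hx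
    rw [Subgroup.mem_inf, Subgroup.mem_centralizer_singleton_iff] at hx
    refine ⟨hx.1, Or.inl ?_⟩
    calc T * x * T⁻¹ = (x * T) * T⁻¹ := by rw [hx.2]
      _ = x := by group
  have d1 : 4 ∣ Nat.card ↥(H ⊓ Subgroup.centralizer ({T} : Set G)) := by
    have := Subgroup.card_dvd_of_le hV
    rwa [hV4] at this
  have d2 : Nat.card ↥(H ⊓ Subgroup.centralizer ({T} : Set G)) ∣ 32 := by
    have := Subgroup.card_dvd_of_le (inf_le_left : H ⊓ Subgroup.centralizer ({T} : Set G) ≤ H)
    rwa [m.card] at this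
  have d3 : Nat.card ↥(H ⊓ Subgroup.centralizer ({T} : Set G)) ≤
      Nat.card (modCent H z m.zc m.qd.sq T) := Subgroup.card_le_of_le hCD
  have hcases : Nat.card ↥(H ⊓ Subgroup.centralizer ({T} : Set G)) = 4 ∨
      Nat.card ↥(H ⊓ Subgroup.centralizer ({T} : Set G)) = 8 := by
    obtain ⟨k, hk⟩ := d1
    have hpos : 0 < Nat.card ↥(H ⊓ Subgroup.centralizer ({T} : Set G)) := Nat.card_pos
    omega
  rcases hcases with h4 | h8
  · have e := Subgroup.eq_of_le_of_card_ge hV (by rw [h4, hV4])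
    rw [← e]
    exact ⟨hV4, hVe⟩
  · exfalso
    have e : H ⊓ Subgroup.centralizer ({T} : Set G) = modCent H z m.zc m.qd.sq T :=
      Subgroup.eq_of_le_of_card_ge hCD (by rw [h8]; exact hD8)
    have hDc : Nat.card (modCent H z m.zc m.qd.sq T) = 8 := by
      rw [← e]
      exact h8
    have hcentD : ∀ d ∈ modCent H z m.zc m.qd.sq T, T * d * T⁻¹ = d := by
      intro d hd
      rw [← e, Subgroup.mem_inf, Subgroup.mem_centralizer_singleton_iff] at hd
      calc T * d * T⁻¹ = (d * T) * T⁻¹ := by rw [hd.2]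
        _ = d := by group
    have hsq := m.sq_of_cent hTT hDc hcentD
    have hEA : Cfsg.IsElementaryAbelian 2 (modCent H z m.zc m.qd.sq T) := by
      refine ⟨?_, fun a ha => by rw [pow_two]; exact hsq a ha⟩
      rw [isMulCommutative_iff_of_setLike]
      intro a ha b hb
      have h1 := hsq a ha
      have h2 := hsq b hb
      have h3 := hsq (a * b) (Subgroup.mul_mem _ ha hb)
      symm
      calc b * a = (a * a) * (b * a) * (b * b) := by rw [h1, h2]; group
        _ = a * ((a * b) * (a * b)) * b := by group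
        _ = a * b := by rw [h3]; group
    have hDH : modCent H z m.zc m.qd.sq T ≤ H := fun x hx => hx.1
    have h5 := hminus _ hDH hEA
    omega

/-- The concrete hypotheses give the abstract setting. -/
theorem exists_m32 {G : Type*} [Group G] [Finite G]
    (hG : Nat.card G = 320) (hHF : Cfsg.pCore 2 G = Cfsg.fittingSubgroup G)
    (hex : Cfsg.IsExtraspecial 2 ↥(Cfsg.pCore 2 G)) (h32 : Nat.card ↥(Cfsg.pCore 2 G) = 32) :
    ∃ z : G, M32 (Cfsg.pCore 2 G) z := by
  have hn : (Cfsg.pCore 2 G).Normal := Cfsg.Agent.Lib.helper40.pCore_normal' 2 G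
  have hsolv : Group.IsSolvable G :=
    Cfsg.Agent.Lib.helper4.isSolvable_of_card_eq_prime_pow_mul_prime_pow 2 5 6 1 Nat.prime_two
      (by norm_num) (by rw [hG]; norm_num)
  have hlayer : Cfsg.layer G = ⊥ := Cfsg.Agent.Lib.helper27.layer_eq_bot_of_isSolvable
  have hcent : Subgroup.centralizer (Cfsg.pCore 2 G : Set G) ≤ Cfsg.pCore 2 G := by
    have h1 := Cfsg.Agent.Lib.helper28.centralizer_fittingSubgroup_le_iff.2 hlayer
    rw [← hHF] at h1
    exact h1
  have hL2 : Subgroup.centralizer (Cfsg.pCore 2 G : Set G) =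
      (Subgroup.center ↥(Cfsg.pCore 2 G)).map (Cfsg.pCore 2 G).subtype := by
    ext x
    rw [mem_center_map_iff, Subgroup.mem_centralizer_iff]
    constructor
    · intro hx
      exact ⟨hcent (Subgroup.mem_centralizer_iff.2 hx), hx⟩
    · intro hx
      exact hx.2
  have hL3 : Subgroup.centralizer
      (((Subgroup.center ↥(Cfsg.pCore 2 G)).map (Cfsg.pCore 2 G).subtype) : Set G) ≤
      Subgroup.normalizer (Cfsg.pCore 2 G : Set G) := by
    intro x _
    rw [Subgroup.mem_normalizer_iff]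
    intro h
    refine ⟨fun hh => hn.conj_mem h hh x, fun hh => ?_⟩
    have h1 := hn.conj_mem _ hh x⁻¹
    have e : x⁻¹ * (x * h * x⁻¹) * x⁻¹⁻¹ = h := by group
    rwa [e] at h1
  obtain ⟨z, hq, hZeq⟩ := exists_qdata (Cfsg.pCore 2 G) hex hL2 hL3
  refine ⟨z, ⟨hn, hq, ?_, h32, hG, hcent, fun N hN hNp => le_pCore hN hNp⟩⟩
  intro g
  have h1 : g * z * g⁻¹ ∈ Subgroup.zpowers z := by
    apply hq.cent
    intro q hq'
    have h2 := hq.central (g⁻¹ * q * g) (by
      have h3 := hn.conj_mem q hq' g⁻¹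
      simpa using h3)
    calc q * (g * z * g⁻¹) = g * ((g⁻¹ * q * g) * z) * g⁻¹ := by group
      _ = g * (z * (g⁻¹ * q * g)) * g⁻¹ := by rw [h2]
      _ = g * z * g⁻¹ * q := by group
  rcases (mem_zpowers_invol hq.sq _).1 h1 with h | h
  · exfalso
    apply hq.ne_one
    calc z = g⁻¹ * (g * z * g⁻¹) * g := by group
      _ = 1 := by rw [h]; group
  · calc g * z = (g * z * g⁻¹) * g := by group
      _ = z * g := by rw [h]

end Cfsg.Agent.Lib.helper92
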