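import Mathlib
import Cfsg.Prelude.Def_KGroupFacts
import Cfsg.Prelude.Def_Classical
import Cfsg.Agent.Lib.helper3.Extraspecial3

set_option autoImplicit false
open scoped commutatorElement

/-!
Outer automorphisms of an extraspecial `2`-group: `Out(E)` is the isometry group of the
quadratic form `g ↦ g ^ 2` on `E / Z(E)`, in coordinates with respect to a symplectic frame.
-/

namespace Cfsg.Agent.Lib.helper92

open Cfsg.Agent.Lib.helper3 Matrix

section kap

variable {E : Type*} [Group E]

open Classical in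
/-- The indicator of being non-trivial, with values in `ZMod 2`. -/
noncomputable def kap (g : E) : ZMod 2 := if g = 1 then 0 else 1

theorem kap_one : kap (1 : E) = 0 := if_pos rfl

theorem kap_of_ne {g : E} (h : g ≠ 1) : kap g = 1 := if_neg h

variable {z : E}

theorem kap_z (hz : ESData 2 z) : kap z = 1 := kap_of_ne hz.ne_one

theorem kap_mul (hz : ESData 2 z) {a b : E} (ha : a ∈ Subgroup.zpowers z)
    (hb : b ∈ Subgroup.zpowers z) : kap (a * b) = kap a + kap b := by
  rcases hz.two_cases ha with h1 | h1 <;> rcases hz.two_cases hb with h2 | h2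
  · rw [h1, h2, mul_one, kap_one, add_zero]
  · rw [h1, h2, one_mul, kap_one, zero_add]
  · rw [h1, h2, mul_one, kap_one, add_zero]
  · rw [h1, h2, hz.z_mul_self, kap_one, kap_z hz]
    rfl

theorem kap_inj (hz : ESData 2 z) {a b : E} (ha : a ∈ Subgroup.zpowers z)
    (hb : b ∈ Subgroup.zpowers z) (h : kap a = kap b) : a = b := by
  rcases hz.two_cases ha with h1 | h1 <;> rcases hz.two_cases hb with h2 | h2
  · rw [h1, h2]
  · rw [h1, h2, kap_one, kap_z hz] at h
    exact absurd h (by decide)
  · rw [h1, h2, kap_one, kap_z hz] at h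
    exact absurd h (by decide)
  · rw [h1, h2]

theorem inv_eq_self_of_mem (hz : ESData 2 z) {a : E} (ha : a ∈ Subgroup.zpowers z) :
    a⁻¹ = a := by
  rcases hz.two_cases ha with h1 | h1
  · rw [h1, inv_one]
  · rw [h1]
    exact inv_eq_of_mul_eq_one_right hz.z_mul_self

end kap

/-- A symplectic frame of a group with `ESData 2 z`, adapted to a quadratic form `Q`. -/
structure QFrame {E : Type*} [Group E] (z : E) {ι : Type} [Fintype ι] [DecidableEq ι]
    (star : ι → ι) (d : ι → E) (Q : (ι → ZMod 2) → ZMod 2) : Prop where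
  es : ESData 2 z
  star_star : ∀ j, star (star j) = j
  pair : ∀ j, ⁅d j, d (star j)⁆ = z
  comm : ∀ j k, k ≠ star j → d j * d k = d k * d j
  gen : Subgroup.closure (Set.range d ∪ {z}) = ⊤
  card : Nat.card E = 2 ^ (Fintype.card ι + 1)
  polar : ∀ u v, Q (u + v) = Q u + Q v + ∑ j, u j * v (star j)
  sq : ∀ j, Q (Pi.single j 1) = kap (d j ^ 2)

section theta

variable {E : Type*} [Group E] {z : E} {ι : Type} [Fintype ι] [DecidableEq ι]

/-- The coordinate map of a frame. -/
noncomputable def theta (star : ι → ι) (d : ι → E) (g : E) : ι → ZMod 2 :=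
  fun j => kap ⁅g, d (star j)⁆

theorem theta_apply (star : ι → ι) (d : ι → E) (g : E) (j : ι) :
    theta star d g j = kap ⁅g, d (star j)⁆ := rfl

theorem theta_one (star : ι → ι) (d : ι → E) : theta star d 1 = 0 := by
  funext j
  rw [theta_apply, commutatorElement_one_left, kap_one]
  rfl

variable {star : ι → ι} {d : ι → E} {Q : (ι → ZMod 2) → ZMod 2}

namespace QFrame

theorem star_inj (F : QFrame z star d Q) : Function.Injective star :=
  Function.LeftInverse.injective F.star_star

theorem comm_d (F : QFrame z star d Q) (j k : ι) :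
    ⁅d j, d k⁆ = if k = star j then z else 1 := by
  by_cases h : k = star j
  · rw [if_pos h, h]
    exact F.pair j
  · rw [if_neg h]
    exact commutatorElement_eq_one_iff_mul_comm.2 (F.comm j k h)

theorem theta_mul (F : QFrame z star d Q) (g h : E) :
    theta star d (g * h) = theta star d g + theta star d h := by
  funext j
  rw [Pi.add_apply, theta_apply, theta_apply, theta_apply, F.es.comm_mul_left,
    kap_mul F.es (F.es.comm _ _) (F.es.comm _ _)]

theorem theta_z (F : QFrame z star d Q) : theta star d z = 0 := by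
  funext j
  rw [theta_apply, commutatorElement_eq_one_iff_mul_comm.2 (F.es.central _).symm, kap_one]
  rfl

theorem theta_d (F : QFrame z star d Q) (j : ι) : theta star d (d j) = Pi.single j 1 := by
  funext k
  rw [theta_apply, F.comm_d, Pi.single_apply]
  by_cases h : k = j
  · rw [if_pos (by rw [h]), if_pos h, kap_z F.es]
  · rw [if_neg (fun h' => h (F.star_inj h')), if_neg h, kap_one]

theorem theta_inv (F : QFrame z star d Q) (g : E) : theta star d g⁻¹ = theta star d g := by
  have h := F.theta_mul g g⁻¹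
  rw [mul_inv_cancel, theta_one] at h
  funext j
  have h1 := congrFun h j
  rw [Pi.add_apply, Pi.zero_apply] at h1
  exact (CharTwo.add_eq_zero.1 h1.symm).symm

theorem theta_of_mem (F : QFrame z star d Q) {g : E} (h : g ∈ Subgroup.zpowers z) :
    theta star d g = 0 := by
  rcases F.es.two_cases h with h1 | h1
  · rw [h1, theta_one]
  · rw [h1, F.theta_z]

theorem mem_of_theta (F : QFrame z star d Q) {g : E} (h : theta star d g = 0) :
    g ∈ Subgroup.zpowers z := by
  have hcomm : ∀ k, g * d k = d k * g := by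
    intro k
    have h1 := congrFun h (star k)
    rw [theta_apply, F.star_star, Pi.zero_apply] at h1
    have h2 : ⁅g, d k⁆ = 1 :=
      kap_inj F.es (F.es.comm _ _) (Subgroup.one_mem _) (h1.trans kap_one.symm)
    exact commutatorElement_eq_one_iff_mul_comm.1 h2
  apply F.es.center
  intro h'
  have hle : Subgroup.closure (Set.range d ∪ {z}) ≤ Subgroup.centralizer ({g} : Set E) := by
    rw [Subgroup.closure_le]
    rintro x (⟨k, rfl⟩ | hx)
    · exact Subgroup.mem_centralizer_singleton_iff.2 (hcomm k).symm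
    · rw [Set.mem_singleton_iff] at hx
      rw [hx]
      exact Subgroup.mem_centralizer_singleton_iff.2 (F.es.central g).symm
  have hh : h' ∈ Subgroup.centralizer ({g} : Set E) :=
    hle (by rw [F.gen]; exact Subgroup.mem_top _)
  exact (Subgroup.mem_centralizer_singleton_iff.1 hh).symm

theorem theta_surj (F : QFrame z star d Q) (u : ι → ZMod 2) : ∃ g, theta star d g = u := by
  have h01 : ∀ a : ZMod 2, a = 0 ∨ a = 1 := by decide
  have key : ∀ s : Finset ι, ∃ g, theta star d g = ∑ j ∈ s, Pi.single j (u j) := by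
    intro s
    induction s using Finset.induction_on with
    | empty => exact ⟨1, by rw [theta_one, Finset.sum_empty]⟩
    | insert a s ha ih =>
      obtain ⟨g, hg⟩ := ih
      rcases h01 (u a) with h0 | h1
      · refine ⟨g, ?_⟩
        rw [Finset.sum_insert ha, h0, Pi.single_zero, zero_add, hg]
      · refine ⟨d a * g, ?_⟩
        rw [Finset.sum_insert ha, h1, F.theta_mul, F.theta_d, hg]
  obtain ⟨g, hg⟩ := key Finset.univ
  exact ⟨g, by rw [hg, Finset.univ_sum_single]⟩

theorem Q_zero (F : QFrame z star d Q) : Q 0 = 0 := by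
  have h := F.polar 0 0
  simp only [add_zero, Pi.zero_apply, zero_mul, Finset.sum_const_zero] at h
  exact add_eq_left.1 h.symm

/-- The quadratic form and its polar form in coordinates. -/
theorem key (F : QFrame z star d Q) (g : E) :
    Q (theta star d g) = kap (g ^ 2) ∧
      ∀ h, ∑ j, theta star d g j * theta star d h (star j) = kap ⁅g, h⁆ := by
  have hg : g ∈ Subgroup.closure (Set.range d ∪ {z}) := by
    rw [F.gen]; exact Subgroup.mem_top _
  induction hg using Subgroup.closure_induction with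
  | mem x hx =>
    rcases hx with ⟨j, rfl⟩ | hx
    · constructor
      · rw [F.theta_d, F.sq]
      · intro h
        rw [F.theta_d, Finset.sum_eq_single j]
        · rw [Pi.single_eq_same, one_mul, theta_apply, F.star_star, F.es.comm_symm]
        · intro k _ hk
          rw [Pi.single_eq_of_ne hk, zero_mul]
        · intro hj
          exact absurd (Finset.mem_univ j) hj
    · rw [Set.mem_singleton_iff] at hx
      rw [hx]
      constructor
      · rw [F.theta_z, F.Q_zero, F.es.z_sq, kap_one]
      · intro h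
        rw [F.theta_z, commutatorElement_eq_one_iff_mul_comm.2 (F.es.central h).symm, kap_one]
        simp
  | one =>
    constructor
    · rw [theta_one, F.Q_zero, one_pow, kap_one]
    · intro h
      rw [theta_one, commutatorElement_one_left, kap_one]
      simp
  | mul x y _ _ ihx ihy =>
    constructor
    · rw [F.theta_mul, F.polar, ihx.1, ihy.1, ihx.2 y, F.es.sq_mul,
        kap_mul F.es (Subgroup.mul_mem _ (F.es.pow_p_mem x) (F.es.pow_p_mem y)) (F.es.comm _ _),
        kap_mul F.es (F.es.pow_p_mem x) (F.es.pow_p_mem y)]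
    · intro h
      rw [F.theta_mul]
      simp only [Pi.add_apply, add_mul, Finset.sum_add_distrib]
      rw [ihx.2 h, ihy.2 h, F.es.comm_mul_left, kap_mul F.es (F.es.comm _ _) (F.es.comm _ _)]
  | inv x _ ihx =>
    constructor
    · rw [F.theta_inv, ihx.1, inv_pow, inv_eq_self_of_mem F.es (F.es.pow_p_mem x)]
    · intro h
      rw [F.theta_inv, ihx.2 h, F.es.comm_inv_left, inv_eq_self_of_mem F.es (F.es.comm _ _)]

end QFrame

end theta

section aut

variable {E : Type*} [Group E] {z : E} {ι : Type} [Fintype ι] [DecidableEq ι]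
  {star : ι → ι} {d : ι → E} {Q : (ι → ZMod 2) → ZMod 2}

/-- The matrix of an endomorphism with respect to a frame. -/
noncomputable def matOf (star : ι → ι) (d : ι → E) (φ : E →* E) : Matrix ι ι (ZMod 2) :=
  Matrix.of (fun i j => theta star d (φ (d j)) i)

theorem matOf_apply (star : ι → ι) (d : ι → E) (φ : E →* E) (i j : ι) :
    matOf star d φ i j = theta star d (φ (d j)) i := rfl

theorem matrix_eq_of_mulVec {A B : Matrix ι ι (ZMod 2)} (h : ∀ u, A *ᵥ u = B *ᵥ u) : A = B := by
  ext i j
  have h1 := congrFun (h (Pi.single j 1)) i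
  rw [mulVec_single_one, mulVec_single_one] at h1
  exact h1

namespace QFrame

theorem matOf_mulVec (F : QFrame z star d Q) (φ : E →* E) (hφ : φ z = z) (g : E) :
    matOf star d φ *ᵥ theta star d g = theta star d (φ g) := by
  have hg : g ∈ Subgroup.closure (Set.range d ∪ {z}) := by
    rw [F.gen]; exact Subgroup.mem_top _
  induction hg using Subgroup.closure_induction with
  | mem x hx =>
    rcases hx with ⟨j, rfl⟩ | hx
    · rw [F.theta_d, mulVec_single_one]
      rfl
    · rw [Set.mem_singleton_iff] at hx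
      rw [hx, hφ, F.theta_z, mulVec_zero]
  | one => rw [map_one, theta_one, mulVec_zero]
  | mul x y _ _ ihx ihy => rw [F.theta_mul, mulVec_add, ihx, ihy, map_mul, F.theta_mul]
  | inv x _ ihx => rw [F.theta_inv, ihx, map_inv, F.theta_inv]

theorem aut_z (F : QFrame z star d Q) (φ : MulAut E) : φ z = z := by
  have h1 : φ z ∈ Subgroup.zpowers z := by
    apply F.es.center
    intro h
    have h2 := F.es.central (φ.symm h)
    have h3 := congrArg φ h2
    rw [map_mul, map_mul, MulEquiv.apply_symm_apply] at h3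
    exact h3.symm
  rcases F.es.two_cases h1 with h2 | h2
  · exfalso
    apply F.es.ne_one
    apply φ.injective
    rw [h2, map_one]
  · exact h2

/-- The matrix representation of the automorphism group. -/
noncomputable def autMat (F : QFrame z star d Q) : MulAut E →* Matrix ι ι (ZMod 2) where
  toFun φ := matOf star d φ.toMonoidHom
  map_one' := by
    ext i j
    rw [matOf_apply]
    show theta star d (d j) i = _
    rw [F.theta_d, Matrix.one_apply, Pi.single_apply]
  map_mul' := by
    intro φ ψ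
    apply matrix_eq_of_mulVec
    intro u
    obtain ⟨g, rfl⟩ := F.theta_surj u
    rw [← mulVec_mulVec, F.matOf_mulVec ψ.toMonoidHom (F.aut_z ψ),
      F.matOf_mulVec φ.toMonoidHom (F.aut_z φ),
      F.matOf_mulVec (φ * ψ).toMonoidHom (F.aut_z (φ * ψ))]
    rfl

theorem autMat_apply (F : QFrame z star d Q) (φ : MulAut E) :
    F.autMat φ = matOf star d φ.toMonoidHom := rfl

theorem coe_toHomUnits (F : QFrame z star d Q) (φ : MulAut E) :
    ((F.autMat.toHomUnits φ : (Matrix ι ι (ZMod 2))ˣ) : Matrix ι ι (ZMod 2)) =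
      matOf star d φ.toMonoidHom := rfl

theorem autMat_mem (F : QFrame z star d Q) (φ : MulAut E) :
    F.autMat.toHomUnits φ ∈ Cfsg.isometryGroup (ZMod 2) Q := by
  intro u v
  show Q (matOf star d φ.toMonoidHom *ᵥ u) = Q u
  obtain ⟨g, rfl⟩ := F.theta_surj u
  rw [F.matOf_mulVec _ (F.aut_z φ), (F.key _).1, (F.key g).1]
  show kap ((φ g) ^ 2) = kap (g ^ 2)
  rw [← map_pow]
  rcases F.es.two_cases (F.es.pow_p_mem g) with h | h
  · rw [h, map_one]
  · rw [h, F.aut_z]

theorem ker_autMat (F : QFrame z star d Q) : F.autMat.toHomUnits.ker = Cfsg.Inn E := by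
  ext φ
  rw [MonoidHom.mem_ker]
  constructor
  · intro h
    have hM : matOf star d φ.toMonoidHom = 1 :=
      congrArg (fun u : (Matrix ι ι (ZMod 2))ˣ => (u : Matrix ι ι (ZMod 2))) h
    have hθ : ∀ g, theta star d (φ g) = theta star d g := by
      intro g
      have h1 := F.matOf_mulVec φ.toMonoidHom (F.aut_z φ) g
      rw [hM, one_mulVec] at h1
      exact h1.symm
    obtain ⟨h₀, hh₀⟩ := F.theta_surj (fun k => kap (φ (d (star k)) * (d (star k))⁻¹))
    refine ⟨h₀, ?_⟩
    have key : (MulAut.conj h₀).toMonoidHom = φ.toMonoidHom := by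
      apply MonoidHom.eq_of_eqOn_dense F.gen
      rintro x (⟨j, rfl⟩ | hx)
      · show h₀ * d j * h₀⁻¹ = φ (d j)
        have h1 : φ (d j) * (d j)⁻¹ ∈ Subgroup.zpowers z := by
          apply F.mem_of_theta
          rw [F.theta_mul, F.theta_inv, hθ]
          funext i
          exact CharTwo.add_self_eq_zero _
        have h2 : kap ⁅h₀, d j⁆ = kap (φ (d j) * (d j)⁻¹) := by
          have h3 := congrFun hh₀ (star j)
          rw [theta_apply, F.star_star] at h3
          exact h3
        have h3 : ⁅h₀, d j⁆ = φ (d j) * (d j)⁻¹ := kap_inj F.es (F.es.comm _ _) h1 h2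
        calc h₀ * d j * h₀⁻¹ = ⁅h₀, d j⁆ * d j := by rw [commutatorElement_def]; group
          _ = φ (d j) := by rw [h3]; group
      · rw [Set.mem_singleton_iff] at hx
        rw [hx]
        show h₀ * z * h₀⁻¹ = φ z
        rw [F.aut_z, F.es.central h₀, mul_inv_cancel_right]
    ext x
    exact congrArg (fun f : E →* E => f x) key
  · rintro ⟨h₀, rfl⟩
    apply Units.ext
    show matOf star d (MulAut.conj h₀).toMonoidHom = 1
    ext i j
    rw [matOf_apply]
    show theta star d (h₀ * d j * h₀⁻¹) i = _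
    rw [F.theta_mul, F.theta_mul, F.theta_inv, F.theta_d, Matrix.one_apply]
    simp only [Pi.add_apply, Pi.single_apply]
    rw [add_comm, ← add_assoc, CharTwo.add_self_eq_zero, zero_add]

theorem exists_hom_of_relations [Finite E] (F : QFrame z star d Q) (g : ι → E)
    (hcomm : ∀ j k, ⁅g j, g k⁆ = ⁅d j, d k⁆) (hsq : ∀ j, g j ^ 2 = d j ^ 2) :
    ∃ φ : E →* E, (∀ j, φ (d j) = g j) ∧ φ z = z := by
  let w : E × E := (z, z)
  let dd : ι → E × E := fun j => (d j, g j)
  let D : Subgroup (E × E) := Subgroup.closure (Set.range dd ∪ {w})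
  have hwc : ∀ x : E × E, x * w = w * x :=
    fun x => Prod.ext (F.es.central x.1) (F.es.central x.2)
  have hwp : w ^ 2 = 1 := Prod.ext F.es.z_sq F.es.z_sq
  have hdiag : ∀ c : E, c ∈ Subgroup.zpowers z → ((c, c) : E × E) ∈ Subgroup.zpowers w := by
    intro c hc
    rcases F.es.two_cases hc with h | h
    · rw [h]; exact Subgroup.one_mem _
    · rw [h]; exact Subgroup.mem_zpowers w
  have hcomm' : ∀ i j, ⁅dd i, dd j⁆ ∈ Subgroup.zpowers w := by
    intro i j
    have e : ⁅dd i, dd j⁆ = (⁅d i, d j⁆, ⁅d i, d j⁆) := Prod.ext rfl (hcomm i j)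
    rw [e]
    exact hdiag _ (F.es.comm _ _)
  have hpow' : ∀ i, dd i ^ 2 ∈ Subgroup.zpowers w := by
    intro i
    have e : dd i ^ 2 = (d i ^ 2, d i ^ 2) := Prod.ext rfl (hsq i)
    rw [e]
    exact hdiag _ (F.es.pow_p_mem _)
  have hD : Nat.card D ≤ 2 ^ (Fintype.card ι + 1) := by
    have h1 := card_closure_le (by norm_num : 0 < 2) hwc hwp dd hcomm' hpow'
    rwa [Nat.card_eq_fintype_card (α := ι)] at h1
  have hdD : ∀ i, dd i ∈ D := fun i => Subgroup.subset_closure (Or.inl ⟨i, rfl⟩)
  have hwD : w ∈ D := Subgroup.subset_closure (Or.inr rfl)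
  let φ₁ : D →* E := (MonoidHom.fst E E).comp D.subtype
  let φ₂ : D →* E := (MonoidHom.snd E E).comp D.subtype
  have hs₁ : Function.Surjective φ₁ := by
    rw [← MonoidHom.range_eq_top, eq_top_iff, ← F.gen, Subgroup.closure_le]
    rintro x (⟨i, rfl⟩ | hx)
    · exact ⟨⟨dd i, hdD i⟩, rfl⟩
    · rw [Set.mem_singleton_iff] at hx
      rw [hx]
      exact ⟨⟨w, hwD⟩, rfl⟩
  have hbij₁ : Function.Bijective φ₁ :=
    hs₁.bijective_of_nat_card_le (by rw [F.card]; exact hD)
  let e₁ := MulEquiv.ofBijective φ₁ hbij₁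
  refine ⟨φ₂.comp e₁.symm.toMonoidHom, ?_, ?_⟩
  · intro j
    have h1 : e₁.symm (d j) = ⟨dd j, hdD j⟩ := by
      rw [MulEquiv.symm_apply_eq]; rfl
    show φ₂ (e₁.symm (d j)) = g j
    rw [h1]; rfl
  · have h1 : e₁.symm z = ⟨w, hwD⟩ := by
      rw [MulEquiv.symm_apply_eq]; rfl
    show φ₂ (e₁.symm z) = z
    rw [h1]; rfl

theorem range_autMat [Finite E] (F : QFrame z star d Q) :
    F.autMat.toHomUnits.range = Cfsg.isometryGroup (ZMod 2) Q := by
  apply le_antisymm
  · rintro _ ⟨φ, rfl⟩
    exact F.autMat_mem φ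
  · intro A hA
    have hA' : ∀ u, Q ((A : Matrix ι ι (ZMod 2)) *ᵥ u) = Q u := fun u => hA u u
    have hB : ∀ u v, ∑ j, ((A : Matrix ι ι (ZMod 2)) *ᵥ u) j *
        ((A : Matrix ι ι (ZMod 2)) *ᵥ v) (star j) = ∑ j, u j * v (star j) := by
      intro u v
      have h1 := F.polar ((A : Matrix ι ι (ZMod 2)) *ᵥ u) ((A : Matrix ι ι (ZMod 2)) *ᵥ v)
      rw [← mulVec_add, hA', hA', hA', F.polar u v] at h1
      exact (add_left_cancel h1).symm
    choose g hg using fun j => F.theta_surj ((A : Matrix ι ι (ZMod 2)) *ᵥ Pi.single j 1)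
    have hsq : ∀ j, g j ^ 2 = d j ^ 2 := by
      intro j
      apply kap_inj F.es (F.es.pow_p_mem _) (F.es.pow_p_mem _)
      rw [← (F.key (g j)).1, hg, hA', ← F.theta_d, (F.key (d j)).1]
    have hcomm : ∀ j k, ⁅g j, g k⁆ = ⁅d j, d k⁆ := by
      intro j k
      apply kap_inj F.es (F.es.comm _ _) (F.es.comm _ _)
      rw [← (F.key (g j)).2 (g k), hg, hg, hB, ← F.theta_d, ← F.theta_d,
        (F.key (d j)).2 (d k)]
    obtain ⟨φ₀, hφd, hφz⟩ := F.exists_hom_of_relations g hcomm hsq
    have hM : matOf star d φ₀ = (A : Matrix ι ι (ZMod 2)) := by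
      ext i j
      rw [matOf_apply, hφd, hg, mulVec_single_one]
      rfl
    have hinj : Function.Injective φ₀ := by
      rw [injective_iff_map_eq_one]
      intro x hx
      have h1 := F.matOf_mulVec φ₀ hφz x
      rw [hx, theta_one, hM] at h1
      have h2 : theta star d x = 0 := by
        have h3 := congrArg (fun v => ((A⁻¹ : (Matrix ι ι (ZMod 2))ˣ) :
          Matrix ι ι (ZMod 2)) *ᵥ v) h1
        simp only [mulVec_mulVec, mulVec_zero] at h3
        rw [← Units.val_mul, inv_mul_cancel, Units.val_one, one_mulVec] at h3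
        exact h3
      rcases F.es.two_cases (F.mem_of_theta h2) with h4 | h4
      · exact h4
      · exfalso
        rw [h4, hφz] at hx
        exact F.es.ne_one hx
    have hbij : Function.Bijective φ₀ := Finite.injective_iff_bijective.1 hinj
    refine ⟨MulEquiv.ofBijective φ₀ hbij, ?_⟩
    apply Units.ext
    exact hM

/-- `Out(E)` is the isometry group of the quadratic form of a frame. -/
theorem nonempty_out_equiv [Finite E] (F : QFrame z star d Q) :
    Nonempty (Cfsg.Out E ≃* Cfsg.isometryGroup (ZMod 2) Q) := by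
  have e1 := QuotientGroup.quotientKerEquivRange F.autMat.toHomUnits
  have e2 := QuotientGroup.quotientMulEquivOfEq F.ker_autMat
  have e3 := MulEquiv.subgroupCongr F.range_autMat
  exact ⟨(e2.symm.trans e1).trans e3⟩

end QFrame

end aut

section frames

variable {E : Type*} [Group E] {z : E}

theorem symp_pair (hz : ESData 2 z) {n : ℕ} {x y : Fin n → E} (hb : IsSymplBasis z x y)
    (k : Fin n ⊕ Fin n) : ⁅Sum.elim x y k, Sum.elim x y (Sum.swap k)⁆ = z := by
  rcases k with i | i
  · exact hb.1 i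
  · show ⁅y i, x i⁆ = z
    rw [hz.comm_symm]
    exact hb.1 i

theorem symp_comm {n : ℕ} {x y : Fin n → E} (hb : IsSymplBasis z x y)
    (j k : Fin n ⊕ Fin n) (h : k ≠ Sum.swap j) :
    Sum.elim x y j * Sum.elim x y k = Sum.elim x y k * Sum.elim x y j := by
  rcases j with i | i <;> rcases k with j | j
  · show x i * x j = x j * x i
    by_cases hij : i = j
    · rw [hij]
    · exact (hb.2 i j hij).1
  · show x i * y j = y j * x i
    have hij : i ≠ j := fun e => h (by rw [e]; rfl)
    exact (hb.2 i j hij).2.1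
  · show y i * x j = x j * y i
    have hij : j ≠ i := fun e => h (by rw [e]; rfl)
    exact ((hb.2 j i hij).2.1).symm
  · show y i * y j = y j * y i
    by_cases hij : i = j
    · rw [hij]
    · exact (hb.2 i j hij).2.2

theorem symp_gen {n : ℕ} {x y : Fin n → E}
    (hgen : Subgroup.closure (Set.range x ∪ Set.range y) ⊔ Subgroup.zpowers z = ⊤) :
    Subgroup.closure (Set.range (Sum.elim x y) ∪ {z}) = ⊤ := by
  rw [Set.Sum.elim_range, Subgroup.closure_union (Set.range x ∪ Set.range y),
    ← Subgroup.zpowers_eq_closure]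
  exact hgen

/-- The frame of a group of plus type. -/
theorem qframe_plus (hz : ESData 2 z) {n : ℕ} (x y : Fin n → E)
    (hb : IsSymplBasis z x y)
    (hgen : Subgroup.closure (Set.range x ∪ Set.range y) ⊔ Subgroup.zpowers z = ⊤)
    (hcard : Nat.card E = 2 ^ (2 * n + 1))
    (hsq : ∀ i, x i ^ 2 = 1 ∧ y i ^ 2 = 1) :
    QFrame z (Sum.swap : Fin n ⊕ Fin n → Fin n ⊕ Fin n) (Sum.elim x y)
      (Cfsg.quadFormPlus n (ZMod 2)) where
  es := hz
  star_star := Sum.swap_swap
  pair := symp_pair hz hb
  comm := symp_comm hb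
  gen := symp_gen hgen
  card := by
    rw [hcard, Fintype.card_sum, Fintype.card_fin]
    congr 1
    ring
  polar := by
    intro u v
    unfold Cfsg.quadFormPlus
    rw [Fintype.sum_sum_type]
    simp only [Pi.add_apply, Sum.swap_inl, Sum.swap_inr, ← Finset.sum_add_distrib]
    apply Finset.sum_congr rfl
    intro i _
    ring
  sq := by
    rintro (i | i)
    · show Cfsg.quadFormPlus n (ZMod 2) (Pi.single (Sum.inl i) 1) = kap (x i ^ 2)
      rw [(hsq i).1, kap_one]
      unfold Cfsg.quadFormPlus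
      apply Finset.sum_eq_zero
      intro k _
      rw [Pi.single_eq_of_ne (by simp : (Sum.inr k : Fin n ⊕ Fin n) ≠ Sum.inl i), mul_zero]
    · show Cfsg.quadFormPlus n (ZMod 2) (Pi.single (Sum.inr i) 1) = kap (y i ^ 2)
      rw [(hsq i).2, kap_one]
      unfold Cfsg.quadFormPlus
      apply Finset.sum_eq_zero
      intro k _
      rw [Pi.single_eq_of_ne (by simp : (Sum.inl k : Fin n ⊕ Fin n) ≠ Sum.inr i), zero_mul]

/-- Reindexing of the minus-type index set. -/
def sigMinus (m : ℕ) : (Fin m ⊕ Fin m) ⊕ Fin 2 → Fin (m + 1) ⊕ Fin (m + 1)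
  | Sum.inl (Sum.inl i) => Sum.inl i.castSucc
  | Sum.inl (Sum.inr i) => Sum.inr i.castSucc
  | Sum.inr a => if a = 0 then Sum.inl (Fin.last m) else Sum.inr (Fin.last m)

/-- The inverse reindexing. -/
def tauMinus (m : ℕ) : Fin (m + 1) ⊕ Fin (m + 1) → (Fin m ⊕ Fin m) ⊕ Fin 2
  | Sum.inl i => Fin.lastCases (Sum.inr 0) (fun i' => Sum.inl (Sum.inl i')) i
  | Sum.inr i => Fin.lastCases (Sum.inr 1) (fun i' => Sum.inl (Sum.inr i')) i

/-- The duality on the minus-type index set. -/
def starMinus (m : ℕ) : (Fin m ⊕ Fin m) ⊕ Fin 2 → (Fin m ⊕ Fin m) ⊕ Fin 2 :=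
  Sum.map Sum.swap Fin.rev

theorem tau_sig (m : ℕ) (j : (Fin m ⊕ Fin m) ⊕ Fin 2) : tauMinus m (sigMinus m j) = j := by
  rcases j with (i | i) | a
  · simp [sigMinus, tauMinus]
  · simp [sigMinus, tauMinus]
  · fin_cases a
    · simp [sigMinus, tauMinus]
    · simp [sigMinus, tauMinus]

theorem sig_tau (m : ℕ) (k : Fin (m + 1) ⊕ Fin (m + 1)) : sigMinus m (tauMinus m k) = k := by
  rcases k with i | i
  · induction i using Fin.lastCases with
    | last => simp [sigMinus, tauMinus]
    | cast i => simp [sigMinus, tauMinus]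
  · induction i using Fin.lastCases with
    | last => simp [sigMinus, tauMinus]
    | cast i => simp [sigMinus, tauMinus]

theorem sig_star (m : ℕ) (j : (Fin m ⊕ Fin m) ⊕ Fin 2) :
    sigMinus m (starMinus m j) = Sum.swap (sigMinus m j) := by
  rcases j with (i | i) | a
  · rfl
  · rfl
  · fin_cases a
    · simp [sigMinus, starMinus]
    · simp [sigMinus, starMinus]

theorem star_star_minus (m : ℕ) (j : (Fin m ⊕ Fin m) ⊕ Fin 2) :
    starMinus m (starMinus m j) = j := by
  rcases j with (i | i) | a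
  · rfl
  · rfl
  · simp [starMinus]

/-- The frame of a group of minus type. -/
theorem qframe_minus (hz : ESData 2 z) {m : ℕ} (x y : Fin (m + 1) → E)
    (hb : IsSymplBasis z x y)
    (hgen : Subgroup.closure (Set.range x ∪ Set.range y) ⊔ Subgroup.zpowers z = ⊤)
    (hcard : Nat.card E = 2 ^ (2 * (m + 1) + 1))
    (hsq : ∀ i : Fin (m + 1), ((i : ℕ) + 1 = m + 1 → x i ^ 2 = z ∧ y i ^ 2 = z) ∧
      ((i : ℕ) + 1 ≠ m + 1 → x i ^ 2 = 1 ∧ y i ^ 2 = 1)) :
    QFrame z (starMinus m) (Sum.elim x y ∘ sigMinus m)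
      (Cfsg.quadFormMinus m (ZMod 2) 1 1) where
  es := hz
  star_star := star_star_minus m
  pair := by
    intro j
    show ⁅Sum.elim x y (sigMinus m j), Sum.elim x y (sigMinus m (starMinus m j))⁆ = z
    rw [sig_star]
    exact symp_pair hz hb _
  comm := by
    intro j k h
    show Sum.elim x y (sigMinus m j) * Sum.elim x y (sigMinus m k) =
      Sum.elim x y (sigMinus m k) * Sum.elim x y (sigMinus m j)
    apply symp_comm hb
    intro h'
    apply h
    rw [← sig_star] at h'
    have h2 := congrArg (tauMinus m) h'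
    rwa [tau_sig, tau_sig] at h2
  gen := by
    have hsurj : Function.Surjective (sigMinus m) := fun k => ⟨tauMinus m k, sig_tau m k⟩
    rw [hsurj.range_comp]
    exact symp_gen hgen
  card := by
    rw [hcard, Fintype.card_sum, Fintype.card_sum, Fintype.card_fin, Fintype.card_fin]
    congr 1
    ring
  polar := by
    intro u v
    have h2 : (2 : ZMod 2) = 0 := by decide
    unfold Cfsg.quadFormMinus
    rw [Fintype.sum_sum_type, Fintype.sum_sum_type, Fin.sum_univ_two]
    have hS : ∑ i : Fin m, (u + v) (Sum.inl (Sum.inl i)) * (u + v) (Sum.inl (Sum.inr i)) =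
        ∑ i : Fin m, u (Sum.inl (Sum.inl i)) * u (Sum.inl (Sum.inr i)) +
        ∑ i : Fin m, v (Sum.inl (Sum.inl i)) * v (Sum.inl (Sum.inr i)) +
        ∑ i : Fin m, u (Sum.inl (Sum.inl i)) * v (Sum.inl (Sum.inr i)) +
        ∑ i : Fin m, u (Sum.inl (Sum.inr i)) * v (Sum.inl (Sum.inl i)) := by
      simp only [Pi.add_apply, ← Finset.sum_add_distrib]
      apply Finset.sum_congr rfl
      intro i _
      ring
    rw [hS]
    have e0 : starMinus m (Sum.inr 0) = Sum.inr 1 := rfl
    have e1 : starMinus m (Sum.inr 1) = Sum.inr 0 := rfl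
    have e2 : ∀ i : Fin m, starMinus m (Sum.inl (Sum.inl i)) = Sum.inl (Sum.inr i) :=
      fun i => rfl
    have e3 : ∀ i : Fin m, starMinus m (Sum.inl (Sum.inr i)) = Sum.inl (Sum.inl i) :=
      fun i => rfl
    simp only [e0, e1, e2, e3, Pi.add_apply]
    linear_combination (u (Sum.inr 0) * v (Sum.inr 0) + u (Sum.inr 1) * v (Sum.inr 1)) * h2
  sq := by
    rintro ((i | i) | a)
    · show Cfsg.quadFormMinus m (ZMod 2) 1 1 (Pi.single (Sum.inl (Sum.inl i)) 1) =
        kap (x i.castSucc ^ 2)
      have hi : ((i.castSucc : Fin (m + 1)) : ℕ) + 1 ≠ m + 1 := by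
        have := i.2
        simp only [Fin.val_castSucc]
        omega
      rw [((hsq i.castSucc).2 hi).1, kap_one]
      unfold Cfsg.quadFormMinus
      rw [Pi.single_eq_of_ne (by simp), Pi.single_eq_of_ne (by simp)]
      rw [Finset.sum_eq_zero]
      · ring
      · intro k _
        rw [Pi.single_eq_of_ne (by simp :
          (Sum.inl (Sum.inr k) : (Fin m ⊕ Fin m) ⊕ Fin 2) ≠ Sum.inl (Sum.inl i)), mul_zero]
    · show Cfsg.quadFormMinus m (ZMod 2) 1 1 (Pi.single (Sum.inl (Sum.inr i)) 1) =
        kap (y i.castSucc ^ 2)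
      have hi : ((i.castSucc : Fin (m + 1)) : ℕ) + 1 ≠ m + 1 := by
        have := i.2
        simp only [Fin.val_castSucc]
        omega
      rw [((hsq i.castSucc).2 hi).2, kap_one]
      unfold Cfsg.quadFormMinus
      rw [Pi.single_eq_of_ne (by simp), Pi.single_eq_of_ne (by simp)]
      rw [Finset.sum_eq_zero]
      · ring
      · intro k _
        rw [Pi.single_eq_of_ne (by simp :
          (Sum.inl (Sum.inl k) : (Fin m ⊕ Fin m) ⊕ Fin 2) ≠ Sum.inl (Sum.inr i)), zero_mul]
    · have hl : ((Fin.last m : Fin (m + 1)) : ℕ) + 1 = m + 1 := by simp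
      have hsum : ∀ b : Fin 2, ∑ k : Fin m,
          (Pi.single (Sum.inr b) (1 : ZMod 2) : (Fin m ⊕ Fin m) ⊕ Fin 2 → ZMod 2)
            (Sum.inl (Sum.inl k)) *
          (Pi.single (Sum.inr b) (1 : ZMod 2) : (Fin m ⊕ Fin m) ⊕ Fin 2 → ZMod 2)
            (Sum.inl (Sum.inr k)) = 0 := by
        intro b
        apply Finset.sum_eq_zero
        intro k _
        rw [Pi.single_eq_of_ne (by simp), zero_mul]
      fin_cases a
      · show Cfsg.quadFormMinus m (ZMod 2) 1 1 (Pi.single (Sum.inr 0) 1) =
          kap (x (Fin.last m) ^ 2)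
        rw [((hsq (Fin.last m)).1 hl).1, kap_z hz]
        unfold Cfsg.quadFormMinus
        rw [hsum 0, Pi.single_eq_same, Pi.single_eq_of_ne (by simp)]
        ring
      · show Cfsg.quadFormMinus m (ZMod 2) 1 1 (Pi.single (Sum.inr 1) 1) =
          kap (y (Fin.last m) ^ 2)
        rw [((hsq (Fin.last m)).1 hl).2, kap_z hz]
        unfold Cfsg.quadFormMinus
        rw [hsum 1, Pi.single_eq_same, Pi.single_eq_of_ne (by simp)]
        ring

/-- The outer automorphism group of an extraspecial `2`-group. -/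
theorem out_extraspecial {E : Type*} [Group E] [Finite E] (hE : Cfsg.IsExtraspecial 2 E)
    (n : ℕ) (hn : 1 ≤ n) (hcard : Nat.card E = 2 ^ (2 * n + 1)) :
    ((∃ A : Subgroup E, Cfsg.IsElementaryAbelian 2 A ∧ Nat.card ↥A = 2 ^ (n + 1)) →
      Nonempty (Cfsg.Out E ≃* Cfsg.isometryGroup (ZMod 2) (Cfsg.quadFormPlus n (ZMod 2)))) ∧
    ((¬ ∃ A : Subgroup E, Cfsg.IsElementaryAbelian 2 A ∧ Nat.card ↥A = 2 ^ (n + 1)) →
      Nonempty (Cfsg.Out E ≃*
        Cfsg.isometryGroup (ZMod 2) (Cfsg.quadFormMinus (n - 1) (ZMod 2) 1 1))) := by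
  obtain ⟨z, hz⟩ := exists_esdata hE
  obtain ⟨k, t, hT⟩ := hz.exists_twoType
  have hk : k = n := by
    have h1 := hT.card_eq
    rw [hcard] at h1
    have h2 := Nat.pow_right_injective (le_refl 2) h1
    omega
  subst hk
  cases t with
  | true =>
    obtain ⟨x, y, e, hb, hg, hc, hsq, htt, htf⟩ := hT
    obtain ⟨he, -, B, hB, hBc⟩ := htt rfl
    refine ⟨fun _ => ?_, fun hno => ?_⟩
    · exact (qframe_plus hz x y hb hg hc (fun i => by
        by_cases hi : (i : ℕ) + 1 = k
        · have h1 := (hsq i).1 hi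
          rw [he] at h1
          exact h1
        · exact (hsq i).2 hi)).nonempty_out_equiv
    · exact absurd ⟨B, hB, hBc⟩ hno
  | false =>
    have hpr := prank_of_twoType_false hz hT
    obtain ⟨x, y, e, hb, hg, hc, hsq, htt, htf⟩ := hT
    obtain ⟨he, hpos, -, -⟩ := htf rfl
    refine ⟨fun ⟨A, hA, hAc⟩ => ?_, fun _ => ?_⟩
    · exfalso
      have h1 := hpr.1 A hA.1 hA.2
      rw [hAc] at h1
      exact absurd h1 (by
        rw [not_le]
        exact Nat.pow_lt_pow_right (by norm_num) (by omega))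
    · obtain ⟨m, rfl⟩ : ∃ m, k = m + 1 := ⟨k - 1, by omega⟩
      exact (qframe_minus hz x y hb hg hc (fun i => ⟨fun hi => by
        have h1 := (hsq i).1 hi
        rw [he] at h1
        exact h1, (hsq i).2⟩)).nonempty_out_equiv

end frames

end Cfsg.Agent.Lib.helper92
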