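import Mathlib
import Cfsg.Agent.Lib.helper92.OutES

set_option autoImplicit false

/-!
The isometry group of the elliptic quadratic form in dimension four over the field with two
elements is the symmetric group of degree five (acting on the five singular points).
-/

namespace Cfsg.Agent.Lib.helper92

open Matrix

section refl

variable {ι : Type} [Fintype ι] [DecidableEq ι]

/-- The matrix of the reflection `v ↦ v + B(v, u) u`. -/
def reflMat (star : ι → ι) (u : ι → ZMod 2) : Matrix ι ι (ZMod 2) :=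
  1 + vecMulVec u (fun j => u (star j))

theorem reflMat_mulVec (star : ι → ι) (u v : ι → ZMod 2) :
    reflMat star u *ᵥ v = v + (∑ j, v j * u (star j)) • u := by
  unfold reflMat
  rw [add_mulVec, one_mulVec]
  congr 1
  funext i
  show ∑ j, vecMulVec u (fun j => u (star j)) i j * v j = (∑ j, v j * u (star j)) * u i
  rw [Finset.sum_mul]
  apply Finset.sum_congr rfl
  intro j _
  rw [vecMulVec_apply]
  ring

variable {star : ι → ι} {Q : (ι → ZMod 2) → ZMod 2}

theorem polar_self (hp : ∀ u v, Q (u + v) = Q u + Q v + ∑ j, u j * v (star j))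
    (u : ι → ZMod 2) : ∑ j, u j * u (star j) = 0 := by
  have h := hp u u
  have h0 : Q 0 = 0 := by
    have h' := hp 0 0
    simp only [add_zero, Pi.zero_apply, zero_mul, Finset.sum_const_zero] at h'
    exact add_eq_left.1 h'.symm
  have huu : u + u = 0 := by
    funext j
    exact CharTwo.add_self_eq_zero _
  rw [huu, h0, CharTwo.add_self_eq_zero, zero_add] at h
  exact h.symm

theorem reflMat_isom (hp : ∀ u v, Q (u + v) = Q u + Q v + ∑ j, u j * v (star j))
    {u : ι → ZMod 2} (hu : Q u = 1) (v : ι → ZMod 2) : Q (reflMat star u *ᵥ v) = Q v := by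
  rw [reflMat_mulVec]
  rcases (by decide : ∀ a : ZMod 2, a = 0 ∨ a = 1) (∑ j, v j * u (star j)) with h | h
  · rw [h, zero_smul, add_zero]
  · rw [h, one_smul, hp, hu, h, add_assoc, show (1 : ZMod 2) + 1 = 0 from rfl, add_zero]

theorem reflMat_sq (hp : ∀ u v, Q (u + v) = Q u + Q v + ∑ j, u j * v (star j))
    (u : ι → ZMod 2) : reflMat star u * reflMat star u = 1 := by
  apply matrix_eq_of_mulVec
  intro v
  rw [← mulVec_mulVec, reflMat_mulVec, reflMat_mulVec, one_mulVec]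
  have h1 : ∑ j, (v + (∑ j, v j * u (star j)) • u) j * u (star j) =
      ∑ j, v j * u (star j) := by
    simp only [Pi.add_apply, Pi.smul_apply, smul_eq_mul, add_mul, Finset.sum_add_distrib,
      mul_assoc, ← Finset.mul_sum]
    rw [polar_self hp u, mul_zero, add_zero]
  rw [h1, add_assoc, ← add_smul, CharTwo.add_self_eq_zero, zero_smul, add_zero]

/-- The reflection as an element of the general linear group. -/
def reflGL (hp : ∀ u v, Q (u + v) = Q u + Q v + ∑ j, u j * v (star j)) (u : ι → ZMod 2) :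
    (Matrix ι ι (ZMod 2))ˣ :=
  ⟨reflMat star u, reflMat star u, reflMat_sq hp u, reflMat_sq hp u⟩

theorem reflGL_mem (hp : ∀ u v, Q (u + v) = Q u + Q v + ∑ j, u j * v (star j))
    {u : ι → ZMod 2} (hu : Q u = 1) : reflGL hp u ∈ Cfsg.isometryGroup (ZMod 2) Q := by
  intro v _
  exact reflMat_isom hp hu v

end refl

section O4

/-- The index type of the elliptic form in dimension four. -/
abbrev I4 : Type := (Fin 1 ⊕ Fin 1) ⊕ Fin 2

/-- The elliptic form in dimension four. -/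
abbrev Q4 : (I4 → ZMod 2) → ZMod 2 := Cfsg.quadFormMinus 1 (ZMod 2) 1 1

/-- Coordinate tuples. -/
abbrev T4 : Type := ZMod 2 × ZMod 2 × ZMod 2 × ZMod 2

/-- The coordinates of a vector. -/
def toT (v : I4 → ZMod 2) : T4 :=
  (v (Sum.inl (Sum.inl 0)), v (Sum.inl (Sum.inr 0)), v (Sum.inr 0), v (Sum.inr 1))

/-- The vector with given coordinates. -/
def ofT (t : T4) : I4 → ZMod 2 :=
  Sum.elim (Sum.elim (fun _ => t.1) (fun _ => t.2.1)) (fun a => if a = 0 then t.2.2.1 else t.2.2.2)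

theorem ofT_toT (v : I4 → ZMod 2) : ofT (toT v) = v := by
  funext j
  rcases j with (i | i) | a
  · have hi : i = 0 := Subsingleton.elim _ _
    subst hi
    rfl
  · have hi : i = 0 := Subsingleton.elim _ _
    subst hi
    rfl
  · fin_cases a
    · rfl
    · rfl

theorem toT_ofT (t : T4) : toT (ofT t) = t := rfl

theorem toT_add (u v : I4 → ZMod 2) : toT (u + v) = toT u + toT v := rfl

theorem ofT_add (s t : T4) : ofT (s + t) = ofT s + ofT t := by
  have h := toT_add (ofT s) (ofT t)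
  rw [toT_ofT, toT_ofT] at h
  rw [← h, ofT_toT]

theorem ofT_zero : ofT 0 = 0 := by
  have h : toT (0 : I4 → ZMod 2) = 0 := rfl
  rw [← h, ofT_toT]

/-- The form in coordinates. -/
def qt (t : T4) : ZMod 2 := t.1 * t.2.1 + (t.2.2.1 ^ 2 + 1 * t.2.2.1 * t.2.2.2 + 1 * t.2.2.2 ^ 2)

/-- The polar form in coordinates. -/
def bt (t t' : T4) : ZMod 2 :=
  t.1 * t'.2.1 + t.2.1 * t'.1 + t.2.2.1 * t'.2.2.2 + t.2.2.2 * t'.2.2.1

theorem Q4_eq (v : I4 → ZMod 2) : Q4 v = qt (toT v) := by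
  show Cfsg.quadFormMinus 1 (ZMod 2) 1 1 v = _
  unfold Cfsg.quadFormMinus
  rw [Fin.sum_univ_one]
  rfl

theorem B4_eq (u v : I4 → ZMod 2) : ∑ j, u j * v (starMinus 1 j) = bt (toT u) (toT v) := by
  rw [Fintype.sum_sum_type, Fintype.sum_sum_type, Fin.sum_univ_two, Fin.sum_univ_one,
    Fin.sum_univ_one]
  show u (Sum.inl (Sum.inl 0)) * v (Sum.inl (Sum.inr 0)) +
      u (Sum.inl (Sum.inr 0)) * v (Sum.inl (Sum.inl 0)) +
      (u (Sum.inr 0) * v (Sum.inr 1) + u (Sum.inr 1) * v (Sum.inr 0)) =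
    u (Sum.inl (Sum.inl 0)) * v (Sum.inl (Sum.inr 0)) +
      u (Sum.inl (Sum.inr 0)) * v (Sum.inl (Sum.inl 0)) +
      u (Sum.inr 0) * v (Sum.inr 1) + u (Sum.inr 1) * v (Sum.inr 0)
  ring

theorem polar4 (u v : I4 → ZMod 2) : Q4 (u + v) = Q4 u + Q4 v + ∑ j, u j * v (starMinus 1 j) := by
  rw [B4_eq, Q4_eq, Q4_eq, Q4_eq, toT_add]
  have key : ∀ s t : T4, qt (s + t) = qt s + qt t + bt s t := by decide
  exact key _ _

/-- The singular points. -/
abbrev S4 : Type := {v : I4 → ZMod 2 // Q4 v = 0 ∧ v ≠ 0}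

theorem toT_ne_zero {v : I4 → ZMod 2} (h : v ≠ 0) : toT v ≠ 0 := by
  intro h0
  apply h
  rw [← ofT_toT v, h0, ofT_zero]

theorem card_S4 : Fintype.card S4 = 5 := by
  have e : S4 ≃ {t : T4 // qt t = 0 ∧ t ≠ 0} :=
    Equiv.subtypeEquiv ⟨toT, ofT, ofT_toT, toT_ofT⟩ (by
      intro v
      show Q4 v = 0 ∧ v ≠ 0 ↔ qt (toT v) = 0 ∧ toT v ≠ 0
      rw [Q4_eq]
      constructor
      · rintro ⟨h1, h2⟩
        exact ⟨h1, toT_ne_zero h2⟩
      · rintro ⟨h1, h2⟩
        refine ⟨h1, fun h => h2 ?_⟩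
        rw [h]
        rfl)
  rw [Fintype.card_congr e]
  decide

theorem B4_of_ne {x y : I4 → ZMod 2} (hx : Q4 x = 0) (hx0 : x ≠ 0) (hy : Q4 y = 0)
    (hy0 : y ≠ 0) (hxy : x ≠ y) : ∑ j, x j * y (starMinus 1 j) = 1 := by
  rw [B4_eq]
  have key : ∀ t t' : T4, (qt t = 0 ∧ t ≠ 0 ∧ qt t' = 0 ∧ t' ≠ 0 ∧ t ≠ t') → bt t t' = 1 := by
    decide
  apply key
  rw [← Q4_eq, ← Q4_eq]
  refine ⟨hx, toT_ne_zero hx0, hy, toT_ne_zero hy0, fun h => hxy ?_⟩
  rw [← ofT_toT x, h, ofT_toT]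

/-- The action of the isometry group on the singular points. -/
instance actS4 : MulAction ↥(Cfsg.isometryGroup (ZMod 2) Q4) S4 where
  smul A x := ⟨(A.1 : Matrix I4 I4 (ZMod 2)) *ᵥ x.1,
    (A.2 x.1 x.1 : Q4 ((A.1 : Matrix I4 I4 (ZMod 2)) *ᵥ x.1) = Q4 x.1).trans x.2.1,
    fun h => x.2.2 (by
      have h1 := congrArg (fun w => ((A.1⁻¹ : (Matrix I4 I4 (ZMod 2))ˣ) :
        Matrix I4 I4 (ZMod 2)) *ᵥ w) h
      simp only [mulVec_mulVec, mulVec_zero] at h1
      rw [← Units.val_mul, inv_mul_cancel, Units.val_one, one_mulVec] at h1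
      exact h1)⟩
  one_smul x := Subtype.ext (by
    show ((1 : ↥(Cfsg.isometryGroup (ZMod 2) Q4)).1 : Matrix I4 I4 (ZMod 2)) *ᵥ x.1 = x.1
    rw [Subgroup.coe_one, Units.val_one, one_mulVec])
  mul_smul A B x := Subtype.ext (by
    show ((A * B).1 : Matrix I4 I4 (ZMod 2)) *ᵥ x.1 =
      (A.1 : Matrix I4 I4 (ZMod 2)) *ᵥ ((B.1 : Matrix I4 I4 (ZMod 2)) *ᵥ x.1)
    rw [mulVec_mulVec]
    rfl)

theorem smul_S4_val (A : ↥(Cfsg.isometryGroup (ZMod 2) Q4)) (x : S4) :
    (A • x).1 = (A.1 : Matrix I4 I4 (ZMod 2)) *ᵥ x.1 := rfl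

theorem toPerm_injective :
    Function.Injective (MulAction.toPermHom ↥(Cfsg.isometryGroup (ZMod 2) Q4) S4) := by
  rw [injective_iff_map_eq_one]
  intro A hA
  have hfix : ∀ x : S4, (A.1 : Matrix I4 I4 (ZMod 2)) *ᵥ x.1 = x.1 := by
    intro x
    have h1 : A • x = x := by
      have h2 := congrArg (fun σ : Equiv.Perm S4 => σ x) hA
      exact h2
    rw [← smul_S4_val, h1]
  have hfix' : ∀ s : T4, qt s = 0 → (A.1 : Matrix I4 I4 (ZMod 2)) *ᵥ ofT s = ofT s := by
    intro s hs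
    by_cases h0 : s = 0
    · rw [h0, ofT_zero, mulVec_zero]
    · have hne : ofT s ≠ 0 := by
        intro h
        apply h0
        rw [← toT_ofT s, h]
        rfl
      exact hfix ⟨ofT s, by rw [Q4_eq, toT_ofT]; exact hs, hne⟩
  have hdec : ∀ t : T4, ∃ s s' : T4, qt s = 0 ∧ qt s' = 0 ∧ t = s + s' := by decide
  have hall : ∀ v : I4 → ZMod 2, (A.1 : Matrix I4 I4 (ZMod 2)) *ᵥ v = v := by
    intro v
    obtain ⟨s, s', hs, hs', hv⟩ := hdec (toT v)
    rw [← ofT_toT v, hv, ofT_add, mulVec_add, hfix' s hs, hfix' s' hs']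
  apply Subtype.ext
  apply Units.ext
  apply matrix_eq_of_mulVec
  intro v
  rw [hall v]
  exact (one_mulVec v).symm

theorem toPerm_surjective :
    Function.Surjective (MulAction.toPermHom ↥(Cfsg.isometryGroup (ZMod 2) Q4) S4) := by
  classical
  rw [← MonoidHom.range_eq_top, eq_top_iff, ← Equiv.Perm.closure_isSwap, Subgroup.closure_le]
  rintro σ ⟨x, y, hxy, rfl⟩
  have hxy' : x.1 ≠ y.1 := fun h => hxy (Subtype.ext h)
  have hB := B4_of_ne x.2.1 x.2.2 y.2.1 y.2.2 hxy'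
  have hu : Q4 (x.1 + y.1) = 1 := by
    rw [polar4, x.2.1, y.2.1, hB, zero_add, zero_add]
  refine ⟨⟨reflGL polar4 (x.1 + y.1), reflGL_mem polar4 hu⟩, ?_⟩
  apply Equiv.ext
  intro w
  apply Subtype.ext
  show ((⟨reflGL polar4 (x.1 + y.1), reflGL_mem polar4 hu⟩ :
    ↥(Cfsg.isometryGroup (ZMod 2) Q4)) • w).1 = ((Equiv.swap x y) w).1
  rw [smul_S4_val]
  show reflMat (starMinus 1) (x.1 + y.1) *ᵥ w.1 = _
  rw [reflMat_mulVec]
  have hsum : ∑ j, w.1 j * (x.1 + y.1) (starMinus 1 j) =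
      ∑ j, w.1 j * x.1 (starMinus 1 j) + ∑ j, w.1 j * y.1 (starMinus 1 j) := by
    simp only [Pi.add_apply, mul_add, Finset.sum_add_distrib]
  rw [hsum, Equiv.swap_apply_def]
  by_cases hwx : w = x
  · rw [if_pos hwx, hwx, polar_self polar4 x.1, hB, zero_add, one_smul, ← add_assoc]
    have hxx : x.1 + x.1 = 0 := by
      funext j
      exact CharTwo.add_self_eq_zero _
    rw [hxx, zero_add]
  · rw [if_neg hwx]
    by_cases hwy : w = y
    · rw [if_pos hwy, hwy, polar_self polar4 y.1,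
        B4_of_ne y.2.1 y.2.2 x.2.1 x.2.2 (fun h => hxy' h.symm), add_zero, one_smul,
        add_comm x.1 y.1, ← add_assoc]
      have hyy : y.1 + y.1 = 0 := by
        funext j
        exact CharTwo.add_self_eq_zero _
      rw [hyy, zero_add]
    · rw [if_neg hwy,
        B4_of_ne w.2.1 w.2.2 x.2.1 x.2.2 (fun h => hwx (Subtype.ext h)),
        B4_of_ne w.2.1 w.2.2 y.2.1 y.2.2 (fun h => hwy (Subtype.ext h)),
        show (1 : ZMod 2) + 1 = 0 from rfl, zero_smul, add_zero]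

/-- `O_4^-(2)` is the symmetric group of degree five. -/
theorem nonempty_o4minus_equiv :
    Nonempty (↥(Cfsg.isometryGroup (ZMod 2) (Cfsg.quadFormMinus 1 (ZMod 2) 1 1)) ≃*
      Equiv.Perm (Fin 5)) :=
  ⟨(MulEquiv.ofBijective (MulAction.toPermHom ↥(Cfsg.isometryGroup (ZMod 2) Q4) S4)
    ⟨toPerm_injective, toPerm_surjective⟩).trans
    (Equiv.permCongrHom (Fintype.equivFinOfCardEq card_S4))⟩

end O4

end Cfsg.Agent.Lib.helper92

namespace Cfsg.Agent.Lib.helper92

theorem conj_ker_eq_center (P : Type*) [Group P] :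
    (MulAut.conj : P →* MulAut P).ker = Subgroup.center P := by
  ext g
  rw [MonoidHom.mem_ker, Subgroup.mem_center_iff]
  constructor
  · intro h x
    have h1 := congrArg (fun f : MulAut P => f x) h
    have h2 : g * x * g⁻¹ = x := h1
    calc x * g = g * x * g⁻¹ * g := by rw [h2]
      _ = g * x := by group
  · intro h
    apply MulEquiv.ext
    intro x
    show g * x * g⁻¹ = x
    rw [← h x]
    group

/-- The automorphism group of the extraspecial group `2^{1+4}_-`. -/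
theorem out_minus32 {P : Type*} [Group P] [Finite P]
    (hex : Cfsg.IsExtraspecial 2 P) (h32 : Nat.card P = 32)
    (hminus : ∀ A : Subgroup P, Cfsg.IsElementaryAbelian 2 A → Nat.card ↥A ≤ 4) :
    Nat.card ↥(MulAut.conj : P →* MulAut P).range = 16 ∧ Nat.card (MulAut P) = 1920 ∧
      Nonempty (Cfsg.Out P ≃* Equiv.Perm (Fin 5)) := by
  have hno : ¬ ∃ A : Subgroup P, Cfsg.IsElementaryAbelian 2 A ∧ Nat.card ↥A = 2 ^ (2 + 1) := by
    rintro ⟨A, hA, hc⟩
    have h1 := hminus A hA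
    rw [hc] at h1
    norm_num at h1
  obtain ⟨e1⟩ := (out_extraspecial hex 2 (by norm_num) (by rw [h32]; norm_num)).2 hno
  obtain ⟨e2⟩ := nonempty_o4minus_equiv
  have e : Cfsg.Out P ≃* Equiv.Perm (Fin 5) := e1.trans e2
  have hinn : Nat.card ↥(MulAut.conj : P →* MulAut P).range = 16 := by
    have h1 := Subgroup.index_ker (MulAut.conj : P →* MulAut P)
    have h2 := Subgroup.index_mul_card (MulAut.conj : P →* MulAut P).ker
    rw [conj_ker_eq_center, hex.2, h32] at h2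
    rw [conj_ker_eq_center] at h1
    rw [← h1]
    omega
  refine ⟨hinn, ?_, ⟨e⟩⟩
  have h3 := Subgroup.card_eq_card_quotient_mul_card_subgroup (MulAut.conj : P →* MulAut P).range
  rw [h3, hinn]
  have h4 : Nat.card (MulAut P ⧸ (MulAut.conj : P →* MulAut P).range) = 120 := by
    rw [Nat.card_congr e.toEquiv, Nat.card_perm, Nat.card_fin]
    rfl
  rw [h4]

end Cfsg.Agent.Lib.helper92
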