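import Mathlib
import Cfsg.Agent.Lib.helper32.Dih2

set_option autoImplicit false

/-!
# An involution normalizing a self-centralizing subgroup of odd prime order (helper92)

`P ≤ G` of odd prime order `p` with `C_G(P) ≤ P`, `J ∈ N_G(P)` an involution.  Then `J` inverts
`P`, the involutions of `N_G(P)` conjugate to `J` are the elements of `P J`, and every
nonidentity element of `P` is a product of two conjugates of `J` in exactly `p` ways
(`inv_classProd`), whatever the order of `N_G(P)`.
-/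

namespace Cfsg.Agent.Lib.helper92

open Cfsg Cfsg.Agent.Lib.helper32

universe u

section InvGroup

variable {G : Type u} [Group G]

theorem inv_normalizer_facts {p : ℕ} (hp : p.Prime) (hp2 : p ≠ 2) (P : Subgroup G)
    (hP : Nat.card P = p) (hC : Subgroup.centralizer (P : Set G) ≤ P)
    (J : G) (hJN : J ∈ Subgroup.normalizer (P : Set G)) (hJ : orderOf J = 2) :
    J * J = 1 ∧ (∀ t : G, t * t = 1 → t ∈ P → t = 1) ∧ (∀ r ∈ P, J * r * J = r⁻¹) ∧
    (∀ z ∈ P, IsConj J (z * J)) := by
  have hJJ : J * J = 1 := by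
    rw [← pow_two, ← hJ]
    exact pow_orderOf_eq_one J
  have hJinv : J⁻¹ = J := inv_eq_of_mul_eq_one_left hJJ
  have hfin : Finite P := Nat.finite_of_card_ne_zero (by rw [hP]; exact hp.ne_zero)
  have hnot2 : ∀ t : G, t * t = 1 → t ∈ P → t = 1 := by
    intro t ht htP
    have h1 : orderOf t ∣ 2 := orderOf_dvd_of_pow_eq_one (by rw [pow_two]; exact ht)
    have h2 : orderOf t ∣ p := by
      have h3 := orderOf_dvd_natCard (⟨t, htP⟩ : P)
      rwa [hP, Subgroup.orderOf_mk] at h3
    have h4 : orderOf t ∣ Nat.gcd 2 p := Nat.dvd_gcd h1 h2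
    have h5 : Nat.gcd 2 p = 1 := by
      rw [Nat.coprime_primes Nat.prime_two hp |>.mpr (Ne.symm hp2)]
    rw [h5, Nat.dvd_one] at h4
    exact orderOf_eq_one_iff.mp h4
  have hJ1 : J ≠ 1 := by
    rintro rfl
    rw [orderOf_one] at hJ
    omega
  have hJP : J ∉ P := fun h => hJ1 (hnot2 J hJJ h)
  have hcomm : ∀ a ∈ P, ∀ b ∈ P, a * b = b * a := by
    intro a ha b hb
    have h := Cfsg.Agent.Lib.helper21.comm_of_prime_card (P := P) hp hP ⟨a, ha⟩ ⟨b, hb⟩
    exact congrArg Subtype.val h
  have hconjP : ∀ r ∈ P, J * r * J ∈ P := by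
    intro r hr
    have h := (Subgroup.mem_normalizer_iff.mp hJN r).mp hr
    rwa [hJinv] at h
  have hinv : ∀ r ∈ P, J * r * J = r⁻¹ := by
    intro r hr
    have hw : r * (J * r * J) ∈ P := mul_mem hr (hconjP r hr)
    have hJw : J * (r * (J * r * J)) = r * (J * r * J) * J := by
      calc J * (r * (J * r * J)) = (J * r * J) * (J * J) * r * J := by
            rw [hJJ]; group
        _ = (J * r * J) * r * J := by rw [hJJ, mul_one]
        _ = r * (J * r * J) * J := by rw [hcomm _ (hconjP r hr) _ hr]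
    by_cases hw1 : r * (J * r * J) = 1
    · exact eq_inv_of_mul_eq_one_right hw1
    · exact absurd (hC (mem_centralizer_of_commute_prime_card hp P hP hw hw1 hJw)) hJP
  refine ⟨hJJ, hnot2, hinv, ?_⟩
  intro z hz
  have hodd : Odd p := hp.eq_two_or_odd'.resolve_left hp2
  obtain ⟨k, hk⟩ := hodd
  have hzp : z ^ p = 1 := by
    have h3 := orderOf_dvd_natCard (⟨z, hz⟩ : P)
    rw [hP, Subgroup.orderOf_mk] at h3
    exact orderOf_dvd_iff_pow_eq_one.mp h3
  have hr : z ^ (k + 1) ∈ P := pow_mem hz _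
  have hrr : z ^ (k + 1) * z ^ (k + 1) = z := by
    rw [← pow_add]
    have : k + 1 + (k + 1) = p + 1 := by omega
    rw [this, pow_succ, hzp, one_mul]
  rw [isConj_iff]
  refine ⟨z ^ (k + 1), ?_⟩
  have h2 := hinv _ hr
  calc z ^ (k + 1) * J * (z ^ (k + 1))⁻¹
      = z ^ (k + 1) * J * (J * z ^ (k + 1) * J) := by rw [h2]
    _ = z ^ (k + 1) * (J * J) * z ^ (k + 1) * J := by group
    _ = z ^ (k + 1) * z ^ (k + 1) * J := by rw [hJJ, mul_one]
    _ = z * J := by rw [hrr]

end InvGroup

section InvCount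

variable {G : Type u} [Group G] [Fintype G]

open Cfsg.Agent.Lib.helper4 in
/-- Every nonidentity element of `P` is a product of two conjugates of `J` in exactly `p`
ways. -/
theorem inv_classProd {p : ℕ} (hp : p.Prime) (hp2 : p ≠ 2) (P : Subgroup G)
    (hP : Nat.card P = p) (hC : Subgroup.centralizer (P : Set G) ≤ P)
    (J : G) (hJN : J ∈ Subgroup.normalizer (P : Set G)) (hJ : orderOf J = 2)
    (y : G) (hy : y ∈ P) (hy1 : y ≠ 1) : classProd J y = p := by
  classical
  obtain ⟨hJJ, hnot2, hinv, hconj⟩ := inv_normalizer_facts hp hp2 P hP hC J hJN hJ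
  have hJinv : J⁻¹ = J := inv_eq_of_mul_eq_one_left hJJ
  have hJ1 : J ≠ 1 := by
    rintro rfl
    rw [orderOf_one] at hJ
    omega
  have hiff : ∀ a : G, (IsConj J a ∧ IsConj J (a⁻¹ * y)) ↔ ∃ z ∈ P, a = z * J := by
    intro a
    constructor
    · rintro ⟨h1, h2⟩
      obtain ⟨c, hc⟩ := isConj_iff.mp h1
      obtain ⟨d, hd⟩ := isConj_iff.mp h2
      have haa : a * a = 1 := by
        rw [← hc]
        calc c * J * c⁻¹ * (c * J * c⁻¹) = c * (J * J) * c⁻¹ := by group
          _ = 1 := by rw [hJJ]; group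
      have hbb : a⁻¹ * y * (a⁻¹ * y) = 1 := by
        rw [← hd]
        calc d * J * d⁻¹ * (d * J * d⁻¹) = d * (J * J) * d⁻¹ := by group
          _ = 1 := by rw [hJJ]; group
      have hainv : a⁻¹ = a := inv_eq_of_mul_eq_one_left haa
      have hay : a * y * a⁻¹ = y⁻¹ := by
        calc a * y * a⁻¹ = a * a * (a⁻¹ * y * (a⁻¹ * y)) * y⁻¹ := by group
          _ = y⁻¹ := by rw [hbb, haa]; group
      have hJy : J * y * J = y⁻¹ := hinv y hy
      -- `a * J` commutes with `y`
      have hcomm : (a * J) * y = y * (a * J) := by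
        calc (a * J) * y = a * (J * y * J) * (J * J)⁻¹ * J := by group
          _ = a * y⁻¹ * J := by rw [hJy, hJJ]; group
          _ = (a * y * a⁻¹)⁻¹ * a * J := by group
          _ = y * (a * J) := by rw [hay]; group
      have hmem : a * J ∈ P :=
        hC (mem_centralizer_of_commute_prime_card hp P hP hy hy1 hcomm)
      refine ⟨a * J, hmem, ?_⟩
      rw [mul_assoc, hJJ, mul_one]
    · rintro ⟨z, hz, rfl⟩
      refine ⟨hconj z hz, ?_⟩
      have h1 : (z * J)⁻¹ * y = (y⁻¹ * z) * J := by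
        have h2 := hinv (z⁻¹ * y) (mul_mem (inv_mem hz) hy)
        calc (z * J)⁻¹ * y = J⁻¹ * (z⁻¹ * y) := by group
          _ = J * (z⁻¹ * y) := by rw [hJinv]
          _ = J * (z⁻¹ * y) * J * J⁻¹ := by group
          _ = (z⁻¹ * y)⁻¹ * J⁻¹ := by rw [h2]
          _ = (y⁻¹ * z) * J := by rw [hJinv]; group
      rw [h1]
      exact hconj _ (mul_mem (inv_mem hy) hz)
  have hcard : (Finset.univ.filter (fun a : G => IsConj J a ∧ IsConj J (a⁻¹ * y))).card = p := by
    have e : Finset.univ.filter (fun a : G => IsConj J a ∧ IsConj J (a⁻¹ * y)) =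
        (Finset.univ.filter (fun a : G => a ∈ P)).image (fun z => z * J) := by
      ext a
      simp only [Finset.mem_filter, Finset.mem_univ, true_and, Finset.mem_image]
      rw [hiff a]
      constructor
      · rintro ⟨z, hz, rfl⟩; exact ⟨z, hz, rfl⟩
      · rintro ⟨z, hz, rfl⟩; exact ⟨z, hz, rfl⟩
    rw [e, Finset.card_image_of_injective _ (mul_left_injective J)]
    rw [← Fintype.card_subtype, ← Nat.card_eq_fintype_card]
    exact hP
  unfold classProd
  rw [Finset.sum_boole]
  have hcard' := hcard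
  rw [← hcard']

end InvCount

end Cfsg.Agent.Lib.helper92
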