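import Mathlib
import Cfsg.Agent.S0904
import Cfsg.Agent.Lib.helper75.SimpleOrdA
import Cfsg.Agent.Lib.helper6.IndexTwo
import Cfsg.Agent.Lib.helper92.Ord4320B

set_option autoImplicit false

/-!
# No simple group of order 4212 (helper92)

`4212 = 2^2 * 3^4 * 13`.  By Brauer–Tuan (S0904) a Sylow `13`-subgroup `P` is self-centralizing,
and `n_13 = 27`, so `|N(P)| = 156`.  Every involution of `N(P)` inverts `P`, so a subgroup of
order `4` of `N(P)` contains an element of order `4`; hence the Sylow `2`-subgroups of `G`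
(of order `4`) are cyclic and `G` has a subgroup of index `2`.
-/

namespace Cfsg.Agent.Lib.helper92

open Cfsg

/-- If `P` has odd prime order and is self-centralizing, every subgroup of order `4` of
`N(P)` contains an element of order `4`. -/
theorem order_four_of_normalizer {G : Type*} [Group G] {p : ℕ} (hp : p.Prime) (hp2 : p ≠ 2)
    (P : Subgroup G) (hP : Nat.card P = p) (hC : Subgroup.centralizer (P : Set G) ≤ P)
    (T : Subgroup G) (hT : Nat.card T = 4) (hTN : T ≤ Subgroup.normalizer (P : Set G)) :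
    ∃ x ∈ T, orderOf x = 4 := by
  by_contra hcon
  push Not at hcon
  have hfin : Finite T := Nat.finite_of_card_ne_zero (by rw [hT]; norm_num)
  have h2 : Fact (Nat.Prime 2) := ⟨Nat.prime_two⟩
  have hsq : ∀ x ∈ T, x * x = 1 := by
    intro x hx
    have h1 : orderOf x ∣ 4 := by
      have h3 := orderOf_dvd_natCard (⟨x, hx⟩ : T)
      rwa [hT, Subgroup.orderOf_mk] at h3
    have h4 := hcon x hx
    have hle : orderOf x ≤ 4 := Nat.le_of_dvd (by norm_num) h1
    have hd2 : orderOf x ∣ 2 := by
      obtain ⟨o, ho⟩ : ∃ o, o = orderOf x := ⟨_, rfl⟩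
      rw [← ho] at h1 h4 hle ⊢
      interval_cases o <;> omega
    rw [← pow_two]
    exact orderOf_dvd_iff_pow_eq_one.mp hd2
  -- a nonidentity element `s`
  obtain ⟨s, hs, hs1⟩ : ∃ s ∈ T, s ≠ 1 := by
    by_contra h
    push Not at h
    have : T = ⊥ := (Subgroup.eq_bot_iff_forall T).mpr h
    rw [this, Subgroup.card_bot] at hT
    omega
  have hss := hsq s hs
  have hos : orderOf s = 2 := orderOf_eq_prime (by rw [pow_two]; exact hss) hs1
  -- an element outside `⟨s⟩`
  obtain ⟨t, ht, htz⟩ : ∃ t ∈ T, t ∉ Subgroup.zpowers s := by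
    by_contra h
    push Not at h
    have hle : T ≤ Subgroup.zpowers s := h
    have hd := Subgroup.card_dvd_of_le hle
    rw [hT, Nat.card_zpowers, hos] at hd
    omega
  have ht1 : t ≠ 1 := fun h => htz (h ▸ one_mem _)
  have htt := hsq t ht
  have hot : orderOf t = 2 := orderOf_eq_prime (by rw [pow_two]; exact htt) ht1
  obtain ⟨-, hnot2, hinv_s, -⟩ := inv_normalizer_facts hp hp2 P hP hC s (hTN hs) hos
  obtain ⟨-, -, hinv_t, -⟩ := inv_normalizer_facts hp hp2 P hP hC t (hTN ht) hot
  have hts : (t * s) * (s * t) = 1 := by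
    calc (t * s) * (s * t) = t * (s * s) * t := by group
      _ = 1 := by rw [hss, mul_one, htt]
  have hcent : s * t ∈ Subgroup.centralizer (P : Set G) := by
    rw [Subgroup.mem_centralizer_iff]
    intro r hr
    have key : (s * t) * r * (t * s) = r := by
      calc (s * t) * r * (t * s) = s * (t * r * t) * s := by group
        _ = s * r⁻¹ * s := by rw [hinv_t r hr]
        _ = r := by rw [hinv_s r⁻¹ (inv_mem hr), inv_inv]
    calc r * (s * t) = ((s * t) * r * (t * s)) * (s * t) := by rw [key]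
      _ = (s * t) * r * ((t * s) * (s * t)) := by group
      _ = (s * t) * r := by rw [hts, mul_one]
  have hst1 : s * t = 1 := hnot2 _ (hsq _ (mul_mem hs ht)) (hC hcent)
  apply htz
  have : t = s⁻¹ := eq_inv_of_mul_eq_one_right hst1
  rw [this]
  exact inv_mem (Subgroup.mem_zpowers s)

/-- A simple group in which a self-centralizing subgroup of odd prime order has a normalizer
containing a subgroup of order `4`, while `8 ∤ |G|`, does not exist. -/
theorem not_simple_of_normalizer_four {G : Type*} [Group G] [Finite G] [IsSimpleGroup G]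
    {p : ℕ} (hp : p.Prime) (hp2 : p ≠ 2) (P : Subgroup G) (hP : Nat.card P = p)
    (hC : Subgroup.centralizer (P : Set G) ≤ P)
    (h4 : 4 ∣ Nat.card (Subgroup.normalizer (P : Set G))) (h8 : ¬ 8 ∣ Nat.card G) : False := by
  have h2 : Fact (Nat.Prime 2) := ⟨Nat.prime_two⟩
  obtain ⟨K, hK⟩ := Sylow.exists_subgroup_card_pow_prime
    (G := Subgroup.normalizer (P : Set G)) 2 (n := 2) (by norm_num; exact h4)
  obtain ⟨T, hT⟩ : ∃ T : Subgroup G, T = K.map (Subgroup.normalizer (P : Set G)).subtype :=
    ⟨_, rfl⟩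
  have hTcard : Nat.card T = 4 := by
    rw [hT, Subgroup.card_map_of_injective (Subgroup.subtype_injective _), hK]
    norm_num
  have hTN : T ≤ Subgroup.normalizer (P : Set G) := by
    rw [hT]; exact Subgroup.map_subtype_le _
  obtain ⟨x, hxT, hx4⟩ := order_four_of_normalizer hp hp2 P hP hC T hTcard hTN
  have hTp : IsPGroup 2 T := IsPGroup.of_card (n := 2) (by rw [hTcard]; norm_num)
  obtain ⟨Q, hQ⟩ := hTp.exists_le_sylow
  have hQcard : Nat.card Q = 4 := by
    obtain ⟨j, hj⟩ := Q.2.exists_card_eq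
    have h1 : Nat.card Q ∣ Nat.card G := Subgroup.card_subgroup_dvd_card _
    have h2' : 4 ∣ Nat.card Q := by rw [← hTcard]; exact Subgroup.card_dvd_of_le hQ
    rw [hj] at h1 h2' ⊢
    have hj2 : j ≤ 2 := by
      by_contra hcon
      push Not at hcon
      have h3 : 2 ^ 3 ∣ 2 ^ j := pow_dvd_pow 2 hcon
      exact h8 (h3.trans h1)
    interval_cases j <;> omega
  have hcyc : IsCyclic Q := by
    have hxQ : x ∈ (Q : Subgroup G) := hQ hxT
    apply isCyclic_of_orderOf_eq_card (⟨x, hxQ⟩ : Q)
    rw [Subgroup.orderOf_mk, hx4]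
    exact hQcard.symm
  have hev : Even (Nat.card G) := by
    have h1 : Nat.card Q ∣ Nat.card G := Subgroup.card_subgroup_dvd_card _
    rw [hQcard] at h1
    exact even_iff_two_dvd.mpr (Dvd.dvd.trans (by norm_num) h1)
  obtain ⟨H, hH⟩ := Cfsg.Agent.Lib.helper6.exists_index_two_of_cyclic_sylow Q hcyc hev
  have hHn : H.Normal := Subgroup.normal_of_index_eq_two hH
  have h1 : Nat.card Q ∣ Nat.card G := Subgroup.card_subgroup_dvd_card _
  rw [hQcard] at h1
  rcases hHn.eq_bot_or_eq_top with h | h
  · rw [h, Subgroup.index_bot] at hH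
    rw [hH] at h1
    omega
  · rw [h, Subgroup.index_top] at hH
    omega

open MulAction in
/-- No finite simple group has order `4212 = 2^2 * 3^4 * 13`. -/
theorem no_simple_4212 {G : Type*} [Group G] [Finite G] [IsSimpleGroup G] :
    Nat.card G ≠ 4212 := by
  intro hS
  have h13 : Fact (Nat.Prime 13) := ⟨by norm_num⟩
  obtain ⟨P⟩ : Nonempty (Sylow 13 G) := inferInstance
  obtain ⟨hP, hn1, hmod, ⟨k, hk, hnk⟩, e, he, he1, hCe⟩ :=
    Cfsg.Agent.Lib.helper75.sylow_setup (p := 13) 324 (by rw [hS]) (by norm_num) (by norm_num) P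
  have hCP : Subgroup.centralizer ((P : Subgroup G) : Set G) = (P : Subgroup G) :=
    Cfsg.Agent.S0904.result 2 3 13 2 4 Nat.prime_two Nat.prime_three (by norm_num) (by norm_num)
      (by norm_num) (by rw [hS]; norm_num) P
  obtain ⟨n, hn⟩ : ∃ n, n = Nat.card (Sylow 13 G) := ⟨_, rfl⟩
  rw [← hn] at hmod hnk hn1
  have hnd : n ∣ 324 := Dvd.intro _ hnk
  have hnle : n ≤ 324 := Nat.le_of_dvd (by norm_num) hnd
  have hn27 : n = 27 := by
    clear hnk hn
    interval_cases n <;> omega
  have hk12 : k = 12 := by rw [hn27] at hnk; omega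
  rw [hk12] at hk
  have hNcard : Nat.card (Subgroup.normalizer ((P : Subgroup G) : Set G)) = 13 * 12 := by
    rw [← hk, Sylow.stabilizer_eq_normalizer]
    rfl
  exact not_simple_of_normalizer_four (by norm_num : Nat.Prime 13) (by norm_num)
    (P : Subgroup G) hP (le_of_eq hCP) (by rw [hNcard]; norm_num) (by rw [hS]; norm_num)

end Cfsg.Agent.Lib.helper92
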