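import Mathlib

set_option autoImplicit false

/-!
# Arithmetic core for the non-existence of a simple group of order 4320 (helper92)

`arith4320`: there are no four signed degrees `s_i ∈ {6, 16, 36, -4, -9, -24, -54}` with
`∑ s_i = -1` and signed values `w_i = s_i - 4 sign(s_i) k_i` (`2 k_i ≤ |s_i|`) at an involution
with `1 + ∑ w_i = 0`, `c² = 864 (1 + ∑ w_i² / s_i)` and `1 + ∑ w_i² ≤ c`.
The finite search is done by the kernel (`decide +kernel`).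
-/

namespace Cfsg.Agent.Lib.helper92

/-- signed degrees allowed for the four non-principal constituents -/
def s4320 : List ℤ := [6, 16, 36, -4, -9, -24, -54]

/-- signed character value at the involution: `w = s - 4 * sign s * k` -/
def w4320 (s : ℤ) (k : ℕ) : ℤ := s - 4 * Int.sign s * (k : ℤ)

/-- signed degrees with their lists of admissible signed values -/
def p4320 : List (ℤ × List ℤ) :=
  [(6, [6, 2, -2, -6]),
   (16, [16, 12, 8, 4, 0, -4, -8, -12, -16]),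
   (36, [36, 32, 28, 24, 20, 16, 12, 8, 4, 0, -4, -8, -12, -16, -20, -24, -28, -32, -36]),
   (-4, [-4, 0, 4]),
   (-9, [-9, -5, -1, 3, 7]),
   (-24, [-24, -20, -16, -12, -8, -4, 0, 4, 8, 12, 16, 20, 24]),
   (-54, [-54, -50, -46, -42, -38, -34, -30, -26, -22, -18, -14, -10, -6, -2, 2, 6, 10, 14, 18, 22, 26, 30, 34, 38, 42, 46, 50, 54])]

/-- product of the signed degrees -/
def n4320 (s1 s2 s3 s4 : ℤ) : ℤ := s1 * s2 * s3 * s4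

/-- `864 (1 + ∑ w_i² / s_i)` times the product of the signed degrees -/
def x4320 (s1 s2 s3 s4 w1 w2 w3 w4 : ℤ) : ℤ :=
  864 * (s1 * s2 * s3 * s4 + w1 ^ 2 * (s2 * s3 * s4) + w2 ^ 2 * (s1 * s3 * s4)
    + w3 ^ 2 * (s1 * s2 * s4) + w4 ^ 2 * (s1 * s2 * s3))

/-- the column sum `1 + ∑ w_i²` -/
def m4320 (w1 w2 w3 w4 : ℤ) : ℤ := 1 + w1 ^ 2 + w2 ^ 2 + w3 ^ 2 + w4 ^ 2

/-- the final test for one candidate -/
def row4320 (s1 s2 s3 s4 w1 w2 w3 w4 : ℤ) : Bool :=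
  !(decide (w4.natAbs ≤ s4.natAbs) && decide ((s4 - w4) % 4 = 0)
      && decide (x4320 s1 s2 s3 s4 w1 w2 w3 w4 % n4320 s1 s2 s3 s4 = 0)
      && decide (m4320 w1 w2 w3 w4 ^ 2 ≤ x4320 s1 s2 s3 s4 w1 w2 w3 w4 / n4320 s1 s2 s3 s4)) ||
    (decide (x4320 s1 s2 s3 s4 w1 w2 w3 w4 / n4320 s1 s2 s3 s4 < 160000) &&
      (List.range 400).all fun r =>
        decide (r * r ≠ (x4320 s1 s2 s3 s4 w1 w2 w3 w4 / n4320 s1 s2 s3 s4).toNat))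

set_option maxRecDepth 100000 in
theorem core4320 : ∀ p1 ∈ p4320, ∀ p2 ∈ p4320, ∀ p3 ∈ p4320, ∀ p4 ∈ p4320,
    p1.1 + p2.1 + p3.1 + p4.1 = -1 → ∀ w1 ∈ p1.2, ∀ w2 ∈ p2.2, ∀ w3 ∈ p3.2,
      row4320 p1.1 p2.1 p3.1 p4.1 w1 w2 w3 (-1 - w1 - w2 - w3) = true := by
  decide +kernel

set_option maxRecDepth 100000 in
theorem mem_p4320 : ∀ s ∈ s4320, s ≠ 0 ∧ s.natAbs ≤ 54 ∧ ∀ k ∈ List.range 28, 2 * k ≤ s.natAbs →
    ∃ p ∈ p4320, p.1 = s ∧ w4320 s k ∈ p.2 := by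
  decide +kernel

theorem w4320_bound (s : ℤ) (k : ℕ) (hk : 2 * k ≤ s.natAbs) :
    (w4320 s k).natAbs ≤ s.natAbs ∧ (s - w4320 s k) % 4 = 0 := by
  unfold w4320
  constructor
  · rcases lt_trichotomy s 0 with h | h | h
    · rw [Int.sign_eq_neg_one_of_neg h]; omega
    · rw [h]; simp
    · rw [Int.sign_eq_one_of_pos h]; omega
  · have : s - (s - 4 * Int.sign s * (k : ℤ)) = 4 * (Int.sign s * (k : ℤ)) := by ring
    rw [this, Int.mul_emod_right]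

theorem arith4320 (s1 s2 s3 s4 : ℤ) (k1 k2 k3 k4 : ℕ) (c : ℕ)
    (h1 : s1 ∈ s4320) (h2 : s2 ∈ s4320) (h3 : s3 ∈ s4320) (h4 : s4 ∈ s4320)
    (hsum : s1 + s2 + s3 + s4 = -1)
    (hk1 : 2 * k1 ≤ s1.natAbs) (hk2 : 2 * k2 ≤ s2.natAbs) (hk3 : 2 * k3 ≤ s3.natAbs)
    (hk4 : 2 * k4 ≤ s4.natAbs)
    (hlin : 1 + w4320 s1 k1 + w4320 s2 k2 + w4320 s3 k3 + w4320 s4 k4 = 0)
    (hsq : (c : ℤ) ^ 2 * (s1 * s2 * s3 * s4) = 864 * (s1 * s2 * s3 * s4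
        + (w4320 s1 k1) ^ 2 * (s2 * s3 * s4) + (w4320 s2 k2) ^ 2 * (s1 * s3 * s4)
        + (w4320 s3 k3) ^ 2 * (s1 * s2 * s4) + (w4320 s4 k4) ^ 2 * (s1 * s2 * s3)))
    (hcol : 1 + (w4320 s1 k1) ^ 2 + (w4320 s2 k2) ^ 2 + (w4320 s3 k3) ^ 2 + (w4320 s4 k4) ^ 2
        ≤ (c : ℤ)) : False := by
  obtain ⟨n1, b1, m1⟩ := mem_p4320 s1 h1
  obtain ⟨n2, b2, m2⟩ := mem_p4320 s2 h2
  obtain ⟨n3, b3, m3⟩ := mem_p4320 s3 h3
  obtain ⟨n4, b4, m4⟩ := mem_p4320 s4 h4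
  obtain ⟨p1, hp1, e1, q1⟩ := m1 k1 (List.mem_range.mpr (by omega)) hk1
  obtain ⟨p2, hp2, e2, q2⟩ := m2 k2 (List.mem_range.mpr (by omega)) hk2
  obtain ⟨p3, hp3, e3, q3⟩ := m3 k3 (List.mem_range.mpr (by omega)) hk3
  obtain ⟨p4, hp4, e4, -⟩ := m4 k4 (List.mem_range.mpr (by omega)) hk4
  have hw4 : -1 - w4320 s1 k1 - w4320 s2 k2 - w4320 s3 k3 = w4320 s4 k4 := by linarith
  have hrow := core4320 p1 hp1 p2 hp2 p3 hp3 p4 hp4 (by rw [e1, e2, e3, e4]; exact hsum)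
    _ q1 _ q2 _ q3
  rw [e1, e2, e3, e4, hw4] at hrow
  obtain ⟨hb1, hb2⟩ := w4320_bound s4 k4 hk4
  obtain ⟨w1, hw1⟩ : ∃ w, w = w4320 s1 k1 := ⟨_, rfl⟩
  obtain ⟨w2, hw2⟩ : ∃ w, w = w4320 s2 k2 := ⟨_, rfl⟩
  obtain ⟨w3, hw3⟩ : ∃ w, w = w4320 s3 k3 := ⟨_, rfl⟩
  obtain ⟨w4, hw4'⟩ : ∃ w, w = w4320 s4 k4 := ⟨_, rfl⟩
  rw [← hw1, ← hw2, ← hw3, ← hw4'] at hrow hsq hcol
  rw [← hw4'] at hb1 hb2
  have hN : n4320 s1 s2 s3 s4 ≠ 0 := by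
    unfold n4320
    exact mul_ne_zero (mul_ne_zero (mul_ne_zero n1 n2) n3) n4
  have hX : x4320 s1 s2 s3 s4 w1 w2 w3 w4 = (c : ℤ) ^ 2 * n4320 s1 s2 s3 s4 := by
    unfold x4320 n4320; exact hsq.symm
  have hmod : x4320 s1 s2 s3 s4 w1 w2 w3 w4 % n4320 s1 s2 s3 s4 = 0 := by
    rw [hX]; exact Int.mul_emod_left _ _
  have hdiv : x4320 s1 s2 s3 s4 w1 w2 w3 w4 / n4320 s1 s2 s3 s4 = (c : ℤ) ^ 2 := by
    rw [hX]; exact Int.mul_ediv_cancel _ hN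
  have hm : m4320 w1 w2 w3 w4 ^ 2 ≤ (c : ℤ) ^ 2 := by
    have h0 : 0 ≤ m4320 w1 w2 w3 w4 := by unfold m4320; positivity
    have h1' : m4320 w1 w2 w3 w4 ≤ (c : ℤ) := by unfold m4320; exact hcol
    exact pow_le_pow_left₀ h0 h1' 2
  unfold row4320 at hrow
  rw [hmod, hdiv] at hrow
  simp only [hb1, hb2, hm, decide_true, Bool.and_self, Bool.not_true, Bool.false_or,
    Bool.and_eq_true, decide_eq_true_eq, List.all_eq_true, List.mem_range] at hrow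
  obtain ⟨hlt, hall⟩ := hrow
  have hc : c < 400 := by
    by_contra hge
    push Not at hge
    have : (400 : ℤ) ≤ c := by exact_mod_cast hge
    nlinarith
  have := hall c hc
  apply this
  have : ((c : ℤ) ^ 2).toNat = c ^ 2 := by
    have : ((c : ℤ) ^ 2) = ((c ^ 2 : ℕ) : ℤ) := by push_cast; ring
    rw [this, Int.toNat_natCast]
  rw [this, pow_two]

end Cfsg.Agent.Lib.helper92
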