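import Mathlib
import Cfsg.Agent.Lib.helper32.Dih2
import Cfsg.Agent.Lib.helper81.CharOrtho
import Cfsg.Agent.Lib.helper92.InvDet
import Cfsg.Agent.Lib.helper92.Ord4320A
import Cfsg.Agent.Lib.helper92.Ord4320B

set_option autoImplicit false

/-!
# No simple group of order 4320 with a self-centralizing Sylow 5-subgroup (helper92)

`P ≤ G` of order `5`, `C_G(P) ≤ P`, `|N_G(P)| = 20`, `G` simple of order `4320`.  Then
`(1_P - λ)^G = 1 + ε₁ ψ₁ + ε₂ ψ₂ + ε₃ ψ₃ + ε₄ ψ₄` (norm `5`), `ψᵢ(1) ≡ εᵢ (mod 5)`, and the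
class equation for an involution `J ∈ N_G(P)` (exactly `5` factorizations of `y ∈ P#` as a
product of two conjugates of `J`) together with `ψ(1) ≡ ψ(J) (mod 4)` and column orthogonality
contradict `Ord4320A.arith4320`.
-/

namespace Cfsg.Agent.Lib.helper92

open Cfsg
open scoped ComplexConjugate

universe u

section SumSq

theorem exists_of_sum_sq_eq_four {ι : Type*} [DecidableEq ι] (s : Finset ι) (a : ι → ℤ)
    (h : ∑ x ∈ s, a x ^ 2 = 4) :
    (∃ x ∈ s, (a x = 2 ∨ a x = -2) ∧ ∀ y ∈ s, y ≠ x → a y = 0) ∨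
    (∃ x1 ∈ s, ∃ x2 ∈ s, ∃ x3 ∈ s, ∃ x4 ∈ s, x1 ≠ x2 ∧ x1 ≠ x3 ∧ x1 ≠ x4 ∧ x2 ≠ x3 ∧ x2 ≠ x4 ∧
      x3 ≠ x4 ∧ (a x1 = 1 ∨ a x1 = -1) ∧ (a x2 = 1 ∨ a x2 = -1) ∧ (a x3 = 1 ∨ a x3 = -1) ∧
      (a x4 = 1 ∨ a x4 = -1) ∧ ∀ y ∈ s, y ≠ x1 → y ≠ x2 → y ≠ x3 → y ≠ x4 → a y = 0) := by
  have hex : ∀ (t : Finset ι) (m : ℤ), 0 < m → ∑ x ∈ t, a x ^ 2 = m →
      ∃ x ∈ t, a x ≠ 0 ∧ a x ^ 2 ≤ m ∧ ∑ y ∈ t.erase x, a y ^ 2 = m - a x ^ 2 := by
    intro t m hm ht
    have h1 : ∃ x ∈ t, a x ≠ 0 := by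
      by_contra hcon
      push Not at hcon
      rw [Finset.sum_eq_zero (fun x hx => by rw [hcon x hx]; rfl)] at ht
      omega
    obtain ⟨x, hx, hx0⟩ := h1
    have h2 := Finset.add_sum_erase t (fun y => a y ^ 2) hx
    have h3 : 0 ≤ ∑ y ∈ t.erase x, a y ^ 2 := Finset.sum_nonneg (fun y _ => sq_nonneg _)
    exact ⟨x, hx, hx0, by linarith, by linarith⟩
  obtain ⟨x1, hx1, h10, h1le, h1rest⟩ := hex s 4 (by norm_num) h
  have hx1c : a x1 = 1 ∨ a x1 = -1 ∨ a x1 = 2 ∨ a x1 = -2 := by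
    have h1 : -2 ≤ a x1 := by nlinarith
    have h2 : a x1 ≤ 2 := by nlinarith
    obtain ⟨v, hv⟩ : ∃ v, v = a x1 := ⟨_, rfl⟩
    rw [← hv] at h1 h2 h10 ⊢
    interval_cases v <;> simp at h10 ⊢
  have hzero : ∀ (t : Finset ι), ∑ y ∈ t, a y ^ 2 = 0 → ∀ y ∈ t, a y = 0 := by
    intro t ht y hy
    have := (Finset.sum_eq_zero_iff_of_nonneg (fun y _ => sq_nonneg (a y))).mp ht y hy
    exact pow_eq_zero_iff (two_ne_zero) |>.mp this
  rcases hx1c with h1 | h1 | h1 | h1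
  · -- a x1 = 1
    rw [h1] at h1rest
    obtain ⟨x2, hx2, h20, h2le, h2rest⟩ := hex (s.erase x1) 3 (by norm_num) (by rw [h1rest]; norm_num)
    have hx2c : a x2 = 1 ∨ a x2 = -1 := by
      have h1' : -1 ≤ a x2 := by nlinarith
      have h2' : a x2 ≤ 1 := by nlinarith
      obtain ⟨v, hv⟩ : ∃ v, v = a x2 := ⟨_, rfl⟩
      rw [← hv] at h1' h2' h20 ⊢
      interval_cases v <;> simp at h20 ⊢
    have h2sq : a x2 ^ 2 = 1 := by rcases hx2c with h | h <;> rw [h] <;> norm_num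
    rw [h2sq] at h2rest
    obtain ⟨x3, hx3, x4, hx4, h34, hc3, hc4, hrest⟩ :=
      Cfsg.Agent.Lib.helper21.exists_of_sum_sq_eq_two ((s.erase x1).erase x2) a
        (by rw [h2rest]; norm_num)
    right
    have m2 := Finset.mem_erase.mp hx2
    have m3 := Finset.mem_erase.mp hx3
    have m3' := Finset.mem_erase.mp m3.2
    have m4 := Finset.mem_erase.mp hx4
    have m4' := Finset.mem_erase.mp m4.2
    refine ⟨x1, hx1, x2, m2.2, x3, m3'.2, x4, m4'.2, Ne.symm m2.1, Ne.symm m3'.1, Ne.symm m4'.1,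
      Ne.symm m3.1, Ne.symm m4.1, h34, Or.inl h1, hx2c, hc3, hc4, ?_⟩
    intro y hy hy1 hy2 hy3 hy4
    exact hrest y (Finset.mem_erase.mpr ⟨hy2, Finset.mem_erase.mpr ⟨hy1, hy⟩⟩) hy3 hy4
  · -- a x1 = -1
    rw [h1] at h1rest
    obtain ⟨x2, hx2, h20, h2le, h2rest⟩ := hex (s.erase x1) 3 (by norm_num) (by rw [h1rest]; norm_num)
    have hx2c : a x2 = 1 ∨ a x2 = -1 := by
      have h1' : -1 ≤ a x2 := by nlinarith
      have h2' : a x2 ≤ 1 := by nlinarith
      obtain ⟨v, hv⟩ : ∃ v, v = a x2 := ⟨_, rfl⟩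
      rw [← hv] at h1' h2' h20 ⊢
      interval_cases v <;> simp at h20 ⊢
    have h2sq : a x2 ^ 2 = 1 := by rcases hx2c with h | h <;> rw [h] <;> norm_num
    rw [h2sq] at h2rest
    obtain ⟨x3, hx3, x4, hx4, h34, hc3, hc4, hrest⟩ :=
      Cfsg.Agent.Lib.helper21.exists_of_sum_sq_eq_two ((s.erase x1).erase x2) a
        (by rw [h2rest]; norm_num)
    right
    have m2 := Finset.mem_erase.mp hx2
    have m3 := Finset.mem_erase.mp hx3
    have m3' := Finset.mem_erase.mp m3.2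
    have m4 := Finset.mem_erase.mp hx4
    have m4' := Finset.mem_erase.mp m4.2
    refine ⟨x1, hx1, x2, m2.2, x3, m3'.2, x4, m4'.2, Ne.symm m2.1, Ne.symm m3'.1, Ne.symm m4'.1,
      Ne.symm m3.1, Ne.symm m4.1, h34, Or.inr h1, hx2c, hc3, hc4, ?_⟩
    intro y hy hy1 hy2 hy3 hy4
    exact hrest y (Finset.mem_erase.mpr ⟨hy2, Finset.mem_erase.mpr ⟨hy1, hy⟩⟩) hy3 hy4
  · left
    rw [h1] at h1rest
    refine ⟨x1, hx1, Or.inl h1, fun y hy hne => ?_⟩
    exact hzero (s.erase x1) (by rw [h1rest]; norm_num) y (Finset.mem_erase.mpr ⟨hne, hy⟩)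
  · left
    rw [h1] at h1rest
    refine ⟨x1, hx1, Or.inr h1, fun y hy hne => ?_⟩
    exact hzero (s.erase x1) (by rw [h1rest]; norm_num) y (Finset.mem_erase.mpr ⟨hne, hy⟩)

theorem sum_five {ι : Type*} [DecidableEq ι] {M : Type*} [AddCommMonoid M] (a b c d e : ι)
    (hab : a ≠ b) (hac : a ≠ c) (had : a ≠ d) (hae : a ≠ e) (hbc : b ≠ c) (hbd : b ≠ d)
    (hbe : b ≠ e) (hcd : c ≠ d) (hce : c ≠ e) (hde : d ≠ e) (f : ι → M) :
    ∑ x ∈ ({a, b, c, d, e} : Finset ι), f x = f a + (f b + (f c + (f d + f e))) := by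
  rw [Finset.sum_insert (by simp [hab, hac, had, hae]), Finset.sum_insert (by simp [hbc, hbd, hbe]),
    Finset.sum_insert (by simp [hcd, hce]), Finset.sum_pair hde]

/-- one signed degree for the arithmetic core -/
theorem deg4320 (n k : ℕ) (ε : ℤ) (hε : ε = 1 ∨ ε = -1) (h2 : 2 ≤ n) (hd : n ∣ 4320)
    (hle : n ≤ 65) (hmod : (5 : ℤ) ∣ (n : ℤ) - ε) :
    ε * (n : ℤ) ∈ s4320 ∧ (ε * (n : ℤ)).natAbs = n ∧
      w4320 (ε * (n : ℤ)) k = ε * ((n : ℤ) - 4 * (k : ℤ)) := by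
  have hn0 : (0 : ℤ) < n := by exact_mod_cast (by omega : 0 < n)
  rcases hε with rfl | rfl
  · refine ⟨?_, by simp, ?_⟩
    · interval_cases n <;> first | omega | simp [s4320]
    · unfold w4320
      rw [one_mul, Int.sign_eq_one_of_pos hn0]; ring
  · refine ⟨?_, by simp, ?_⟩
    · interval_cases n <;> first | omega | simp [s4320]
    · unfold w4320
      rw [Int.sign_eq_neg_one_of_neg (by linarith)]; ring

end SumSq

section Main

variable {G : Type u} [Group G] [Fintype G]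

open Cfsg.Agent.Lib.helper4 Cfsg.Agent.Lib.helper21 in
/-- `(1_P - λ)^G` for `|P| = 5`, `C(P) = P`, `|N(P)| = 20`: norm `5`, and every irreducible
degree is congruent mod `5` to its multiplicity. -/
theorem beta4320 [Fintype (IrrCharacter G)] (P : Subgroup G) (hP : Nat.card P = 5)
    (hC : Subgroup.centralizer (P : Set G) ≤ P)
    (hN : Nat.card (Subgroup.normalizer (P : Set G)) = 5 * 4) :
    ∃ (lam : P → ℂ) (c : IrrCharacter G → ℤ), IsIrrCharacter P lam ∧ lam ≠ (fun _ => 1) ∧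
      indFun P ((fun _ => (1 : ℂ)) - lam) = ∑ ψ : IrrCharacter G, (c ψ : ℂ) • (ψ : G → ℂ) ∧
      c ⟨fun _ => (1 : ℂ), isIrrCharacter_one⟩ = 1 ∧
      ∑ ψ : IrrCharacter G, c ψ ^ 2 = 5 ∧
      ∀ ψ : IrrCharacter G, ∃ m : ℤ, (ψ : G → ℂ) 1 = ((c ψ + 5 * m : ℤ) : ℂ) := by
  classical
  have hp : (5 : ℕ).Prime := by norm_num
  have : Fintype P := Fintype.ofFinite P
  have : Fintype (IrrCharacter P) := Fintype.ofFinite _
  have h1P : IsIrrCharacter P (fun _ => (1 : ℂ)) := isIrrCharacter_one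
  have hcardIrr : Fintype.card (IrrCharacter P) = 5 := by
    have h := sum_irr_degree_sq (G := P)
    have h2 : ∀ χ : IrrCharacter P, (χ : P → ℂ) 1 ^ 2 = 1 := fun χ => by
      rw [irr_apply_one_of_prime_card hp hP χ.2, one_pow]
    rw [Finset.sum_congr rfl (fun χ _ => h2 χ), Finset.sum_const, Finset.card_univ, hP] at h
    have h' : ((Fintype.card (IrrCharacter P) : ℕ) : ℂ) = ((5 : ℕ) : ℂ) := by simpa using h
    exact_mod_cast h'
  obtain ⟨trivP, htrivP⟩ : ∃ t : IrrCharacter P, t = ⟨fun _ => (1 : ℂ), h1P⟩ := ⟨_, rfl⟩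
  have htrivPval : (trivP : P → ℂ) = fun _ => (1 : ℂ) := by rw [htrivP]
  obtain ⟨lamI, hlamI⟩ : ∃ l : IrrCharacter P, l ≠ trivP := by
    have : Nontrivial (IrrCharacter P) := by
      rw [← Fintype.one_lt_card_iff_nontrivial, hcardIrr]; norm_num
    exact exists_ne _
  obtain ⟨lam, hlam⟩ : ∃ lam : P → ℂ, lam = (lamI : P → ℂ) := ⟨_, rfl⟩
  have hlm : IsIrrCharacter P lam := by rw [hlam]; exact lamI.2
  have hlm1 : lam ≠ fun _ => (1 : ℂ) := fun h =>
    hlamI (Subtype.ext (by rw [← hlam, h, htrivPval]))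
  have hlmone : lam 1 = 1 := irr_apply_one_of_prime_card hp hP hlm
  obtain ⟨β, hβ⟩ : ∃ β : G → ℂ, β = indFun P ((fun _ => (1 : ℂ)) - lam) := ⟨_, rfl⟩
  have hβeq : β = indFun P (fun _ => (1 : ℂ)) - indFun P lam := by
    rw [hβ]; exact indFun_sub P _ lam
  have hnorm : classInner β β = 5 := by
    rw [hβeq, classInner_indFun_sub_indFun_sub hp hP h1P hlm,
      tiK_eq_tiCount hp hP h1P h1P, tiK_eq_tiCount hp hP h1P hlm,
      tiK_eq_tiCount hp hP hlm h1P, tiK_eq_tiCount hp hP hlm hlm,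
      tiCount_one_one, tiCount_one_right hlm1, tiCount_one_left hlm1,
      tiCount_self hp hP hC hlm hlm1, hN, hP]
    push_cast
    norm_num
  have hgen1 : IsGeneralizedCharacter G (indFun P (fun _ => (1 : ℂ))) :=
    isGeneralizedCharacter_of_isCharacter
      (isCharacter_indFun P (isCharacter_of_isIrrCharacter h1P))
  have hgenl : IsGeneralizedCharacter G (indFun P lam) :=
    isGeneralizedCharacter_of_isCharacter
      (isCharacter_indFun P (isCharacter_of_isIrrCharacter hlm))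
  have hgen : IsGeneralizedCharacter G β := by
    rw [hβeq]
    exact isGeneralizedCharacter_sub hgen1 hgenl
  have h1G : IsIrrCharacter G (fun _ => (1 : ℂ)) := isIrrCharacter_one
  obtain ⟨triv, htriv⟩ : ∃ t : IrrCharacter G, t = ⟨fun _ => (1 : ℂ), h1G⟩ := ⟨_, rfl⟩
  have htrivval : (triv : G → ℂ) = fun _ => (1 : ℂ) := by rw [htriv]
  have hone : classInner β (triv : G → ℂ) = 1 := by
    rw [hβ, frobenius_reciprocity P _
      (isClassFunction_of_isGeneralizedCharacter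
        (isGeneralizedCharacter_of_isIrrCharacter triv.2)),
      classInner_sub_left]
    have e : (fun h : P => (triv : G → ℂ) h) = fun _ => (1 : ℂ) := by
      funext h; rw [htrivval]
    rw [e, classInner_irr h1P h1P, classInner_irr hlm h1P, if_pos rfl, if_neg hlm1, sub_zero]
  obtain ⟨c, hcsum, hcin, hcnorm⟩ := exists_int_coeff hgen
  obtain ⟨c1, -, hc1in, -⟩ := exists_int_coeff hgen1
  obtain ⟨cl, -, hclin, -⟩ := exists_int_coeff hgenl
  have hctriv : c triv = 1 := by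
    have h := hcin triv
    rw [hone] at h
    exact_mod_cast h.symm
  have hsq : ∑ ψ : IrrCharacter G, c ψ ^ 2 = 5 := by
    rw [hnorm] at hcnorm
    exact_mod_cast hcnorm.symm
  -- all nontrivial characters of `P` induce the same class function
  have hind : ∀ a : IrrCharacter P, a ≠ trivP → indFun P (a : P → ℂ) = indFun P lam := by
    have hsum := sum_tiCount (G := G) hp hP hlm
    rw [hN] at hsum
    have ht0 : tiCount P (trivP : P → ℂ) lam = 0 := by
      rw [htrivPval]; exact tiCount_one_right hlm1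
    have hle : ∀ a : IrrCharacter P, tiCount P (a : P → ℂ) lam ≤ 5 := by
      intro a
      by_cases ha : a = trivP
      · rw [ha, ht0]; norm_num
      · have ha1 : (a : P → ℂ) ≠ fun _ => 1 := fun h =>
          ha (Subtype.ext (by rw [h, htrivPval]))
        by_cases hia : indFun P (a : P → ℂ) = indFun P lam
        · rw [tiCount_of_indFun_eq hp hP hC a.2 hlm ha1 hlm1 hia, hP]
        · rw [tiCount_eq_zero_of_indFun_ne hia]; norm_num
    have hsum2 : ∑ a : IrrCharacter P, (5 - tiCount P (a : P → ℂ) lam) = 5 := by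
      have h1 : ∑ a : IrrCharacter P, (5 - tiCount P (a : P → ℂ) lam) +
          ∑ a : IrrCharacter P, tiCount P (a : P → ℂ) lam = 25 := by
        rw [← Finset.sum_add_distrib,
          Finset.sum_congr rfl (fun a _ => Nat.sub_add_cancel (hle a)),
          Finset.sum_const, Finset.card_univ, hcardIrr]
        rfl
      omega
    rw [← Finset.add_sum_erase Finset.univ _ (Finset.mem_univ trivP), ht0] at hsum2
    have hz : ∑ a ∈ Finset.univ.erase trivP, (5 - tiCount P (a : P → ℂ) lam) = 0 := by omega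
    intro a ha
    have h3 := (Finset.sum_eq_zero_iff.mp hz) a (Finset.mem_erase.mpr ⟨ha, Finset.mem_univ _⟩)
    by_contra hia
    rw [tiCount_eq_zero_of_indFun_ne hia] at h3
    omega
  have hcolP : ∀ y : P, ∑ a : IrrCharacter P, (a : P → ℂ) y = if y = 1 then 5 else 0 := by
    intro y
    by_cases hy : y = 1
    · rw [if_pos hy, hy,
        Finset.sum_congr rfl (fun a _ => irr_apply_one_of_prime_card hp hP a.2),
        Finset.sum_const, Finset.card_univ, hcardIrr]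
      simp
    · rw [if_neg hy]
      have h := sum_irr_mul_conj_of_not_isConj (G := P) (g := y) (h := 1)
        (fun h => hy (isConj_one_left.mp h))
      rw [← h]
      apply Finset.sum_congr rfl
      intro a _
      rw [irr_apply_one_of_prime_card hp hP a.2]
      simp
  have hcong : ∀ ψ : IrrCharacter G, (ψ : G → ℂ) 1 = (c1 ψ : ℂ) + 4 * (cl ψ : ℂ) := by
    intro ψ
    have hψcf : IsClassFunction G (ψ : G → ℂ) :=
      isClassFunction_of_isGeneralizedCharacter (isGeneralizedCharacter_of_isIrrCharacter ψ.2)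
    have hs : ∑ a : IrrCharacter P, classInner (indFun P (a : P → ℂ)) (ψ : G → ℂ) =
        (ψ : G → ℂ) 1 := by
      have hfr : ∀ a : IrrCharacter P, classInner (indFun P (a : P → ℂ)) (ψ : G → ℂ) =
          classInner (a : P → ℂ) (fun h : P => (ψ : G → ℂ) h) :=
        fun a => frobenius_reciprocity P _ hψcf
      rw [Finset.sum_congr rfl (fun a _ => hfr a)]
      unfold classInner
      rw [← Finset.mul_sum, Finset.sum_comm,
        Finset.sum_congr rfl (fun y _ => (Finset.sum_mul _ _ _).symm),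
        Finset.sum_congr rfl (fun y _ => by rw [hcolP y]),
        Finset.sum_eq_single (1 : P)]
      · rw [if_pos rfl, hP]
        obtain ⟨n, -, hn⟩ := exists_pos_nat_degree ψ.2
        show ((5 : ℕ) : ℂ)⁻¹ * (5 * conj ((ψ : G → ℂ) ((1 : P) : G))) = (ψ : G → ℂ) 1
        rw [OneMemClass.coe_one, hn]
        simp
      · intro y _ hy; rw [if_neg hy, zero_mul]
      · intro h; exact absurd (Finset.mem_univ _) h
    rw [← Finset.add_sum_erase Finset.univ _ (Finset.mem_univ trivP)] at hs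
    have h4 : ∑ a ∈ Finset.univ.erase trivP, classInner (indFun P (a : P → ℂ)) (ψ : G → ℂ) =
        4 * (cl ψ : ℂ) := by
      rw [Finset.sum_congr rfl
          (fun a ha => by rw [hind a (Finset.ne_of_mem_erase ha), hclin ψ]),
        Finset.sum_const, Finset.card_erase_of_mem (Finset.mem_univ _), Finset.card_univ,
        hcardIrr]
      simp
    rw [h4, htrivPval, hc1in ψ] at hs
    exact hs.symm
  refine ⟨lam, c, hlm, hlm1, ?_, ?_, hsq, ?_⟩
  · rw [← hβ]; exact hcsum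
  · rw [← htriv]; exact hctriv
  · intro ψ
    refine ⟨cl ψ, ?_⟩
    have h1 : (c ψ : ℂ) = c1 ψ - cl ψ := by
      rw [← hcin ψ, hβeq, classInner_sub_left, hc1in ψ, hclin ψ]
    rw [hcong ψ]
    push_cast
    rw [h1]
    ring

open Cfsg.Agent.Lib.helper4 Cfsg.Agent.Lib.helper21 in
/-- No simple group of order `4320` has a self-centralizing Sylow `5`-subgroup with
normalizer of order `20`. -/
theorem no_simple_4320_aux [IsSimpleGroup G] (hG : Nat.card G = 4320) (P : Subgroup G)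
    (hP : Nat.card P = 5) (hC : Subgroup.centralizer (P : Set G) ≤ P)
    (hN : Nat.card (Subgroup.normalizer (P : Set G)) = 5 * 4) : False := by
  classical
  have hp : (5 : ℕ).Prime := by norm_num
  have : Fintype P := Fintype.ofFinite P
  have : Fintype (IrrCharacter G) := Fintype.ofFinite _
  have hnp : ¬ (Nat.card G).Prime := by rw [hG]; norm_num
  obtain ⟨lam, c, hlm, hlm1, hcsum, hctriv, hsq, hcong⟩ := beta4320 P hP hC hN
  obtain ⟨β, hβ⟩ : ∃ β : G → ℂ, β = indFun P ((fun _ => (1 : ℂ)) - lam) := ⟨_, rfl⟩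
  rw [← hβ] at hcsum
  have h1G : IsIrrCharacter G (fun _ => (1 : ℂ)) := isIrrCharacter_one
  obtain ⟨triv, htriv⟩ : ∃ t : IrrCharacter G, t = ⟨fun _ => (1 : ℂ), h1G⟩ := ⟨_, rfl⟩
  have htrivval : (triv : G → ℂ) = fun _ => (1 : ℂ) := by rw [htriv]
  rw [← htriv] at hctriv
  have hlmone : lam 1 = 1 := irr_apply_one_of_prime_card hp hP hlm
  have hβ1 : β 1 = 0 := by
    rw [hβ, indFun_one, Pi.sub_apply, hlmone, sub_self, mul_zero]
  -- the involution
  have := Fact.mk Nat.prime_two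
  obtain ⟨J', hJ'⟩ := exists_prime_orderOf_dvd_card' (G := Subgroup.normalizer (P : Set G)) 2
    (by rw [hN]; norm_num)
  obtain ⟨J, hJdef⟩ : ∃ J : G, J = (J' : G) := ⟨_, rfl⟩
  have hJN : J ∈ Subgroup.normalizer (P : Set G) := by rw [hJdef]; exact J'.2
  have hJ : orderOf J = 2 := by rw [hJdef, Subgroup.orderOf_coe]; exact hJ'
  obtain ⟨hJJ, hnot2, -, -⟩ := inv_normalizer_facts hp (by norm_num) P hP hC J hJN hJ
  have hJ1 : J ≠ 1 := by
    rintro rfl
    rw [orderOf_one] at hJ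
    omega
  have hJP : ∀ x : G, x⁻¹ * J * x ∉ P := by
    intro x h
    have h1 : (x⁻¹ * J * x) * (x⁻¹ * J * x) = 1 := by
      calc (x⁻¹ * J * x) * (x⁻¹ * J * x) = x⁻¹ * (J * J) * x := by group
        _ = 1 := by rw [hJJ]; group
    have h2 := hnot2 _ h1 h
    apply hJ1
    have h' : J = x * (x⁻¹ * J * x) * x⁻¹ := by group
    rw [h', h2]
    group
  have hβJ : β J = 0 := by
    rw [hβ, indFun_apply, Finset.sum_eq_zero, mul_zero]
    intro x _
    exact extendByZero_apply_of_not_mem _ _ (hJP x)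
  have hprod : ∀ y ∈ P, y ≠ 1 → classProd J y = 5 := fun y hy hy1 => by
    have h := inv_classProd hp (by norm_num) P hP hC J hJN hJ y hy hy1
    exact_mod_cast h
  have hF : IsClassFunction G (classProd J) := isClassFunction_classProd J
  have hconj : ∀ g, conj (classProd J g) = classProd J g := by
    intro g
    unfold classProd
    rw [map_sum]
    apply Finset.sum_congr rfl
    intro x _
    split_ifs <;> simp
  have hsumlam : ∑ y : P, lam y = 0 := by
    have h := classInner_irr hlm (isIrrCharacter_one (G := P))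
    rw [if_neg hlm1] at h
    unfold classInner at h
    rcases mul_eq_zero.mp h with h | h
    · exact absurd (inv_eq_zero.mp h) (by rw [hP]; norm_num)
    · simpa using h
  have hQ1 : classInner β (classProd J) = 5 := by
    rw [hβ, frobenius_reciprocity P _ hF]
    unfold classInner
    rw [hP]
    have hterm : ∀ y : P, ((fun _ : P => (1 : ℂ)) - lam) y * conj (classProd J (y : G)) =
        (1 - lam y) * 5 := by
      intro y
      by_cases hy : y = 1
      · rw [hy, Pi.sub_apply, hlmone]; simp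
      · rw [hconj, hprod y y.2 (fun h => hy (Subtype.ext h)), Pi.sub_apply]
    rw [Finset.sum_congr rfl (fun y _ => hterm y), ← Finset.sum_mul, Finset.sum_sub_distrib,
      hsumlam, Finset.sum_const, Finset.card_univ, ← Nat.card_eq_fintype_card, hP]
    simp
  have hQ2 : classInner β (classProd J) = (Nat.card G : ℂ)⁻¹ *
      ∑ ψ : IrrCharacter G, (c ψ : ℂ) * ((ψ : G → ℂ) 1 * (centralChar (ψ : G → ℂ) J) ^ 2) := by
    unfold classInner
    congr 1
    have hterm : ∀ ψ : IrrCharacter G,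
        (c ψ : ℂ) * ((ψ : G → ℂ) 1 * (centralChar (ψ : G → ℂ) J) ^ 2) =
          ∑ g : G, (c ψ : ℂ) * (classProd J g * (ψ : G → ℂ) g) := by
      intro ψ
      rw [← sum_classProd_mul_char J ψ.2, Finset.mul_sum]
    rw [Finset.sum_congr rfl (fun ψ _ => hterm ψ), Finset.sum_comm]
    apply Finset.sum_congr rfl
    intro g _
    rw [hconj, hcsum, Finset.sum_apply, Finset.sum_mul]
    apply Finset.sum_congr rfl
    intro ψ _
    simp only [Pi.smul_apply, smul_eq_mul]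
    ring
  choose n k hk hn hv using fun ψ : IrrCharacter G => irr_involution_mod_four hnp ψ J hJJ
  obtain ⟨I, hI⟩ : ∃ I : ℂ, I = ((Subgroup.centralizer ({J} : Set G)).index : ℂ) := ⟨_, rfl⟩
  obtain ⟨cJ, hcJ⟩ : ∃ cJ : ℕ, cJ = Nat.card (Subgroup.centralizer ({J} : Set G)) := ⟨_, rfl⟩
  have hcI : (cJ : ℂ) * I = 4320 := by
    rw [hcJ, hI]
    have h := Subgroup.card_mul_index (Subgroup.centralizer ({J} : Set G))
    rw [hG] at h
    exact_mod_cast h
  have hn0 : ∀ ψ : IrrCharacter G, (n ψ : ℂ) ≠ 0 := by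
    intro ψ
    rw [← hn ψ]
    exact irr_degree_ne_zero ψ.2
  obtain ⟨S, hS⟩ : ∃ S : ℂ, S = ∑ ψ : IrrCharacter G,
      (c ψ : ℂ) * (((n ψ : ℂ) - 4 * (k ψ : ℂ)) ^ 2 / (n ψ : ℂ)) := ⟨_, rfl⟩
  have hE3 : (cJ : ℂ) ^ 2 = 864 * S := by
    have hS' : ∑ ψ : IrrCharacter G,
        (c ψ : ℂ) * ((ψ : G → ℂ) 1 * (centralChar (ψ : G → ℂ) J) ^ 2) = I ^ 2 * S := by
      rw [hS, Finset.mul_sum]
      apply Finset.sum_congr rfl
      intro ψ _
      unfold centralChar
      rw [hn ψ, hv ψ, ← hI]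
      have := hn0 ψ
      field_simp
    have h : (5 : ℂ) = (4320 : ℂ)⁻¹ * (I ^ 2 * S) := by
      rw [← hQ1, hQ2, hG, hS']
      norm_num
    have h2 : (5 : ℂ) * 4320 = I ^ 2 * S := by
      rw [h]; field_simp
    apply mul_left_cancel₀ (show ((5 : ℂ) * 4320) ≠ 0 by norm_num)
    linear_combination (cJ : ℂ) ^ 2 * h2 + S * ((cJ : ℂ) * I + 4320) * hcI
  have hE1 : ∑ ψ : IrrCharacter G, c ψ * (n ψ : ℤ) = 0 := by
    have h := congrFun hcsum 1
    rw [Finset.sum_apply, hβ1] at h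
    have h2 : (0 : ℂ) = ((∑ ψ : IrrCharacter G, c ψ * (n ψ : ℤ) : ℤ) : ℂ) := by
      rw [h]; push_cast
      apply Finset.sum_congr rfl
      intro ψ _
      rw [Pi.smul_apply, smul_eq_mul, hn ψ]
    exact_mod_cast h2.symm
  have hE2 : ∑ ψ : IrrCharacter G, c ψ * ((n ψ : ℤ) - 4 * (k ψ : ℤ)) = 0 := by
    have h := congrFun hcsum J
    rw [Finset.sum_apply, hβJ] at h
    have h2 : (0 : ℂ) = ((∑ ψ : IrrCharacter G, c ψ * ((n ψ : ℤ) - 4 * (k ψ : ℤ)) : ℤ) : ℂ) := by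
      rw [h]; push_cast
      apply Finset.sum_congr rfl
      intro ψ _
      rw [Pi.smul_apply, smul_eq_mul, hv ψ]
    exact_mod_cast h2.symm
  have hE4 : ∑ ψ : IrrCharacter G, ((n ψ : ℤ) - 4 * (k ψ : ℤ)) ^ 2 = (cJ : ℤ) := by
    have h := sum_irr_mul_conj_of_isConj (G := G) (IsConj.refl J)
    rw [← hcJ] at h
    have h2 : ((∑ ψ : IrrCharacter G, ((n ψ : ℤ) - 4 * (k ψ : ℤ)) ^ 2 : ℤ) : ℂ) =
        ((cJ : ℤ) : ℂ) := by
      push_cast
      rw [← h]
      apply Finset.sum_congr rfl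
      intro ψ _
      rw [hv ψ]
      simp only [map_sub, map_mul, Complex.conj_natCast, map_ofNat]
      ring
    exact_mod_cast h2
  have hE5 : ∑ ψ : IrrCharacter G, (n ψ) ^ 2 = 4320 := by
    have h := sum_irr_degree_sq (G := G)
    rw [hG] at h
    have h2 : ((∑ ψ : IrrCharacter G, (n ψ) ^ 2 : ℕ) : ℂ) = ((4320 : ℕ) : ℂ) := by
      rw [← h, Nat.cast_sum]
      apply Finset.sum_congr rfl
      intro ψ _
      rw [hn ψ, Nat.cast_pow]
    exact_mod_cast h2
  have hdeg : ∀ ψ : IrrCharacter G, n ψ = charDegree (ψ : G → ℂ) := by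
    intro ψ
    have h2 := Cfsg.Agent.Lib.helper81.irr_one_eq_charDegree ψ
    rw [hn ψ] at h2
    exact_mod_cast h2
  have hdvd : ∀ ψ : IrrCharacter G, n ψ ∣ 4320 := by
    intro ψ
    rw [hdeg ψ, ← hG]
    exact Cfsg.Agent.Lib.helper81.irr_degree_dvd_card ψ
  have hgt : ∀ ψ : IrrCharacter G, ψ ≠ triv → 2 ≤ n ψ := by
    intro ψ hψ
    have h1 := one_lt_charDegree_of_simple hnp ψ
      (fun h => hψ (Subtype.ext (by rw [h, htrivval])))
    rw [hdeg ψ]
    omega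
  have hle65 : ∀ ψ : IrrCharacter G, n ψ ≤ 65 := by
    intro ψ
    have h1 : n ψ ^ 2 ≤ ∑ ψ : IrrCharacter G, n ψ ^ 2 :=
      Finset.single_le_sum (f := fun ψ => n ψ ^ 2) (fun _ _ => Nat.zero_le _)
        (Finset.mem_univ ψ)
    rw [hE5] at h1
    by_contra hcon
    push Not at hcon
    nlinarith
  have hmod5 : ∀ ψ : IrrCharacter G, (5 : ℤ) ∣ (n ψ : ℤ) - c ψ := by
    intro ψ
    obtain ⟨m, hm⟩ := hcong ψ
    rw [hn ψ] at hm
    have h : (n ψ : ℤ) = c ψ + 5 * m := by exact_mod_cast hm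
    exact ⟨m, by rw [h]; ring⟩
  have hntriv : n triv = 1 := by
    have h : (1 : ℂ) = (n triv : ℂ) := by
      have h := hn triv
      rw [htrivval] at h
      exact h
    exact_mod_cast h.symm
  have hktriv : k triv = 0 := by
    have h : (1 : ℂ) = ((1 : ℕ) : ℂ) - 4 * (k triv : ℂ) := by
      have h := hv triv
      rw [htrivval, hntriv] at h
      exact h
    have h3 : (1 : ℤ) = 1 - 4 * (k triv : ℤ) := by exact_mod_cast h
    omega
  have hsq4 : ∑ ψ ∈ Finset.univ.erase triv, c ψ ^ 2 = 4 := by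
    rw [← Finset.add_sum_erase Finset.univ _ (Finset.mem_univ triv), hctriv] at hsq
    linarith
  rcases exists_of_sum_sq_eq_four (Finset.univ.erase triv) c hsq4 with
    ⟨x, hx, hcx, hrest⟩ | ⟨x1, hx1, x2, hx2, x3, hx3, x4, hx4, h12, h13, h14, h23, h24, h34,
      hc1, hc2, hc3, hc4, hrest⟩
  · -- one constituent with multiplicity `±2`: parity
    have hxt : x ≠ triv := Finset.ne_of_mem_erase hx
    have hsub : ∑ ψ ∈ ({triv, x} : Finset (IrrCharacter G)), c ψ * (n ψ : ℤ) =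
        ∑ ψ : IrrCharacter G, c ψ * (n ψ : ℤ) := by
      apply Finset.sum_subset (Finset.subset_univ _)
      intro ψ _ hψ
      rw [Finset.mem_insert, Finset.mem_singleton] at hψ
      push Not at hψ
      rw [hrest ψ (Finset.mem_erase.mpr ⟨hψ.1, Finset.mem_univ _⟩) hψ.2, zero_mul]
    rw [hE1, Finset.sum_pair (Ne.symm hxt), hctriv, hntriv] at hsub
    rcases hcx with h | h <;> rw [h] at hsub <;> omega
  · have hx1t : x1 ≠ triv := Finset.ne_of_mem_erase hx1
    have hx2t : x2 ≠ triv := Finset.ne_of_mem_erase hx2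
    have hx3t : x3 ≠ triv := Finset.ne_of_mem_erase hx3
    have hx4t : x4 ≠ triv := Finset.ne_of_mem_erase hx4
    obtain ⟨T, hT⟩ : ∃ T : Finset (IrrCharacter G), T = {triv, x1, x2, x3, x4} := ⟨_, rfl⟩
    have hout : ∀ ψ : IrrCharacter G, ψ ∉ T → c ψ = 0 := by
      intro ψ hψ
      rw [hT] at hψ
      simp only [Finset.mem_insert, Finset.mem_singleton, not_or] at hψ
      exact hrest ψ (Finset.mem_erase.mpr ⟨hψ.1, Finset.mem_univ _⟩) hψ.2.1 hψ.2.2.1
        hψ.2.2.2.1 hψ.2.2.2.2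
    have hfiveZ : ∀ f : IrrCharacter G → ℤ,
        ∑ ψ ∈ T, f ψ = f triv + (f x1 + (f x2 + (f x3 + f x4))) := by
      intro f
      rw [hT]
      exact sum_five triv x1 x2 x3 x4 (Ne.symm hx1t) (Ne.symm hx2t) (Ne.symm hx3t)
        (Ne.symm hx4t) h12 h13 h14 h23 h24 h34 f
    have hfiveC : ∀ f : IrrCharacter G → ℂ,
        ∑ ψ ∈ T, f ψ = f triv + (f x1 + (f x2 + (f x3 + f x4))) := by
      intro f
      rw [hT]
      exact sum_five triv x1 x2 x3 x4 (Ne.symm hx1t) (Ne.symm hx2t) (Ne.symm hx3t)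
        (Ne.symm hx4t) h12 h13 h14 h23 h24 h34 f
    have e1 : (1 : ℤ) + (c x1 * n x1 + (c x2 * n x2 + (c x3 * n x3 + c x4 * n x4))) = 0 := by
      have hsub : ∑ ψ ∈ T, c ψ * (n ψ : ℤ) = ∑ ψ : IrrCharacter G, c ψ * (n ψ : ℤ) :=
        Finset.sum_subset (Finset.subset_univ _) (fun ψ _ hψ => by rw [hout ψ hψ, zero_mul])
      rw [hE1, hfiveZ, hctriv, hntriv] at hsub
      simpa using hsub
    have e2 : (1 : ℤ) + (c x1 * ((n x1 : ℤ) - 4 * k x1) + (c x2 * ((n x2 : ℤ) - 4 * k x2) +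
        (c x3 * ((n x3 : ℤ) - 4 * k x3) + c x4 * ((n x4 : ℤ) - 4 * k x4)))) = 0 := by
      have hsub : ∑ ψ ∈ T, c ψ * ((n ψ : ℤ) - 4 * (k ψ : ℤ)) =
          ∑ ψ : IrrCharacter G, c ψ * ((n ψ : ℤ) - 4 * (k ψ : ℤ)) :=
        Finset.sum_subset (Finset.subset_univ _) (fun ψ _ hψ => by rw [hout ψ hψ, zero_mul])
      rw [hE2, hfiveZ, hctriv, hntriv, hktriv] at hsub
      simpa using hsub
    have e3 : (cJ : ℂ) ^ 2 = 864 * (1 +
        ((c x1 : ℂ) * (((n x1 : ℂ) - 4 * (k x1 : ℂ)) ^ 2 / (n x1 : ℂ)) +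
        ((c x2 : ℂ) * (((n x2 : ℂ) - 4 * (k x2 : ℂ)) ^ 2 / (n x2 : ℂ)) +
        ((c x3 : ℂ) * (((n x3 : ℂ) - 4 * (k x3 : ℂ)) ^ 2 / (n x3 : ℂ)) +
        (c x4 : ℂ) * (((n x4 : ℂ) - 4 * (k x4 : ℂ)) ^ 2 / (n x4 : ℂ)))))) := by
      have hsub : ∑ ψ ∈ T, (c ψ : ℂ) * (((n ψ : ℂ) - 4 * (k ψ : ℂ)) ^ 2 / (n ψ : ℂ)) =
          ∑ ψ : IrrCharacter G, (c ψ : ℂ) * (((n ψ : ℂ) - 4 * (k ψ : ℂ)) ^ 2 / (n ψ : ℂ)) :=
        Finset.sum_subset (Finset.subset_univ _)
          (fun ψ _ hψ => by rw [hout ψ hψ, Int.cast_zero, zero_mul])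
      rw [hE3, hS, ← hsub, hfiveC, hctriv, hntriv, hktriv]
      congr 1
      congr 1
      norm_num
    have e4 : (1 : ℤ) + (((n x1 : ℤ) - 4 * k x1) ^ 2 + (((n x2 : ℤ) - 4 * k x2) ^ 2 +
        (((n x3 : ℤ) - 4 * k x3) ^ 2 + ((n x4 : ℤ) - 4 * k x4) ^ 2))) ≤ (cJ : ℤ) := by
      have hsub : ∑ ψ ∈ T, ((n ψ : ℤ) - 4 * (k ψ : ℤ)) ^ 2 ≤
          ∑ ψ : IrrCharacter G, ((n ψ : ℤ) - 4 * (k ψ : ℤ)) ^ 2 :=
        Finset.sum_le_sum_of_subset_of_nonneg (Finset.subset_univ _)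
          (fun ψ _ _ => sq_nonneg _)
      rw [hE4, hfiveZ, hntriv, hktriv] at hsub
      simpa using hsub
    have hs1 : c x1 ^ 2 = 1 := by rcases hc1 with h | h <;> rw [h] <;> norm_num
    have hs2 : c x2 ^ 2 = 1 := by rcases hc2 with h | h <;> rw [h] <;> norm_num
    have hs3 : c x3 ^ 2 = 1 := by rcases hc3 with h | h <;> rw [h] <;> norm_num
    have hs4 : c x4 ^ 2 = 1 := by rcases hc4 with h | h <;> rw [h] <;> norm_num
    obtain ⟨m1, a1, w1⟩ := deg4320 (n x1) (k x1) (c x1) hc1 (hgt x1 hx1t) (hdvd x1) (hle65 x1)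
      (hmod5 x1)
    obtain ⟨m2, a2, w2⟩ := deg4320 (n x2) (k x2) (c x2) hc2 (hgt x2 hx2t) (hdvd x2) (hle65 x2)
      (hmod5 x2)
    obtain ⟨m3, a3, w3⟩ := deg4320 (n x3) (k x3) (c x3) hc3 (hgt x3 hx3t) (hdvd x3) (hle65 x3)
      (hmod5 x3)
    obtain ⟨m4, a4, w4⟩ := deg4320 (n x4) (k x4) (c x4) hc4 (hgt x4 hx4t) (hdvd x4) (hle65 x4)
      (hmod5 x4)
    have q1 := hn0 x1
    have q2 := hn0 x2
    have q3 := hn0 x3
    have q4 := hn0 x4
    refine arith4320 (c x1 * n x1) (c x2 * n x2) (c x3 * n x3) (c x4 * n x4) (k x1) (k x2)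
      (k x3) (k x4) cJ m1 m2 m3 m4 ?_ ?_ ?_ ?_ ?_ ?_ ?_ ?_
    · linarith
    · rw [a1]; exact hk x1
    · rw [a2]; exact hk x2
    · rw [a3]; exact hk x3
    · rw [a4]; exact hk x4
    · rw [w1, w2, w3, w4]; linarith
    · rw [w1, w2, w3, w4]
      apply Int.cast_injective (α := ℂ)
      push_cast
      rw [e3]
      field_simp
      ring
    · rw [w1, w2, w3, w4, mul_pow, mul_pow, mul_pow, mul_pow, hs1, hs2, hs3, hs4]
      linarith

end Main

end Cfsg.Agent.Lib.helper92
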