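import Mathlib
import Cfsg.Agent.Lib.helper75.SimpleOrdA
import Cfsg.Agent.Lib.helper21.SimpleOrdB
import Cfsg.Agent.Lib.helper21.PrimeTI
import Cfsg.Agent.Lib.helper11.SmallSimple

set_option autoImplicit false

/-!
# No simple group of order 4680 (helper92)

`4680 = 2^3 * 3^2 * 5 * 13`.  `n_13 = 40`, `|N(P)| = 117`, `|C(P)| = 39`.  An element `z` of
order `3` in `C(P)` fixes exactly one Sylow `13`-subgroup.  A Sylow `3`-subgroup `T ∋ z`
(order `9`, abelian) lies in `C(z) ≤ N(P)`, and `N(T) ≤ N(P)`; as `N(P)/P` is abelian,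
`[N(T), T] ≤ P ∩ T = 1`, so `N(T) ≤ C(T)`, against Burnside's transfer theorem
(`not_simple_of_fixed_one`).
-/

namespace Cfsg.Agent.Lib.helper92

open MulAction
open Cfsg.Agent.Lib.helper75 Cfsg.Agent.Lib.helper21

/-- Let `P` be a Sylow `p`-subgroup of order `p` of a simple group with `|N(P)| = p q²`
(`q ≠ p` prime, `q³ ∤ |G|`) and let `z ∈ N(P)` of order `q` fix only `P` among the Sylow
`p`-subgroups.  Then a Sylow `q`-subgroup is central in its normalizer: contradiction. -/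
theorem not_simple_of_fixed_one {G : Type*} [Group G] [Finite G] [IsSimpleGroup G]
    {p q : ℕ} [Fact p.Prime] [Fact q.Prime] (hpq : q ≠ p) (P : Sylow p G) (hP : Nat.card P = p)
    (hN : Nat.card (Subgroup.normalizer ((P : Subgroup G) : Set G)) = q ^ 2 * p)
    (h8 : ¬ q ^ 3 ∣ Nat.card G) (z : G) (hz : orderOf z = q)
    (hzN : z ∈ Subgroup.normalizer ((P : Subgroup G) : Set G))
    (hfix : Nat.card {ω : Sylow p G // z • ω = ω} = 1) : False := by
  have hp : p.Prime := Fact.out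
  have hq : q.Prime := Fact.out
  obtain ⟨W, hWdef⟩ : ∃ W : Subgroup G, W = Subgroup.normalizer ((P : Subgroup G) : Set G) :=
    ⟨_, rfl⟩
  rw [← hWdef] at hN hzN
  have hPW : (P : Subgroup G) ≤ W := by
    rw [hWdef]; exact Subgroup.le_normalizer
  have hmemW : ∀ {x : G}, x ∈ W → x • P = P := by
    intro x hx
    rw [hWdef] at hx
    exact Sylow.smul_eq_iff_mem_normalizer.mpr hx
  -- `z` fixes only `P`
  have hzP : z • P = P := hmemW hzN
  have honly : ∀ Q : Sylow p G, z • Q = Q → Q = P := by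
    intro Q hQ
    rw [Nat.card_eq_one_iff_unique] at hfix
    obtain ⟨hsub, -⟩ := hfix
    have h1 := hsub.elim ⟨Q, hQ⟩ ⟨P, hzP⟩
    exact congrArg Subtype.val h1
  -- a conjugate of `z` inside `N(P)` comes from `N(P)`
  have hconj : ∀ g : G, g * z * g⁻¹ ∈ W → g ∈ W := by
    intro g hg
    have h1 : (g * z * g⁻¹) • P = P := hmemW hg
    have h2 : z • (g⁻¹ • P) = g⁻¹ • P := by
      have h3 : z • (g⁻¹ • P) = g⁻¹ • ((g * z * g⁻¹) • P) := by
        rw [← mul_smul, ← mul_smul]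
        congr 1
        group
      rw [h3, h1]
    have h3 : g⁻¹ • P = P := honly _ h2
    have hgW' : g⁻¹ ∈ Subgroup.normalizer ((P : Subgroup G) : Set G) :=
      Sylow.smul_eq_iff_mem_normalizer.mp h3
    rw [hWdef]
    exact inv_mem_iff.mp hgW'
  -- a Sylow `q`-subgroup containing `z`
  have hzp : IsPGroup q (Subgroup.zpowers z) :=
    IsPGroup.of_card (n := 1) (by rw [Nat.card_zpowers, hz, pow_one])
  obtain ⟨S, hS⟩ := hzp.exists_le_sylow
  have hzS : z ∈ (S : Subgroup G) := hS (Subgroup.mem_zpowers z)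
  have h4G : q ^ 2 ∣ Nat.card G := by
    have h1 : Nat.card W ∣ Nat.card G := Subgroup.card_subgroup_dvd_card W
    rw [hN] at h1
    exact (Dvd.intro _ rfl).trans h1
  have hScard : Nat.card (S : Subgroup G) = q ^ 2 := by
    obtain ⟨j, hj⟩ := S.2.exists_card_eq
    have h1 : Nat.card (S : Subgroup G) ∣ Nat.card G := Subgroup.card_subgroup_dvd_card _
    have h2' : q ^ 2 ∣ Nat.card (S : Subgroup G) := S.pow_dvd_card_of_pow_dvd_card h4G
    rw [hj] at h1 h2' ⊢
    have hj2 : j ≤ 2 := by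
      by_contra hcon
      push Not at hcon
      exact h8 ((pow_dvd_pow q hcon : q ^ 3 ∣ q ^ j).trans h1)
    have hj2' : 2 ≤ j := (Nat.pow_dvd_pow_iff_le_right hq.one_lt).mp h2'
    have hj3 : j = 2 := by omega
    rw [hj3]
  have hScomm : ∀ a b : (S : Subgroup G), a * b = b * a :=
    IsPGroup.commutative_of_card_eq_prime_sq hScard
  have hSW : (S : Subgroup G) ≤ W := by
    intro x hx
    have hxt : x * z = z * x := congrArg Subtype.val (hScomm ⟨x, hx⟩ ⟨z, hzS⟩)
    have h1 : x * z * x⁻¹ = z := by rw [hxt, mul_assoc, mul_inv_cancel, mul_one]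
    exact hconj x (by rw [h1]; exact hzN)
  have hSP : ∀ x ∈ (S : Subgroup G), x ∈ (P : Subgroup G) → x = 1 := by
    intro x hxS hxP
    have h1 : orderOf x ∣ q ^ 2 := by
      have h3 := orderOf_dvd_natCard (⟨x, hxS⟩ : (S : Subgroup G))
      rwa [hScard, Subgroup.orderOf_mk] at h3
    have h3 : orderOf x ∣ p := by
      have h3 := orderOf_dvd_natCard (⟨x, hxP⟩ : (P : Subgroup G))
      rwa [hP, Subgroup.orderOf_mk] at h3
    have h4 : orderOf x ∣ Nat.gcd (q ^ 2) p := Nat.dvd_gcd h1 h3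
    have h5 : Nat.gcd (q ^ 2) p = 1 :=
      Nat.Coprime.pow_left 2 ((Nat.coprime_primes hq hp).mpr hpq)
    rw [h5, Nat.dvd_one] at h4
    exact orderOf_eq_one_iff.mp h4
  -- `N(P) / P` is abelian
  have hquot : ∀ a ∈ W, ∀ b ∈ W, a * b * a⁻¹ * b⁻¹ ∈ (P : Subgroup G) := by
    intro a ha b hb
    have hnorm : ((P : Subgroup G).subgroupOf W).Normal := by
      rw [hWdef]
      exact Subgroup.normal_in_normalizer
    have hidx4 : ((P : Subgroup G).subgroupOf W).index = q ^ 2 := by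
      have h1 := Subgroup.card_mul_index ((P : Subgroup G).subgroupOf W)
      rw [Nat.card_congr (Subgroup.subgroupOfEquivOfLe hPW).toEquiv, hP, hN] at h1
      exact Nat.eq_of_mul_eq_mul_left hp.pos (by rw [h1]; ring)
    have hcardQ : Nat.card (W ⧸ (P : Subgroup G).subgroupOf W) = q ^ 2 := by
      rw [← Subgroup.index_eq_card]; exact hidx4
    have hQcomm := IsPGroup.commutative_of_card_eq_prime_sq hcardQ
    have h1 : ((⟨a, ha⟩ * ⟨b, hb⟩ * (⟨a, ha⟩ : W)⁻¹ * (⟨b, hb⟩ : W)⁻¹ : W) :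
        W ⧸ (P : Subgroup G).subgroupOf W) = 1 := by
      have hab := hQcomm ((⟨a, ha⟩ : W) : W ⧸ (P : Subgroup G).subgroupOf W)
        ((⟨b, hb⟩ : W) : W ⧸ (P : Subgroup G).subgroupOf W)
      rw [QuotientGroup.mk_mul, QuotientGroup.mk_mul, QuotientGroup.mk_mul, QuotientGroup.mk_inv,
        QuotientGroup.mk_inv, hab]
      group
    have h3 := (QuotientGroup.eq_one_iff _).mp h1
    exact Subgroup.mem_subgroupOf.mp h3
  -- `N(S) ≤ C(S)`
  have hNC : Subgroup.normalizer ((S : Subgroup G) : Set G) ≤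
      Subgroup.centralizer ((S : Subgroup G) : Set G) := by
    intro g hg
    rw [Subgroup.mem_centralizer_iff]
    intro x hx
    have hgt : g * z * g⁻¹ ∈ (S : Subgroup G) := (Subgroup.mem_normalizer_iff.mp hg z).mp hzS
    have hgW := hconj g (hSW hgt)
    have hc1 : g * x * g⁻¹ * x⁻¹ ∈ (P : Subgroup G) := hquot g hgW x (hSW hx)
    have hc2 : g * x * g⁻¹ * x⁻¹ ∈ (S : Subgroup G) :=
      mul_mem ((Subgroup.mem_normalizer_iff.mp hg x).mp hx) (inv_mem hx)
    have hc3 := hSP _ hc2 hc1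
    calc x * g = (g * x * g⁻¹ * x⁻¹)⁻¹ * (g * x) := by group
      _ = g * x := by rw [hc3, inv_one, one_mul]
  have hqG : q ∣ Nat.card G := (Dvd.intro_left (q ^ 1) (by ring)).trans h4G
  have hnp : ¬ (Nat.card G).Prime := by
    intro hpr
    have h1 := (Nat.prime_dvd_prime_iff_eq hq hpr).mp hqG
    rw [← h1] at h4G
    have h2 : q ^ 2 ≤ q := Nat.le_of_dvd hq.pos h4G
    have h3 := hq.one_lt
    nlinarith
  have hnc : ¬ IsCyclic G := fun h =>
    hnp (Cfsg.Agent.Lib.helper11.prime_card_of_simple_of_isCyclic h)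
  exact (Cfsg.Agent.Lib.helper11.sylow_facts hnc q hqG S).2.2.2.2.2 hNC

/-- No finite simple group has order `4680 = 2^3 * 3^2 * 5 * 13`. -/
theorem no_simple_4680 {G : Type*} [Group G] [Finite G] [IsSimpleGroup G] :
    Nat.card G ≠ 4680 := by
  intro hS
  have h13 : Fact (Nat.Prime 13) := ⟨by norm_num⟩
  have h3 : Fact (Nat.Prime 3) := ⟨by norm_num⟩
  obtain ⟨P⟩ : Nonempty (Sylow 13 G) := inferInstance
  obtain ⟨hP, hn1, hmod, ⟨k, hk, hnk⟩, e, he, he1, hCe⟩ :=
    sylow_setup (p := 13) 360 (by rw [hS]) (by norm_num) (by norm_num) P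
  obtain ⟨n, hn⟩ : ∃ n, n = Nat.card (Sylow 13 G) := ⟨_, rfl⟩
  have hn1' : Nat.card (Sylow 13 G) ≠ 1 := hn1
  rw [← hn] at hmod hnk hn1
  have hnd : n ∣ 360 := Dvd.intro _ hnk
  have hnle : n ≤ 360 := Nat.le_of_dvd (by norm_num) hnd
  have hn40 : n = 40 := by
    clear hnk hn
    interval_cases n <;> omega
  rw [hn40] at hnk hn
  have hk9 : k = 9 := by omega
  rw [hk9] at hk
  have hele : e ≤ 12 := Nat.le_of_dvd (by norm_num) he
  have hepos : 0 < e := Nat.pos_of_dvd_of_pos he (by norm_num)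
  obtain ⟨c, hc⟩ : ∃ c, c = Nat.card (Subgroup.centralizer ((P : Subgroup G) : Set G)) :=
    ⟨_, rfl⟩
  rw [← hc, hk] at hCe
  have h3c : 3 ∣ c := by
    interval_cases e <;> omega
  have hNcard : Nat.card (Subgroup.normalizer ((P : Subgroup G) : Set G)) = 3 ^ 2 * 13 := by
    have h' : Nat.card (Subgroup.normalizer ((P : Subgroup G) : Set G)) = 13 * 9 := by
      rw [← hk, Sylow.stabilizer_eq_normalizer]
      rfl
    rw [h']
    norm_num
  obtain ⟨z, hzC, hz⟩ := exists_mem_orderOf_prime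
    (Subgroup.centralizer ((P : Subgroup G) : Set G)) 3 (by rw [← hc]; exact h3c)
  obtain ⟨f1, f2, f3⟩ := sylow_prime_counts P hn1' z 3 hz hzC
  rw [← hn] at f2 f3
  exact not_simple_of_fixed_one (p := 13) (q := 3) (by norm_num) P hP hNcard
    (by rw [hS]; norm_num) z hz (Subgroup.centralizer_le_normalizer _ hzC) (by omega)

end Cfsg.Agent.Lib.helper92
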