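import Mathlib
import Cfsg.Agent.Lib.helper75.SimpleOrdA
import Cfsg.Agent.Lib.helper21.SimpleOrdB

set_option autoImplicit false

/-!
# No simple group of order 5148 (helper92)

`5148 = 2^2 * 3^2 * 11 * 13`.  `n_11 ∈ {12, 78}`; `12` is impossible (`|N(P)| = 429`), so
`n_11 = 78`, `|C(P_11)| = 33`.  An element `z` of order `3` in `C(P_11)` has `|C(z)| = 396`
(index `13`).  On the `13` cosets of `C(z)` an element `y` of order `11` fixes exactly `2`
points, both fixed by `z`; hence `|Fix(z)| ≡ 2 (mod 11)`, so `|Fix(z)| = 2`, contradicting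
`|Fix(z)| ≡ 13 (mod 3)`.
-/

namespace Cfsg.Agent.Lib.helper92

open MulAction
open Cfsg.Agent.Lib.helper75 Cfsg.Agent.Lib.helper21

/-- Two commuting elements of prime orders `q ≠ r` cannot both act with the fixed-point
pattern forced on `d` points: generic arithmetic core. -/
theorem commuting_prime_fixed {S : Type*} [Group S] {Ω : Type*} [MulAction S Ω] [Finite Ω]
    (hfaith : ∀ s : S, (∀ ω : Ω, s • ω = ω) → s = 1) (y z : S) (q r : ℕ) [Fact q.Prime]
    [Fact r.Prime] (hy : orderOf y = q) (hz : orderOf z = r) (hcomm : z * y = y * z) :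
    ∃ fy fz c : ℕ, fy % q = Nat.card Ω % q ∧ fy < Nat.card Ω ∧ fz % r = Nat.card Ω % r ∧
      fz < Nat.card Ω ∧ c ≤ fy ∧ c ≤ fz ∧ fy % r = c % r ∧ fz % q = c % q := by
  have hq : q.Prime := Fact.out
  have hr : r.Prime := Fact.out
  have hy1 : y ≠ 1 := by
    rintro rfl
    rw [orderOf_one] at hy
    exact hq.one_lt.ne hy
  have hz1 : z ≠ 1 := by
    rintro rfl
    rw [orderOf_one] at hz
    exact hr.one_lt.ne hz
  have e : Nat.card {ω : Ω // z • ω = ω ∧ y • ω = ω} =
      Nat.card {ω : Ω // y • ω = ω ∧ z • ω = ω} :=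
    Nat.card_congr (Equiv.subtypeEquivRight (fun ω => and_comm))
  refine ⟨Nat.card {ω : Ω // y • ω = ω}, Nat.card {ω : Ω // z • ω = ω},
    Nat.card {ω : Ω // y • ω = ω ∧ z • ω = ω},
    (card_fixed_modEq Ω y q hy).symm, fixed_lt_of_faithful hfaith y hy1,
    (card_fixed_modEq Ω z r hz).symm, fixed_lt_of_faithful hfaith z hz1, ?_, ?_,
    card_fixed_commuting_modEq y z r hz hcomm, ?_⟩
  · exact Nat.card_le_card_of_injective
      (fun a : {ω : Ω // y • ω = ω ∧ z • ω = ω} => (⟨a.1, a.2.1⟩ : {ω : Ω // y • ω = ω}))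
      (by
        intro a b hab
        have h1 := congrArg (fun w : {ω : Ω // y • ω = ω} => w.1) hab
        exact Subtype.ext h1)
  · exact Nat.card_le_card_of_injective
      (fun a : {ω : Ω // y • ω = ω ∧ z • ω = ω} => (⟨a.1, a.2.2⟩ : {ω : Ω // z • ω = ω}))
      (by
        intro a b hab
        have h1 := congrArg (fun w : {ω : Ω // z • ω = ω} => w.1) hab
        exact Subtype.ext h1)
  · have h1 := card_fixed_commuting_modEq (Ω := Ω) z y q hy hcomm.symm
    rw [e] at h1
    exact h1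

/-- No finite simple group has order `5148 = 2^2 * 3^2 * 11 * 13`. -/
theorem no_simple_5148 {G : Type*} [Group G] [Finite G] [IsSimpleGroup G] :
    Nat.card G ≠ 5148 := by
  intro hS
  have h11 : Fact (Nat.Prime 11) := ⟨by norm_num⟩
  have h3 : Fact (Nat.Prime 3) := ⟨by norm_num⟩
  obtain ⟨P⟩ : Nonempty (Sylow 11 G) := inferInstance
  obtain ⟨hP, hn1, hmod, ⟨k, hk, hnk⟩, e, he, he1, hCe⟩ :=
    sylow_setup (p := 11) 468 (by rw [hS]) (by norm_num) (by norm_num) P
  obtain ⟨n, hn⟩ : ∃ n, n = Nat.card (Sylow 11 G) := ⟨_, rfl⟩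
  have hn1' : Nat.card (Sylow 11 G) ≠ 1 := hn1
  rw [← hn] at hmod hnk hn1
  have hnd : n ∣ 468 := Dvd.intro _ hnk
  have hnle : n ≤ 468 := Nat.le_of_dvd (by norm_num) hnd
  have hcases : n = 12 ∨ n = 78 := by
    clear hnk hn
    interval_cases n <;> omega
  have hele : e ≤ 10 := Nat.le_of_dvd (by norm_num) he
  have hepos : 0 < e := Nat.pos_of_dvd_of_pos he (by norm_num)
  obtain ⟨c, hc⟩ : ∃ c, c = Nat.card (Subgroup.centralizer ((P : Subgroup G) : Set G)) :=
    ⟨_, rfl⟩
  rw [← hc, hk] at hCe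
  rcases hcases with rfl | rfl
  · have hk39 : k = 39 := by omega
    rw [hk39] at hCe
    interval_cases e <;> omega
  · have hk6 : k = 6 := by omega
    rw [hk6] at hCe hk
    have he2 : e = 2 := by interval_cases e <;> omega
    have hc33 : c = 33 := by rw [he2] at hCe; omega
    obtain ⟨z, hzC, hz⟩ := exists_mem_orderOf_prime
      (Subgroup.centralizer ((P : Subgroup G) : Set G)) 3 (by rw [← hc, hc33]; norm_num)
    obtain ⟨f1, f2, f3⟩ := sylow_prime_counts P hn1' z 3 hz hzC
    obtain ⟨s, hs1, hs2, hs3, hs4⟩ :=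
      sylow_prime_centralizer_card P hP z 3 (by norm_num) hz (by norm_num) hzC
    obtain ⟨f, hf⟩ : ∃ f, f = Nat.card {ω : Sylow 11 G // z • ω = ω} := ⟨_, rfl⟩
    rw [← hf] at f1 f2 f3 hs1
    rw [← hn] at f2 f3
    rw [hk] at hs4
    have hf' : f = 12 ∨ f = 45 := by omega
    have hsle : s ≤ 66 := Nat.le_of_dvd (by norm_num) hs4
    have hs' : s = 33 ∨ s = 66 := by
      clear hs1
      interval_cases s <;> omega
    have hdvd : Nat.card (Subgroup.centralizer ({z} : Set G)) ∣ 5148 := by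
      rw [← hS]
      exact Subgroup.card_subgroup_dvd_card _
    have hCz : Nat.card (Subgroup.centralizer ({z} : Set G)) = 396 := by
      rw [hs1] at hdvd ⊢
      rcases hf' with rfl | rfl <;> rcases hs' with rfl | rfl <;> omega
    obtain ⟨H, hH⟩ : ∃ H : Subgroup G, H = Subgroup.centralizer ({z} : Set G) := ⟨_, rfl⟩
    rw [← hH] at hCz
    have hidx : H.index = 13 := by
      have h1 := Subgroup.card_mul_index H
      rw [hCz, hS] at h1
      omega
    have hHtop : H ≠ ⊤ := by
      intro h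
      rw [h, Subgroup.index_top] at hidx
      omega
    have hcard : Nat.card (G ⧸ H) = 13 := by rw [← Subgroup.index_eq_card]; exact hidx
    obtain ⟨y, hyP, hy⟩ := exists_mem_orderOf_prime (P : Subgroup G) 11 (by rw [hP])
    have hcomm : z * y = y * z := ((Subgroup.mem_centralizer_iff.mp hzC) y hyP).symm
    obtain ⟨fy, fz, cc, a1, a2, a3, a4, a5, a6, a7, a8⟩ :=
      commuting_prime_fixed (Ω := G ⧸ H) (coset_faithful H hHtop) y z 11 3 hy hz hcomm
    rw [hcard] at a1 a2 a3 a4
    omega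

end Cfsg.Agent.Lib.helper92
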