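import Mathlib
import Cfsg.Agent.Lib.helper75.SimpleOrdA
import Cfsg.Agent.Lib.helper21.SimpleOrdB
import Cfsg.Agent.Lib.helper21.PrimeTI
import Cfsg.Agent.Lib.helper11.SmallSimple
import Cfsg.Agent.Lib.helper92.Ord4212

set_option autoImplicit false

/-!
# No simple group of order 5460 (helper92)

`5460 = 2^2 * 3 * 5 * 7 * 13`.  `n_13 ∈ {14, 105}`.  If `n_13 = 14`, an element of order `5`
centralizes a Sylow `13`-subgroup and its fixed-point count on the `14` Sylow subgroups is
impossible.  If `n_13 = 105` then `|N(P)| = 52` and `|C(P)| ∈ {13, 26}`; for `13` a Sylow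
`2`-subgroup is cyclic (`Ord4212.not_simple_of_normalizer_four`), for `26` the involution
`t ∈ C(P)` fixes exactly one Sylow `13`-subgroup, which forces `N(S) ≤ C(S)` for a Sylow
`2`-subgroup `S ∋ t` (`not_simple_of_centralizer_two`), against Burnside's transfer theorem.
-/

namespace Cfsg.Agent.Lib.helper92

open MulAction
open Cfsg.Agent.Lib.helper75 Cfsg.Agent.Lib.helper21

/-- Let `P` be a Sylow `p`-subgroup of order `p` (odd) of a simple group with `|C(P)| = 2p`,
`|N(P)| = 4p`, `8 ∤ |G|`, such that the involution of `C(P)` fixes only `P` among the Sylow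
`p`-subgroups.  Then a Sylow `2`-subgroup is central in its normalizer: contradiction. -/
theorem not_simple_of_centralizer_two {G : Type*} [Group G] [Finite G] [IsSimpleGroup G]
    {p : ℕ} [Fact p.Prime] (hp2 : p ≠ 2) (P : Sylow p G) (hP : Nat.card P = p)
    (hC : Nat.card (Subgroup.centralizer ((P : Subgroup G) : Set G)) = 2 * p)
    (hN : Nat.card (Subgroup.normalizer ((P : Subgroup G) : Set G)) = 4 * p)
    (h8 : ¬ 8 ∣ Nat.card G)
    (hfix : ∀ t : G, orderOf t = 2 → t ∈ Subgroup.centralizer ((P : Subgroup G) : Set G) →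
      Nat.card {ω : Sylow p G // t • ω = ω} = 1) : False := by
  have hp : p.Prime := Fact.out
  have h2 : Fact (Nat.Prime 2) := ⟨Nat.prime_two⟩
  obtain ⟨C, hCdef⟩ : ∃ C : Subgroup G, C = Subgroup.centralizer ((P : Subgroup G) : Set G) :=
    ⟨_, rfl⟩
  obtain ⟨W, hWdef⟩ : ∃ W : Subgroup G, W = Subgroup.normalizer ((P : Subgroup G) : Set G) :=
    ⟨_, rfl⟩
  rw [← hCdef] at hC hfix
  rw [← hWdef] at hN
  have hPC : (P : Subgroup G) ≤ C := by
    rw [hCdef]
    intro q hq
    rw [Subgroup.mem_centralizer_iff]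
    intro r hr
    have h := comm_of_prime_card (P := (P : Subgroup G)) hp hP ⟨r, hr⟩ ⟨q, hq⟩
    exact congrArg Subtype.val h
  have hCW : C ≤ W := by
    rw [hCdef, hWdef]; exact Subgroup.centralizer_le_normalizer _
  have hPW : (P : Subgroup G) ≤ W := hPC.trans hCW
  have hmemC : ∀ {x : G}, x ∈ C → ∀ r ∈ (P : Subgroup G), r * x = x * r := by
    intro x hx
    rw [hCdef] at hx
    exact Subgroup.mem_centralizer_iff.mp hx
  have hmemW : ∀ {x : G}, x ∈ W → x • P = P := by
    intro x hx
    rw [hWdef] at hx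
    exact Sylow.smul_eq_iff_mem_normalizer.mpr hx
  have hnot2 : ∀ x : G, x * x = 1 → x ∈ (P : Subgroup G) → x = 1 := by
    intro x hx hxP
    have h1 : orderOf x ∣ 2 := orderOf_dvd_of_pow_eq_one (by rw [pow_two]; exact hx)
    have h3 : orderOf x ∣ p := by
      have h3 := orderOf_dvd_natCard (⟨x, hxP⟩ : (P : Subgroup G))
      rwa [hP, Subgroup.orderOf_mk] at h3
    have h4 : orderOf x ∣ Nat.gcd 2 p := Nat.dvd_gcd h1 h3
    have h5 : Nat.gcd 2 p = 1 := (Nat.coprime_primes Nat.prime_two hp).mpr (Ne.symm hp2)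
    rw [h5, Nat.dvd_one] at h4
    exact orderOf_eq_one_iff.mp h4
  -- the involution of `C(P)`
  obtain ⟨t, htC, ht⟩ := exists_mem_orderOf_prime C 2 (by rw [hC]; exact Dvd.intro _ rfl)
  have htt : t * t = 1 := by rw [← pow_two, ← ht]; exact pow_orderOf_eq_one t
  have ht1 : t ≠ 1 := by
    rintro rfl
    rw [orderOf_one] at ht
    omega
  have hidx : ((P : Subgroup G).subgroupOf C).index = 2 := by
    have h1 := Subgroup.card_mul_index ((P : Subgroup G).subgroupOf C)
    rw [Nat.card_congr (Subgroup.subgroupOfEquivOfLe hPC).toEquiv, hP, hC] at h1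
    exact Nat.eq_of_mul_eq_mul_left hp.pos (by rw [h1]; ring)
  have huniq : ∀ u ∈ C, orderOf u = 2 → u = t := by
    intro u huC hu
    have huu : u * u = 1 := by rw [← pow_two, ← hu]; exact pow_orderOf_eq_one u
    have hu1 : u ≠ 1 := by
      rintro rfl
      rw [orderOf_one] at hu
      omega
    have huP : u ∉ (P : Subgroup G) := fun h => hu1 (hnot2 u huu h)
    have htP : t ∉ (P : Subgroup G) := fun h => ht1 (hnot2 t htt h)
    have hmul := Subgroup.mul_mem_iff_of_index_two hidx (a := (⟨u, huC⟩ : C)) (b := ⟨t, htC⟩)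
    have hutP : u * t ∈ (P : Subgroup G) := by
      have h1 : (⟨u, huC⟩ : C) * ⟨t, htC⟩ ∈ (P : Subgroup G).subgroupOf C :=
        hmul.mpr ⟨fun h => absurd (Subgroup.mem_subgroupOf.mp h) huP,
          fun h => absurd (Subgroup.mem_subgroupOf.mp h) htP⟩
      exact Subgroup.mem_subgroupOf.mp h1
    have hcomm : (u * t) * t = t * (u * t) := hmemC htC (u * t) hutP
    have h1 : u = t * u * t := by
      calc u = (u * t) * t := by rw [mul_assoc, htt, mul_one]
        _ = t * (u * t) := hcomm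
        _ = t * u * t := by rw [mul_assoc]
    have hut : u * t = t * u := by
      calc u * t = (t * u * t) * t := by rw [← h1]
        _ = t * u := by rw [mul_assoc, htt, mul_one]
    have hsq : (u * t) * (u * t) = 1 := by
      calc (u * t) * (u * t) = u * (t * u) * t := by group
        _ = u * (u * t) * t := by rw [hut]
        _ = (u * u) * (t * t) := by group
        _ = 1 := by rw [huu, htt, mul_one]
    have h3 := hnot2 _ hsq hutP
    have h4 : u = t⁻¹ := eq_inv_of_mul_eq_one_left h3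
    rw [h4]
    exact inv_eq_of_mul_eq_one_left htt
  -- `t` fixes only `P`
  have htP : t • P = P := hmemW (hCW htC)
  have hfixt := hfix t ht htC
  have honly : ∀ Q : Sylow p G, t • Q = Q → Q = P := by
    intro Q hQ
    rw [Nat.card_eq_one_iff_unique] at hfixt
    obtain ⟨hsub, -⟩ := hfixt
    have h1 := hsub.elim ⟨Q, hQ⟩ ⟨P, htP⟩
    exact congrArg Subtype.val h1
  -- a conjugate of `t` inside `N(P)` is `t`
  have hconj : ∀ g : G, g * t * g⁻¹ ∈ W → g ∈ W ∧ g * t * g⁻¹ = t := by
    intro g hg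
    have h1 : (g * t * g⁻¹) • P = P := hmemW hg
    have h2 : t • (g⁻¹ • P) = g⁻¹ • P := by
      have h3 : t • (g⁻¹ • P) = g⁻¹ • ((g * t * g⁻¹) • P) := by
        rw [← mul_smul, ← mul_smul]
        congr 1
        group
      rw [h3, h1]
    have h3 : g⁻¹ • P = P := honly _ h2
    have hgW' : g⁻¹ ∈ Subgroup.normalizer ((P : Subgroup G) : Set G) :=
      Sylow.smul_eq_iff_mem_normalizer.mp h3
    have hgW : g ∈ W := by
      rw [hWdef]
      exact inv_mem_iff.mp hgW'
    refine ⟨hgW, ?_⟩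
    apply huniq
    · rw [hCdef, Subgroup.mem_centralizer_iff]
      intro r hr
      have hr' : g⁻¹ * r * g ∈ (P : Subgroup G) := by
        have h4 := (Subgroup.mem_normalizer_iff.mp hgW' r).mp hr
        rwa [inv_inv] at h4
      have hc := hmemC htC _ hr'
      calc r * (g * t * g⁻¹) = g * ((g⁻¹ * r * g) * t) * g⁻¹ := by group
        _ = g * (t * (g⁻¹ * r * g)) * g⁻¹ := by rw [hc]
        _ = g * t * g⁻¹ * r := by group
    · apply orderOf_eq_prime
      · rw [conj_pow, pow_two, htt]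
        group
      · intro h
        apply ht1
        have h4 : t = g⁻¹ * (g * t * g⁻¹) * g := by group
        rw [h4, h]
        group
  -- a Sylow 2-subgroup containing `t`
  have htp : IsPGroup 2 (Subgroup.zpowers t) :=
    IsPGroup.of_card (n := 1) (by rw [Nat.card_zpowers, ht]; rfl)
  obtain ⟨S, hS⟩ := htp.exists_le_sylow
  have htS : t ∈ (S : Subgroup G) := hS (Subgroup.mem_zpowers t)
  have h4G : 4 ∣ Nat.card G := by
    have h1 : Nat.card W ∣ Nat.card G := Subgroup.card_subgroup_dvd_card W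
    rw [hN] at h1
    exact (Dvd.intro _ rfl).trans h1
  have hScard : Nat.card (S : Subgroup G) = 2 ^ 2 := by
    obtain ⟨j, hj⟩ := S.2.exists_card_eq
    have h1 : Nat.card (S : Subgroup G) ∣ Nat.card G := Subgroup.card_subgroup_dvd_card _
    have h2' : 2 ^ 2 ∣ Nat.card (S : Subgroup G) :=
      S.pow_dvd_card_of_pow_dvd_card (by norm_num; exact h4G)
    rw [hj] at h1 h2' ⊢
    have hj2 : j ≤ 2 := by
      by_contra hcon
      push Not at hcon
      exact h8 ((pow_dvd_pow 2 hcon : 2 ^ 3 ∣ 2 ^ j).trans h1)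
    have hj2' : 2 ≤ j := (Nat.pow_dvd_pow_iff_le_right (by norm_num)).mp h2'
    have hj3 : j = 2 := by omega
    rw [hj3]
  have hScomm : ∀ a b : (S : Subgroup G), a * b = b * a :=
    IsPGroup.commutative_of_card_eq_prime_sq hScard
  have hSW : (S : Subgroup G) ≤ W := by
    intro x hx
    have hxt : x * t = t * x := congrArg Subtype.val (hScomm ⟨x, hx⟩ ⟨t, htS⟩)
    have h1 : x * t * x⁻¹ = t := by rw [hxt, mul_assoc, mul_inv_cancel, mul_one]
    exact (hconj x (by rw [h1]; exact hCW htC)).1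
  have hSP : ∀ x ∈ (S : Subgroup G), x ∈ (P : Subgroup G) → x = 1 := by
    intro x hxS hxP
    have h1 : orderOf x ∣ 2 ^ 2 := by
      have h3 := orderOf_dvd_natCard (⟨x, hxS⟩ : (S : Subgroup G))
      rwa [hScard, Subgroup.orderOf_mk] at h3
    have h3 : orderOf x ∣ p := by
      have h3 := orderOf_dvd_natCard (⟨x, hxP⟩ : (P : Subgroup G))
      rwa [hP, Subgroup.orderOf_mk] at h3
    have h4 : orderOf x ∣ Nat.gcd (2 ^ 2) p := Nat.dvd_gcd h1 h3
    have h5 : Nat.gcd (2 ^ 2) p = 1 :=
      Nat.Coprime.pow_left 2 ((Nat.coprime_primes Nat.prime_two hp).mpr (Ne.symm hp2))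
    rw [h5, Nat.dvd_one] at h4
    exact orderOf_eq_one_iff.mp h4
  -- `N(P) / P` is abelian
  have hquot : ∀ a ∈ W, ∀ b ∈ W, a * b * a⁻¹ * b⁻¹ ∈ (P : Subgroup G) := by
    intro a ha b hb
    have hnorm : ((P : Subgroup G).subgroupOf W).Normal := by
      rw [hWdef]
      exact Subgroup.normal_in_normalizer
    have hidx4 : ((P : Subgroup G).subgroupOf W).index = 2 ^ 2 := by
      have h1 := Subgroup.card_mul_index ((P : Subgroup G).subgroupOf W)
      rw [Nat.card_congr (Subgroup.subgroupOfEquivOfLe hPW).toEquiv, hP, hN] at h1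
      exact Nat.eq_of_mul_eq_mul_left hp.pos (by rw [h1]; ring)
    have hcardQ : Nat.card (W ⧸ (P : Subgroup G).subgroupOf W) = 2 ^ 2 := by
      rw [← Subgroup.index_eq_card]; exact hidx4
    have hQcomm := IsPGroup.commutative_of_card_eq_prime_sq hcardQ
    have h1 : ((⟨a, ha⟩ * ⟨b, hb⟩ * (⟨a, ha⟩ : W)⁻¹ * (⟨b, hb⟩ : W)⁻¹ : W) :
        W ⧸ (P : Subgroup G).subgroupOf W) = 1 := by
      have hab := hQcomm ((⟨a, ha⟩ : W) : W ⧸ (P : Subgroup G).subgroupOf W)
        ((⟨b, hb⟩ : W) : W ⧸ (P : Subgroup G).subgroupOf W)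
      rw [QuotientGroup.mk_mul, QuotientGroup.mk_mul, QuotientGroup.mk_mul, QuotientGroup.mk_inv,
        QuotientGroup.mk_inv, hab]
      group
    have h3 := (QuotientGroup.eq_one_iff _).mp h1
    exact Subgroup.mem_subgroupOf.mp h3
  -- `N(S) ≤ C(S)`
  have hNC : Subgroup.normalizer ((S : Subgroup G) : Set G) ≤
      Subgroup.centralizer ((S : Subgroup G) : Set G) := by
    intro g hg
    rw [Subgroup.mem_centralizer_iff]
    intro x hx
    have hgt : g * t * g⁻¹ ∈ (S : Subgroup G) := (Subgroup.mem_normalizer_iff.mp hg t).mp htS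
    obtain ⟨hgW, -⟩ := hconj g (hSW hgt)
    have hc1 : g * x * g⁻¹ * x⁻¹ ∈ (P : Subgroup G) := hquot g hgW x (hSW hx)
    have hc2 : g * x * g⁻¹ * x⁻¹ ∈ (S : Subgroup G) :=
      mul_mem ((Subgroup.mem_normalizer_iff.mp hg x).mp hx) (inv_mem hx)
    have hc3 := hSP _ hc2 hc1
    calc x * g = (g * x * g⁻¹ * x⁻¹)⁻¹ * (g * x) := by group
      _ = g * x := by rw [hc3, inv_one, one_mul]
  have hnp : ¬ (Nat.card G).Prime := by
    intro hpr
    have h1 := (Nat.prime_dvd_prime_iff_eq Nat.prime_two hpr).mp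
      ((by norm_num : 2 ∣ 4).trans h4G)
    rw [← h1] at h4G
    omega
  have hnc : ¬ IsCyclic G := fun h =>
    hnp (Cfsg.Agent.Lib.helper11.prime_card_of_simple_of_isCyclic h)
  exact (Cfsg.Agent.Lib.helper11.sylow_facts hnc 2 ((by norm_num : 2 ∣ 4).trans h4G) S).2.2.2.2.2
    hNC

/-- No finite simple group has order `5460 = 2^2 * 3 * 5 * 7 * 13`. -/
theorem no_simple_5460 {G : Type*} [Group G] [Finite G] [IsSimpleGroup G] :
    Nat.card G ≠ 5460 := by
  intro hS
  have h13 : Fact (Nat.Prime 13) := ⟨by norm_num⟩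
  have h5 : Fact (Nat.Prime 5) := ⟨by norm_num⟩
  obtain ⟨P⟩ : Nonempty (Sylow 13 G) := inferInstance
  obtain ⟨hP, hn1, hmod, ⟨k, hk, hnk⟩, e, he, he1, hCe⟩ :=
    sylow_setup (p := 13) 420 (by rw [hS]) (by norm_num) (by norm_num) P
  obtain ⟨n, hn⟩ : ∃ n, n = Nat.card (Sylow 13 G) := ⟨_, rfl⟩
  have hn1' : Nat.card (Sylow 13 G) ≠ 1 := hn1
  rw [← hn] at hmod hnk hn1
  have hnd : n ∣ 420 := Dvd.intro _ hnk
  have hnle : n ≤ 420 := Nat.le_of_dvd (by norm_num) hnd
  have hcases : n = 14 ∨ n = 105 := by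
    clear hnk hn
    interval_cases n <;> omega
  have hele : e ≤ 12 := Nat.le_of_dvd (by norm_num) he
  have hepos : 0 < e := Nat.pos_of_dvd_of_pos he (by norm_num)
  obtain ⟨c, hc⟩ : ∃ c, c = Nat.card (Subgroup.centralizer ((P : Subgroup G) : Set G)) :=
    ⟨_, rfl⟩
  rw [← hc, hk] at hCe
  have h3G : 2 < Nat.card G := by rw [hS]; norm_num
  rcases hcases with rfl | rfl
  · -- `n_13 = 14`
    have hk30 : k = 30 := by omega
    rw [hk30] at hCe
    have h5c : 5 ∣ c := by
      interval_cases e <;> omega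
    obtain ⟨y, hyC, hy⟩ := exists_mem_orderOf_prime
      (Subgroup.centralizer ((P : Subgroup G) : Set G)) 5 (by rw [← hc]; exact h5c)
    obtain ⟨f1, f2, f3⟩ := sylow_prime_counts P hn1' y 5 hy hyC
    rw [← hn] at f2 f3
    omega
  · -- `n_13 = 105`
    have hk4 : k = 4 := by omega
    rw [hk4] at hCe hk
    have hNcard : Nat.card (Subgroup.normalizer ((P : Subgroup G) : Set G)) = 13 * 4 := by
      rw [← hk, Sylow.stabilizer_eq_normalizer]
      rfl
    have he24 : e = 2 ∨ e = 4 := by interval_cases e <;> omega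
    rcases he24 with rfl | rfl
    · -- `|C(P)| = 26`
      have hc26 : c = 26 := by omega
      refine not_simple_of_centralizer_two (by norm_num) P hP (by rw [← hc, hc26])
        (by rw [hNcard]) (by rw [hS]; norm_num) ?_
      intro t ht htC
      obtain ⟨c1, c2, c3⟩ := sylow_involution_counts P hn1' h3G t ht htC
      obtain ⟨f, hf⟩ : ∃ f, f = Nat.card {ω : Sylow 13 G // t • ω = ω} := ⟨_, rfl⟩
      rw [← hf] at c1 c2 c3 ⊢
      rw [← hn] at c2 c3
      by_contra hf1
      have hf53 : f = 53 := by omega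
      obtain ⟨s, hs1, -, -, -⟩ := involution_centralizer_card (by norm_num) P hP t ht htC
        (by rw [← hn, ← hf, hf53]; norm_num) ⊥ bot_le (by
          intro v hv
          rw [Subgroup.mem_bot] at hv
          rw [hv, one_mul, mul_one])
      have hdvd : Nat.card (Subgroup.centralizer ({t} : Set G)) ∣ 5460 := by
        rw [← hS]
        exact Subgroup.card_subgroup_dvd_card _
      rw [hs1, ← hf, hf53] at hdvd
      have h53 : 53 ∣ 5460 := (Dvd.intro _ rfl).trans hdvd
      omega
    · -- `C(P) = P`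
      have hc13 : c = 13 := by omega
      have hPC : (P : Subgroup G) ≤ Subgroup.centralizer ((P : Subgroup G) : Set G) := by
        intro q hq
        rw [Subgroup.mem_centralizer_iff]
        intro r hr
        have h := comm_of_prime_card (P := (P : Subgroup G)) (by norm_num : Nat.Prime 13) hP
          ⟨r, hr⟩ ⟨q, hq⟩
        exact congrArg Subtype.val h
      have hCeq : (P : Subgroup G) = Subgroup.centralizer ((P : Subgroup G) : Set G) :=
        Subgroup.eq_of_le_of_card_ge hPC (by rw [← hc, hc13, hP])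
      exact not_simple_of_normalizer_four (by norm_num : Nat.Prime 13) (by norm_num)
        (P : Subgroup G) hP (le_of_eq hCeq.symm) (by rw [hNcard]; norm_num)
        (by rw [hS]; norm_num)

end Cfsg.Agent.Lib.helper92
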