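import Mathlib
import Cfsg.Prelude.Def_CaseTheorems
import Cfsg.Agent.Lib.helper92.Pair

/-!
# The subgroup `X = ⟨Q, Q'⟩` for a pair of extraspecial `2`-subgroups

Continuation of `Pair.lean` (Aschbacher, *Sporadic groups*, Lemma 8.7 (2), (4)):
`R = C_X(V) = O_2(X)`, `X / R ≅ S_3`, `N_G(V) = X C_H(V)`.
-/

set_option autoImplicit false

namespace Cfsg.Agent.Lib.helper92

open Equiv

/-- A group generated by two involutions whose product has order dividing `3` has at most six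
elements. -/
theorem mem_six_of_mem_closure {H : Type*} [Group H] (a b : H) (ha : a * a = 1) (hb : b * b = 1)
    (hab : (a * b) * (a * b) * (a * b) = 1) :
    ∀ x ∈ Subgroup.closure ({a, b} : Set H),
      x = 1 ∨ x = a ∨ x = b ∨ x = a * b ∨ x = b * a ∨ x = a * b * a := by
  have hai : a⁻¹ = a := inv_eq_of_mul_eq_one_left ha
  have hbi : b⁻¹ = b := inv_eq_of_mul_eq_one_left hb
  have hbab : b * a * b = a * b * a := by
    have h1 : (a * b * a) * (b * a * b) = 1 := by rw [← hab]; group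
    have h2 : b * a * b = (a * b * a)⁻¹ := eq_inv_of_mul_eq_one_right h1
    rw [h2, mul_inv_rev, mul_inv_rev, hai, hbi, mul_assoc]
  have key : ∀ s ∈ ({a, b} : Set H), ∀ y : H,
      (y = 1 ∨ y = a ∨ y = b ∨ y = a * b ∨ y = b * a ∨ y = a * b * a) →
      (s * y = 1 ∨ s * y = a ∨ s * y = b ∨ s * y = a * b ∨ s * y = b * a ∨ s * y = a * b * a) := by
    intro s hs y hy
    rcases hs with rfl | hs
    · rcases hy with rfl | rfl | rfl | rfl | rfl | rfl
      · right; left; rw [mul_one]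
      · left; exact ha
      · right; right; right; left; rfl
      · right; right; left; rw [← mul_assoc, ha, one_mul]
      · right; right; right; right; right; rw [← mul_assoc]
      · right; right; right; right; left; rw [← mul_assoc, ← mul_assoc, ha, one_mul]
    · rw [Set.mem_singleton_iff] at hs
      subst hs
      rcases hy with rfl | rfl | rfl | rfl | rfl | rfl
      · right; right; left; rw [mul_one]
      · right; right; right; right; left; rfl
      · left; exact hb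
      · right; right; right; right; right; rw [← mul_assoc, hbab]
      · right; left; rw [← mul_assoc, hb, one_mul]
      · right; right; right; left
        rw [← mul_assoc, ← mul_assoc, hbab, mul_assoc, ha, mul_one]
  intro x hx
  induction hx using Subgroup.closure_induction_left with
  | one => left; rfl
  | mul_left s hs y _ ih => exact key s hs y ih
  | inv_mul_cancel s hs y _ ih =>
    have hs' : s⁻¹ = s := by
      rcases hs with rfl | hs
      · exact hai
      · rw [Set.mem_singleton_iff] at hs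
        subst hs
        exact hbi
    rw [hs']
    exact key s hs y ih

/-- A subgroup permuting (by conjugation) an injective finite family of elements yields a
permutation representation. -/
theorem exists_perm_hom {G : Type*} [Group G] {ι : Type*} [Finite ι] (e : ι → G)
    (he : Function.Injective e) (N : Subgroup G)
    (hN : ∀ n ∈ N, ∀ i, ∃ j, e j = n * e i * n⁻¹) :
    ∃ φ : ↥N →* Equiv.Perm ι, ∀ (n : ↥N) (i : ι), e (φ n i) = (n : G) * e i * (n : G)⁻¹ := by
  choose f hf using fun (n : ↥N) (i : ι) => hN n n.2 i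
  have hinj : ∀ n : ↥N, Function.Injective (f n) := by
    intro n i j hij
    apply he
    have h1 : (n : G) * e i * (n : G)⁻¹ = (n : G) * e j * (n : G)⁻¹ := by
      rw [← hf n i, ← hf n j, hij]
    calc e i = (n : G)⁻¹ * ((n : G) * e i * (n : G)⁻¹) * (n : G) := by group
      _ = (n : G)⁻¹ * ((n : G) * e j * (n : G)⁻¹) * (n : G) := by rw [h1]
      _ = e j := by group
  refine ⟨MonoidHom.mk' (fun n => Equiv.ofBijective (f n) (hinj n).bijective_of_finite) ?_, ?_⟩
  · intro n m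
    apply Equiv.ext
    intro i
    apply he
    show e (f (n * m) i) = e (f n (f m i))
    rw [hf, hf, hf]
    simp only [Subgroup.coe_mul]
    group
  · intro n i
    exact hf n i

set_option maxRecDepth 100000 in
/-- A normal `2`-subgroup of the symmetric group of degree `3` is trivial. -/
theorem perm_three_normal_two_subgroup (N : Subgroup (Equiv.Perm (Fin 3))) (hN : N.Normal)
    (hp : IsPGroup 2 N) : N = ⊥ := by
  have h23 : ∀ σ : Equiv.Perm (Fin 3), σ ^ 3 = 1 ∨ σ ^ 2 = 1 := by decide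
  have hB : ∀ σ : Equiv.Perm (Fin 3), σ ^ 2 = 1 → σ ≠ 1 →
      ∃ τ : Equiv.Perm (Fin 3), (σ * (τ * σ * τ⁻¹)) ^ 3 = 1 ∧ σ * (τ * σ * τ⁻¹) ≠ 1 := by decide
  have h3 : ∀ σ ∈ N, σ ^ 3 = 1 → σ = 1 := by
    intro σ hσ h
    obtain ⟨k, hk⟩ := hp ⟨σ, hσ⟩
    have hk' : σ ^ 2 ^ k = 1 := by
      have := congrArg Subtype.val hk
      simpa using this
    have h1 : orderOf σ ∣ 3 := orderOf_dvd_of_pow_eq_one h
    have h2 : orderOf σ ∣ 2 ^ k := orderOf_dvd_of_pow_eq_one hk'
    have h4 : Nat.Coprime 3 (2 ^ k) := Nat.Coprime.pow_right k (by norm_num)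
    have h5 : orderOf σ = 1 := Nat.eq_one_of_dvd_coprimes h4 h1 h2
    exact orderOf_eq_one_iff.1 h5
  rw [Subgroup.eq_bot_iff_forall]
  intro σ hσ
  rcases h23 σ with h | h
  · exact h3 σ hσ h
  · by_contra hne
    obtain ⟨τ, hτ3, hτ1⟩ := hB σ h hne
    have hmem : σ * (τ * σ * τ⁻¹) ∈ N := N.mul_mem hσ (hN.conj_mem σ hσ τ)
    exact hτ1 (h3 _ hmem hτ3)

/-- The symmetric group of degree `3` is generated by two transpositions, explicitly. -/
theorem perm_three_words : ∀ σ : Equiv.Perm (Fin 3), σ = 1 ∨ σ = swap 1 2 ∨ σ = swap 0 2 ∨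
    σ = swap 1 2 * swap 0 2 ∨ σ = swap 0 2 * swap 1 2 ∨ σ = swap 1 2 * swap 0 2 * swap 1 2 := by
  decide

/-- `R = C_{Q'}(z) ⊔ C_Q(b)`. -/
abbrev pairR {G : Type*} [Group G] (Q Q' : Subgroup G) (z b : G) : Subgroup G :=
  (Q' ⊓ Subgroup.centralizer {z}) ⊔ (Q ⊓ Subgroup.centralizer {b})

namespace PairData

variable {G : Type*} [Group G] {Q Q' : Subgroup G} {z b : G}

/-- For `q ∈ Q` and `c` centralizing `z` and `b`, the commutator `[q, c]` centralizes `b`. -/
theorem comm_cent_b (h : PairData Q Q' z b) : ∀ q ∈ Q, ∀ c : G, c * z = z * c → c * b = b * c →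
    (q * c * q⁻¹ * c⁻¹) * b = b * (q * c * q⁻¹ * c⁻¹) := by
  intro q hq c hcz hcb
  have h1 := h.conj_b q⁻¹ (Q.inv_mem hq)
  rw [inv_inv] at h1
  have hcb' : c⁻¹ * b * c = b := by
    calc c⁻¹ * b * c = c⁻¹ * (b * c) := by group
      _ = c⁻¹ * (c * b) := by rw [hcb]
      _ = b := by group
  rcases h1 with h1 | h1
  · have hqb : q * b = b * q := by
      calc q * b = q * (q⁻¹ * b * q) := by rw [h1]
        _ = b * q := by group
    have c1 : Commute q b := hqb
    have c2 : Commute c b := hcb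
    exact (((c1.mul_left c2).mul_left c1.inv_left).mul_left c2.inv_left).eq
  · have hczb : c * (z * b) * c⁻¹ = z * b := by
      calc c * (z * b) * c⁻¹ = (c * z) * (b * c⁻¹) := by group
        _ = (z * c) * (b * c⁻¹) := by rw [hcz]
        _ = z * (c * b) * c⁻¹ := by group
        _ = z * (b * c) * c⁻¹ := by rw [hcb]
        _ = z * b := by group
    have hqzb : q * (z * b) * q⁻¹ = b := by
      rw [← h1]; group
    calc (q * c * q⁻¹ * c⁻¹) * b
        = q * c * (q⁻¹ * (c⁻¹ * b * c) * q) * c⁻¹ * q⁻¹ * (q * c * q⁻¹ * c⁻¹) := by group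
      _ = q * (c * (z * b) * c⁻¹) * q⁻¹ * (q * c * q⁻¹ * c⁻¹) := by rw [hcb', h1]; group
      _ = b * (q * c * q⁻¹ * c⁻¹) := by rw [hczb, hqzb]

/-- `Q` normalizes `R`. -/
theorem Q_norm_R (h : PairData Q Q' z b) : ∀ q ∈ Q, ∀ r ∈ pairR Q Q' z b,
    q * r * q⁻¹ ∈ pairR Q Q' z b := by
  intro q hq r hr
  have hle : pairR Q Q' z b ≤ (pairR Q Q' z b).comap (MulAut.conj q).toMonoidHom := by
    apply sup_le
    · intro s hs
      rw [Subgroup.mem_comap]
      show q * s * q⁻¹ ∈ _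
      have hsz : s * z = z * s := Subgroup.mem_centralizer_singleton_iff.1 hs.2
      have hsb : s * b = b * s := h.hQ'.central s hs.1
      have h1 : q * s * q⁻¹ * s⁻¹ ∈ Q ⊓ Subgroup.centralizer {b} := by
        refine Subgroup.mem_inf.2 ⟨?_, Subgroup.mem_centralizer_singleton_iff.2
          (h.comm_cent_b q hq s hsz hsb)⟩
        have h2 := h.hQ.norm s hsz q⁻¹ (Q.inv_mem hq)
        have h3 := Q.mul_mem hq h2
        have e1 : q * (s * q⁻¹ * s⁻¹) = q * s * q⁻¹ * s⁻¹ := by group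
        rw [e1] at h3; exact h3
      have e2 : q * s * q⁻¹ = (q * s * q⁻¹ * s⁻¹) * s := by group
      rw [e2]
      exact Subgroup.mul_mem _ (Subgroup.mem_sup_right h1) (Subgroup.mem_sup_left hs)
    · intro p hp
      rw [Subgroup.mem_comap]
      show q * p * q⁻¹ ∈ _
      have hpb : p * b = b * p := Subgroup.mem_centralizer_singleton_iff.1 hp.2
      refine Subgroup.mem_sup_right (Subgroup.mem_inf.2
        ⟨Q.mul_mem (Q.mul_mem hq hp.1) (Q.inv_mem hq), ?_⟩)
      rw [Subgroup.mem_centralizer_singleton_iff]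
      have hpz : p * z = z * p := h.hQ.central p hp.1
      have h1 := h.conj_b q⁻¹ (Q.inv_mem hq)
      rw [inv_inv] at h1
      have hp' : p * (q⁻¹ * b * q) = (q⁻¹ * b * q) * p := by
        rcases h1 with h1 | h1
        · rw [h1]; exact hpb
        · rw [h1]
          calc p * (z * b) = (p * z) * b := by group
            _ = z * (p * b) := by rw [hpz]; group
            _ = z * b * p := by rw [hpb]; group
      calc q * p * q⁻¹ * b = q * (p * (q⁻¹ * b * q)) * q⁻¹ := by group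
        _ = q * ((q⁻¹ * b * q) * p) * q⁻¹ := by rw [hp']
        _ = b * (q * p * q⁻¹) := by group
  exact hle hr

/-- `Q'` normalizes `R`. -/
theorem Q'_norm_R (h : PairData Q Q' z b) : ∀ q ∈ Q', ∀ r ∈ pairR Q Q' z b,
    q * r * q⁻¹ ∈ pairR Q Q' z b := by
  intro q hq r hr
  have e1 : pairR Q' Q b z = pairR Q Q' z b := sup_comm _ _
  have h1 := h.symm.Q_norm_R q hq r (by rw [e1]; exact hr)
  rw [e1] at h1
  exact h1

/-- `X = Q ⊔ Q'` normalizes `R`. -/
theorem X_le_normalizer_R (h : PairData Q Q' z b) :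
    Q ⊔ Q' ≤ Subgroup.normalizer ((pairR Q Q' z b : Subgroup G) : Set G) := by
  apply sup_le
  · intro q hq
    rw [Subgroup.mem_normalizer_iff]
    intro r
    constructor
    · exact h.Q_norm_R q hq r
    · intro hr
      have := h.Q_norm_R q⁻¹ (Q.inv_mem hq) _ hr
      have e1 : q⁻¹ * (q * r * q⁻¹) * q⁻¹⁻¹ = r := by group
      rwa [e1] at this
  · intro q hq
    rw [Subgroup.mem_normalizer_iff]
    intro r
    constructor
    · exact h.Q'_norm_R q hq r
    · intro hr
      have := h.Q'_norm_R q⁻¹ (Q'.inv_mem hq) _ hr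
      have e1 : q⁻¹ * (q * r * q⁻¹) * q⁻¹⁻¹ = r := by group
      rwa [e1] at this

/-- `X` commutes with `C_G(z) ∩ C_G(b)` modulo `R`. -/
theorem X_le_commMod_R (h : PairData Q Q' z b) :
    Q ⊔ Q' ≤ commModSub (pairR Q Q' z b)
      ((Subgroup.centralizer {z} ⊓ Subgroup.centralizer {b} : Subgroup G) : Set G) := by
  have key : ∀ {Q Q' : Subgroup G} {z b : G}, PairData Q Q' z b →
      Q ≤ commModSub (pairR Q Q' z b)
        ((Subgroup.centralizer {z} ⊓ Subgroup.centralizer {b} : Subgroup G) : Set G) := by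
    intro Q Q' z b h q hq
    refine ⟨h.Q_norm_R q hq, ?_, ?_⟩
    · intro r hr
      have := h.Q_norm_R q⁻¹ (Q.inv_mem hq) r hr
      rwa [inv_inv] at this
    · intro c hc
      have hcz : c * z = z * c := Subgroup.mem_centralizer_singleton_iff.1 hc.1
      have hcb : c * b = b * c := Subgroup.mem_centralizer_singleton_iff.1 hc.2
      refine Subgroup.mem_sup_right (Subgroup.mem_inf.2 ⟨?_,
        Subgroup.mem_centralizer_singleton_iff.2 (h.comm_cent_b q hq c hcz hcb)⟩)
      have h2 := h.hQ.norm c hcz q⁻¹ (Q.inv_mem hq)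
      have h3 := Q.mul_mem hq h2
      have e1 : q * (c * q⁻¹ * c⁻¹) = q * c * q⁻¹ * c⁻¹ := by group
      rw [e1] at h3; exact h3
  apply sup_le (key h)
  have h1 := key h.symm
  have e1 : pairR Q' Q b z = pairR Q Q' z b := sup_comm _ _
  have e2 : (Subgroup.centralizer {b} ⊓ Subgroup.centralizer {z} : Subgroup G)
      = Subgroup.centralizer {z} ⊓ Subgroup.centralizer {b} := inf_comm _ _
  rw [e1, e2] at h1
  exact h1

/-- `X` normalizes `V`. -/
theorem X_le_normalizer_V (h : PairData Q Q' z b) :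
    Q ⊔ Q' ≤ Subgroup.normalizer ((Subgroup.closure ({z, b} : Set G) : Subgroup G) : Set G) := by
  intro x hx
  have h1 := h.X_le_commMod hx
  rw [Subgroup.mem_normalizer_iff]
  intro t
  constructor
  · exact h1.1 t
  · intro ht
    have := h1.2.1 _ ht
    have e1 : x⁻¹ * (x * t * x⁻¹) * x = t := by group
    rwa [e1] at this

end PairData

/-- A pair together with elements `u ∈ Q`, `v ∈ Q'` acting as transvections on `V`, such that
the conjugates `Q'^u` and `Q^v` (both with centre `⟨z b⟩`) coincide. -/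
structure PairDataX {G : Type*} [Group G] (Q Q' : Subgroup G) (z b u v : G) : Prop where
  pd : PairData Q Q' z b
  huQ : u ∈ Q
  hvQ' : v ∈ Q'
  hub : u * b * u⁻¹ = z * b
  hvz : v * z * v⁻¹ = z * b
  hQsplit : ∀ q ∈ Q, q * b = b * q ∨ (u⁻¹ * q) * b = b * (u⁻¹ * q)
  hQ'split : ∀ q ∈ Q', q * z = z * q ∨ (v⁻¹ * q) * z = z * (v⁻¹ * q)
  hT : ∀ q ∈ Q, u⁻¹ * (v * q * v⁻¹) * u ∈ Q'

namespace PairDataX

variable {G : Type*} [Group G] {Q Q' : Subgroup G} {z b u v : G}

theorem huz (h : PairDataX Q Q' z b u v) : u * z * u⁻¹ = z := by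
  rw [h.pd.hQ.central u h.huQ]; group

theorem hvb (h : PairDataX Q Q' z b u v) : v * b * v⁻¹ = b := by
  rw [h.pd.hQ'.central v h.hvQ']; group

theorem hu_zb (h : PairDataX Q Q' z b u v) : u * (z * b) * u⁻¹ = b := by
  have e1 : u * (z * b) * u⁻¹ = (u * z * u⁻¹) * (u * b * u⁻¹) := by group
  rw [e1, h.huz, h.hub, ← mul_assoc, h.pd.hQ.sq, one_mul]

theorem hv_zb (h : PairDataX Q Q' z b u v) : v * (z * b) * v⁻¹ = z := by
  have e1 : v * (z * b) * v⁻¹ = (v * z * v⁻¹) * (v * b * v⁻¹) := by group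
  rw [e1, h.hvz, h.hvb, mul_assoc, h.pd.hQ'.sq, mul_one]

theorem hub' (h : PairDataX Q Q' z b u v) : u⁻¹ * b * u = z * b := by
  calc u⁻¹ * b * u = u⁻¹ * (u * (z * b) * u⁻¹) * u := by rw [h.hu_zb]
    _ = z * b := by group

theorem huv_z (h : PairDataX Q Q' z b u v) : (u * v) * z * (u * v)⁻¹ = b := by
  have e1 : (u * v) * z * (u * v)⁻¹ = u * (v * z * v⁻¹) * u⁻¹ := by group
  rw [e1, h.hvz, h.hu_zb]

theorem huv_b (h : PairDataX Q Q' z b u v) : (u * v) * b * (u * v)⁻¹ = z * b := by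
  have e1 : (u * v) * b * (u * v)⁻¹ = u * (v * b * v⁻¹) * u⁻¹ := by group
  rw [e1, h.hvb, h.hub]

theorem huv_zb (h : PairDataX Q Q' z b u v) : (u * v) * (z * b) * (u * v)⁻¹ = z := by
  have e1 : (u * v) * (z * b) * (u * v)⁻¹ = u * (v * (z * b) * v⁻¹) * u⁻¹ := by group
  rw [e1, h.hv_zb, h.huz]

/-- `(u v)³ ∈ R`. -/
theorem uv_cube (h : PairDataX Q Q' z b u v) :
    (u * v) * (u * v) * (u * v) ∈ pairR Q Q' z b := by
  have hzz := h.pd.hQ.sq
  have hbb := h.pd.hQ'.sq
  -- d = u⁻¹ (uv)³ u lies in Q'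
  have hd : u⁻¹ * ((u * v) * (u * v) * (u * v)) * u ∈ Q' := by
    have e1 : u⁻¹ * ((u * v) * (u * v) * (u * v)) * u
        = v * (u * u) * (u⁻¹ * (v * u * v⁻¹) * u) * (u⁻¹ * (v * v) * u) := by group
    rw [e1]
    have h1 : u * u ∈ Q' := by
      rcases (mem_zpowers_invol hzz _).1 (h.pd.hQ.sqmem u h.huQ) with h2 | h2
      · rw [h2]; exact Q'.one_mem
      · rw [h2]; exact h.pd.hzQ'
    have h2 : u⁻¹ * (v * v) * u ∈ Q' := by
      rcases (mem_zpowers_invol hbb _).1 (h.pd.hQ'.sqmem v h.hvQ') with h3 | h3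
      · rw [h3]
        have e2 : u⁻¹ * 1 * u = 1 := by group
        rw [e2]; exact Q'.one_mem
      · rw [h3, h.hub']
        exact Q'.mul_mem h.pd.hzQ' h.pd.hQ'.mem
    exact Q'.mul_mem (Q'.mul_mem (Q'.mul_mem h.hvQ' h1) (h.hT u h.huQ)) h2
  -- d commutes with z
  have hcz : ((u * v) * (u * v) * (u * v)) * z * ((u * v) * (u * v) * (u * v))⁻¹ = z := by
    have e1 : ((u * v) * (u * v) * (u * v)) * z * ((u * v) * (u * v) * (u * v))⁻¹
        = (u * v) * ((u * v) * ((u * v) * z * (u * v)⁻¹) * (u * v)⁻¹) * (u * v)⁻¹ := by group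
    rw [e1, h.huv_z, h.huv_b, h.huv_zb]
  have hdz : (u⁻¹ * ((u * v) * (u * v) * (u * v)) * u) * z
      = z * (u⁻¹ * ((u * v) * (u * v) * (u * v)) * u) := by
    have huz' : u⁻¹ * z * u = z := by
      calc u⁻¹ * z * u = u⁻¹ * (u * z * u⁻¹) * u := by rw [h.huz]
        _ = z := by group
    calc (u⁻¹ * ((u * v) * (u * v) * (u * v)) * u) * z
        = u⁻¹ * (((u * v) * (u * v) * (u * v)) * (u * z * u⁻¹)
            * ((u * v) * (u * v) * (u * v))⁻¹) * ((u * v) * (u * v) * (u * v)) * u := by group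
      _ = u⁻¹ * z * ((u * v) * (u * v) * (u * v)) * u := by rw [h.huz, hcz]
      _ = (u⁻¹ * z * u) * (u⁻¹ * ((u * v) * (u * v) * (u * v)) * u) := by group
      _ = z * (u⁻¹ * ((u * v) * (u * v) * (u * v)) * u) := by rw [huz']
  have hdR : u⁻¹ * ((u * v) * (u * v) * (u * v)) * u ∈ pairR Q Q' z b :=
    Subgroup.mem_sup_left (Subgroup.mem_inf.2 ⟨hd, Subgroup.mem_centralizer_singleton_iff.2 hdz⟩)
  have := h.pd.Q_norm_R u h.huQ _ hdR
  have e2 : u * (u⁻¹ * ((u * v) * (u * v) * (u * v)) * u) * u⁻¹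
      = (u * v) * (u * v) * (u * v) := by group
  rwa [e2] at this

/-- An element of `X` centralizing `z` and `b` lies in `R`. -/
theorem mem_R_of_cent (h : PairDataX Q Q' z b u v) (x : G) (hx : x ∈ Q ⊔ Q')
    (hxz : x * z = z * x) (hxb : x * b = b * x) : x ∈ pairR Q Q' z b := by
  have hn : ((pairR Q Q' z b).subgroupOf (Q ⊔ Q')).Normal :=
    Subgroup.normal_subgroupOf_of_le_normalizer h.pd.X_le_normalizer_R
  obtain ⟨π, hπ⟩ : ∃ π : ↥(Q ⊔ Q') →* ↥(Q ⊔ Q') ⧸ (pairR Q Q' z b).subgroupOf (Q ⊔ Q'),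
      π = QuotientGroup.mk' _ := ⟨_, rfl⟩
  have hπ1 : ∀ y : ↥(Q ⊔ Q'), π y = 1 ↔ (y : G) ∈ pairR Q Q' z b := by
    intro y
    rw [hπ, QuotientGroup.mk'_apply, QuotientGroup.eq_one_iff, Subgroup.mem_subgroupOf]
  have hπeq : ∀ y w : ↥(Q ⊔ Q'), π y = π w → (y : G)⁻¹ * (w : G) ∈ pairR Q Q' z b := by
    intro y w hyw
    have h1 : π (y⁻¹ * w) = 1 := by rw [map_mul, map_inv, hyw, inv_mul_cancel]
    have h2 := (hπ1 _).1 h1
    rw [Subgroup.coe_mul, Subgroup.coe_inv] at h2
    exact h2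
  obtain ⟨uX, huX⟩ : ∃ uX : ↥(Q ⊔ Q'), (uX : G) = u :=
    ⟨⟨u, Subgroup.mem_sup_left h.huQ⟩, rfl⟩
  obtain ⟨vX, hvX⟩ : ∃ vX : ↥(Q ⊔ Q'), (vX : G) = v :=
    ⟨⟨v, Subgroup.mem_sup_right h.hvQ'⟩, rfl⟩
  have ha : π uX * π uX = 1 := by
    rw [← map_mul, hπ1, Subgroup.coe_mul, huX]
    exact h.pd.E_le_R (h.pd.zpowers_z_le_E (h.pd.hQ.sqmem u h.huQ))
  have hb : π vX * π vX = 1 := by
    rw [← map_mul, hπ1, Subgroup.coe_mul, hvX]
    exact h.pd.E_le_R (h.pd.zpowers_b_le_E (h.pd.hQ'.sqmem v h.hvQ'))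
  have hab : (π uX * π vX) * (π uX * π vX) * (π uX * π vX) = 1 := by
    rw [← map_mul, ← map_mul, ← map_mul, hπ1]
    simp only [Subgroup.coe_mul, huX, hvX]
    exact h.uv_cube
  have hQ₁ : (Q.subgroupOf (Q ⊔ Q')).map π ≤ Subgroup.closure ({π uX, π vX} : Set _) := by
    rintro _ ⟨q, hq, rfl⟩
    have hq' : (q : G) ∈ Q := Subgroup.mem_subgroupOf.1 hq
    rcases h.hQsplit _ hq' with h1 | h1
    · have h2 : π q = 1 := (hπ1 q).2 (Subgroup.mem_sup_right (Subgroup.mem_inf.2
        ⟨hq', Subgroup.mem_centralizer_singleton_iff.2 h1⟩))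
      rw [h2]; exact Subgroup.one_mem _
    · have h2 : π (uX⁻¹ * q) = 1 := by
        rw [hπ1, Subgroup.coe_mul, Subgroup.coe_inv, huX]
        exact Subgroup.mem_sup_right (Subgroup.mem_inf.2
          ⟨Q.mul_mem (Q.inv_mem h.huQ) hq', Subgroup.mem_centralizer_singleton_iff.2 h1⟩)
      have h3 : π q = π uX := by
        rw [map_mul, map_inv] at h2
        exact (inv_mul_eq_one.1 h2).symm
      rw [h3]; exact Subgroup.subset_closure (Set.mem_insert _ _)
  have hQ₂ : (Q'.subgroupOf (Q ⊔ Q')).map π ≤ Subgroup.closure ({π uX, π vX} : Set _) := by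
    rintro _ ⟨q, hq, rfl⟩
    have hq' : (q : G) ∈ Q' := Subgroup.mem_subgroupOf.1 hq
    rcases h.hQ'split _ hq' with h1 | h1
    · have h2 : π q = 1 := (hπ1 q).2 (Subgroup.mem_sup_left (Subgroup.mem_inf.2
        ⟨hq', Subgroup.mem_centralizer_singleton_iff.2 h1⟩))
      rw [h2]; exact Subgroup.one_mem _
    · have h2 : π (vX⁻¹ * q) = 1 := by
        rw [hπ1, Subgroup.coe_mul, Subgroup.coe_inv, hvX]
        exact Subgroup.mem_sup_left (Subgroup.mem_inf.2
          ⟨Q'.mul_mem (Q'.inv_mem h.hvQ') hq', Subgroup.mem_centralizer_singleton_iff.2 h1⟩)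
      have h3 : π q = π vX := by
        rw [map_mul, map_inv] at h2
        exact (inv_mul_eq_one.1 h2).symm
      rw [h3]; exact Subgroup.subset_closure (Set.mem_insert_of_mem _ rfl)
  have htop : (⊤ : Subgroup ↥(Q ⊔ Q')) = Q.subgroupOf (Q ⊔ Q') ⊔ Q'.subgroupOf (Q ⊔ Q') := by
    rw [← Subgroup.subgroupOf_sup le_sup_left le_sup_right, Subgroup.subgroupOf_self]
  have key : ∀ y : ↥(Q ⊔ Q'), π y ∈ Subgroup.closure ({π uX, π vX} : Set _) := by
    intro y
    have h1 : π y ∈ (⊤ : Subgroup ↥(Q ⊔ Q')).map π :=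
      Subgroup.mem_map_of_mem _ (Subgroup.mem_top y)
    rw [htop, Subgroup.map_sup] at h1
    exact (sup_le hQ₁ hQ₂) h1
  have hsix := mem_six_of_mem_closure (π uX) (π vX) ha hb hab (π ⟨x, hx⟩) (key _)
  have hxz' : x * z * x⁻¹ = z := by rw [hxz]; group
  have hxb' : x * b * x⁻¹ = b := by rw [hxb]; group
  have hw : ∀ w : ↥(Q ⊔ Q'), π ⟨x, hx⟩ = π w →
      (w : G) * z * (w : G)⁻¹ = z ∧ (w : G) * b * (w : G)⁻¹ = b := by
    intro w hw
    have h1 := hπeq _ _ hw
    have h2 := h.pd.R_le_cent h1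
    have h3 : (x⁻¹ * (w : G)) * z = z * (x⁻¹ * (w : G)) :=
      Subgroup.mem_centralizer_singleton_iff.1 h2.1
    have h4 : (x⁻¹ * (w : G)) * b = b * (x⁻¹ * (w : G)) :=
      Subgroup.mem_centralizer_singleton_iff.1 h2.2
    constructor
    · calc (w : G) * z * (w : G)⁻¹ = x * ((x⁻¹ * (w : G)) * z) * (w : G)⁻¹ := by group
        _ = x * (z * (x⁻¹ * (w : G))) * (w : G)⁻¹ := by rw [h3]
        _ = x * z * x⁻¹ := by group
        _ = z := hxz'
    · calc (w : G) * b * (w : G)⁻¹ = x * ((x⁻¹ * (w : G)) * b) * (w : G)⁻¹ := by group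
        _ = x * (b * (x⁻¹ * (w : G))) * (w : G)⁻¹ := by rw [h4]
        _ = x * b * x⁻¹ := by group
        _ = b := hxb'
  rcases hsix with h1 | h1 | h1 | h1 | h1 | h1
  · exact (hπ1 ⟨x, hx⟩).1 h1
  · exfalso
    have h2 := (hw uX h1).2
    rw [huX, h.hub] at h2
    exact h.pd.hQ.ne_one (mul_right_cancel (h2.trans (one_mul b).symm))
  · exfalso
    have h2 := (hw vX h1).1
    rw [hvX, h.hvz] at h2
    exact h.pd.hQ'.ne_one (mul_left_cancel (h2.trans (mul_one z).symm))
  · exfalso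
    rw [← map_mul] at h1
    have h2 := (hw _ h1).1
    simp only [Subgroup.coe_mul, huX, hvX] at h2
    rw [h.huv_z] at h2
    exact h.pd.hbz h2
  · exfalso
    rw [← map_mul] at h1
    have h2 := (hw _ h1).2
    simp only [Subgroup.coe_mul, huX, hvX] at h2
    have e1 : (v * u) * b * (v * u)⁻¹ = v * (u * b * u⁻¹) * v⁻¹ := by group
    rw [e1, h.hub, h.hv_zb] at h2
    exact h.pd.hbz h2.symm
  · exfalso
    rw [← map_mul, ← map_mul] at h1
    have h2 := (hw _ h1).1
    simp only [Subgroup.coe_mul, huX, hvX] at h2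
    have e1 : (u * v * u) * z * (u * v * u)⁻¹ = (u * v) * (u * z * u⁻¹) * (u * v)⁻¹ := by group
    rw [e1, h.huz, h.huv_z] at h2
    exact h.pd.hbz h2

/-- The action of `N_G(V)` on the three involutions of `V`: a homomorphism onto the symmetric
group of degree `3`, already surjective on `X`, with kernel `C_G(V)`. -/
theorem exists_S3_hom (h : PairDataX Q Q' z b u v) :
    ∃ φ : ↥(Subgroup.normalizer ((Subgroup.closure ({z, b} : Set G) : Subgroup G) : Set G)) →*
        Equiv.Perm (Fin 3),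
      (∀ n, φ n = 1 ↔ ((n : G) * z = z * n ∧ (n : G) * b = b * n)) ∧
      ∀ σ : Equiv.Perm (Fin 3), ∃ x : ↥(Subgroup.normalizer
        ((Subgroup.closure ({z, b} : Set G) : Subgroup G) : Set G)), (x : G) ∈ Q ⊔ Q' ∧ φ x = σ := by
  have hzz := h.pd.hQ.sq
  have hbb := h.pd.hQ'.sq
  have hzb := h.pd.comm
  have hz1 := h.pd.hQ.ne_one
  have hb1 := h.pd.hQ'.ne_one
  have hbz := h.pd.hbz
  obtain ⟨e, he⟩ : ∃ e : Fin 3 → G, e = ![z, b, z * b] := ⟨_, rfl⟩
  have e0 : e 0 = z := by rw [he]; rfl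
  have e1 : e 1 = b := by rw [he]; rfl
  have e2 : e 2 = z * b := by rw [he]; rfl
  have hcases : ∀ i : Fin 3, i = 0 ∨ i = 1 ∨ i = 2 := by decide
  have h01 : z ≠ b := fun h' => hbz h'.symm
  have h02 : z ≠ z * b := fun h' => hb1 (mul_left_cancel (h'.symm.trans (mul_one z).symm))
  have h12 : b ≠ z * b := fun h' => hz1 (mul_right_cancel (h'.symm.trans (one_mul b).symm))
  have hinj : Function.Injective e := by
    intro i j hij
    rcases hcases i with rfl | rfl | rfl <;> rcases hcases j with rfl | rfl | rfl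
    · rfl
    · rw [e0, e1] at hij; exact absurd hij h01
    · rw [e0, e2] at hij; exact absurd hij h02
    · rw [e0, e1] at hij; exact absurd hij.symm h01
    · rfl
    · rw [e1, e2] at hij; exact absurd hij h12
    · rw [e0, e2] at hij; exact absurd hij.symm h02
    · rw [e1, e2] at hij; exact absurd hij.symm h12
    · rfl
  have heV : ∀ i, e i ∈ Subgroup.closure ({z, b} : Set G) := by
    intro i
    rw [mem_closure_pair_iff hzz hbb hzb]
    rcases hcases i with rfl | rfl | rfl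
    · right; left; exact e0
    · right; right; left; exact e1
    · right; right; right; exact e2
  have he1 : ∀ i, e i ≠ 1 := by
    intro i
    rcases hcases i with rfl | rfl | rfl
    · rw [e0]; exact hz1
    · rw [e1]; exact hb1
    · rw [e2]
      intro h'
      apply h01
      calc z = z * b * b := by rw [mul_assoc, hbb, mul_one]
        _ = b := by rw [h', one_mul]
  have hN : ∀ n ∈ Subgroup.normalizer ((Subgroup.closure ({z, b} : Set G) : Subgroup G) : Set G),
      ∀ i, ∃ j, e j = n * e i * n⁻¹ := by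
    intro n hn i
    have h1 : n * e i * n⁻¹ ∈ Subgroup.closure ({z, b} : Set G) :=
      (Subgroup.mem_normalizer_iff.1 hn _).1 (heV i)
    have h2 : n * e i * n⁻¹ ≠ 1 := by
      intro h'
      apply he1 i
      calc e i = n⁻¹ * (n * e i * n⁻¹) * n := by group
        _ = 1 := by rw [h']; group
    rw [mem_closure_pair_iff hzz hbb hzb] at h1
    rcases h1 with h1 | h1 | h1 | h1
    · exact absurd h1 h2
    · exact ⟨0, by rw [e0, h1]⟩
    · exact ⟨1, by rw [e1, h1]⟩
    · exact ⟨2, by rw [e2, h1]⟩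
  obtain ⟨φ, hφ⟩ := exists_perm_hom e hinj _ hN
  have hker : ∀ n, φ n = 1 ↔ ((n : G) * z = z * n ∧ (n : G) * b = b * n) := by
    intro n
    constructor
    · intro hn
      have h0 := hφ n 0
      have h1 := hφ n 1
      rw [hn, Equiv.Perm.one_apply, e0] at h0
      rw [hn, Equiv.Perm.one_apply, e1] at h1
      constructor
      · calc (n : G) * z = ((n : G) * z * (n : G)⁻¹) * n := by group
          _ = z * n := by rw [← h0]
      · calc (n : G) * b = ((n : G) * b * (n : G)⁻¹) * n := by group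
          _ = b * n := by rw [← h1]
    · rintro ⟨hnz, hnb⟩
      apply Equiv.ext
      intro i
      apply hinj
      rw [hφ, Equiv.Perm.one_apply]
      have hz' : (n : G) * z * (n : G)⁻¹ = z := by rw [hnz]; group
      have hb' : (n : G) * b * (n : G)⁻¹ = b := by rw [hnb]; group
      rcases hcases i with rfl | rfl | rfl
      · rw [e0]; exact hz'
      · rw [e1]; exact hb'
      · rw [e2]
        calc (n : G) * (z * b) * (n : G)⁻¹
            = ((n : G) * z * (n : G)⁻¹) * ((n : G) * b * (n : G)⁻¹) := by group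
          _ = z * b := by rw [hz', hb']
  refine ⟨φ, hker, ?_⟩
  have hXN := h.pd.X_le_normalizer_V
  obtain ⟨uN, huN⟩ : ∃ uN : ↥(Subgroup.normalizer
      ((Subgroup.closure ({z, b} : Set G) : Subgroup G) : Set G)), (uN : G) = u :=
    ⟨⟨u, hXN (Subgroup.mem_sup_left h.huQ)⟩, rfl⟩
  obtain ⟨vN, hvN⟩ : ∃ vN : ↥(Subgroup.normalizer
      ((Subgroup.closure ({z, b} : Set G) : Subgroup G) : Set G)), (vN : G) = v :=
    ⟨⟨v, hXN (Subgroup.mem_sup_right h.hvQ')⟩, rfl⟩
  have hφu : φ uN = swap 1 2 := by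
    apply Equiv.ext
    intro i
    apply hinj
    rw [hφ, huN]
    rcases hcases i with rfl | rfl | rfl
    · have h1 : (swap (1 : Fin 3) 2) 0 = 0 := by decide
      rw [e0, h.huz, h1, e0]
    · have h1 : (swap (1 : Fin 3) 2) 1 = 2 := by decide
      rw [e1, h.hub, h1, e2]
    · have h1 : (swap (1 : Fin 3) 2) 2 = 1 := by decide
      rw [e2, h.hu_zb, h1, e1]
  have hφv : φ vN = swap 0 2 := by
    apply Equiv.ext
    intro i
    apply hinj
    rw [hφ, hvN]
    rcases hcases i with rfl | rfl | rfl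
    · have h1 : (swap (0 : Fin 3) 2) 0 = 2 := by decide
      rw [e0, h.hvz, h1, e2]
    · have h1 : (swap (0 : Fin 3) 2) 1 = 1 := by decide
      rw [e1, h.hvb, h1, e1]
    · have h1 : (swap (0 : Fin 3) 2) 2 = 0 := by decide
      rw [e2, h.hv_zb, h1, e0]
  have huX : (uN : G) ∈ Q ⊔ Q' := by rw [huN]; exact Subgroup.mem_sup_left h.huQ
  have hvX : (vN : G) ∈ Q ⊔ Q' := by rw [hvN]; exact Subgroup.mem_sup_right h.hvQ'
  intro σ
  rcases perm_three_words σ with rfl | rfl | rfl | rfl | rfl | rfl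
  · exact ⟨1, Subgroup.one_mem _, map_one φ⟩
  · exact ⟨uN, huX, hφu⟩
  · exact ⟨vN, hvX, hφv⟩
  · exact ⟨uN * vN, Subgroup.mul_mem _ huX hvX, by rw [map_mul, hφu, hφv]⟩
  · exact ⟨vN * uN, Subgroup.mul_mem _ hvX huX, by rw [map_mul, hφu, hφv]⟩
  · exact ⟨uN * vN * uN, Subgroup.mul_mem _ (Subgroup.mul_mem _ huX hvX) huX,
      by rw [map_mul, map_mul, hφu, hφv]⟩

end PairDataX

/-- Centralizing the subgroup generated by `z` and `b` means commuting with `z` and `b`. -/
theorem mem_centralizer_closure_pair_iff {G : Type*} [Group G] {z b : G} (x : G) :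
    x ∈ Subgroup.centralizer ((Subgroup.closure ({z, b} : Set G) : Subgroup G) : Set G) ↔
      x * z = z * x ∧ x * b = b * x := by
  rw [Subgroup.mem_centralizer_iff]
  constructor
  · intro h
    exact ⟨(h z (Subgroup.subset_closure (Set.mem_insert _ _))).symm,
      (h b (Subgroup.subset_closure (Set.mem_insert_of_mem _ rfl))).symm⟩
  · rintro ⟨hz, hb⟩ t ht
    have hle : Subgroup.closure ({z, b} : Set G) ≤ Subgroup.centralizer ({x} : Set G) := by
      rw [Subgroup.closure_le]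
      intro y hy
      rcases hy with rfl | hy
      · exact Subgroup.mem_centralizer_singleton_iff.2 hz.symm
      · rw [Set.mem_singleton_iff] at hy
        subst hy
        exact Subgroup.mem_centralizer_singleton_iff.2 hb.symm
    exact Subgroup.mem_centralizer_singleton_iff.1 (hle ht)

/-- The data `PairDataX` for `(Q, Q^g)` with `z^g ∈ Q`, `z^g ≠ z`, `|Q| > 8`. -/
theorem exists_pairDataX_of_conj {G : Type*} [Group G] {Q : Subgroup G} {z : G} (hQ : QData Q z)
    (hcard : 8 < Nat.card Q) (g : G) (hgz : g * z * g⁻¹ ≠ z) (hgQ : g * z * g⁻¹ ∈ Q) :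
    ∃ u v : G, PairDataX Q (Q.map (MulAut.conj g).toMonoidHom) z (g * z * g⁻¹) u v := by
  have pd := pairData_of_conj hQ hcard g hgz hgQ
  obtain ⟨u, huQ, hub, hsplit, -⟩ := qdata_split pd.hQ pd.hbQ pd.hQ'.ne_one pd.hbz
  obtain ⟨v, hvQ', hvz, hsplit', -⟩ :=
    qdata_split pd.hQ' pd.hzQ' pd.hQ.ne_one (fun h => pd.hbz h.symm)
  have hvz' : v * z * v⁻¹ = z * (g * z * g⁻¹) := by rw [hvz]; exact pd.comm.symm
  refine ⟨u, v, pd, huQ, hvQ', hub, hvz', hsplit, hsplit', ?_⟩
  intro q hq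
  rw [mem_map_conj_iff]
  have hn : (g⁻¹ * u⁻¹ * v) * z = z * (g⁻¹ * u⁻¹ * v) := by
    have h1 : u⁻¹ * (z * (g * z * g⁻¹)) * u = g * z * g⁻¹ := by
      rw [← hub]; group
    calc (g⁻¹ * u⁻¹ * v) * z = g⁻¹ * (u⁻¹ * (v * z * v⁻¹) * u) * u⁻¹ * v := by group
      _ = g⁻¹ * (g * z * g⁻¹) * u⁻¹ * v := by rw [hvz', h1]
      _ = z * (g⁻¹ * u⁻¹ * v) := by group
  have h2 := hQ.norm _ hn q hq
  have e : g⁻¹ * (u⁻¹ * (v * q * v⁻¹) * u) * g
      = (g⁻¹ * u⁻¹ * v) * q * (g⁻¹ * u⁻¹ * v)⁻¹ := by group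
  rw [e]
  exact h2

end Cfsg.Agent.Lib.helper92
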