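import Mathlib
import Cfsg.Agent.Lib.helper44.PresDefs

set_option autoImplicit false

namespace Cfsg.Agent.Lib.helper92.Pres

open Cfsg.Agent.Lib.helper44.Pres Polynomial

theorem helper92_mH_mul {F : Type*} [Field F] (y z : Fˣ) : mH y * mH z = mH (y * z) := by
  apply Subtype.ext
  show !![(y : F), 0; 0, ((y⁻¹ : Fˣ) : F)] * !![(z : F), 0; 0, ((z⁻¹ : Fˣ) : F)]
    = !![((y * z : Fˣ) : F), 0; 0, (((y * z)⁻¹ : Fˣ) : F)]
  rw [Matrix.mul_fin_two]
  simp [mul_comm]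

theorem helper92_mH_one {F : Type*} [Field F] : mH (1 : Fˣ) = (1 : Matrix.SpecialLinearGroup (Fin 2) F) := by
  apply Subtype.ext
  show !![((1 : Fˣ) : F), 0; 0, (((1 : Fˣ)⁻¹ : Fˣ) : F)] = (1 : Matrix (Fin 2) (Fin 2) F)
  simp [Matrix.one_fin_two]

theorem helper92_mH_pow {F : Type*} [Field F] (z : Fˣ) (k : ℕ) : mH z ^ k = mH (z ^ k) := by
  induction k with
  | zero => rw [pow_zero, pow_zero, helper92_mH_one]
  | succ k ih => rw [pow_succ, ih, helper92_mH_mul, pow_succ]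

theorem helper92_mH_inv {F : Type*} [Field F] (z : Fˣ) : (mH z)⁻¹ = mH z⁻¹ := by
  apply inv_eq_of_mul_eq_one_right
  rw [helper92_mH_mul, mul_inv_cancel, helper92_mH_one]

theorem helper92_mT_inv {F : Type*} [Field F] :
    (mT F)⁻¹ = ⟨!![0, -1; 1, 0], by simp [Matrix.det_fin_two]⟩ := by
  apply inv_eq_of_mul_eq_one_right
  apply Subtype.ext
  show !![(0 : F), 1; -1, 0] * !![(0 : F), -1; 1, 0] = (1 : Matrix (Fin 2) (Fin 2) F)
  rw [Matrix.mul_fin_two]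
  simp [Matrix.one_fin_two]

theorem helper92_mH_conj {F : Type*} [Field F] (z : Fˣ) (a : F) :
    mH z * mU F a * (mH z)⁻¹ = mU F ((z : F) ^ 2 * a) := by
  rw [helper92_mH_inv]
  apply Subtype.ext
  show !![(z : F), 0; 0, ((z⁻¹ : Fˣ) : F)] * !![(1 : F), a; 0, 1]
      * !![((z⁻¹ : Fˣ) : F), 0; 0, (((z⁻¹)⁻¹ : Fˣ) : F)]
    = !![(1 : F), (z : F) ^ 2 * a; 0, 1]
  rw [Matrix.mul_fin_two, Matrix.mul_fin_two]
  have hz : (z : F) ≠ 0 := z.ne_zero
  simp only [inv_inv, Units.val_inv_eq_inv_val, mul_zero, zero_mul, add_zero, zero_add, mul_one]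
  have h1 : (z : F) * (z : F)⁻¹ = 1 := mul_inv_cancel₀ hz
  have h2 : (z : F)⁻¹ * (z : F) = 1 := inv_mul_cancel₀ hz
  have h3 : (z : F) * a * (z : F) = (z : F) ^ 2 * a := by ring
  rw [h1, h2, h3]

theorem helper92_mU_zero {F : Type*} [Field F] :
    mU F 0 = (1 : Matrix.SpecialLinearGroup (Fin 2) F) := by
  apply Subtype.ext
  show !![(1 : F), 0; 0, 1] = (1 : Matrix (Fin 2) (Fin 2) F)
  simp [Matrix.one_fin_two]

theorem helper92_mU_mul {F : Type*} [Field F] (a b : F) : mU F a * mU F b = mU F (a + b) := by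
  apply Subtype.ext
  show !![(1 : F), a; 0, 1] * !![(1 : F), b; 0, 1] = !![(1 : F), a + b; 0, 1]
  rw [Matrix.mul_fin_two]
  simp [add_comm]

theorem helper92_list_prod_mU {F : Type*} [Field F] (φ : ℕ → F) (l : List ℕ) :
    (l.map fun n => mU F (φ n)).prod = mU F ((l.map φ).sum) := by
  induction l with
  | nil => simp [helper92_mU_zero]
  | cons a l ih => rw [List.map_cons, List.prod_cons, ih, helper92_mU_mul, List.map_cons, List.sum_cons]

theorem helper92_list_sum_range {F : Type*} [Field F] (φ : ℕ → F) (N : ℕ) :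
    ((List.range N).map φ).sum = ∑ n ∈ Finset.range N, φ n := by
  induction N with
  | zero => simp
  | succ N ih =>
    rw [List.range_succ, List.map_append, List.sum_append, ih, Finset.sum_range_succ]
    simp

end Cfsg.Agent.Lib.helper92.Pres

/-! SPARE copies (suffix `_h92`) of the S2286 piece MATa; the canonical ones are in
`Cfsg.Agent.Lib.helper77.PresMATa`. -/

namespace Cfsg.Agent.Lib.helper44.Pres

open Cfsg.Agent.Lib.helper92.Pres Polynomial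

-- MAT
theorem mU_mul_h92 {F : Type*} [Field F] (a b : F) : mU F a * mU F b = mU F (a + b) := by
  apply Subtype.ext
  show !![(1 : F), a; 0, 1] * !![(1 : F), b; 0, 1] = !![(1 : F), a + b; 0, 1]
  rw [Matrix.mul_fin_two]
  simp [add_comm]

-- MAT
theorem mU_pow_h92 {F : Type*} [Field F] (a : F) (k : ℕ) : mU F a ^ k = mU F (k • a) := by
  induction k with
  | zero =>
    rw [pow_zero, zero_smul]
    apply Subtype.ext
    show (1 : Matrix (Fin 2) (Fin 2) F) = !![(1 : F), 0; 0, 1]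
    simp [Matrix.one_fin_two]
  | succ k ih => rw [pow_succ, ih, mU_mul_h92, succ_nsmul]

-- MAT
theorem mH_pow_conj_h92 {F : Type*} [Field F] (ζ : Fˣ) (k : ℕ) (a : F) :
    mH ζ ^ k * mU F a * (mH ζ ^ k)⁻¹ = mU F (((ζ : F) ^ 2) ^ k * a) := by
  rw [helper92_mH_pow, helper92_mH_conj]
  congr 1
  rw [Units.val_pow_eq_pow_val]
  ring

-- MAT
theorem polyWord_mU_h92 {F : Type*} [Field F] {p : ℕ} [Fact p.Prime] [Algebra (ZMod p) F] (ζ : Fˣ)
    (i : ℕ) (f : (ZMod p)[X]) :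
    polyWord (mH ζ ^ i) (mU F 1) f = mU F (aeval (((ζ : F) ^ 2) ^ i) f) := by
  have : NeZero p := ⟨(Fact.out : p.Prime).ne_zero⟩
  unfold polyWord
  have h1 : ∀ n : ℕ, ((mH ζ ^ i) ^ n * mU F 1 * ((mH ζ ^ i) ^ n)⁻¹) ^ (f.coeff n).val
      = mU F (f.coeff n • (((ζ : F) ^ 2) ^ i) ^ n) := by
    intro n
    rw [← pow_mul, mH_pow_conj_h92, mU_pow_h92]
    congr 1
    rw [nsmul_eq_mul, Algebra.smul_def, mul_one, pow_mul]
    congr 1
    conv_rhs => rw [← ZMod.natCast_zmod_val (f.coeff n)]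
    exact (map_natCast (algebraMap (ZMod p) F) _).symm
  rw [List.map_congr_left (fun n _ => h1 n), helper92_list_prod_mU, helper92_list_sum_range,
    Polynomial.aeval_eq_sum_range]

-- MAT
theorem mT_mH_h92 {F : Type*} [Field F] (ζ : Fˣ) : mT F * mH ζ * (mT F)⁻¹ = (mH ζ)⁻¹ := by
  rw [helper92_mT_inv, helper92_mH_inv]
  apply Subtype.ext
  show !![(0 : F), 1; -1, 0] * !![(ζ : F), 0; 0, ((ζ⁻¹ : Fˣ) : F)] * !![(0 : F), -1; 1, 0]
    = !![((ζ⁻¹ : Fˣ) : F), 0; 0, (((ζ⁻¹)⁻¹ : Fˣ) : F)]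
  rw [Matrix.mul_fin_two, Matrix.mul_fin_two]
  simp

-- MAT
theorem mat_rel6_h92 {F : Type*} [Field F] : mU F 1 * mT F * mU F 1 * (mT F)⁻¹ * mU F 1 = mT F := by
  rw [helper92_mT_inv]
  apply Subtype.ext
  show !![(1 : F), 1; 0, 1] * !![(0 : F), 1; -1, 0] * !![(1 : F), 1; 0, 1] * !![(0 : F), -1; 1, 0]
      * !![(1 : F), 1; 0, 1] = !![(0 : F), 1; -1, 0]
  rw [Matrix.mul_fin_two, Matrix.mul_fin_two, Matrix.mul_fin_two, Matrix.mul_fin_two]
  simp

-- MAT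
theorem mat_rel7_h92 {F : Type*} [Field F] (ζ : Fˣ) :
    mU F (ζ : F) * mT F * mU F ((ζ⁻¹ : Fˣ) : F) * (mT F)⁻¹ * mU F (ζ : F) = mH ζ * mT F := by
  rw [helper92_mT_inv]
  apply Subtype.ext
  show !![(1 : F), (ζ : F); 0, 1] * !![(0 : F), 1; -1, 0] * !![(1 : F), ((ζ⁻¹ : Fˣ) : F); 0, 1]
      * !![(0 : F), -1; 1, 0] * !![(1 : F), (ζ : F); 0, 1]
    = !![(ζ : F), 0; 0, ((ζ⁻¹ : Fˣ) : F)] * !![(0 : F), 1; -1, 0]
  rw [Matrix.mul_fin_two, Matrix.mul_fin_two, Matrix.mul_fin_two, Matrix.mul_fin_two,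
    Matrix.mul_fin_two]
  have hz : (ζ : F) ≠ 0 := ζ.ne_zero
  simp only [Units.val_inv_eq_inv_val]
  ext a b
  fin_cases a <;> fin_cases b <;> simp [hz]

end Cfsg.Agent.Lib.helper44.Pres
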