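import Mathlib
import Cfsg.Agent.Lib.helper92.QFun

/-!
# The groups `Q_U` and `L_U` for a singular subgroup `U`

Double centralizer property in an extraspecial group (`QData.exists_centralizing`), and the
setting `UData z U`: `U` elementary abelian, all its involutions conjugate to `z`, pairwise
orthogonal (`v ∈ Q_u`).  Then `Q_u ⊓ Q_v ≤ Q_{uv}`, `[L_U, Q_U] ≤ U`, `C_{L_U}(U)` is transitive on
the cosets `x U` (`x ∈ Q_U \ U`), and `L_U` induces `Aut(U)` on `U`.
-/

set_option autoImplicit false

namespace Cfsg.Agent.Lib.helper92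

/-- Inductive form of the double centralizer property. -/
theorem QData.exists_centralizing_aux {G : Type*} [Group G] {Q : Subgroup G} {z : G}
    (h : QData Q z) : ∀ S : Finset G, (∀ a ∈ S, a ∈ Q) → ∀ v ∈ Q,
      v ∉ Subgroup.closure (insert z (S : Set G)) →
      ∃ q ∈ Q, (∀ a ∈ S, q * a = a * q) ∧ q * v ≠ v * q := by
  classical
  intro S
  induction S using Finset.induction_on with
  | empty =>
    intro _ v hv hvS
    by_contra hno
    push Not at hno
    apply hvS
    have h1 : v ∈ Subgroup.zpowers z := h.cent v (fun q hq => hno q hq (by simp))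
    rw [Subgroup.zpowers_eq_closure] at h1
    simpa using h1
  | insert a S haS ih =>
    intro hSQ v hv hvS
    have haQ : a ∈ Q := hSQ a (Finset.mem_insert_self a S)
    have hSQ' : ∀ c ∈ S, c ∈ Q := fun c hc => hSQ c (Finset.mem_insert_of_mem hc)
    have hmono : Subgroup.closure (insert z (S : Set G))
        ≤ Subgroup.closure (insert z ((insert a S : Finset G) : Set G)) := by
      apply Subgroup.closure_mono
      intro y hy
      rcases hy with hy | hy
      · left; exact hy
      · right; exact Finset.mem_coe.2 (Finset.mem_insert_of_mem (Finset.mem_coe.1 hy))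
    have haC : a ∈ Subgroup.closure (insert z ((insert a S : Finset G) : Set G)) :=
      Subgroup.subset_closure (Set.mem_insert_of_mem _ (Finset.mem_coe.2 (Finset.mem_insert_self a S)))
    obtain ⟨q₀, hq₀Q, hq₀S, hq₀v⟩ := ih hSQ' v hv (fun hc => hvS (hmono hc))
    by_cases hq₀a : q₀ * a = a * q₀
    · refine ⟨q₀, hq₀Q, ?_, hq₀v⟩
      intro c hc
      rcases Finset.mem_insert.1 hc with hca | hc
      · rw [hca]; exact hq₀a
      · exact hq₀S c hc
    · have hva : v * a ∉ Subgroup.closure (insert z (S : Set G)) := by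
        intro hc
        apply hvS
        have h2 := Subgroup.mul_mem _ (hmono hc) (Subgroup.inv_mem _ haC)
        have e : v * a * a⁻¹ = v := by group
        rw [e] at h2; exact h2
      obtain ⟨q₁, hq₁Q, hq₁S, hq₁va⟩ := ih hSQ' (v * a) (Q.mul_mem hv haQ) hva
      by_cases hq₁a : q₁ * a = a * q₁
      · refine ⟨q₁, hq₁Q, ?_, ?_⟩
        · intro c hc
          rcases Finset.mem_insert.1 hc with hca | hc
          · rw [hca]; exact hq₁a
          · exact hq₁S c hc
        · intro hq₁v
          apply hq₁va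
          calc q₁ * (v * a) = (q₁ * v) * a := by group
            _ = (v * q₁) * a := by rw [hq₁v]
            _ = v * (q₁ * a) := by group
            _ = v * (a * q₁) := by rw [hq₁a]
            _ = v * a * q₁ := by group
      · have h0a : q₀ * a * q₀⁻¹ = z * a := h.conj_eq_of_not_comm hq₀Q haQ hq₀a
        have h1a : q₁ * a * q₁⁻¹ = z * a := h.conj_eq_of_not_comm hq₁Q haQ hq₁a
        have h1v : q₁ * v * q₁⁻¹ = v := by
          rcases h.conj_eq_or hq₁Q hv with h1 | h1
          · exact h1
          · exfalso; apply hq₁va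
            have hzv : z * v = v * z := (h.central v hv).symm
            calc q₁ * (v * a) = (q₁ * v * q₁⁻¹) * (q₁ * a * q₁⁻¹) * q₁ := by group
              _ = (z * v) * (z * a) * q₁ := by rw [h1, h1a]
              _ = (v * z) * (z * a) * q₁ := by rw [hzv]
              _ = v * (z * z) * a * q₁ := by group
              _ = v * a * q₁ := by rw [h.sq]; group
        refine ⟨q₀ * q₁, Q.mul_mem hq₀Q hq₁Q, ?_, ?_⟩
        · intro c hc
          rcases Finset.mem_insert.1 hc with hca | hc
          · rw [hca]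
            have hq₀z : q₀ * z = z * q₀ := h.central q₀ hq₀Q
            calc q₀ * q₁ * a = q₀ * (q₁ * a * q₁⁻¹) * q₁ := by group
              _ = q₀ * (z * a) * q₁ := by rw [h1a]
              _ = (q₀ * z) * a * q₁ := by group
              _ = (z * q₀) * a * q₁ := by rw [hq₀z]
              _ = z * (q₀ * a * q₀⁻¹) * q₀ * q₁ := by group
              _ = z * (z * a) * q₀ * q₁ := by rw [h0a]
              _ = (z * z) * a * q₀ * q₁ := by group
              _ = a * (q₀ * q₁) := by rw [h.sq]; group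
          · calc q₀ * q₁ * c = q₀ * (q₁ * c) := by group
              _ = q₀ * (c * q₁) := by rw [hq₁S c hc]
              _ = (q₀ * c) * q₁ := by group
              _ = (c * q₀) * q₁ := by rw [hq₀S c hc]
              _ = c * (q₀ * q₁) := by group
        · intro hcomm
          apply hq₀v
          have hq₁v : q₁ * v = v * q₁ := by
            calc q₁ * v = (q₁ * v * q₁⁻¹) * q₁ := by group
              _ = v * q₁ := by rw [h1v]
          calc q₀ * v = q₀ * (v * q₁) * q₁⁻¹ := by group
            _ = q₀ * (q₁ * v) * q₁⁻¹ := by rw [hq₁v]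
            _ = (q₀ * q₁ * v) * q₁⁻¹ := by group
            _ = (v * (q₀ * q₁)) * q₁⁻¹ := by rw [hcomm]
            _ = v * q₀ := by group

/-- **Double centralizer property**: if `z ∈ A ≤ Q` and `v ∈ Q \ A`, some element of `Q`
centralizes `A` and moves `v`. -/
theorem QData.exists_centralizing {G : Type*} [Group G] [Finite G] {Q : Subgroup G} {z : G}
    (h : QData Q z) (A : Subgroup G) (hA : A ≤ Q) (hzA : z ∈ A) (v : G) (hv : v ∈ Q)
    (hvA : v ∉ A) : ∃ q ∈ Q, (∀ a ∈ A, q * a = a * q) ∧ q * v * q⁻¹ = z * v := by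
  classical
  have hfin : (A : Set G).Finite := Set.toFinite _
  have hmem : ∀ a, a ∈ hfin.toFinset ↔ a ∈ A := fun a => by simp
  obtain ⟨q, hqQ, hqS, hqv⟩ := h.exists_centralizing_aux hfin.toFinset
    (fun a ha => hA ((hmem a).1 ha)) v hv (by
      intro hc
      apply hvA
      have hle : Subgroup.closure (insert z ((hfin.toFinset : Finset G) : Set G)) ≤ A := by
        rw [Subgroup.closure_le]
        intro y hy
        rcases hy with hy | hy
        · rw [hy]; exact hzA
        · exact (hmem y).1 (Finset.mem_coe.1 hy)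
      exact hle hc)
  exact ⟨q, hqQ, fun a ha => hqS a ((hmem a).2 ha), h.conj_eq_of_not_comm hqQ hv hqv⟩

/-- Conjugation by an element normalizing `U`, as an automorphism of `U`. -/
def conjEquiv {G : Type*} [Group G] (U : Subgroup G) (q : G)
    (hq : ∀ x : G, x ∈ U ↔ q * x * q⁻¹ ∈ U) : ↥U ≃* ↥U where
  toFun x := ⟨q * x * q⁻¹, (hq x).1 x.2⟩
  invFun x := ⟨q⁻¹ * x * q, (hq _).2 (by
    have e : q * (q⁻¹ * (x : G) * q) * q⁻¹ = x := by group
    rw [e]; exact x.2)⟩
  left_inv x := by
    apply Subtype.ext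
    show q⁻¹ * (q * (x : G) * q⁻¹) * q = x
    group
  right_inv x := by
    apply Subtype.ext
    show q * (q⁻¹ * (x : G) * q) * q⁻¹ = x
    group
  map_mul' x y := by
    apply Subtype.ext
    show q * ((x : G) * y) * q⁻¹ = (q * x * q⁻¹) * (q * y * q⁻¹)
    group

theorem conjEquiv_apply {G : Type*} [Group G] (U : Subgroup G) (q : G)
    (hq : ∀ x : G, x ∈ U ↔ q * x * q⁻¹ ∈ U) (x : ↥U) :
    ((conjEquiv U q hq x : ↥U) : G) = q * x * q⁻¹ := rfl

/-- A *singular* subgroup `U` for the involution `z`: exponent `2`, all involutions conjugate to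
`z`, pairwise orthogonal. -/
structure UData {G : Type*} [Group G] (z : G) (U : Subgroup G) : Prop where
  hq : QData (QO z) z
  sq : ∀ u ∈ U, u * u = 1
  conj : ∀ u ∈ U, u ≠ 1 → ∃ g : G, g * z * g⁻¹ = u
  mem : ∀ u ∈ U, ∀ v ∈ U, u ≠ 1 → v ≠ 1 → v ∈ QO u

theorem mem_biInf_QO_iff {G : Type*} [Group G] (U : Subgroup G) (x : G) :
    x ∈ (⨅ u ∈ ((U : Set G) \ {1}), QO u) ↔ ∀ u ∈ U, u ≠ 1 → x ∈ QO u := by
  simp only [Subgroup.mem_iInf]
  constructor
  · intro h u hu hu1
    exact h u ⟨hu, fun e => hu1 (Set.mem_singleton_iff.1 e)⟩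
  · intro h u hu
    exact h u hu.1 (fun e => hu.2 (Set.mem_singleton_iff.2 e))

theorem QO_le_biSup {G : Type*} [Group G] (U : Subgroup G) {u : G} (hu : u ∈ U) (hu1 : u ≠ 1) :
    QO u ≤ ⨆ u ∈ ((U : Set G) \ {1}), QO u :=
  le_biSup (fun u => QO u)
    (show u ∈ ((U : Set G) \ {1}) from ⟨hu, fun e => hu1 (Set.mem_singleton_iff.1 e)⟩)

theorem biSup_QO_le {G : Type*} [Group G] (U K : Subgroup G)
    (h : ∀ u ∈ U, u ≠ 1 → QO u ≤ K) : (⨆ u ∈ ((U : Set G) \ {1}), QO u) ≤ K :=
  iSup₂_le fun u hu => h u hu.1 (fun e => hu.2 (Set.mem_singleton_iff.2 e))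

namespace UData

variable {G : Type*} [Group G] [Finite G] {z : G} {U : Subgroup G}

theorem qdata (h : UData z U) {u : G} (hu : u ∈ U) (hu1 : u ≠ 1) : QData (QO u) u := by
  obtain ⟨g, rfl⟩ := h.conj u hu hu1
  rw [← map_conj_QO]
  exact h.hq.conj g

omit [Finite G] in
theorem le (h : UData z U) {u : G} (hu : u ∈ U) (hu1 : u ≠ 1) : U ≤ QO u := by
  intro v hv
  by_cases hv1 : v = 1
  · rw [hv1]; exact Subgroup.one_mem _
  · exact h.mem u hu v hv hu1 hv1

omit [Finite G] in
theorem comm (h : UData z U) : ∀ u ∈ U, ∀ v ∈ U, u * v = v * u := by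
  intro u hu v hv
  have h1 := h.sq (u * v) (U.mul_mem hu hv)
  have h2 := h.sq u hu
  have h3 := h.sq v hv
  symm
  calc v * u = (u * u) * (v * u) * (v * v) := by rw [h2, h3]; group
    _ = u * (u * v * (u * v)) * v := by group
    _ = u * v := by rw [h1]; group

omit [Finite G] in
theorem inv_eq (h : UData z U) {u : G} (hu : u ∈ U) : u⁻¹ = u :=
  inv_eq_of_mul_eq_one_left (h.sq u hu)

omit [Finite G] in
theorem mul_ne_one (h : UData z U) {u v : G} (hv : v ∈ U) (huv : u ≠ v) :
    u * v ≠ 1 := by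
  intro e
  apply huv
  have h3 := h.sq v hv
  calc u = u * (v * v) := by rw [h3, mul_one]
    _ = (u * v) * v := by group
    _ = v := by rw [e, one_mul]

/-- Elements of `Q_u` normalize `U`. -/
theorem conj_mem (h : UData z U) {u : G} (hu : u ∈ U) (hu1 : u ≠ 1) {q : G} (hq : q ∈ QO u)
    {e : G} (he : e ∈ U) : q * e * q⁻¹ ∈ U := by
  rcases (h.qdata hu hu1).conj_eq_or hq (h.le hu hu1 he) with h1 | h1
  · rw [h1]; exact he
  · rw [h1]; exact U.mul_mem hu he

theorem conj_mem_iff (h : UData z U) {u : G} (hu : u ∈ U) (hu1 : u ≠ 1) {q : G} (hq : q ∈ QO u)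
    (e : G) : e ∈ U ↔ q * e * q⁻¹ ∈ U := by
  constructor
  · exact fun he => h.conj_mem hu hu1 hq he
  · intro he
    have h1 := h.conj_mem hu hu1 (Subgroup.inv_mem _ hq) he
    have e1 : q⁻¹ * (q * e * q⁻¹) * q⁻¹⁻¹ = e := by group
    rw [e1] at h1; exact h1

/-- `Q_u ⊓ Q_v ≤ Q_{uv}`. -/
theorem inf_le_mul (h : UData z U) {u v : G} (hu : u ∈ U) (hv : v ∈ U) (hu1 : u ≠ 1)
    (hv1 : v ≠ 1) (huv : u ≠ v) : QO u ⊓ QO v ≤ QO (u * v) := by
  rintro x ⟨hxu, hxv⟩
  have hqu := h.qdata hu hu1
  have hvu : v ∈ QO u := h.mem u hu v hv hu1 hv1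
  obtain ⟨y, hyQ, hyv, -, -⟩ := qdata_split hqu hvu hv1 (fun e => huv e.symm)
  have h1 : y * x * y⁻¹ ∈ QO (u * v) := by
    rw [← hyv]
    apply map_conj_QO_le y v
    rw [mem_map_conj_iff]
    have e : y⁻¹ * (y * x * y⁻¹) * y = x := by group
    rw [e]; exact hxv
  have huv1 : u * v ≠ 1 := h.mul_ne_one hv huv
  have huQ : u ∈ QO (u * v) := h.mem (u * v) (U.mul_mem hu hv) u hu huv1 hu1
  have h2 : y * x * y⁻¹ * x⁻¹ ∈ Subgroup.zpowers u := hqu.comm y hyQ x hxu
  have h3 : y * x * y⁻¹ * x⁻¹ ∈ QO (u * v) := by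
    rcases (mem_zpowers_invol hqu.sq _).1 h2 with e | e
    · rw [e]; exact Subgroup.one_mem _
    · rw [e]; exact huQ
  have h4 := Subgroup.mul_mem _ (Subgroup.inv_mem _ h3) h1
  have e : (y * x * y⁻¹ * x⁻¹)⁻¹ * (y * x * y⁻¹) = x := by group
  rw [e] at h4; exact h4

/-- `Q_U` is already the intersection of the `Q_t` for `t` in a generating set of `U`. -/
theorem iInf_eq_of_closure (h : UData z U) (T : Set G) (hT : Subgroup.closure T = U)
    (hT1 : (1 : G) ∉ T) : (⨅ u ∈ ((U : Set G) \ {1}), QO u) = ⨅ t ∈ T, QO t := by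
  apply le_antisymm
  · apply le_iInf₂
    intro t ht
    have htU : t ∈ U := by rw [← hT]; exact Subgroup.subset_closure ht
    have ht1 : t ≠ 1 := fun e => hT1 (e ▸ ht)
    intro x hx
    exact (mem_biInf_QO_iff U x).1 hx t htU ht1
  · intro x hx
    simp only [Subgroup.mem_iInf] at hx
    rw [mem_biInf_QO_iff]
    have key : ∀ w ∈ Subgroup.closure T, w = 1 ∨ x ∈ QO w := by
      intro w hw
      induction hw using Subgroup.closure_induction with
      | mem t ht => right; exact hx t ht
      | one => left; rfl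
      | mul a b ha hb iha ihb =>
        have haU : a ∈ U := hT ▸ ha
        have hbU : b ∈ U := hT ▸ hb
        by_cases ha1 : a = 1
        · rw [ha1, one_mul]; exact ihb
        by_cases hb1 : b = 1
        · rw [hb1, mul_one]; exact iha
        by_cases hab : a = b
        · left; rw [hab]; exact h.sq b hbU
        right
        have hxa : x ∈ QO a := iha.resolve_left ha1
        have hxb : x ∈ QO b := ihb.resolve_left hb1
        exact h.inf_le_mul haU hbU ha1 hb1 hab ⟨hxa, hxb⟩
      | inv a ha iha =>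
        have haU : a ∈ U := hT ▸ ha
        rw [h.inv_eq haU]; exact iha
    intro u hu hu1
    exact (key u (hT ▸ hu)).resolve_left hu1

/-- `L_U` normalizes `U` and `[L_U, Q_U] ≤ U`. -/
theorem biSup_le_commModSub (h : UData z U) :
    (⨆ u ∈ ((U : Set G) \ {1}), QO u)
      ≤ commModSub U ((⨅ u ∈ ((U : Set G) \ {1}), QO u : Subgroup G) : Set G) := by
  apply biSup_QO_le
  intro u hu hu1 q hq
  rw [mem_commModSub_iff]
  refine ⟨fun e he => h.conj_mem hu hu1 hq he, fun e he => ?_, fun t ht => ?_⟩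
  · have h1 := h.conj_mem hu hu1 (Subgroup.inv_mem _ hq) he
    have e1 : q⁻¹ * e * q⁻¹⁻¹ = q⁻¹ * e * q := by group
    rw [e1] at h1; exact h1
  · have htu : t ∈ QO u := (mem_biInf_QO_iff U t).1 ht u hu hu1
    have h2 := (h.qdata hu hu1).comm q hq t htu
    rcases (mem_zpowers_invol (h.sq u hu) _).1 h2 with e | e
    · rw [e]; exact U.one_mem
    · rw [e]; exact hu

/-- `C_{L_U}(U)` is transitive on each coset `x U`, `x ∈ Q_U \ U`. -/
theorem exists_conj_eq_mul (h : UData z U) {x : G}
    (hx : x ∈ (⨅ u ∈ ((U : Set G) \ {1}), QO u)) (hxU : x ∉ U) {u : G} (hu : u ∈ U) :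
    ∃ g ∈ (⨆ u ∈ ((U : Set G) \ {1}), QO u) ⊓ Subgroup.centralizer (U : Set G),
      g * x * g⁻¹ = x * u := by
  by_cases hu1 : u = 1
  · refine ⟨1, Subgroup.one_mem _, ?_⟩
    rw [hu1]; group
  have hxu : x ∈ QO u := (mem_biInf_QO_iff U x).1 hx u hu hu1
  have hqu := h.qdata hu hu1
  obtain ⟨q, hqQ, hqU, hqx⟩ := hqu.exists_centralizing U (h.le hu hu1) hu x hxu hxU
  refine ⟨q, Subgroup.mem_inf.2 ⟨QO_le_biSup U hu hu1 hqQ, ?_⟩, ?_⟩
  · rw [Subgroup.mem_centralizer_iff]
    intro a ha
    exact (hqU a ha).symm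
  · rw [hqx]; exact (hqu.central x hxu).symm

/-- `L_U` induces the full automorphism group on `U`. -/
theorem exists_conj_eq_equiv (h : UData z U) : ∀ (k : ℕ) (φ : ↥U ≃* ↥U),
    Set.ncard {u : ↥U | φ u ≠ u} = k →
    ∃ g ∈ (⨆ u ∈ ((U : Set G) \ {1}), QO u), ∀ u : ↥U, g * (u : G) * g⁻¹ = ((φ u : ↥U) : G) := by
  classical
  intro k
  induction k using Nat.strong_induction_on with
  | _ k ih =>
    intro φ hk
    by_cases hfix : ∀ u : ↥U, φ u = u
    · refine ⟨1, Subgroup.one_mem _, fun u => ?_⟩
      rw [hfix u]; group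
    · push Not at hfix
      obtain ⟨v, hv⟩ := hfix
      obtain ⟨w, hw⟩ : ∃ w : G, w = ((φ v : ↥U) : G) * (v : G) := ⟨_, rfl⟩
      have hwU : w ∈ U := by rw [hw]; exact U.mul_mem (φ v).2 v.2
      have hvv : (v : G) * (v : G) = 1 := h.sq v v.2
      have hw1 : w ≠ 1 := by
        intro e
        apply hv
        apply Subtype.ext
        calc ((φ v : ↥U) : G) = (φ v : G) * ((v : G) * (v : G)) := by rw [hvv, mul_one]
          _ = ((φ v : G) * (v : G)) * (v : G) := by group
          _ = (v : G) := by rw [← hw, e, one_mul]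
      have hww : w * w = 1 := h.sq w hwU
      have hqw := h.qdata hwU hw1
      have hUw := h.le hwU hw1
      have hfin : {x : G | ∃ y : ↥U, φ y = y ∧ (y : G) = x}.Finite := Set.toFinite _
      have hS : ∀ x, x ∈ hfin.toFinset ↔ ∃ y : ↥U, φ y = y ∧ (y : G) = x := by
        intro x; simp
      have hvS : (v : G) ∉ Subgroup.closure (insert w ((hfin.toFinset : Finset G) : Set G)) := by
        intro hc
        have key : ∀ x ∈ Subgroup.closure (insert w ((hfin.toFinset : Finset G) : Set G)),
            ∃ y : ↥U, φ y = y ∧ ((y : G) = x ∨ (y : G) * w = x) := by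
          intro x hx
          induction hx using Subgroup.closure_induction with
          | mem t ht =>
            rcases ht with ht | ht
            · exact ⟨1, map_one φ, Or.inr (by rw [ht]; simp)⟩
            · obtain ⟨y, hy, hyt⟩ := (hS t).1 (Finset.mem_coe.1 ht)
              exact ⟨y, hy, Or.inl hyt⟩
          | one => exact ⟨1, map_one φ, Or.inl rfl⟩
          | mul a b _ _ iha ihb =>
            obtain ⟨ya, hya, ha⟩ := iha
            obtain ⟨yb, hyb, hb⟩ := ihb
            refine ⟨ya * yb, by rw [map_mul, hya, hyb], ?_⟩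
            have hcw : w * (yb : G) = (yb : G) * w := h.comm _ hwU _ yb.2
            rcases ha with ha | ha <;> rcases hb with hb | hb
            · left; rw [← ha, ← hb]; rfl
            · right; rw [← ha, ← hb]
              show (ya : G) * (yb : G) * w = (ya : G) * ((yb : G) * w)
              group
            · right; rw [← ha, ← hb]
              show (ya : G) * (yb : G) * w = (ya : G) * w * (yb : G)
              calc (ya : G) * (yb : G) * w = (ya : G) * ((yb : G) * w) := by group
                _ = (ya : G) * (w * (yb : G)) := by rw [hcw]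
                _ = (ya : G) * w * (yb : G) := by group
            · left; rw [← ha, ← hb]
              show (ya : G) * (yb : G) = (ya : G) * w * ((yb : G) * w)
              symm
              calc (ya : G) * w * ((yb : G) * w) = (ya : G) * (w * (yb : G)) * w := by group
                _ = (ya : G) * ((yb : G) * w) * w := by rw [hcw]
                _ = (ya : G) * (yb : G) * (w * w) := by group
                _ = (ya : G) * (yb : G) := by rw [hww, mul_one]
          | inv a _ iha =>
            obtain ⟨ya, hya, ha⟩ := iha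
            refine ⟨ya, hya, ?_⟩
            have hyi : ((ya : ↥U) : G)⁻¹ = ya := h.inv_eq ya.2
            have hwi : w⁻¹ = w := h.inv_eq hwU
            have hcw : w * (ya : G) = (ya : G) * w := h.comm _ hwU _ ya.2
            rcases ha with ha | ha
            · left; rw [← ha, hyi]
            · right; rw [← ha, mul_inv_rev, hyi, hwi, hcw]
        obtain ⟨y, hy, hyv⟩ := key _ hc
        rcases hyv with e | e
        · apply hv
          have : y = v := Subtype.ext e
          rw [← this]; exact hy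
        · -- `y * w = v` with `w = φ v * v` gives `φ v = y⁻¹`
          apply hv
          have hyy : (y : G) * (y : G) = 1 := h.sq y y.2
          have h5 : ((φ v : ↥U) : G) = (y : G) := by
            calc ((φ v : ↥U) : G) = (y : G) * (y : G) * ((φ v : G) * (v : G)) * (v : G) := by
                  rw [hyy, one_mul, mul_assoc, hvv, mul_one]
              _ = (y : G) * ((y : G) * w) * (v : G) := by rw [hw]; group
              _ = (y : G) * ((v : G) * (v : G)) := by rw [e]; group
              _ = (y : G) := by rw [hvv, mul_one]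
          have h6 : φ v = y := Subtype.ext h5
          have h7 : φ (φ v) = φ v := by rw [h6]; exact hy
          exact φ.injective h7
      obtain ⟨q, hqQ, hqS, hqv⟩ := hqw.exists_centralizing_aux hfin.toFinset
        (fun a ha => by
          obtain ⟨y, -, hya⟩ := (hS a).1 ha
          rw [← hya]; exact hUw y.2) v (hUw v.2) hvS
      have hqv' : q * (v : G) * q⁻¹ = w * v := hqw.conj_eq_of_not_comm hqQ (hUw v.2) hqv
      have hqN : ∀ x : G, x ∈ U ↔ q * x * q⁻¹ ∈ U := fun x => h.conj_mem_iff hwU hw1 hqQ x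
      obtain ⟨τ, hτ⟩ : ∃ τ : ↥U ≃* ↥U, ∀ y : ↥U, ((τ y : ↥U) : G) = q * y * q⁻¹ :=
        ⟨conjEquiv U q hqN, fun y => rfl⟩
      obtain ⟨ψ, hψdef⟩ : ∃ ψ : ↥U ≃* ↥U, ∀ u : ↥U, ψ u = τ.symm (φ u) :=
        ⟨φ.trans τ.symm, fun u => rfl⟩
      have hψ : ∀ u : ↥U, q * ((ψ u : ↥U) : G) * q⁻¹ = ((φ u : ↥U) : G) := by
        intro u
        rw [← hτ, hψdef, MulEquiv.apply_symm_apply]
      have hψfix : ∀ u : ↥U, φ u = u → ψ u = u := by
        intro u hu
        have h1 : τ u = u := by
          apply Subtype.ext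
          rw [hτ]
          have h2 := hqS (u : G) ((hS _).2 ⟨u, hu, rfl⟩)
          calc q * (u : G) * q⁻¹ = ((u : G) * q) * q⁻¹ := by rw [h2]
            _ = u := by group
        rw [hψdef, hu, MulEquiv.symm_apply_eq, h1]
      have hψv : ψ v = v := by
        rw [hψdef, MulEquiv.symm_apply_eq]
        apply Subtype.ext
        rw [hτ, hqv', hw, mul_assoc, hvv, mul_one]
      have hlt : Set.ncard {u : ↥U | ψ u ≠ u} < k := by
        rw [← hk]
        apply Set.ncard_lt_ncard _ (Set.toFinite _)
        constructor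
        · intro u hu hφ; exact hu (hψfix u hφ)
        · intro hsub
          exact (hsub (show v ∈ {u : ↥U | φ u ≠ u} from hv)) hψv
      obtain ⟨g', hg', hg'u⟩ := ih _ hlt ψ rfl
      refine ⟨q * g', Subgroup.mul_mem _ (QO_le_biSup U hwU hw1 hqQ) hg', fun u => ?_⟩
      calc q * g' * (u : G) * (q * g')⁻¹ = q * (g' * u * g'⁻¹) * q⁻¹ := by group
        _ = q * ((ψ u : ↥U) : G) * q⁻¹ := by rw [hg'u]
        _ = ((φ u : ↥U) : G) := hψ u

end UData

end Cfsg.Agent.Lib.helper92
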