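import Cfsg.Agent.Lib.helper92.QuasiPrimA

/-!
Quasiprimitive -> primitive reduction for Marggraf's theorem (S3620).

`quasi_imprimitive_false`: a quasiprimitive, imprimitive group with a Jordan set of size `m`,
`1 < m < n/2`, cannot exist, provided Marggraf's theorem holds for the primitive actions of `G`
on the coset spaces `G ⧸ M`.
-/

namespace Cfsg.Agent.Lib.helper92

open Equiv Equiv.Perm

/-- The Jordan hypothesis in concrete form. -/
theorem qp_jordan_concrete {G Ω : Type*} [Group G] [MulAction G Ω] (Γ : Set Ω)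
    (hJ : MulAction.IsPretransitive ↥(fixingSubgroup G Γᶜ)
      ↥(SubMulAction.ofFixingSubgroup G Γᶜ)) :
    ∀ x ∈ Γ, ∀ y ∈ Γ, ∃ g : G, (∀ z ∉ Γ, g • z = z) ∧ g • x = y := by
  intro x hx y hy
  have hx' : x ∈ SubMulAction.ofFixingSubgroup G Γᶜ := by
    rw [SubMulAction.mem_ofFixingSubgroup_iff]; simpa using hx
  have hy' : y ∈ SubMulAction.ofFixingSubgroup G Γᶜ := by
    rw [SubMulAction.mem_ofFixingSubgroup_iff]; simpa using hy
  obtain ⟨g, hg⟩ := hJ.exists_smul_eq ⟨x, hx'⟩ ⟨y, hy'⟩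
  refine ⟨g.1, fun z hz => (mem_fixingSubgroup_iff G).mp g.2 z hz, ?_⟩
  exact congrArg Subtype.val hg

/-- The concrete Jordan property gives the Mathlib form. -/
theorem qp_jordan_mk {G Ω : Type*} [Group G] [MulAction G Ω] (Γ : Set Ω)
    (hJ : ∀ x ∈ Γ, ∀ y ∈ Γ, ∃ g : G, (∀ z ∉ Γ, g • z = z) ∧ g • x = y) :
    MulAction.IsPretransitive ↥(fixingSubgroup G Γᶜ)
      ↥(SubMulAction.ofFixingSubgroup G Γᶜ) := by
  refine ⟨fun a b => ?_⟩
  have ha : a.1 ∈ Γ := by
    have := a.2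
    rw [SubMulAction.mem_ofFixingSubgroup_iff] at this
    simpa using this
  have hb : b.1 ∈ Γ := by
    have := b.2
    rw [SubMulAction.mem_ofFixingSubgroup_iff] at this
    simpa using this
  obtain ⟨g, hg, hgab⟩ := hJ a.1 ha b.1 hb
  refine ⟨⟨g, (mem_fixingSubgroup_iff G).mpr (fun z hz => hg z hz)⟩, ?_⟩
  apply Subtype.ext
  exact hgab

/-- Fibres of an equivariant map onto a transitive `G`-set all have the same size. -/
theorem qp_fiber_card {G Ω X : Type*} [Group G] [MulAction G Ω] [MulAction G X] [Finite Ω]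
    [Finite X] (f : Ω → X) (hf : ∀ (g : G) (x : Ω), f (g • x) = g • f x)
    (htr : ∀ q q' : X, ∃ g : G, g • q = q') (S : Set X) (q₀ : X) :
    (f ⁻¹' S).ncard = S.ncard * Nat.card {x : Ω // f x = q₀} := by
  classical
  have hfib : ∀ q : X, Nat.card {x : Ω // f x = q} = Nat.card {x : Ω // f x = q₀} := by
    intro q
    obtain ⟨g, hg⟩ := htr q₀ q
    apply Nat.card_congr
    exact
      { toFun := fun x => ⟨g⁻¹ • x.1, by rw [hf, x.2, ← hg, inv_smul_smul]⟩
        invFun := fun x => ⟨g • x.1, by rw [hf, x.2, hg]⟩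
        left_inv := fun x => Subtype.ext (by simp)
        right_inv := fun x => Subtype.ext (by simp) }
  have e := Equiv.sigmaSubtypeFiberEquivSubtype f (p := fun x => x ∈ f ⁻¹' S)
    (q := fun y => y ∈ S) (fun x => Iff.rfl)
  let _ : Fintype ↥S := Fintype.ofFinite _
  rw [← Nat.card_coe_set_eq, ← Nat.card_coe_set_eq]
  have h1 : Nat.card ↥(f ⁻¹' S) = Nat.card (Σ y : {y // y ∈ S}, {x : Ω // f x = y}) :=
    (Nat.card_congr e).symm
  rw [h1, Nat.card_sigma]
  simp only [hfib]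
  rw [Finset.sum_const, Finset.card_univ, smul_eq_mul,
    ← Nat.card_eq_fintype_card (α := {y // y ∈ S})]

/-- Core of the reduction: an equivariant surjection `f : Ω → X` with a nontrivial fibre onto a
faithful `G`-set `X` for which Marggraf's theorem holds is impossible for quasiprimitive `G`
with a Jordan set of size `m`, `1 < m < n/2`. -/
theorem qp_core {G : Type*} {Ω : Type*} {X : Type*} [Group G] [MulAction G Ω]
    [Finite Ω] [MulAction G X] [Fintype X] [DecidableEq X]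
    (hqp : ∀ N : Subgroup G, N.Normal → N ≠ ⊥ → MulAction.IsPretransitive ↥N Ω)
    (f : Ω → X) (hf : ∀ (g : G) (x : Ω), f (g • x) = g • f x) (hfs : Function.Surjective f)
    (hXf : ∀ g : G, (∀ q : X, g • q = q) → g = 1)
    (hb : ∃ x y : Ω, x ≠ y ∧ f x = f y)
    (Γ : Set Ω) (hΓ1 : 1 < Γ.ncard) (hΓ2 : 2 * Γ.ncard < Nat.card Ω)
    (hJ : ∀ x ∈ Γ, ∀ y ∈ Γ, ∃ g : G, (∀ z ∉ Γ, g • z = z) ∧ g • x = y)
    (prim : ∀ Γ2 : Set X, 1 < Γ2.ncard → 2 * Γ2.ncard < Fintype.card X →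
      (∀ x ∈ Γ2, ∀ y ∈ Γ2, ∃ g : G, (∀ z ∉ Γ2, g • z = z) ∧ g • x = y) →
      ∀ σ : Equiv.Perm X, Equiv.Perm.sign σ = 1 → ∃ x : G, MulAction.toPerm x = σ) :
    False := by
  classical
  obtain ⟨x₁, y₁, hx₁, hy₁, hxy⟩ := (Set.one_lt_ncard_iff (Set.toFinite Γ)).mp hΓ1
  obtain ⟨h₀, hh₀, hh₀x⟩ := hJ x₁ hx₁ y₁ hy₁
  have hh₀1 : h₀ ≠ 1 := by
    rintro rfl
    rw [one_smul] at hh₀x
    exact hxy hh₀x
  -- transitivity of `G`
  have hGtr : ∀ x y : Ω, ∃ g : G, g • x = y := by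
    have htop : (⊤ : Subgroup G) ≠ ⊥ := by
      intro h
      have : h₀ ∈ (⊥ : Subgroup G) := h ▸ Subgroup.mem_top h₀
      exact hh₀1 (Subgroup.mem_bot.mp this)
    have := hqp ⊤ inferInstance htop
    intro x y
    obtain ⟨g, hg⟩ := this.exists_smul_eq x y
    exact ⟨g.1, hg⟩
  have hXtr : ∀ q q' : X, ∃ g : G, g • q = q' := by
    intro q q'
    obtain ⟨x, rfl⟩ := hfs q
    obtain ⟨y, rfl⟩ := hfs q'
    obtain ⟨g, hg⟩ := hGtr x y
    exact ⟨g, by rw [← hf, hg]⟩
  have hHΓ : ∀ h : G, (∀ z ∉ Γ, h • z = z) → ∀ x ∈ Γ, h • x ∈ Γ := by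
    intro h hh x hx
    by_contra hn
    have h1 := hh _ hn
    have h2 : h • x = x := MulAction.injective h h1
    rw [h2] at hn
    exact hn hx
  -- `f` cannot be constant on `Γ`
  have hconstF : ∀ q : X, (∀ y ∈ Γ, f y = q) → False := by
    intro q hq
    apply hh₀1
    apply hXf
    intro p
    obtain ⟨w, rfl⟩ := hfs p
    by_cases hw : w ∈ Γ
    · rw [← hf, hq w hw, hq _ (hHΓ h₀ hh₀ w hw)]
    · rw [← hf, hh₀ w hw]
  have hsat : ∀ x ∈ Γ, ∀ z, f z = f x → z ∈ Γ := by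
    intro x hx z hz
    by_contra hzn
    apply hconstF (f x)
    intro y hy
    obtain ⟨h, hh, hxy'⟩ := hJ x hx y hy
    rw [← hxy', hf, ← hz, ← hf, hh z hzn]
  have hmem : ∀ x, x ∈ Γ ↔ f x ∈ f '' Γ := by
    intro x
    constructor
    · exact fun hx => Set.mem_image_of_mem f hx
    · rintro ⟨y, hy, hyx⟩
      exact hsat y hy x hyx.symm
  have hJ2 : ∀ q₁ ∈ f '' Γ, ∀ q₂ ∈ f '' Γ,
      ∃ g : G, (∀ z ∉ f '' Γ, g • z = z) ∧ g • q₁ = q₂ := by
    rintro _ ⟨x, hx, rfl⟩ _ ⟨y, hy, rfl⟩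
    obtain ⟨h, hh, hxy'⟩ := hJ x hx y hy
    refine ⟨h, ?_, by rw [← hf, hxy']⟩
    intro z hz
    obtain ⟨w, rfl⟩ := hfs z
    rw [← hf, hh w (fun hw => hz ((hmem w).mp hw))]
  have ht1 : 1 < (f '' Γ).ncard := by
    by_contra hcon
    push Not at hcon
    have h1 : ∀ a ∈ f '' Γ, ∀ b ∈ f '' Γ, a = b := fun a ha b hb =>
      (Set.ncard_le_one_iff (Set.toFinite _)).mp hcon ha hb
    apply hconstF (f x₁)
    intro y hy
    exact h1 _ (Set.mem_image_of_mem f hy) _ (Set.mem_image_of_mem f hx₁)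
  -- sizes
  have hpre : f ⁻¹' (f '' Γ) = Γ := by
    ext x
    exact (hmem x).symm
  have hc1 := qp_fiber_card f hf hXtr (f '' Γ) (f x₁)
  have hc2 := qp_fiber_card f hf hXtr Set.univ (f x₁)
  rw [hpre] at hc1
  rw [Set.preimage_univ, Set.ncard_univ, Set.ncard_univ, Nat.card_eq_fintype_card (α := X)] at hc2
  have ht2 : 2 * (f '' Γ).ncard < Fintype.card X := by
    rw [hc1, hc2] at hΓ2
    by_contra hcon
    push Not at hcon
    have := Nat.mul_le_mul_right (Nat.card {x : Ω // f x = f x₁}) hcon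
    nlinarith
  have hAlt := prim (f '' Γ) ht1 ht2 hJ2
  -- a block outside the Jordan set, with two distinct points
  obtain ⟨q₀, hq₀⟩ : ∃ q₀ : X, q₀ ∉ f '' Γ := by
    by_contra hcon
    push Not at hcon
    have : f '' Γ = Set.univ := Set.eq_univ_of_forall hcon
    rw [this, Set.ncard_univ, Nat.card_eq_fintype_card] at ht2
    omega
  obtain ⟨x, y, hxy2, hfxy⟩ := hb
  obtain ⟨g₀, hg₀⟩ := hXtr (f x) q₀
  have hx₀ : f (g₀ • x) = q₀ := by rw [hf, hg₀]
  have hy₀ : f (g₀ • y) = q₀ := by rw [hf, ← hfxy, hg₀]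
  have hne : g₀ • x ≠ g₀ • y := fun h => hxy2 (MulAction.injective g₀ h)
  -- the subgroup of even elements
  obtain ⟨A, hA⟩ : ∃ A : Subgroup G, A = (Perm.sign.comp (MulAction.toPermHom G X)).ker :=
    ⟨_, rfl⟩
  have hAmem : ∀ a : G, a ∈ A ↔ Perm.sign (MulAction.toPerm a : Perm X) = 1 := by
    intro a
    rw [hA, MonoidHom.mem_ker]
    rfl
  have hAn : A.Normal := by
    rw [hA]
    infer_instance
  have hA1 : A ≠ ⊥ := by
    obtain ⟨p, q, r, hpq, hpr, hqr⟩ :=
      Fintype.two_lt_card_iff.mp (by omega : 2 < Fintype.card X)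
    have hs : Perm.sign (swap p q * swap q r) = 1 := by
      rw [map_mul, Perm.sign_swap hpq, Perm.sign_swap hqr]
      rfl
    obtain ⟨a, ha⟩ := hAlt (swap p q * swap q r) hs
    intro hbot
    have haA : a ∈ A := by
      rw [hAmem, ha]
      exact hs
    rw [hbot, Subgroup.mem_bot] at haA
    rw [haA] at ha
    have h3 := congrArg (fun s : Perm X => s r) ha
    simp only [MulAction.toPerm_apply, one_smul, Perm.mul_apply, swap_apply_right] at h3
    exact hpr h3.symm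
  have hAtr := hqp A hAn hA1
  obtain ⟨a, ha⟩ := hAtr.exists_smul_eq (g₀ • x) (g₀ • y)
  have ha' : (a : G) • (g₀ • x) = g₀ • y := ha
  have haq : (a : G) • q₀ = q₀ := by
    calc (a : G) • q₀ = (a : G) • f (g₀ • x) := by rw [hx₀]
      _ = f ((a : G) • (g₀ • x)) := (hf _ _).symm
      _ = q₀ := by rw [ha', hy₀]
  -- the pointwise stabiliser of the fibre of `q₀`
  obtain ⟨C, hC⟩ : ∃ C : Subgroup G, ∀ g, g ∈ C ↔ ∀ z, f z = q₀ → g • z = z :=
    ⟨{ carrier := {g | ∀ z, f z = q₀ → g • z = z}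
       mul_mem' := fun {a b} ha hb z hz => by
         show (a * b) • z = z
         rw [mul_smul, hb z hz, ha z hz]
       one_mem' := fun z _ => one_smul _ _
       inv_mem' := fun {a} ha z hz => by
         show a⁻¹ • z = z
         rw [inv_smul_eq_iff, ha z hz] }, fun g => Iff.rfl⟩
  have hHC : ∀ h : G, (∀ z ∉ Γ, h • z = z) → h ∈ C := by
    intro h hh
    rw [hC]
    intro z hz
    apply hh
    intro hzΓ
    exact hq₀ (hz ▸ Set.mem_image_of_mem f hzΓ)
  have hCq : ∀ c ∈ C, c • q₀ = q₀ := by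
    intro c hc
    calc c • q₀ = c • f (g₀ • x) := by rw [hx₀]
      _ = f (c • (g₀ • x)) := (hf _ _).symm
      _ = q₀ := by rw [(hC c).mp hc _ hx₀, hx₀]
  have hY0 : ∀ y ∈ C.map (MulAction.toPermHom G X), y q₀ = q₀ := by
    rintro _ ⟨c, hc, rfl⟩
    exact hCq c hc
  have hYn : ∀ σ : Perm X, Perm.sign σ = 1 → σ q₀ = q₀ →
      ∀ y ∈ C.map (MulAction.toPermHom G X), σ * y * σ⁻¹ ∈ C.map (MulAction.toPermHom G X) := by
    intro σ hσ hσ0
    rintro _ ⟨c, hc, rfl⟩
    obtain ⟨b, hb⟩ := hAlt σ hσ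
    have hbq : b • q₀ = q₀ := by
      have := congrArg (fun s : Perm X => s q₀) hb
      simp only [MulAction.toPerm_apply] at this
      rw [this, hσ0]
    refine ⟨b * c * b⁻¹, ?_, ?_⟩
    · rw [SetLike.mem_coe, hC]
      intro z hz
      have hz' : f (b⁻¹ • z) = q₀ := by
        rw [hf, hz, inv_smul_eq_iff, hbq]
      rw [mul_smul, mul_smul, (hC c).mp hc _ hz', smul_inv_smul]
    · rw [map_mul, map_mul, map_inv, MulAction.toPermHom_apply, MulAction.toPermHom_apply, hb]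
  have hY1 : C.map (MulAction.toPermHom G X) ≠ ⊥ := by
    intro hbot
    have : MulAction.toPermHom G X h₀ ∈ C.map (MulAction.toPermHom G X) :=
      Subgroup.mem_map_of_mem _ (hHC h₀ hh₀)
    rw [hbot, Subgroup.mem_bot] at this
    apply hh₀1
    apply hXf
    intro q
    have h3 := congrArg (fun s : Perm X => s q) this
    simpa using h3
  have hYall : ∀ σ : Perm X, Perm.sign σ = 1 → σ q₀ = q₀ →
      σ ∈ C.map (MulAction.toPermHom G X) := by
    by_cases ht : (f '' Γ).ncard = 2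
    · obtain ⟨q₁, q₂, h12, hΓ2'⟩ := Set.ncard_eq_two.mp ht
      have hq1 : q₁ ∈ f '' Γ := by rw [hΓ2']; simp
      have hq2 : q₂ ∈ f '' Γ := by rw [hΓ2']; simp
      obtain ⟨u₁, hu₁, hfu₁⟩ := hq1
      obtain ⟨u₂, hu₂, hfu₂⟩ := hq2
      obtain ⟨h, hh, hu⟩ := hJ u₁ hu₁ u₂ hu₂
      have hsw : MulAction.toPermHom G X h = swap q₁ q₂ := by
        apply Equiv.ext
        intro q
        show h • q = swap q₁ q₂ q
        by_cases h1 : q = q₁
        · rw [h1, swap_apply_left, ← hfu₁, ← hf, hu, hfu₂]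
        · by_cases h2 : q = q₂
          · rw [h2, swap_apply_right]
            have hmem2 : f (h • u₂) ∈ f '' Γ := Set.mem_image_of_mem f (hHΓ h hh u₂ hu₂)
            rw [hΓ2'] at hmem2
            rcases hmem2 with h3 | h3
            · rw [← hfu₂, ← hf]
              exact h3
            · exfalso
              rw [Set.mem_singleton_iff] at h3
              have h4 : h • q₂ = h • q₁ := by
                rw [← hfu₂, ← hfu₁, ← hf, ← hf, hu, h3, hfu₂]
              exact h12 (MulAction.injective h h4).symm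
          · rw [swap_apply_of_ne_of_ne h1 h2]
            obtain ⟨w, rfl⟩ := hfs q
            rw [← hf, hh w ?_]
            intro hw
            have := (hmem w).mp hw
            rw [hΓ2'] at this
            rcases this with h3 | h3
            · exact h1 h3
            · exact h2 h3
      have hswY : swap q₁ q₂ ∈ C.map (MulAction.toPermHom G X) := by
        rw [← hsw]
        exact Subgroup.mem_map_of_mem _ (hHC h hh)
      have hq10 : q₁ ≠ q₀ := by
        rintro rfl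
        exact hq₀ ⟨u₁, hu₁, hfu₁⟩
      have hq20 : q₂ ≠ q₀ := by
        rintro rfl
        exact hq₀ ⟨u₂, hu₂, hfu₂⟩
      exact fun σ _ hσ0 => qp_stab_le_of_swap q₀ _ hYn q₁ q₂ h12 hq10 hq20 hswY σ hσ0
    · exact qp_alt_stab_le q₀ (by omega) _ hY0 hYn hY1
  obtain ⟨c, hc, hca⟩ := hYall (MulAction.toPerm (a : G)) ((hAmem a).mp a.2) haq
  have hca' : c = (a : G) := by
    have h1 : ((a : G)⁻¹ * c) = 1 := by
      apply hXf
      intro q
      have h3 := congrArg (fun s : Perm X => s q) hca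
      simp only [MulAction.toPermHom_apply, MulAction.toPerm_apply] at h3
      rw [mul_smul, h3, inv_smul_smul]
    exact (inv_mul_eq_one.mp h1).symm
  have h5 := (hC c).mp hc _ hx₀
  rw [hca', ha'] at h5
  exact hne h5.symm

/-- **Quasiprimitive -> primitive reduction for Marggraf's theorem.**  If `G` is quasiprimitive
on `Ω` with a Jordan set `Γ`, `1 < |Γ| < n/2`, and `G` is not primitive on `Ω`, we get a
contradiction as soon as Marggraf's theorem is known for the primitive faithful actions of `G`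
on its coset spaces `G ⧸ M`. -/
theorem quasi_imprimitive_false {G : Type*} {Ω : Type*} [Group G] [Finite G] [MulAction G Ω]
    [Finite Ω]
    (hqp : ∀ N : Subgroup G, N.Normal → N ≠ ⊥ → MulAction.IsPretransitive ↥N Ω)
    (Γ : Set Ω) (hΓ1 : 1 < Γ.ncard) (hΓ2 : 2 * Γ.ncard < Nat.card Ω)
    (hJ : MulAction.IsPretransitive ↥(fixingSubgroup G Γᶜ)
      ↥(SubMulAction.ofFixingSubgroup G Γᶜ))
    (hnp : ¬ MulAction.IsPreprimitive G Ω)
    (prim : ∀ (M : Subgroup G) [Fintype (G ⧸ M)] [DecidableEq (G ⧸ M)],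
      MulAction.IsPreprimitive G (G ⧸ M) → FaithfulSMul G (G ⧸ M) →
      ∀ Γ2 : Set (G ⧸ M), 1 < Γ2.ncard → 2 * Γ2.ncard < Fintype.card (G ⧸ M) →
      MulAction.IsPretransitive ↥(fixingSubgroup G Γ2ᶜ)
        ↥(SubMulAction.ofFixingSubgroup G Γ2ᶜ) →
      ∀ σ : Equiv.Perm (G ⧸ M), Equiv.Perm.sign σ = 1 → ∃ x : G, MulAction.toPerm x = σ) :
    False := by
  classical
  have hJ' := qp_jordan_concrete Γ hJ
  obtain ⟨x₁, y₁, hx₁, hy₁, hxy⟩ := (Set.one_lt_ncard_iff (Set.toFinite Γ)).mp hΓ1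
  obtain ⟨h₀, hh₀, hh₀x⟩ := hJ' x₁ hx₁ y₁ hy₁
  have hh₀1 : h₀ ≠ 1 := by
    rintro rfl
    rw [one_smul] at hh₀x
    exact hxy hh₀x
  have htop : (⊤ : Subgroup G) ≠ ⊥ := by
    intro h
    have : h₀ ∈ (⊥ : Subgroup G) := h ▸ Subgroup.mem_top h₀
    exact hh₀1 (Subgroup.mem_bot.mp this)
  have hGtr : MulAction.IsPretransitive G Ω := by
    have := hqp ⊤ inferInstance htop
    exact ⟨fun x y => by
      obtain ⟨g, hg⟩ := this.exists_smul_eq x y
      exact ⟨g.1, hg⟩⟩
  have hnt : Nontrivial Ω := ⟨⟨x₁, y₁, hxy⟩⟩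
  have hnc : ¬ IsCoatom (MulAction.stabilizer G x₁) := fun h =>
    hnp ((MulAction.isCoatom_stabilizer_iff_preprimitive G x₁).mp h)
  have hne : MulAction.stabilizer G x₁ ≠ ⊤ := by
    intro h
    have : h₀ ∈ MulAction.stabilizer G x₁ := h ▸ Subgroup.mem_top _
    rw [MulAction.mem_stabilizer_iff] at this
    exact hxy (this.symm.trans hh₀x)
  obtain ⟨K, hK1, hK2⟩ : ∃ K, MulAction.stabilizer G x₁ < K ∧ K ≠ ⊤ := by
    by_contra hcon
    push Not at hcon
    exact hnc ⟨hne, fun b hb => hcon b hb⟩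
  obtain ⟨M, hM, hKM⟩ := (eq_top_or_exists_le_coatom K).resolve_left hK2
  let _ : Fintype (G ⧸ M) := Fintype.ofFinite _
  have hntQ : Nontrivial (G ⧸ M) := by
    obtain ⟨g, hg⟩ : ∃ g : G, g ∉ M := by
      by_contra hcon
      push Not at hcon
      exact hM.1 ((Subgroup.eq_top_iff' M).mpr hcon)
    refine ⟨⟨(g : G ⧸ M), ((1 : G) : G ⧸ M), ?_⟩⟩
    intro h
    rw [QuotientGroup.eq] at h
    apply hg
    have := M.inv_mem h
    simpa using this
  have hprimQ : MulAction.IsPreprimitive G (G ⧸ M) := by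
    rw [← MulAction.isCoatom_stabilizer_iff_preprimitive G ((1 : G) : G ⧸ M),
      MulAction.stabilizer_quotient]
    exact hM
  obtain ⟨f, hfω⟩ : ∃ f : Ω → G ⧸ M, ∀ g : G, f (g • x₁) = (g : G ⧸ M) := by
    refine ⟨fun x => ((Classical.choose (hGtr.exists_smul_eq x₁ x) : G) : G ⧸ M), fun g => ?_⟩
    have hspec := Classical.choose_spec (hGtr.exists_smul_eq x₁ (g • x₁))
    show ((Classical.choose (hGtr.exists_smul_eq x₁ (g • x₁)) : G) : G ⧸ M) = (g : G ⧸ M)
    generalize Classical.choose (hGtr.exists_smul_eq x₁ (g • x₁)) = c at hspec ⊢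
    rw [QuotientGroup.eq]
    apply hKM
    apply hK1.le
    rw [MulAction.mem_stabilizer_iff, mul_smul, ← hspec, inv_smul_smul]
  have hf : ∀ (g : G) (x : Ω), f (g • x) = g • f x := by
    intro g x
    obtain ⟨g₀, rfl⟩ := hGtr.exists_smul_eq x₁ x
    rw [← mul_smul, hfω, hfω]
    rfl
  have hfs : Function.Surjective f := by
    intro q
    induction q using QuotientGroup.induction_on with
    | H g => exact ⟨g • x₁, hfω g⟩
  have hXf : ∀ g : G, (∀ q : G ⧸ M, g • q = q) → g = 1 := by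
    intro g hg
    by_contra hg1
    obtain ⟨N, hN⟩ : ∃ N : Subgroup G, N = (MulAction.toPermHom G (G ⧸ M)).ker := ⟨_, rfl⟩
    have hNn : N.Normal := by
      rw [hN]
      infer_instance
    have hNmem : ∀ g : G, g ∈ N ↔ MulAction.toPermHom G (G ⧸ M) g = 1 := by
      intro g
      rw [hN, MonoidHom.mem_ker]
    have hgN : g ∈ N := by
      rw [hNmem]
      apply Equiv.ext
      intro q
      exact hg q
    have hN1 : N ≠ ⊥ := fun h => hg1 (by rw [h] at hgN; exact Subgroup.mem_bot.mp hgN)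
    have hNtr := hqp N hNn hN1
    have hconst : ∀ x, f x = f x₁ := by
      intro x
      obtain ⟨k, hk⟩ := hNtr.exists_smul_eq x₁ x
      have hk' : ∀ q : G ⧸ M, (k : G) • q = q := by
        intro q
        have := (hNmem k).mp k.2
        exact congrArg (fun s : Equiv.Perm (G ⧸ M) => s q) this
      have hk2 : (k : G) • x₁ = x := hk
      rw [← hk2, hf, hk']
    obtain ⟨p, q, hpq⟩ := exists_pair_ne (G ⧸ M)
    obtain ⟨x, rfl⟩ := hfs p
    obtain ⟨y, rfl⟩ := hfs q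
    exact hpq ((hconst x).trans (hconst y).symm)
  have hb : ∃ x y : Ω, x ≠ y ∧ f x = f y := by
    obtain ⟨k, hkK, hkS⟩ := SetLike.exists_of_lt hK1
    refine ⟨x₁, k • x₁, fun h => hkS (by rw [MulAction.mem_stabilizer_iff]; exact h.symm), ?_⟩
    have h1 : f x₁ = ((1 : G) : G ⧸ M) := by
      have := hfω 1
      rwa [one_smul] at this
    rw [hfω, h1, QuotientGroup.eq]
    simpa using hKM hkK
  have hfaith : FaithfulSMul G (G ⧸ M) := by
    refine ⟨fun {m₁ m₂} h => ?_⟩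
    have h1 : m₂⁻¹ * m₁ = 1 := by
      apply hXf
      intro q
      rw [mul_smul, h, inv_smul_smul]
    exact (inv_mul_eq_one.mp h1).symm
  exact qp_core hqp f hf hfs hXf hb Γ hΓ1 hΓ2 hJ'
    (fun Γ2 h1 h2 hJ2 => prim M hprimQ hfaith Γ2 h1 h2 (qp_jordan_mk Γ2 hJ2))

end Cfsg.Agent.Lib.helper92
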