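import Mathlib

/-!
Permutation-group lemmas for the quasiprimitive -> primitive reduction of Marggraf's theorem:
a nontrivial subgroup of the stabiliser of a point that is normalised by all even permutations
fixing that point contains all of them (degree at least 6), and a variant with a swap.
-/

namespace Cfsg.Agent.Lib.helper92

open Equiv Equiv.Perm

/-- A subgroup `Y` of `Perm α` fixing `a₀`, normalised by the even permutations fixing `a₀`,
nontrivial, contains every even permutation fixing `a₀` (`6 ≤ |α|`). -/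
theorem qp_alt_stab_le {α : Type*} [Fintype α] [DecidableEq α] (a₀ : α)
    (hcard : 6 ≤ Fintype.card α) (Y : Subgroup (Perm α))
    (hY0 : ∀ y ∈ Y, y a₀ = a₀)
    (hYn : ∀ σ : Perm α, Perm.sign σ = 1 → σ a₀ = a₀ → ∀ y ∈ Y, σ * y * σ⁻¹ ∈ Y)
    (hY1 : Y ≠ ⊥) :
    ∀ σ : Perm α, Perm.sign σ = 1 → σ a₀ = a₀ → σ ∈ Y := by
  classical
  obtain ⟨s, hs⟩ : ∃ s : Finset α, s = Finset.univ.erase a₀ := ⟨_, rfl⟩
  have hsupp : ∀ σ : Perm α, σ a₀ = a₀ → σ.support ⊆ s := by
    intro σ hσ x hx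
    rw [hs, Finset.mem_erase]
    refine ⟨?_, Finset.mem_univ _⟩
    rintro rfl
    exact (Perm.mem_support.mp hx) hσ
  have hscard : 5 ≤ Nat.card ↥s := by
    rw [Nat.card_eq_fintype_card, Fintype.card_coe, hs, Finset.card_erase_of_mem (Finset.mem_univ _),
      Finset.card_univ]
    omega
  have hsimple : IsSimpleGroup (alternatingGroup ↥s) := alternatingGroup.isSimpleGroup hscard
  obtain ⟨φ, hφ⟩ : ∃ φ : alternatingGroup ↥s →* Perm α,
      φ = (alternatingGroup α).subtype.comp (alternatingGroup.ofSubtype s) := ⟨_, rfl⟩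
  have hφsign : ∀ k, Perm.sign (φ k) = 1 := by
    intro k
    rw [hφ]
    exact Perm.mem_alternatingGroup.mp (alternatingGroup.ofSubtype s k).2
  have hφfix : ∀ k, φ k a₀ = a₀ := by
    intro k
    rw [hφ]
    simp only [MonoidHom.coe_comp, Subgroup.coe_subtype, Function.comp_apply,
      alternatingGroup.coe_ofSubtype]
    apply Perm.ofSubtype_apply_of_not_mem
    rw [hs]
    simp
  have hφsurj : ∀ σ : Perm α, Perm.sign σ = 1 → σ a₀ = a₀ → ∃ k, φ k = σ := by
    intro σ hσ hσ0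
    have hmem : (⟨σ, Perm.mem_alternatingGroup.mpr hσ⟩ : alternatingGroup α) ∈
        (alternatingGroup.ofSubtype s).range := by
      rw [alternatingGroup.mem_range_ofSubtype_iff]
      exact hsupp σ hσ0
    obtain ⟨k, hk⟩ := hmem
    refine ⟨k, ?_⟩
    rw [hφ]
    simp only [MonoidHom.coe_comp, Subgroup.coe_subtype, Function.comp_apply]
    rw [hk]
  have hNn : (Y.comap φ).Normal := by
    refine ⟨fun n hn g => ?_⟩
    rw [Subgroup.mem_comap] at hn ⊢
    rw [map_mul, map_mul, map_inv]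
    exact hYn (φ g) (hφsign g) (hφfix g) (φ n) hn
  rcases hNn.eq_bot_or_eq_top with hbot | htop
  · exfalso
    -- take a nontrivial element of `Y`
    obtain ⟨y, hy, hy1⟩ : ∃ y ∈ Y, y ≠ 1 := by
      by_contra hcon
      push Not at hcon
      exact hY1 ((Subgroup.eq_bot_iff_forall Y).mpr hcon)
    obtain ⟨u, hu⟩ : ∃ u, y u ≠ u := by
      by_contra hcon
      push Not at hcon
      exact hy1 (Equiv.ext hcon)
    have hua : u ≠ a₀ := by
      rintro rfl
      exact hu (hY0 y hy)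
    have hva : y u ≠ a₀ := by
      intro h
      apply hua
      apply y.injective
      rw [h, hY0 y hy]
    obtain ⟨w, -, hw⟩ := Finset.exists_mem_notMem_of_card_lt_card
      (s := ({a₀, u, y u} : Finset α)) (t := Finset.univ)
      (lt_of_le_of_lt Finset.card_le_three (by rw [Finset.card_univ]; omega))
    obtain ⟨z, -, hz⟩ := Finset.exists_mem_notMem_of_card_lt_card
      (s := ({a₀, u, y u, w} : Finset α)) (t := Finset.univ)
      (lt_of_le_of_lt Finset.card_le_four (by rw [Finset.card_univ]; omega))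
    simp only [Finset.mem_insert, Finset.mem_singleton, not_or] at hw hz
    obtain ⟨hwa, hwu, hwv⟩ := hw
    obtain ⟨hza, hzu, hzv, hzw⟩ := hz
    obtain ⟨τ, hτ⟩ : ∃ τ : Perm α, τ = swap (y u) w * swap w z := ⟨_, rfl⟩
    have hτsign : Perm.sign τ = 1 := by
      rw [hτ, map_mul, Perm.sign_swap (Ne.symm hwv), Perm.sign_swap (Ne.symm hzw)]
      rfl
    have hτa : τ a₀ = a₀ := by
      rw [hτ, Perm.mul_apply, swap_apply_of_ne_of_ne (Ne.symm hwa) (Ne.symm hza),
        swap_apply_of_ne_of_ne (Ne.symm hva) (Ne.symm hwa)]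
    have hτu : τ u = u := by
      rw [hτ, Perm.mul_apply, swap_apply_of_ne_of_ne (Ne.symm hwu) (Ne.symm hzu),
        swap_apply_of_ne_of_ne (Ne.symm hu) (Ne.symm hwu)]
    have hτv : τ (y u) = w := by
      rw [hτ, Perm.mul_apply, swap_apply_of_ne_of_ne (Ne.symm hwv) (Ne.symm hzv),
        swap_apply_left]
    -- the commutator lies in `Y` and is even fixing `a₀`
    have hc1 : y * τ * y⁻¹ * τ⁻¹ ∈ Y := by
      have h1 : τ * y⁻¹ * τ⁻¹ ∈ Y := hYn τ hτsign hτa y⁻¹ (Y.inv_mem hy)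
      have h2 := Y.mul_mem hy h1
      have : y * (τ * y⁻¹ * τ⁻¹) = y * τ * y⁻¹ * τ⁻¹ := by group
      rwa [this] at h2
    have hc2 : Perm.sign (y * τ * y⁻¹ * τ⁻¹) = 1 := by
      simp only [map_mul, map_inv, hτsign]
      simp
    have hc3 : (y * τ * y⁻¹ * τ⁻¹) a₀ = a₀ := by
      have hy0 := hY0 y hy
      have hyi : y⁻¹ a₀ = a₀ := by rw [Perm.inv_eq_iff_eq]; exact hy0.symm
      have hτi : τ⁻¹ a₀ = a₀ := by rw [Perm.inv_eq_iff_eq]; exact hτa.symm
      simp only [Perm.mul_apply, hτi, hyi, hτa, hy0]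
    obtain ⟨k, hk⟩ := hφsurj _ hc2 hc3
    have hkN : k ∈ Y.comap φ := by
      rw [Subgroup.mem_comap, hk]; exact hc1
    rw [hbot, Subgroup.mem_bot] at hkN
    rw [hkN, map_one] at hk
    have hcomm : y * τ = τ * y := by
      have : y * τ * y⁻¹ * τ⁻¹ = 1 := hk.symm
      calc y * τ = (y * τ * y⁻¹ * τ⁻¹) * (τ * y) := by group
        _ = τ * y := by rw [this, one_mul]
    have h3 := congrArg (fun p : Perm α => p u) hcomm
    simp only [Perm.mul_apply, hτu, hτv] at h3
    exact hwv h3.symm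
  · intro σ hσ hσ0
    obtain ⟨k, hk⟩ := hφsurj σ hσ hσ0
    have : k ∈ Y.comap φ := by rw [htop]; exact Subgroup.mem_top _
    rw [Subgroup.mem_comap, hk] at this
    exact this

/-- A subgroup `Y` of `Perm α` normalised by the even permutations fixing `a₀` and containing a
swap of two points other than `a₀` contains every permutation fixing `a₀`. -/
theorem qp_stab_le_of_swap {α : Type*} [Fintype α] [DecidableEq α] (a₀ : α)
    (Y : Subgroup (Perm α))
    (hYn : ∀ σ : Perm α, Perm.sign σ = 1 → σ a₀ = a₀ → ∀ y ∈ Y, σ * y * σ⁻¹ ∈ Y)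
    (q₁ q₂ : α) (h12 : q₁ ≠ q₂) (h1 : q₁ ≠ a₀) (h2 : q₂ ≠ a₀) (hsw : swap q₁ q₂ ∈ Y) :
    ∀ σ : Perm α, σ a₀ = a₀ → σ ∈ Y := by
  classical
  -- all swaps avoiding `a₀` lie in `Y`
  have hswaps : ∀ u v : α, u ≠ v → u ≠ a₀ → v ≠ a₀ → swap u v ∈ Y := by
    intro u v huv hu hv
    obtain ⟨q, hq⟩ : ∃ q : α, q = swap q₁ u q₂ := ⟨_, rfl⟩
    have hqa : q ≠ a₀ := by
      rw [hq]
      intro h
      have : swap q₁ u q₂ = swap q₁ u a₀ := by
        rw [h, swap_apply_of_ne_of_ne (Ne.symm h1) (Ne.symm hu)]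
      exact h2 ((swap q₁ u).injective this)
    have hqu : q ≠ u := by
      rw [hq]
      intro h
      have : swap q₁ u q₂ = swap q₁ u q₁ := by rw [h, swap_apply_left]
      exact h12 ((swap q₁ u).injective this).symm
    obtain ⟨σ₀, hσ₀⟩ : ∃ σ₀ : Perm α, σ₀ = swap q v * swap q₁ u := ⟨_, rfl⟩
    have hσa : σ₀ a₀ = a₀ := by
      rw [hσ₀, Perm.mul_apply, swap_apply_of_ne_of_ne (Ne.symm h1) (Ne.symm hu),
        swap_apply_of_ne_of_ne (Ne.symm hqa) (Ne.symm hv)]
    have hσ1 : σ₀ q₁ = u := by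
      rw [hσ₀, Perm.mul_apply, swap_apply_left, swap_apply_of_ne_of_ne (Ne.symm hqu) huv]
    have hσ2 : σ₀ q₂ = v := by
      rw [hσ₀, Perm.mul_apply, ← hq, swap_apply_left]
    rcases Int.units_eq_one_or (Perm.sign σ₀) with hs | hs
    · have := hYn σ₀ hs hσa _ hsw
      rwa [← swap_apply_apply, hσ1, hσ2] at this
    · have hs' : Perm.sign (σ₀ * swap q₁ q₂) = 1 := by
        rw [map_mul, hs, Perm.sign_swap h12]; rfl
      have ha' : (σ₀ * swap q₁ q₂) a₀ = a₀ := by
        rw [Perm.mul_apply, swap_apply_of_ne_of_ne (Ne.symm h1) (Ne.symm h2), hσa]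
      have := hYn _ hs' ha' _ hsw
      rw [← swap_apply_apply, Perm.mul_apply, Perm.mul_apply, swap_apply_left, swap_apply_right,
        hσ1, hσ2, swap_comm] at this
      exact this
  intro σ hσ
  have h₁ : ∀ x, (σ x ≠ a₀) ↔ (x ≠ a₀) := by
    intro x
    constructor
    · intro h hx; exact h (hx ▸ hσ)
    · intro h hx; exact h (σ.injective (hx.trans hσ.symm))
  have h₂ : ∀ x, σ x ≠ x → x ≠ a₀ := by
    intro x hx h; exact hx (h ▸ hσ)
  rw [← Perm.ofSubtype_subtypePerm (p := fun x => x ≠ a₀) h₁ h₂]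
  have htop : (⊤ : Subgroup (Perm {x : α // x ≠ a₀})) ≤ Y.comap Perm.ofSubtype := by
    rw [← Perm.closure_isSwap, Subgroup.closure_le]
    rintro τ ⟨x, y, hxy, rfl⟩
    show Perm.ofSubtype (swap x y) ∈ Y
    rw [Perm.ofSubtype_swap_eq]
    exact hswaps x.1 y.1 (fun h => hxy (Subtype.ext h)) x.2 y.2
  exact htop (Subgroup.mem_top _)

end Cfsg.Agent.Lib.helper92
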