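import Mathlib

/-!
S3174 split (helper96), PIECE ACT2 (`action_consequences`).
-/

set_option autoImplicit false
set_option linter.unusedSimpArgs false

namespace Cfsg.Agent.Lib.helper92.S3174

theorem act2_coset_two {T : Type*} [Group T] [Finite T] (H K : Subgroup T) (hHK : H ≤ K)
    (hcard : Nat.card K = 2 * Nat.card H) (x : T) (hx : x ∈ K) (hxH : x ∉ H) (y : T) (hy : y ∈ K) :
    y ∈ H ∨ x⁻¹ * y ∈ H := by
  have hidx : (H.subgroupOf K).index = 2 := by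
    have h1 := Subgroup.card_mul_index (H.subgroupOf K)
    have h2 : Nat.card (H.subgroupOf K) = Nat.card H :=
      Nat.card_congr (Subgroup.subgroupOfEquivOfLe hHK).toEquiv
    rw [h2, hcard] at h1
    have hpos : 0 < Nat.card H := Nat.card_pos
    exact Nat.eq_of_mul_eq_mul_left hpos (by linarith)
  by_cases hyH : y ∈ H
  · exact Or.inl hyH
  · right
    have := Subgroup.mul_mem_iff_of_index_two hidx (a := (⟨x⁻¹, K.inv_mem hx⟩ : K)) (b := ⟨y, hy⟩)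
    simp only [Subgroup.mem_subgroupOf] at this
    apply this.mpr
    constructor
    · intro h; exact absurd (by simpa using H.inv_mem h) hxH
    · intro h; exact absurd h hyH

/-- ACT2 -/
theorem action_consequences {T : Type*} [Group T] [Finite T] (W Z1 Z2 Z3 : Subgroup T)
    (hZ1 : Nat.card ↥Z1 = 2) (hZ2 : Nat.card ↥Z2 = 4) (hZ3 : Nat.card ↥Z3 = 8) (h12 : Z1 ≤ Z2) (h23 : Z2 ≤ Z3)
    (hZ1c : ∀ z ∈ Z1, ∀ τ : T, τ * z = z * τ)
    (hZ2c : ∀ z ∈ Z2, ∀ τ : T, τ * z * τ⁻¹ * z⁻¹ ∈ Z1) (hZ3c : ∀ z ∈ Z3, ∀ τ : T, τ * z * τ⁻¹ * z⁻¹ ∈ Z2)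
    (hZ3el : ∀ z ∈ Z3, z ^ 2 = 1) (hZ3ab : ∀ x ∈ Z3, ∀ y ∈ Z3, x * y = y * x)
    (hW : ∀ τ : T, τ ∈ W ↔ ∀ z ∈ Z3, τ * z = z * τ)
    (z₁ z₂ z₃ a b : T) (hz1 : z₁ ∈ Z1) (hz1' : z₁ ≠ 1) (hz2 : z₂ ∈ Z2) (hz2' : z₂ ∉ Z1) (hz3 : z₃ ∈ Z3) (hz3' : z₃ ∉ Z2)
    (ha2 : a * z₂ * a⁻¹ = z₂ * z₁) (ha3 : a * z₃ * a⁻¹ = z₃) (hb2 : b * z₂ * b⁻¹ = z₂) (hb3 : b * z₃ * b⁻¹ = z₃ * z₂) :
    a ^ 2 ∈ W ∧ b ^ 2 ∈ W ∧ a ∉ W ∧ b ∉ W ∧ (a * b) ^ 2 ∉ W ∧ (a * b) ^ 4 ∈ W ∧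
    (∀ z ∈ Z3, b * z * b⁻¹ = z → z ∈ Z2) ∧
    (∀ z ∈ Z3, (a * b) ^ 2 * z * ((a * b) ^ 2)⁻¹ = z → z ∈ Z2) ∧
    (∀ τ : T, ∃ ρ ∈ ({1, a, a * b, a * b * a, (a * b) ^ 2, (a * b) ^ 2 * a, (a * b) ^ 3, (a * b) ^ 3 * a} : Set T),
      ρ⁻¹ * τ ∈ W) := by
  -- basic facts
  have hc1 : ∀ τ : T, MulAut.conj τ z₁ = z₁ := fun τ => by
    rw [MulAut.conj_apply, hZ1c z₁ hz1 τ]; group
  have hz2_3 : z₂ ∈ Z3 := h23 hz2
  have hz1_2 : z₁ ∈ Z2 := h12 hz1
  have hz1_3 : z₁ ∈ Z3 := h23 hz1_2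
  have s1 : z₁ * z₁ = 1 := by have := hZ3el z₁ hz1_3; rwa [pow_two] at this
  have s2 : z₂ * z₂ = 1 := by have := hZ3el z₂ hz2_3; rwa [pow_two] at this
  have s3 : z₃ * z₃ = 1 := by have := hZ3el z₃ hz3; rwa [pow_two] at this
  have c12 : z₁ * z₂ = z₂ * z₁ := hZ3ab _ hz1_3 _ hz2_3
  have c13 : z₁ * z₃ = z₃ * z₁ := hZ3ab _ hz1_3 _ hz3
  have c23 : z₂ * z₃ = z₃ * z₂ := hZ3ab _ hz2_3 _ hz3
  have s1' : ∀ x : T, z₁ * (z₁ * x) = x := fun x => by rw [← mul_assoc, s1, one_mul]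
  have s2' : ∀ x : T, z₂ * (z₂ * x) = x := fun x => by rw [← mul_assoc, s2, one_mul]
  have s3' : ∀ x : T, z₃ * (z₃ * x) = x := fun x => by rw [← mul_assoc, s3, one_mul]
  have c12' : ∀ x : T, z₁ * (z₂ * x) = z₂ * (z₁ * x) := fun x => by rw [← mul_assoc, c12, mul_assoc]
  have c13' : ∀ x : T, z₁ * (z₃ * x) = z₃ * (z₁ * x) := fun x => by rw [← mul_assoc, c13, mul_assoc]
  have c23' : ∀ x : T, z₂ * (z₃ * x) = z₃ * (z₂ * x) := fun x => by rw [← mul_assoc, c23, mul_assoc]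
  -- structure of Z1, Z2, Z3
  have F1 : ∀ z ∈ Z1, z = 1 ∨ z = z₁ := by
    intro z hz
    rcases act2_coset_two ⊥ Z1 bot_le (by simp [hZ1]) z₁ hz1 (by simpa using hz1') z hz with h | h
    · left; simpa using h
    · right
      have h' : z₁⁻¹ * z = 1 := by simpa using h
      exact (inv_mul_eq_one.mp h').symm
  have F2 : ∀ z ∈ Z2, z = 1 ∨ z = z₁ ∨ z = z₂ ∨ z = z₂ * z₁ := by
    intro z hz
    rcases act2_coset_two Z1 Z2 h12 (by rw [hZ2, hZ1]) z₂ hz2 hz2' z hz with h | h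
    · rcases F1 z h with h | h
      · exact Or.inl h
      · exact Or.inr (Or.inl h)
    · rcases F1 _ h with h | h
      · right; right; left; exact (inv_mul_eq_one.mp h).symm
      · right; right; right; rw [← h]; group
  have F3 : ∀ z ∈ Z3, z ∈ Z2 ∨ ∃ w ∈ Z2, z = z₃ * w := by
    intro z hz
    rcases act2_coset_two Z2 Z3 h23 (by rw [hZ3, hZ2]) z₃ hz3 hz3' z hz with h | h
    · exact Or.inl h
    · exact Or.inr ⟨_, h, by group⟩
  -- conjugation facts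
  have ha2' : MulAut.conj a z₂ = z₂ * z₁ := by rw [MulAut.conj_apply]; exact ha2
  have ha3' : MulAut.conj a z₃ = z₃ := by rw [MulAut.conj_apply]; exact ha3
  have hb2' : MulAut.conj b z₂ = z₂ := by rw [MulAut.conj_apply]; exact hb2
  have hb3' : MulAut.conj b z₃ = z₃ * z₂ := by rw [MulAut.conj_apply]; exact hb3
  have ha1 := hc1 a
  have hb1 := hc1 b
  have hconjZ2 : ∀ τ : T, MulAut.conj τ z₂ = z₂ → ∀ w ∈ Z2, MulAut.conj τ w = w := by
    intro τ h2 w hw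
    have h1 := hc1 τ
    rcases F2 w hw with h | h | h | h <;> rw [h] <;> simp [map_mul, h1, h2]
  have hWmem : ∀ τ : T, MulAut.conj τ z₂ = z₂ → MulAut.conj τ z₃ = z₃ → τ ∈ W := by
    intro τ h2 h3
    rw [hW]
    intro z hz
    have hfix : MulAut.conj τ z = z := by
      rcases F3 z hz with h | ⟨w, hw, rfl⟩
      · exact hconjZ2 τ h2 z h
      · rw [map_mul, h3, hconjZ2 τ h2 w hw]
    rw [MulAut.conj_apply] at hfix
    exact mul_inv_eq_iff_eq_mul.mp hfix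
  have hWfix : ∀ τ ∈ W, ∀ z ∈ Z3, MulAut.conj τ z = z := by
    intro τ hτ z hz
    rw [MulAut.conj_apply]
    exact mul_inv_eq_iff_eq_mul.mpr ((hW τ).mp hτ z hz)
  have hsame : ∀ ρ τ z : T, MulAut.conj τ z = MulAut.conj ρ z → MulAut.conj (ρ⁻¹ * τ) z = z := by
    intro ρ τ z h
    rw [map_mul, MulAut.mul_apply, h, map_inv, MulAut.inv_apply_self]
  -- signatures of the words
  have w_ab2 : MulAut.conj (a * b) z₂ = z₂ * z₁ := by
    simp only [map_mul, MulAut.mul_apply, ha1, ha2', ha3', hb1, hb2', hb3']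
  have w_ab3 : MulAut.conj (a * b) z₃ = z₃ * (z₂ * z₁) := by
    simp only [map_mul, MulAut.mul_apply, ha1, ha2', ha3', hb1, hb2', hb3', mul_assoc]
  have w_ab1 := hc1 (a * b)
  have w_r2_2 : MulAut.conj ((a * b) ^ 2) z₂ = z₂ := by
    rw [pow_two, map_mul, MulAut.mul_apply, w_ab2, map_mul, w_ab2, w_ab1, mul_assoc, s1, mul_one]
  have w_r2_3 : MulAut.conj ((a * b) ^ 2) z₃ = z₃ * z₁ := by
    have e : MulAut.conj ((a * b) ^ 2) z₃ = MulAut.conj (a * b) (MulAut.conj (a * b) z₃) := by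
      rw [pow_two, map_mul, MulAut.mul_apply]
    rw [e, w_ab3, (MulAut.conj (a * b)).map_mul, (MulAut.conj (a * b)).map_mul, w_ab3, w_ab2, w_ab1]
    simp only [mul_assoc, s1, s2, s3, s1', s2', s3', c12, c13, c23, c12', c13', c23', mul_one, one_mul]
  have w_r2_1 := hc1 ((a * b) ^ 2)
  have w_r3_2 : MulAut.conj ((a * b) ^ 3) z₂ = z₂ * z₁ := by
    rw [pow_succ, map_mul, MulAut.mul_apply, w_ab2, map_mul, w_r2_2, w_r2_1]
  have w_r3_3 : MulAut.conj ((a * b) ^ 3) z₃ = z₃ * z₂ := by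
    rw [pow_succ, map_mul, MulAut.mul_apply, w_ab3, map_mul, map_mul, w_r2_3, w_r2_2, w_r2_1]
    simp only [mul_assoc, s1, s2, s3, s1', s2', s3', c12, c13, c23, c12', c13', c23', mul_one, one_mul]
  have w_r3_1 := hc1 ((a * b) ^ 3)
  refine ⟨?_, ?_, ?_, ?_, ?_, ?_, ?_, ?_, ?_⟩
  · -- a ^ 2 ∈ W
    apply hWmem
    · rw [pow_two, map_mul, MulAut.mul_apply, ha2', map_mul, ha2', ha1, mul_assoc, s1, mul_one]
    · rw [pow_two, map_mul, MulAut.mul_apply, ha3', ha3']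
  · -- b ^ 2 ∈ W
    apply hWmem
    · rw [pow_two, map_mul, MulAut.mul_apply, hb2', hb2']
    · rw [pow_two, map_mul, MulAut.mul_apply, hb3', map_mul, hb3', hb2', mul_assoc, s2, mul_one]
  · -- a ∉ W
    intro h
    have := hWfix a h z₂ hz2_3
    rw [ha2'] at this
    exact hz1' (by simpa using this)
  · -- b ∉ W
    intro h
    have := hWfix b h z₃ hz3
    rw [hb3'] at this
    have h1 : z₂ = 1 := by simpa using this
    exact hz2' (by rw [h1]; exact Z1.one_mem)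
  · -- (a * b) ^ 2 ∉ W
    intro h
    have := hWfix _ h z₃ hz3
    rw [w_r2_3] at this
    exact hz1' (by simpa using this)
  · -- (a * b) ^ 4 ∈ W
    have h4 : (a * b) ^ 4 = (a * b) ^ 2 * (a * b) ^ 2 := by rw [← pow_add]
    rw [h4]
    apply hWmem
    · rw [map_mul, MulAut.mul_apply, w_r2_2, w_r2_2]
    · rw [map_mul, MulAut.mul_apply, w_r2_3, map_mul, w_r2_3, w_r2_1, mul_assoc, s1, mul_one]
  · -- fixed points of b
    intro z hz hfix
    by_contra hzn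
    rcases F3 z hz with h | ⟨w, hw, rfl⟩
    · exact hzn h
    · have hb : MulAut.conj b (z₃ * w) = z₃ * w := by rw [MulAut.conj_apply]; exact hfix
      rw [map_mul, hb3', hconjZ2 b hb2' w hw] at hb
      have h1 : z₂ = 1 := by simpa using hb
      exact hz2' (by rw [h1]; exact Z1.one_mem)
  · -- fixed points of (a * b) ^ 2
    intro z hz hfix
    by_contra hzn
    rcases F3 z hz with h | ⟨w, hw, rfl⟩
    · exact hzn h
    · have hb : MulAut.conj ((a * b) ^ 2) (z₃ * w) = z₃ * w := by rw [MulAut.conj_apply]; exact hfix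
      rw [map_mul, w_r2_3, hconjZ2 _ w_r2_2 w hw] at hb
      exact hz1' (by simpa using hb)
  · -- coset representatives
    intro τ
    have hε : MulAut.conj τ z₂ = z₂ ∨ MulAut.conj τ z₂ = z₂ * z₁ := by
      rcases F1 _ (hZ2c z₂ hz2 τ) with h | h
      · left; rw [MulAut.conj_apply]; simpa using mul_inv_eq_iff_eq_mul.mp h
      · right; rw [MulAut.conj_apply, mul_inv_eq_iff_eq_mul.mp h, c12]
    have hδ : MulAut.conj τ z₃ = z₃ ∨ MulAut.conj τ z₃ = z₃ * z₁ ∨ MulAut.conj τ z₃ = z₃ * z₂ ∨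
        MulAut.conj τ z₃ = z₃ * (z₂ * z₁) := by
      rcases F2 _ (hZ3c z₃ hz3 τ) with h | h | h | h
      · left; rw [MulAut.conj_apply]; simpa using mul_inv_eq_iff_eq_mul.mp h
      · right; left; rw [MulAut.conj_apply, mul_inv_eq_iff_eq_mul.mp h, c13]
      · right; right; left; rw [MulAut.conj_apply, mul_inv_eq_iff_eq_mul.mp h, c23]
      · right; right; right
        rw [MulAut.conj_apply, mul_inv_eq_iff_eq_mul.mp h, mul_assoc, c13, ← mul_assoc, c23, mul_assoc]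
    rcases hε with h2 | h2 <;> rcases hδ with h3 | h3 | h3 | h3
    · -- (1; 1)
      refine ⟨1, by simp, ?_⟩
      exact hWmem _ (hsame 1 τ z₂ (by rw [h2]; simp)) (hsame 1 τ z₃ (by rw [h3]; simp))
    · -- (1; z₁) : (ab)^2
      refine ⟨(a * b) ^ 2, by simp, ?_⟩
      exact hWmem _ (hsame _ τ z₂ (by rw [h2, w_r2_2])) (hsame _ τ z₃ (by rw [h3, w_r2_3]))
    · -- (1; z₂) : (ab)^3 a
      refine ⟨(a * b) ^ 3 * a, by simp, ?_⟩
      refine hWmem _ (hsame _ τ z₂ ?_) (hsame _ τ z₃ ?_)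
      · rw [h2, map_mul, MulAut.mul_apply, ha2', map_mul, w_r3_2, w_r3_1, mul_assoc, s1, mul_one]
      · rw [h3, map_mul, MulAut.mul_apply, ha3', w_r3_3]
    · -- (1; z₂z₁) : a b a
      refine ⟨a * b * a, by simp, ?_⟩
      refine hWmem _ (hsame _ τ z₂ ?_) (hsame _ τ z₃ ?_)
      · rw [h2, map_mul, MulAut.mul_apply, ha2', map_mul, w_ab2, w_ab1, mul_assoc, s1, mul_one]
      · rw [h3, map_mul, MulAut.mul_apply, ha3', w_ab3]
    · -- (z₁; 1) : a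
      refine ⟨a, by simp, ?_⟩
      exact hWmem _ (hsame _ τ z₂ (by rw [h2, ha2'])) (hsame _ τ z₃ (by rw [h3, ha3']))
    · -- (z₁; z₁) : (ab)^2 a
      refine ⟨(a * b) ^ 2 * a, by simp, ?_⟩
      refine hWmem _ (hsame _ τ z₂ ?_) (hsame _ τ z₃ ?_)
      · rw [h2, map_mul, MulAut.mul_apply, ha2', map_mul, w_r2_2, w_r2_1]
      · rw [h3, map_mul, MulAut.mul_apply, ha3', w_r2_3]
    · -- (z₁; z₂) : (ab)^3
      refine ⟨(a * b) ^ 3, by simp, ?_⟩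
      exact hWmem _ (hsame _ τ z₂ (by rw [h2, w_r3_2])) (hsame _ τ z₃ (by rw [h3, w_r3_3]))
    · -- (z₁; z₂z₁) : a b
      refine ⟨a * b, by simp, ?_⟩
      exact hWmem _ (hsame _ τ z₂ (by rw [h2, w_ab2])) (hsame _ τ z₃ (by rw [h3, w_ab3]))

end Cfsg.Agent.Lib.helper92.S3174
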