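import Mathlib
import Cfsg.Agent.Lib.helper92.S3174ACT2

/-!
S3174 split (helper96), PIECE ACT1 (`exists_action_elts`).
-/

set_option autoImplicit false

namespace Cfsg.Agent.Lib.helper92.S3174

/-- ACT1 -/
theorem exists_action_elts {T : Type*} [Group T] [Finite T] (hT : IsPGroup 2 T)
    (h1 : Nat.card ↥(Subgroup.upperCentralSeries T 1) = 2) (h2 : Nat.card ↥(Subgroup.upperCentralSeries T 2) = 4)
    (h3 : Nat.card ↥(Subgroup.upperCentralSeries T 3) = 8)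
    (hidx : (Subgroup.centralizer ((Subgroup.upperCentralSeries T 3 : Subgroup T) : Set T)).index = 8) :
    ∃ z₁ z₂ z₃ a b : T, z₁ ∈ Subgroup.upperCentralSeries T 1 ∧ z₁ ≠ 1 ∧
      z₂ ∈ Subgroup.upperCentralSeries T 2 ∧ z₂ ∉ Subgroup.upperCentralSeries T 1 ∧
      z₃ ∈ Subgroup.upperCentralSeries T 3 ∧ z₃ ∉ Subgroup.upperCentralSeries T 2 ∧
      a * z₂ * a⁻¹ = z₂ * z₁ ∧ a * z₃ * a⁻¹ = z₃ ∧ b * z₂ * b⁻¹ = z₂ ∧ b * z₃ * b⁻¹ = z₃ * z₂ := by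
  have h12 : Subgroup.upperCentralSeries T 1 ≤ Subgroup.upperCentralSeries T 2 :=
    Subgroup.upperCentralSeries_mono T (by norm_num)
  have h23 : Subgroup.upperCentralSeries T 2 ≤ Subgroup.upperCentralSeries T 3 :=
    Subgroup.upperCentralSeries_mono T (by norm_num)
  have hZ1c : ∀ z ∈ Subgroup.upperCentralSeries T 1, ∀ τ : T, τ * z = z * τ := by
    intro z hz τ
    rw [Subgroup.upperCentralSeries_one] at hz
    exact Subgroup.mem_center_iff.mp hz τ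
  have hZ2c : ∀ z ∈ Subgroup.upperCentralSeries T 2, ∀ τ : T,
      τ * z * τ⁻¹ * z⁻¹ ∈ Subgroup.upperCentralSeries T 1 := by
    intro z hz τ
    have := (Subgroup.mem_upperCentralSeries_succ_iff (n := 1)).mp hz τ
    have e : τ * z * τ⁻¹ * z⁻¹ = (z * τ * z⁻¹ * τ⁻¹)⁻¹ := by group
    rw [e]; exact Subgroup.inv_mem _ this
  have hZ3c : ∀ z ∈ Subgroup.upperCentralSeries T 3, ∀ τ : T,
      τ * z * τ⁻¹ * z⁻¹ ∈ Subgroup.upperCentralSeries T 2 := by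
    intro z hz τ
    have := (Subgroup.mem_upperCentralSeries_succ_iff (n := 2)).mp hz τ
    have e : τ * z * τ⁻¹ * z⁻¹ = (z * τ * z⁻¹ * τ⁻¹)⁻¹ := by group
    rw [e]; exact Subgroup.inv_mem _ this
  -- abstract the three subgroups
  obtain ⟨Z1, hZ1d⟩ : ∃ Z1, Z1 = Subgroup.upperCentralSeries T 1 := ⟨_, rfl⟩
  obtain ⟨Z2, hZ2d⟩ : ∃ Z2, Z2 = Subgroup.upperCentralSeries T 2 := ⟨_, rfl⟩
  obtain ⟨Z3, hZ3d⟩ : ∃ Z3, Z3 = Subgroup.upperCentralSeries T 3 := ⟨_, rfl⟩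
  rw [← hZ1d] at h1 h12 hZ1c hZ2c
  rw [← hZ2d] at h2 h12 h23 hZ2c hZ3c
  rw [← hZ3d] at h3 h23 hZ3c hidx
  rw [← hZ1d, ← hZ2d, ← hZ3d]
  -- the three elements
  obtain ⟨z₁, hz1, hz1'⟩ : ∃ z₁ ∈ Z1, z₁ ≠ 1 := by
    by_contra h
    push Not at h
    have : Z1 = ⊥ := (Subgroup.eq_bot_iff_forall _).mpr h
    rw [this, Subgroup.card_bot] at h1
    omega
  obtain ⟨z₂, hz2, hz2'⟩ : ∃ z₂ ∈ Z2, z₂ ∉ Z1 := by
    by_contra h
    push Not at h
    have : Z2 = Z1 := le_antisymm h h12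
    rw [this, h1] at h2
    omega
  obtain ⟨z₃, hz3, hz3'⟩ : ∃ z₃ ∈ Z3, z₃ ∉ Z2 := by
    by_contra h
    push Not at h
    have : Z3 = Z2 := le_antisymm h h23
    rw [this, h2] at h3
    omega
  -- structure of Z1, Z2, Z3
  have F1 : ∀ z ∈ Z1, z = 1 ∨ z = z₁ := by
    intro z hz
    rcases act2_coset_two ⊥ Z1 bot_le (by simp [h1]) z₁ hz1 (by simpa using hz1') z hz with h | h
    · left; simpa using h
    · right
      have h' : z₁⁻¹ * z = 1 := by simpa using h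
      exact (inv_mul_eq_one.mp h').symm
  have F2 : ∀ z ∈ Z2, z = 1 ∨ z = z₁ ∨ z = z₂ ∨ z = z₂ * z₁ := by
    intro z hz
    rcases act2_coset_two Z1 Z2 h12 (by rw [h2, h1]) z₂ hz2 hz2' z hz with h | h
    · rcases F1 z h with h | h
      · exact Or.inl h
      · exact Or.inr (Or.inl h)
    · rcases F1 _ h with h | h
      · right; right; left; exact (inv_mul_eq_one.mp h).symm
      · right; right; right; rw [← h]; group
  have F3 : ∀ z ∈ Z3, z ∈ Z2 ∨ ∃ w ∈ Z2, z = z₃ * w := by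
    intro z hz
    rcases act2_coset_two Z2 Z3 h23 (by rw [h3, h2]) z₃ hz3 hz3' z hz with h | h
    · exact Or.inl h
    · exact Or.inr ⟨_, h, by group⟩
  -- membership in the centralizer
  have key : ∀ u : T, u * z₂ = z₂ * u → u * z₃ = z₃ * u →
      u ∈ Subgroup.centralizer (Z3 : Set T) := by
    intro u hu2 hu3
    rw [Subgroup.mem_centralizer_iff]
    intro h hh
    have c1 : Commute u z₁ := hZ1c z₁ hz1 u
    have c2 : Commute u z₂ := hu2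
    have c3 : Commute u z₃ := hu3
    have cZ2 : ∀ w ∈ Z2, Commute u w := by
      intro w hw
      rcases F2 w hw with h | h | h | h <;> rw [h]
      · exact Commute.one_right u
      · exact c1
      · exact c2
      · exact c2.mul_right c1
    have : Commute u h := by
      rcases F3 h hh with h' | ⟨w, hw, rfl⟩
      · exact cZ2 h h'
      · exact c3.mul_right (cZ2 w hw)
    exact this.eq.symm
  have lemA : ∀ σ τ : T, σ⁻¹ * τ ∈ Subgroup.centralizer (Z3 : Set T) → ∀ z ∈ Z3,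
      σ * z * σ⁻¹ = τ * z * τ⁻¹ := by
    intro σ τ hm z hz
    have hc : z * (σ⁻¹ * τ) = σ⁻¹ * τ * z := (Subgroup.mem_centralizer_iff.mp hm) z hz
    calc σ * z * σ⁻¹ = σ * (z * (σ⁻¹ * τ)) * τ⁻¹ := by group
      _ = σ * (σ⁻¹ * τ * z) * τ⁻¹ := by rw [hc]
      _ = τ * z * τ⁻¹ := by group
  have lemB : ∀ σ τ z : T, σ * z * σ⁻¹ = τ * z * τ⁻¹ → (σ⁻¹ * τ) * z = z * (σ⁻¹ * τ) := by
    intro σ τ z h
    calc σ⁻¹ * τ * z = σ⁻¹ * (τ * z * τ⁻¹) * τ := by group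
      _ = σ⁻¹ * (σ * z * σ⁻¹) * τ := by rw [h]
      _ = z * (σ⁻¹ * τ) := by group
  -- the signature map
  let φ : T → ↥Z1 × ↥Z2 := fun τ =>
    (⟨τ * z₂ * τ⁻¹ * z₂⁻¹, hZ2c z₂ hz2 τ⟩, ⟨τ * z₃ * τ⁻¹ * z₃⁻¹, hZ3c z₃ hz3 τ⟩)
  have hφwd : ∀ σ τ : T, QuotientGroup.leftRel (Subgroup.centralizer (Z3 : Set T)) σ τ →
      φ σ = φ τ := by
    intro σ τ hστ
    rw [QuotientGroup.leftRel_apply] at hστ
    have e2 := lemA σ τ hστ z₂ (h23 hz2)
    have e3 := lemA σ τ hστ z₃ hz3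
    simp only [φ]
    rw [Prod.mk.injEq]
    exact ⟨Subtype.ext (by simp only; rw [e2]), Subtype.ext (by simp only; rw [e3])⟩
  let g : T ⧸ Subgroup.centralizer (Z3 : Set T) → ↥Z1 × ↥Z2 :=
    fun q => Quotient.liftOn' q φ hφwd
  have hginj : Function.Injective g := by
    intro q q'
    induction q using Quotient.inductionOn' with
    | h σ =>
      induction q' using Quotient.inductionOn' with
      | h τ =>
        intro hq
        have hq' : φ σ = φ τ := hq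
        simp only [φ, Prod.mk.injEq, Subtype.mk.injEq] at hq'
        have e2 : σ * z₂ * σ⁻¹ = τ * z₂ * τ⁻¹ := mul_right_cancel hq'.1
        have e3 : σ * z₃ * σ⁻¹ = τ * z₃ * τ⁻¹ := mul_right_cancel hq'.2
        exact QuotientGroup.eq.mpr (key _ (lemB σ τ z₂ e2) (lemB σ τ z₃ e3))
  have hcard : Nat.card (↥Z1 × ↥Z2) ≤ Nat.card (T ⧸ Subgroup.centralizer (Z3 : Set T)) := by
    rw [Nat.card_prod, h1, h2]
    have : Nat.card (T ⧸ Subgroup.centralizer (Z3 : Set T)) = 8 := hidx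
    omega
  have hsurj : Function.Surjective g := (hginj.bijective_of_nat_card_le hcard).2
  -- the element a
  obtain ⟨qa, hqa⟩ := hsurj (⟨z₁, hz1⟩, ⟨1, Z2.one_mem⟩)
  obtain ⟨a, rfl⟩ := QuotientGroup.mk_surjective qa
  have hqa' : φ a = (⟨z₁, hz1⟩, ⟨1, Z2.one_mem⟩) := hqa
  simp only [φ, Prod.mk.injEq, Subtype.mk.injEq] at hqa'
  -- the element b
  have hmem : z₃ * z₂ * z₃⁻¹ ∈ Z2 := by
    have e : z₃ * z₂ * z₃⁻¹ = (z₃ * z₂ * z₃⁻¹ * z₂⁻¹) * z₂ := by group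
    rw [e]
    exact Z2.mul_mem (h12 (hZ2c z₂ hz2 z₃)) hz2
  obtain ⟨qb, hqb⟩ := hsurj (⟨1, Z1.one_mem⟩, ⟨z₃ * z₂ * z₃⁻¹, hmem⟩)
  obtain ⟨b, rfl⟩ := QuotientGroup.mk_surjective qb
  have hqb' : φ b = (⟨1, Z1.one_mem⟩, ⟨z₃ * z₂ * z₃⁻¹, hmem⟩) := hqb
  simp only [φ, Prod.mk.injEq, Subtype.mk.injEq] at hqb'
  refine ⟨z₁, z₂, z₃, a, b, hz1, hz1', hz2, hz2', hz3, hz3', ?_, ?_, ?_, ?_⟩
  · rw [mul_inv_eq_iff_eq_mul.mp hqa'.1]
    exact (hZ1c z₁ hz1 z₂).symm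
  · exact mul_inv_eq_one.mp hqa'.2
  · exact mul_inv_eq_one.mp hqb'.1
  · rw [mul_inv_eq_iff_eq_mul.mp hqb'.2]; group

end Cfsg.Agent.Lib.helper92.S3174
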