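import Mathlib

/-!
S3174 split (helper96), PIECE SQ (`e_sq_mem`).
-/

set_option autoImplicit false

namespace Cfsg.Agent.Lib.helper92.S3174

theorem sq_aux1 {T : Type*} [Group T] (x y : T)
    (h : (y * x * y⁻¹ * x⁻¹) * x = x * (y * x * y⁻¹ * x⁻¹)) :
    (x * y) ^ 2 = (y * x * y⁻¹ * x⁻¹) * x ^ 2 * y ^ 2 := by
  have h1 : (y * x * y⁻¹ * x⁻¹) * x ^ 2 * y ^ 2 = ((y * x * y⁻¹ * x⁻¹) * x) * x * y ^ 2 := by group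
  rw [h1, h, pow_two, pow_two]; group

theorem sq_aux2 {T : Type*} [Group T] (c g p : T) (h1 : c * p = p * c)
    (h2 : c * (g * p * g⁻¹ * p⁻¹) = (g * p * g⁻¹ * p⁻¹) * c) :
    (c * g) * p * (c * g)⁻¹ * p⁻¹ = g * p * g⁻¹ * p⁻¹ := by
  have h1' : c⁻¹ * p⁻¹ = p⁻¹ * c⁻¹ := by rw [← mul_inv_rev, ← mul_inv_rev, h1]
  have e1 : (c * g) * p * (c * g)⁻¹ * p⁻¹ = c * (g * p * g⁻¹) * (c⁻¹ * p⁻¹) := by group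
  rw [e1, h1']
  have e2 : c * (g * p * g⁻¹) * (p⁻¹ * c⁻¹) = (c * (g * p * g⁻¹ * p⁻¹)) * c⁻¹ := by group
  rw [e2, h2]; group

theorem sq_aux3 {T : Type*} [Group T] (ζ g p : T) (h1 : p * ζ = ζ * p)
    (h2 : ζ * (p * g * p⁻¹ * g⁻¹) = (p * g * p⁻¹ * g⁻¹) * ζ) :
    p * (ζ * g) * p⁻¹ * (ζ * g)⁻¹ = p * g * p⁻¹ * g⁻¹ := by
  have e1 : p * (ζ * g) * p⁻¹ * (ζ * g)⁻¹ = (p * ζ) * g * p⁻¹ * g⁻¹ * ζ⁻¹ := by group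
  rw [e1, h1]
  have e2 : ζ * p * g * p⁻¹ * g⁻¹ * ζ⁻¹ = (ζ * (p * g * p⁻¹ * g⁻¹)) * ζ⁻¹ := by group
  rw [e2, h2]; group

/-- SQ -/
theorem e_sq_mem {T : Type*} [Group T] (W Z2 Z3 : Subgroup T) [W.Normal] [Z2.Normal]
    (hZ3W : Z3 ≤ W) (h23 : Z2 ≤ Z3)
    (hcen : ∀ w ∈ W, ∀ z ∈ Z3, w * z = z * w)
    (hcomm : ∀ x ∈ W, ∀ y ∈ W, x * y * x⁻¹ * y⁻¹ ∈ Z3) (hsq : ∀ x ∈ W, x ^ 2 ∈ Z3) (hZ3el : ∀ z ∈ Z3, z ^ 2 = 1)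
    (hZ3c : ∀ z ∈ Z3, ∀ τ : T, τ * z * τ⁻¹ * z⁻¹ ∈ Z2)
    (a b : T) (ha2 : a ^ 2 ∈ W) (hb2 : b ^ 2 ∈ W) (hbfix : ∀ z ∈ Z3, b * z * b⁻¹ = z → z ∈ Z2)
    (w₀ : T) (hw₀ : w₀ ∈ W) :
    ((w₀ * (a * w₀ * a⁻¹)) * ((a * b) * (w₀ * (a * w₀ * a⁻¹)) * (a * b)⁻¹)) ^ 2 ∈ Z2 := by
  have hWn : ∀ w ∈ W, ∀ τ : T, τ * w * τ⁻¹ ∈ W := fun w hw τ => ‹W.Normal›.conj_mem w hw τ
  have hZ2n : ∀ z ∈ Z2, ∀ τ : T, τ * z * τ⁻¹ ∈ Z2 := fun z hz τ => ‹Z2.Normal›.conj_mem z hz τ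
  have hinv : ∀ z ∈ Z3, z⁻¹ = z := by
    intro z hz
    have := hZ3el z hz
    rw [pow_two] at this
    exact inv_eq_of_mul_eq_one_left this
  -- u' and g
  obtain ⟨u', hu'_def⟩ : ∃ u', u' = a⁻¹ * w₀ * a := ⟨_, rfl⟩
  have hu' : u' ∈ W := by
    rw [hu'_def]; have := hWn w₀ hw₀ a⁻¹; simpa using this
  obtain ⟨g, hg_def⟩ : ∃ g, g = w₀ * (a * w₀ * a⁻¹) := ⟨_, rfl⟩
  rw [← hg_def]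
  have hg : g ∈ W := by rw [hg_def]; exact W.mul_mem hw₀ (hWn w₀ hw₀ a)
  -- ζ
  obtain ⟨c₂, hc₂_def⟩ : ∃ c₂, c₂ = a ^ 2 * u' * (a ^ 2)⁻¹ * u'⁻¹ := ⟨_, rfl⟩
  have hc₂ : c₂ ∈ Z3 := by rw [hc₂_def]; exact hcomm _ ha2 _ hu'
  obtain ⟨ζ, hζ_def⟩ : ∃ ζ, ζ = (a⁻¹ * g * a) * g⁻¹ := ⟨_, rfl⟩
  have hζ : ζ ∈ Z3 := by
    have hid : ζ = u' * w₀ * u'⁻¹ * (c₂⁻¹ * w₀⁻¹) := by
      rw [hζ_def, hg_def, hc₂_def, hu'_def]; group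
    have hcw : c₂⁻¹ * w₀⁻¹ = w₀⁻¹ * c₂⁻¹ := by
      rw [← mul_inv_rev, ← mul_inv_rev, hcen w₀ hw₀ c₂ hc₂]
    rw [hid, hcw]
    have : u' * w₀ * u'⁻¹ * (w₀⁻¹ * c₂⁻¹) = (u' * w₀ * u'⁻¹ * w₀⁻¹) * c₂⁻¹ := by group
    rw [this]
    exact Z3.mul_mem (hcomm _ hu' _ hw₀) (Z3.inv_mem hc₂)
  have hE1 : a⁻¹ * g * a = ζ * g := by rw [hζ_def]; group
  -- p, h, κ
  obtain ⟨p, hp_def⟩ : ∃ p, p = b * g * b⁻¹ := ⟨_, rfl⟩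
  have hp : p ∈ W := by rw [hp_def]; exact hWn g hg b
  obtain ⟨h, hh_def⟩ : ∃ h, h = (a * b) * g * (a * b)⁻¹ := ⟨_, rfl⟩
  rw [← hh_def]
  have hh : h ∈ W := by rw [hh_def]; exact hWn g hg (a * b)
  obtain ⟨κ, hκ_def⟩ : ∃ κ, κ = p * g * p⁻¹ * g⁻¹ := ⟨_, rfl⟩
  have hκ : κ ∈ Z3 := by rw [hκ_def]; exact hcomm _ hp _ hg
  -- κ is fixed by b
  have hκfix : b * κ * b⁻¹ = κ := by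
    obtain ⟨c₄, hc₄_def⟩ : ∃ c₄, c₄ = b ^ 2 * g * (b ^ 2)⁻¹ * g⁻¹ := ⟨_, rfl⟩
    have hc₄ : c₄ ∈ Z3 := by rw [hc₄_def]; exact hcomm _ hb2 _ hg
    have e1 : b * κ * b⁻¹ = (c₄ * g) * p * (c₄ * g)⁻¹ * p⁻¹ := by
      rw [hκ_def, hc₄_def, hp_def, pow_two]; group
    have hmem : g * p * g⁻¹ * p⁻¹ ∈ W := hZ3W (hcomm _ hg _ hp)
    rw [e1, sq_aux2 c₄ g p ((hcen p hp c₄ hc₄).symm) ((hcen _ hmem c₄ hc₄).symm)]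
    have : g * p * g⁻¹ * p⁻¹ = κ⁻¹ := by rw [hκ_def]; group
    rw [this, hinv κ hκ]
  have hκ2 : κ ∈ Z2 := hbfix κ hκ hκfix
  -- [h, g] = a κ a⁻¹
  have hcomm_hg : h * g * h⁻¹ * g⁻¹ = a * κ * a⁻¹ := by
    have e1 : h * g * h⁻¹ * g⁻¹ = a * (p * (a⁻¹ * g * a) * p⁻¹ * (a⁻¹ * g * a)⁻¹) * a⁻¹ := by
      rw [hh_def, hp_def]; group
    have hζκ : ζ * (p * g * p⁻¹ * g⁻¹) = (p * g * p⁻¹ * g⁻¹) * ζ := by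
      rw [← hκ_def]; exact hcen ζ (hZ3W hζ) κ hκ
    rw [e1, hE1, sq_aux3 ζ g p (hcen p hp ζ hζ) hζκ, hκ_def]
  have h1 : h * g * h⁻¹ * g⁻¹ ∈ Z2 := by rw [hcomm_hg]; exact hZ2n κ hκ2 a
  -- squares
  have h2 : g ^ 2 * h ^ 2 ∈ Z2 := by
    have hz : g ^ 2 ∈ Z3 := hsq g hg
    have e1 : h ^ 2 = (a * b) * g ^ 2 * (a * b)⁻¹ := by rw [hh_def, conj_pow]
    have hm := hZ3c (g ^ 2) hz (a * b)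
    rw [hinv _ hz] at hm
    have hz' : (a * b) * g ^ 2 * (a * b)⁻¹ ∈ W := hWn _ (hZ3W hz) _
    rw [e1, ← hcen _ hz' _ hz]
    exact hm
  -- final
  have hfin : (g * h) ^ 2 = (h * g * h⁻¹ * g⁻¹) * g ^ 2 * h ^ 2 := by
    apply sq_aux1
    exact (hcen g hg _ (hcomm _ hh _ hg)).symm
  rw [hfin, mul_assoc]
  exact Z2.mul_mem h1 h2

end Cfsg.Agent.Lib.helper92.S3174
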