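import Mathlib

set_option autoImplicit false

namespace Cfsg.Agent.Lib.helper92.S3662

/-- the sum `∑ i, g i j • X i` for the identity matrix -/
theorem helper92_cl_one {K ι κ : Type*} [Field K] [Fintype ι] [DecidableEq ι] [Fintype κ]
    [DecidableEq κ] (X : ι → Matrix κ κ K) (j : ι) :
    (∑ i, (1 : Matrix ι ι K) i j • X i) = X j := by
  classical
  simp [Matrix.one_apply, ite_smul]

/-- the sum `∑ i, (g * h) i j • X i` unfolds -/
theorem helper92_cl_mul {K ι κ : Type*} [Field K] [Fintype ι] [DecidableEq ι] [Fintype κ]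
    [DecidableEq κ] (X : ι → Matrix κ κ K) (g h : Matrix ι ι K) (j : ι) :
    (∑ k, (g * h) k j • X k) = ∑ i, h i j • ∑ k, g k i • X k := by
  classical
  simp only [Matrix.mul_apply, Finset.sum_smul, Finset.smul_sum, smul_smul]
  rw [Finset.sum_comm]
  refine Finset.sum_congr rfl fun i _ => Finset.sum_congr rfl fun k _ => ?_
  rw [mul_comm]

/-- The conjugation-lift relation as a subgroup of the product. -/
def helper92_liftRel {K ι κ : Type*} [Field K] [Fintype ι] [DecidableEq ι] [Fintype κ]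
    [DecidableEq κ] (X : ι → Matrix κ κ K) (P : Subgroup (GL κ K)) :
    Subgroup (GL ι K × GL κ K) where
  carrier := {x | x.2 ∈ P ∧ ∀ j, (x.2 : Matrix κ κ K) * X j
      = (∑ i, (x.1 : Matrix ι ι K) i j • X i) * (x.2 : Matrix κ κ K)}
  one_mem' := by
    refine ⟨P.one_mem, fun j => ?_⟩
    simp only [Prod.snd_one, Prod.fst_one, Units.val_one]
    rw [helper92_cl_one, Matrix.one_mul, Matrix.mul_one]
  mul_mem' := by
    rintro ⟨g, M⟩ ⟨h, N⟩ ⟨hMP, hM⟩ ⟨hNP, hN⟩
    refine ⟨P.mul_mem hMP hNP, fun j => ?_⟩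
    simp only [Prod.snd_mul, Prod.fst_mul, Units.val_mul] at hM hN ⊢
    rw [helper92_cl_mul, Matrix.mul_assoc, hN j, ← Matrix.mul_assoc, ← Matrix.mul_assoc]
    congr 1
    rw [Matrix.mul_sum, Finset.sum_mul]
    refine Finset.sum_congr rfl fun i _ => ?_
    rw [Matrix.mul_smul, hM i, Matrix.smul_mul]
  inv_mem' := by
    rintro ⟨g, M⟩ ⟨hMP, hM⟩
    refine ⟨P.inv_mem hMP, fun k => ?_⟩
    simp only [Prod.snd_inv, Prod.fst_inv] at hM ⊢
    have h1 : ((M⁻¹ : GL κ K) : Matrix κ κ K) * (M : Matrix κ κ K) = 1 := by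
      rw [← Units.val_mul, inv_mul_cancel, Units.val_one]
    have h2 : (M : Matrix κ κ K) * ((M⁻¹ : GL κ K) : Matrix κ κ K) = 1 := by
      rw [← Units.val_mul, mul_inv_cancel, Units.val_one]
    have h3 : (g : Matrix ι ι K) * ((g⁻¹ : GL ι K) : Matrix ι ι K) = 1 := by
      rw [← Units.val_mul, mul_inv_cancel, Units.val_one]
    have hX : ∀ j, X j = ((M⁻¹ : GL κ K) : Matrix κ κ K)
        * (∑ i, (g : Matrix ι ι K) i j • X i) * (M : Matrix κ κ K) := by
      intro j
      rw [Matrix.mul_assoc, ← hM j, ← Matrix.mul_assoc, h1, Matrix.one_mul]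
    have hsum : (∑ j, ((g⁻¹ : GL ι K) : Matrix ι ι K) j k • X j)
        = ((M⁻¹ : GL κ K) : Matrix κ κ K) * X k * (M : Matrix κ κ K) := by
      have e1 : (∑ j, ((g⁻¹ : GL ι K) : Matrix ι ι K) j k • X j)
          = ∑ j, ((g⁻¹ : GL ι K) : Matrix ι ι K) j k • (((M⁻¹ : GL κ K) : Matrix κ κ K)
        * (∑ i, (g : Matrix ι ι K) i j • X i) * (M : Matrix κ κ K)) :=
        Finset.sum_congr rfl fun j _ => by rw [← hX j]
      rw [e1]
      have e2 : (∑ j, ((g⁻¹ : GL ι K) : Matrix ι ι K) j k • (((M⁻¹ : GL κ K) : Matrix κ κ K)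
        * (∑ i, (g : Matrix ι ι K) i j • X i) * (M : Matrix κ κ K)))
          = ((M⁻¹ : GL κ K) : Matrix κ κ K)
            * (∑ j, ((g⁻¹ : GL ι K) : Matrix ι ι K) j k • ∑ i, (g : Matrix ι ι K) i j • X i)
            * (M : Matrix κ κ K) := by
        rw [Matrix.mul_sum, Finset.sum_mul]
        refine Finset.sum_congr rfl fun j _ => ?_
        rw [Matrix.mul_smul, Matrix.smul_mul]
      rw [e2, ← helper92_cl_mul, h3, helper92_cl_one]
    rw [hsum, Matrix.mul_assoc, h2, Matrix.mul_one]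

theorem exists_conj_lift {K ι κ : Type*} [Field K] [Fintype ι] [DecidableEq ι] [Fintype κ]
    [DecidableEq κ] (X : ι → Matrix κ κ K) (S : Set (GL ι K)) (P : Subgroup (GL κ K))
    (hS : ∀ g ∈ S, ∃ M ∈ P, ∀ j, (M : Matrix κ κ K) * X j
      = (∑ i, (g : Matrix ι ι K) i j • X i) * (M : Matrix κ κ K))
    (huniq : ∀ M ∈ P, (∀ j, (M : Matrix κ κ K) * X j = X j * (M : Matrix κ κ K)) → M = 1) :
    ∃ ρ : ↥(Subgroup.closure S) →* ↥P, ∀ (g : ↥(Subgroup.closure S)) (j : ι),
      (((ρ g : ↥P) : GL κ K) : Matrix κ κ K) * X j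
        = (∑ i, ((g : GL ι K) : Matrix ι ι K) i j • X i)
          * (((ρ g : ↥P) : GL κ K) : Matrix κ κ K) := by
  classical
  -- existence of lifts
  have hex : ∀ g ∈ Subgroup.closure S, ∃ M, (g, M) ∈ helper92_liftRel X P := by
    intro g hg
    induction hg using Subgroup.closure_induction with
    | mem x hx =>
      obtain ⟨M, hMP, hM⟩ := hS x hx
      exact ⟨M, hMP, hM⟩
    | one => exact ⟨1, (helper92_liftRel X P).one_mem⟩
    | mul x y _ _ hx hy =>
      obtain ⟨M, hM⟩ := hx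
      obtain ⟨N, hN⟩ := hy
      exact ⟨M * N, (helper92_liftRel X P).mul_mem hM hN⟩
    | inv x _ hx =>
      obtain ⟨M, hM⟩ := hx
      exact ⟨M⁻¹, (helper92_liftRel X P).inv_mem hM⟩
  -- uniqueness of lifts
  have hun : ∀ (g : GL ι K) (M M' : GL κ K), (g, M) ∈ helper92_liftRel X P →
      (g, M') ∈ helper92_liftRel X P → M = M' := by
    intro g M M' hM hM'
    have h := (helper92_liftRel X P).mul_mem ((helper92_liftRel X P).inv_mem hM) hM'
    have h' : ((1 : GL ι K), M⁻¹ * M') ∈ helper92_liftRel X P := by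
      have e : ((g, M)⁻¹ * (g, M') : GL ι K × GL κ K) = (1, M⁻¹ * M') := by
        ext1
        · simp
        · simp
      rw [← e]; exact h
    obtain ⟨hP, hrel⟩ := h'
    have h1 := huniq (M⁻¹ * M') hP (fun j => by
      have := hrel j
      simp only [Units.val_one] at this
      rw [helper92_cl_one] at this
      exact this)
    exact inv_mul_eq_one.mp h1
  choose! f hf using hex
  have hfP : ∀ g ∈ Subgroup.closure S, f g ∈ P := fun g hg => (hf g hg).1
  refine ⟨{ toFun := fun g => ⟨f g.1, hfP g.1 g.2⟩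
            map_one' := ?_
            map_mul' := ?_ }, ?_⟩
  · apply Subtype.ext
    exact hun 1 _ _ (hf 1 (Subgroup.one_mem _)) (helper92_liftRel X P).one_mem
  · intro a b
    apply Subtype.ext
    exact hun (a.1 * b.1) _ _ (hf _ (Subgroup.mul_mem _ a.2 b.2))
      ((helper92_liftRel X P).mul_mem (hf _ a.2) (hf _ b.2))
  · intro g j
    exact (hf g.1 g.2).2 j

end Cfsg.Agent.Lib.helper92.S3662
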