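import Mathlib
import Cfsg.Agent.Lib.helper92.S3664Defs

/-!
S3664 piece ACT (spare copy by the architect): `act` is an action of `G` on `A`.
-/

set_option autoImplicit false

namespace Cfsg.Agent.Lib.helper92.S3664

open Cfsg.Agent.Lib.helper17 Cfsg.Agent.Lib.helper8

theorem helper92_map_frK_mul (i : ZMod 3) (X Y : A) :
    (X * Y).map (frK i) = X.map (frK i) * Y.map (frK i) :=
  Matrix.map_mul (f := (frEquiv i : K ≃+* K).toRingHom)

theorem helper92_map_frK_map (i j : ZMod 3) (X : A) :
    (X.map (frK j)).map (frK i) = X.map (frK (i + j)) := by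
  ext a b
  simp only [Matrix.map_apply]
  rw [frK_add]

theorem helper92_frK_one_zero : frK 1 (0 : K) = 0 := by decide

theorem helper92_frK_one_one : frK 1 (1 : K) = 1 := by decide

theorem helper92_add_self : ∀ x : K, x + x = 0 := by decide

theorem act_one (a : A) : act 1 a = a := by
  unfold act
  have h1 : ((1 : G).left.1.1 : Matrix (Fin 4) (Fin 4) K) = 1 := rfl
  have h2 : Multiplicative.toAdd (1 : G).right = 0 := rfl
  rw [h1, h2, Matrix.map_one _ helper92_frK_one_zero helper92_frK_one_one, Matrix.transpose_one,
    Matrix.one_mul, Matrix.mul_one]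
  ext i j
  simp only [Matrix.map_apply]
  exact frK_zero _

theorem act_mul (g h : G) (a : A) : act (g * h) a = act g (act h a) := by
  unfold act
  have h1 : ((g * h).left.1.1 : Matrix (Fin 4) (Fin 4) K)
      = (g.left.1.1 : Matrix (Fin 4) (Fin 4) K)
        * (h.left.1.1 : Matrix (Fin 4) (Fin 4) K).map (frK (Multiplicative.toAdd g.right)) := by
    rw [SemidirectProduct.mul_left]
    show matS (g.left * psi g.right h.left) = _
    rw [matS_mul]
    show _ * ((psi g.right h.left).1.1 : Matrix (Fin 4) (Fin 4) K) = _
    rw [psi_mat]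
  have h2 : Multiplicative.toAdd (g * h).right
      = Multiplicative.toAdd g.right + Multiplicative.toAdd h.right := rfl
  rw [h1, h2, helper92_map_frK_mul, Matrix.transpose_mul, helper92_map_frK_mul,
    helper92_map_frK_mul]
  simp only [Matrix.transpose_map, helper92_map_frK_map, Matrix.mul_assoc,
    add_comm 1 (Multiplicative.toAdd g.right)]

theorem act_add (g : G) (a b : A) : act g (a + b) = act g a + act g b := by
  unfold act
  have h : (a + b).map (frK (Multiplicative.toAdd g.right))
      = a.map (frK (Multiplicative.toAdd g.right)) + b.map (frK (Multiplicative.toAdd g.right)) := by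
    ext i j
    simp only [Matrix.map_apply, Matrix.add_apply]
    exact frK_map_add _ _ _
  rw [h, Matrix.mul_add, Matrix.add_mul]

theorem two_smul_A (a : A) : 2 • a = 0 := by
  ext i j
  rw [Matrix.smul_apply, two_smul]
  exact helper92_add_self _

end Cfsg.Agent.Lib.helper92.S3664
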