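import Mathlib

set_option autoImplicit false

namespace Cfsg.Agent.Lib.helper92.S3664

open scoped Pointwise

/-- PIECE T3 (Mathlib only; the general form of helper6's `pg_of_module`): the prime graph of
`H = (Fin k → A) ⋊ G` is the prime graph of `G` together with the vertex `p` and the edges `p – s`
for the primes `s ≠ p` such that some element of order `s` of `G` has a nonzero fixed point on `A`. -/
theorem pg_of_module_gen {G : Type} [Group G] [Finite G] (p : ℕ) (hp : p.Prime)
    (A : Type) [AddCommGroup A] [Finite A] [Nontrivial A] (hA : ∀ a : A, p • a = 0)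
    (α : G → A → A) (hα1 : ∀ a : A, α 1 a = a)
    (hαmul : ∀ (g h : G) (a : A), α (g * h) a = α g (α h a))
    (hαadd : ∀ (g : G) (a b : A), α g (a + b) = α g a + α g b)
    (N : ℕ) :
    ∃ (H : Type) (_ : Group H) (_ : Finite H), N < Nat.card H ∧
      (∀ q : ℕ, q.Prime → (q ∣ Nat.card H ↔ (q = p ∨ q ∣ Nat.card G))) ∧
      (∀ q s : ℕ, q.Prime → s.Prime → q ≠ s →
        ((∃ h : H, orderOf h = q * s) ↔
          ((∃ g : G, orderOf g = q * s) ∨
           (q = p ∧ ∃ g : G, orderOf g = s ∧ ∃ a : A, a ≠ 0 ∧ α g a = a) ∨
           (s = p ∧ ∃ g : G, orderOf g = q ∧ ∃ a : A, a ≠ 0 ∧ α g a = a)))) := by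
  classical
  haveI : Fact p.Prime := ⟨hp⟩
  have hα0 : ∀ g, α g 0 = 0 := by
    intro g
    have h := hαadd g 0 0
    rw [add_zero] at h
    exact left_eq_add.mp h
  have hαinv : ∀ g a, α g⁻¹ (α g a) = a := by
    intro g a; rw [← hαmul, inv_mul_cancel, hα1]
  have hαinv' : ∀ g a, α g (α g⁻¹ a) = a := by
    intro g a; rw [← hαmul, mul_inv_cancel, hα1]
  let St : A → Subgroup G := fun b =>
    { carrier := {g | α g b = b}
      mul_mem' := fun {g h} hg hh => by
        show α (g * h) b = b
        rw [hαmul, (hh : α h b = b), (hg : α g b = b)]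
      one_mem' := hα1 b
      inv_mem' := fun {g} hg => by
        show α g⁻¹ b = b
        have h0 := hαinv g b
        rw [(hg : α g b = b)] at h0
        exact h0 }
  have hcardG : Nat.card G ≠ 0 := Nat.card_pos.ne'
  -- the semidirect product
  let β : G → ((Fin (N + 1) → A) ≃+ (Fin (N + 1) → A)) := fun g =>
    { toFun := fun f i => α g (f i)
      invFun := fun f i => α g⁻¹ (f i)
      left_inv := fun f => by funext i; exact hαinv g (f i)
      right_inv := fun f => by funext i; exact hαinv' g (f i)
      map_add' := fun f f' => by funext i; exact hαadd g (f i) (f' i) }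
  let φ : G →* MulAut (Multiplicative (Fin (N + 1) → A)) :=
    { toFun := fun g => AddEquiv.toMultiplicative (β g)
      map_one' := by
        refine MulEquiv.ext fun f => ?_
        show Multiplicative.ofAdd (fun i => α 1 (Multiplicative.toAdd f i)) = f
        simp only [hα1]
        rfl
      map_mul' := fun g h => by
        refine MulEquiv.ext fun f => ?_
        show Multiplicative.ofAdd (fun i => α (g * h) (Multiplicative.toAdd f i))
          = Multiplicative.ofAdd (fun i => α g (α h (Multiplicative.toAdd f i)))
        simp only [hαmul] }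
  have hφ : ∀ (g : G) (n : Multiplicative (Fin (N + 1) → A)) (i : Fin (N + 1)),
      Multiplicative.toAdd (φ g n) i = α g (Multiplicative.toAdd n i) := fun g n i => rfl
  have hexp : ∀ n : Multiplicative (Fin (N + 1) → A), n ^ p = 1 := by
    intro n
    apply Multiplicative.toAdd.injective
    rw [toAdd_pow, toAdd_one]
    funext i
    rw [Pi.smul_apply, hA, Pi.zero_apply]
  haveI hfin : Finite (Multiplicative (Fin (N + 1) → A) ⋊[φ] G) :=
    Finite.of_equiv (Multiplicative (Fin (N + 1) → A) × G) SemidirectProduct.equivProd.symm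
  have hcardMV : Nat.card (Multiplicative (Fin (N + 1) → A)) = Nat.card A ^ (N + 1) := by
    rw [Nat.card_congr (Multiplicative.toAdd : Multiplicative (Fin (N + 1) → A) ≃ _),
      Nat.card_fun, Nat.card_fin]
  have hcardH : Nat.card (Multiplicative (Fin (N + 1) → A) ⋊[φ] G)
      = Nat.card A ^ (N + 1) * Nat.card G := by
    rw [SemidirectProduct.card, hcardMV]
  -- `A` is a `p`-group
  obtain ⟨m, hm⟩ : ∃ m, Nat.card A = p ^ m := by
    have hpA : IsPGroup p (Multiplicative A) := by
      intro a
      refine ⟨1, ?_⟩
      apply Multiplicative.toAdd.injective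
      rw [pow_one, toAdd_pow, toAdd_one, hA]
    obtain ⟨m, hm⟩ := IsPGroup.iff_card.mp hpA
    refine ⟨m, ?_⟩
    rw [← hm]
    exact (Nat.card_congr (Multiplicative.toAdd : Multiplicative A ≃ A)).symm
  have hm1 : 1 ≤ m := by
    by_contra hcon
    have hm0 : m = 0 := by omega
    rw [hm0, pow_zero] at hm
    have h2 : 2 ≤ Nat.card A := Finite.one_lt_card
    omega
  -- an element of order `p * t` of `H` over an element of order `t` with a fixed point
  have hlift : ∀ (t : ℕ), t.Prime → t ≠ p → ∀ g : G, orderOf g = t → ∀ a : A, a ≠ 0 → α g a = a →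
      ∃ h : Multiplicative (Fin (N + 1) → A) ⋊[φ] G, orderOf h = p * t := by
    intro t ht htp g hg a ha hfix
    obtain ⟨n, hn⟩ : ∃ n : Multiplicative (Fin (N + 1) → A), n = Multiplicative.ofAdd (fun _ => a) :=
      ⟨_, rfl⟩
    have hn1 : n ≠ 1 := by
      intro h1
      apply ha
      have h2 := congrArg (fun f : Multiplicative (Fin (N + 1) → A) => Multiplicative.toAdd f (0 : Fin (N + 1))) h1
      rw [hn] at h2
      exact h2
    have hφn : φ g n = n := by
      apply Multiplicative.toAdd.injective
      funext i
      rw [hφ, hn]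
      exact hfix
    have hordn : orderOf n = p := by
      have h1 : orderOf n ∣ p := orderOf_dvd_of_pow_eq_one (hexp n)
      rcases (Nat.dvd_prime hp).mp h1 with h2 | h2
      · exact absurd (orderOf_eq_one_iff.mp h2) hn1
      · exact h2
    have hcomm : Commute (SemidirectProduct.inl n : Multiplicative (Fin (N + 1) → A) ⋊[φ] G)
        (SemidirectProduct.inr g) := by
      show SemidirectProduct.inl n * SemidirectProduct.inr g
        = SemidirectProduct.inr g * SemidirectProduct.inl n
      refine SemidirectProduct.ext ?_ ?_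
      · simp only [SemidirectProduct.mul_left, SemidirectProduct.left_inl,
          SemidirectProduct.right_inl, SemidirectProduct.left_inr, SemidirectProduct.right_inr,
          map_one, MulAut.one_apply, mul_one, one_mul]
        exact hφn.symm
      · simp
    have ho1 : orderOf (SemidirectProduct.inl n : Multiplicative (Fin (N + 1) → A) ⋊[φ] G) = p := by
      rw [orderOf_injective (SemidirectProduct.inl : _ →* Multiplicative (Fin (N + 1) → A) ⋊[φ] G)
        SemidirectProduct.inl_injective n, hordn]
    have ho2 : orderOf (SemidirectProduct.inr g : Multiplicative (Fin (N + 1) → A) ⋊[φ] G) = t := by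
      rw [orderOf_injective (SemidirectProduct.inr : G →* Multiplicative (Fin (N + 1) → A) ⋊[φ] G)
        SemidirectProduct.inr_injective g, hg]
    refine ⟨SemidirectProduct.inl n * SemidirectProduct.inr g, ?_⟩
    rw [hcomm.orderOf_mul_eq_mul_orderOf_of_coprime (by
      rw [ho1, ho2]; exact (Nat.coprime_primes hp ht).mpr (Ne.symm htp)), ho1, ho2]
  refine ⟨Multiplicative (Fin (N + 1) → A) ⋊[φ] G, inferInstance, hfin, ?_, ?_, ?_⟩
  · -- size
    rw [hcardH]
    have h1 : 2 ≤ Nat.card A := Finite.one_lt_card
    have h2 : 1 ≤ Nat.card G := Nat.card_pos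
    calc N < 2 ^ (N + 1) := lt_of_lt_of_le Nat.lt_two_pow_self
            (Nat.pow_le_pow_right (by norm_num) (Nat.le_succ N))
      _ ≤ Nat.card A ^ (N + 1) := Nat.pow_le_pow_left h1 _
      _ = Nat.card A ^ (N + 1) * 1 := (mul_one _).symm
      _ ≤ Nat.card A ^ (N + 1) * Nat.card G := Nat.mul_le_mul_left _ h2
  · -- prime divisors
    intro q hq
    rw [hcardH]
    constructor
    · intro h
      rcases (Nat.Prime.dvd_mul hq).mp h with h1 | h1
      · rw [hm, ← pow_mul] at h1
        have h2 := hq.dvd_of_dvd_pow h1
        exact Or.inl ((Nat.prime_dvd_prime_iff_eq hq hp).mp h2)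
      · exact Or.inr h1
    · rintro (h | h)
      · rw [h, hm, ← pow_mul]
        exact Dvd.dvd.mul_right (dvd_pow_self p (by positivity)) _
      · exact Dvd.dvd.mul_left h _
  · -- element orders
    intro q s hq hs hqs
    constructor
    · rintro ⟨h, hh⟩
      have hd : orderOf h.right ∣ q * s := by
        rw [← hh]
        exact orderOf_map_dvd (SemidirectProduct.rightHom :
          Multiplicative (Fin (N + 1) → A) ⋊[φ] G →* G) h
      have hdpos : 0 < orderOf h.right := orderOf_pos h.right
      have hpowr : ∀ k : ℕ, (h ^ k).right = h.right ^ k := fun k =>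
        map_pow (SemidirectProduct.rightHom :
          Multiplicative (Fin (N + 1) → A) ⋊[φ] G →* G) h k
      have hker : h ^ orderOf h.right = SemidirectProduct.inl (h ^ orderOf h.right).left := by
        refine SemidirectProduct.ext ?_ ?_
        · rw [SemidirectProduct.left_inl]
        · rw [SemidirectProduct.right_inl, hpowr, pow_orderOf_eq_one]
      have hdp : h ^ (orderOf h.right * p) = 1 := by
        rw [pow_mul, hker, ← map_pow, hexp, map_one]
      have hdvd2 : q * s ∣ orderOf h.right * p := by
        rw [← hh]; exact orderOf_dvd_of_pow_eq_one hdp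
      obtain ⟨e, he⟩ := hd
      have hep : e ∣ p := by
        rw [he] at hdvd2
        exact Nat.dvd_of_mul_dvd_mul_left hdpos hdvd2
      rcases (Nat.dvd_prime hp).mp hep with he1 | he1
      · exact Or.inl ⟨h.right, by rw [he, he1, mul_one]⟩
      · rw [he1] at he
        -- the fixed point
        have hfixpt : ∀ t : ℕ, t.Prime → orderOf h.right = t → p * t = q * s →
            ∃ a : A, a ≠ 0 ∧ α h.right a = a := by
          intro t ht hdt hpt
          rw [hdt] at hker
          have hn1 : (h ^ t).left ≠ 1 := by
            intro h1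
            rw [h1, map_one] at hker
            have h2 : q * s ∣ t := by rw [← hh]; exact orderOf_dvd_of_pow_eq_one hker
            rw [← hpt] at h2
            have h3 := Nat.le_of_dvd ht.pos h2
            have h4 : 2 * t ≤ p * t := Nat.mul_le_mul_right t hp.two_le
            have h5 := ht.pos
            omega
          have hcomm : h * h ^ t = h ^ t * h := (pow_mul_comm' h t).symm
          have hleft := congrArg SemidirectProduct.left hcomm
          rw [SemidirectProduct.mul_left, SemidirectProduct.mul_left] at hleft
          have hr1 : (h ^ t).right = 1 := by rw [hpowr, ← hdt, pow_orderOf_eq_one]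
          rw [hr1, map_one, MulAut.one_apply, mul_comm (h ^ t).left h.left] at hleft
          have hfixn : φ h.right (h ^ t).left = (h ^ t).left := mul_left_cancel hleft
          have hex : ∃ i, Multiplicative.toAdd (h ^ t).left i ≠ 0 := by
            by_contra hcon
            apply hn1
            apply Multiplicative.toAdd.injective
            funext i
            by_contra hi
            exact hcon ⟨i, hi⟩
          obtain ⟨i, hi⟩ := hex
          refine ⟨Multiplicative.toAdd (h ^ t).left i, hi, ?_⟩
          rw [← hφ, hfixn]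
        have hpqs : p ∣ q * s := ⟨orderOf h.right, by rw [he, mul_comm]⟩
        rcases (Nat.Prime.dvd_mul hp).mp hpqs with h1 | h1
        · have hpq : p = q := (Nat.prime_dvd_prime_iff_eq hp hq).mp h1
          have h2 : orderOf h.right = s := by
            rw [← hpq] at he
            exact (Nat.eq_of_mul_eq_mul_left hp.pos (by rw [he, mul_comm])).symm
          exact Or.inr (Or.inl ⟨hpq.symm, h.right, h2, hfixpt s hs h2 (by rw [hpq])⟩)
        · have hps : p = s := (Nat.prime_dvd_prime_iff_eq hp hs).mp h1
          have h2 : orderOf h.right = q := by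
            rw [← hps] at he
            exact (Nat.eq_of_mul_eq_mul_right hp.pos he).symm
          exact Or.inr (Or.inr ⟨hps.symm, h.right, h2, hfixpt q hq h2 (by rw [hps, mul_comm])⟩)
    · rintro (⟨g, hg⟩ | ⟨hqp, g, hg, a, ha, hfix⟩ | ⟨hsp, g, hg, a, ha, hfix⟩)
      · refine ⟨SemidirectProduct.inr g, ?_⟩
        rw [orderOf_injective (SemidirectProduct.inr : G →* Multiplicative (Fin (N + 1) → A) ⋊[φ] G)
          SemidirectProduct.inr_injective g, hg]
      · obtain ⟨h, hh⟩ := hlift s hs (fun h => hqs (by rw [hqp, h])) g hg a ha hfix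
        exact ⟨h, by rw [hh, hqp]⟩
      · obtain ⟨h, hh⟩ := hlift q hq (fun h => hqs (by rw [hsp, h])) g hg a ha hfix
        exact ⟨h, by rw [hh, hsp, mul_comm]⟩

end Cfsg.Agent.Lib.helper92.S3664
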