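import Mathlib
import Cfsg.Agent.Lib.helper92.S3664Defs

/-!
S3664 piece TR (spare copy by the architect): the trace is a class function on `Sz(8)`.
-/

set_option autoImplicit false

namespace Cfsg.Agent.Lib.helper92.S3664

open Cfsg.Agent.Lib.helper17 Cfsg.Agent.Lib.helper8

theorem helper92_trS_conj (c y : S) : trS (c * y * c⁻¹) = trS y := by
  unfold trS
  have h1 : matS (c * y * c⁻¹) = matS c * matS y * matS c⁻¹ := rfl
  have h2 : matS c⁻¹ * matS c = 1 := by
    rw [← matS_mul, inv_mul_cancel, matS_one]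
  rw [h1, Matrix.trace_mul_comm, ← Matrix.mul_assoc, h2, Matrix.one_mul]

theorem trace_of_conj_pow (x u : S) (hconj : ∃ (c : S) (j : ℕ), u = c * x ^ j * c⁻¹) (hu : u ≠ 1)
    (ht : ∀ j : ℕ, x ^ j = 1 ∨ (trS (x ^ j) ≠ 0 ∧ trS (x ^ j) ≠ 1)) :
    trS u ≠ 0 ∧ trS u ≠ 1 := by
  obtain ⟨c, j, rfl⟩ := hconj
  rcases ht j with h | h
  · exact absurd (by rw [h, mul_one, mul_inv_cancel]) hu
  · rw [helper92_trS_conj]
    exact h

end Cfsg.Agent.Lib.helper92.S3664
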