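import Mathlib
import Cfsg.Prelude.Def_Classical
import Cfsg.Agent.Lib.helper92.S3664Defs
import Cfsg.Agent.Lib.helper92.S3664T3
import Cfsg.Agent.Lib.helper22.S3664E15
import Cfsg.Agent.Lib.helper43.S3664COMM
import Cfsg.Agent.Lib.helper47.S3664P
import Cfsg.Agent.Lib.helper53.S3664FPF13
import Cfsg.Agent.Lib.helper53.S3664NOCOP
import Cfsg.Agent.Lib.helper58.S3664NO3
import Cfsg.Agent.Lib.helper61.S3664ACT
import Cfsg.Agent.Lib.helper61.S3664CARD
import Cfsg.Agent.Lib.helper64.S3664SYLC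
import Cfsg.Agent.Lib.helper71.S3664FIX
import Cfsg.Agent.Lib.helper71.S3664X7
import Cfsg.Agent.Lib.helper8.S3664ORDS
import Cfsg.Agent.Lib.helper9.S3664N13
import Cfsg.Agent.Lib.helper9.S3664X13
import Cfsg.Agent.Lib.helper92.S3664TR

/-!
S3664: assembly.  `H_k = A^k ⋊ G`, `G = Sz(8) ⋊ C₃`, `A = M₄(F₈)`, has the prime graph of `PSp(6,3)`.
Pieces by helper53, helper61, helper43, helper30, helper11, helper71, helper9, helper58, helper22,
helper47, helper8, helper18 and others (see the imports).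
-/

set_option autoImplicit false

namespace Cfsg.Agent.Lib.helper92.S3664

open Cfsg.Agent.Lib.helper17 Cfsg.Agent.Lib.helper8

/-! ### ASSEMBLY (helper92) -/

theorem helper92_prime_dvd_87360 {p : ℕ} (hp : p.Prime) (h : p ∣ 87360) :
    p = 2 ∨ p = 3 ∨ p = 5 ∨ p = 7 ∨ p = 13 := by
  have e : (87360 : ℕ) = 2 ^ 6 * 3 * 5 * 7 * 13 := by norm_num
  rw [e] at h
  rcases (Nat.Prime.dvd_mul hp).mp h with h | h
  · rcases (Nat.Prime.dvd_mul hp).mp h with h | h
    · rcases (Nat.Prime.dvd_mul hp).mp h with h | h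
      · rcases (Nat.Prime.dvd_mul hp).mp h with h | h
        · exact Or.inl ((Nat.prime_dvd_prime_iff_eq hp Nat.prime_two).mp (hp.dvd_of_dvd_pow h))
        · exact Or.inr (Or.inl ((Nat.prime_dvd_prime_iff_eq hp (by norm_num)).mp h))
      · exact Or.inr (Or.inr (Or.inl ((Nat.prime_dvd_prime_iff_eq hp (by norm_num)).mp h)))
    · exact Or.inr (Or.inr (Or.inr (Or.inl ((Nat.prime_dvd_prime_iff_eq hp (by norm_num)).mp h))))
  · exact Or.inr (Or.inr (Or.inr (Or.inr ((Nat.prime_dvd_prime_iff_eq hp (by norm_num)).mp h))))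

theorem helper92_prime_of_orderOf_G {p m : ℕ} (hp : p.Prime) (g : G) (hg : orderOf g = m) (hpm : p ∣ m) :
    p = 2 ∨ p = 3 ∨ p = 5 ∨ p = 7 ∨ p = 13 := by
  apply helper92_prime_dvd_87360 hp
  rw [← Cfsg.Agent.Lib.helper61.S3664.card_G]
  exact dvd_trans hpm (hg ▸ orderOf_dvd_natCard g)

theorem hside (N : ℕ) : ∃ (H : Type) (_ : Group H) (_ : Finite H), N < Nat.card H ∧
    (∀ p : ℕ, p.Prime → (p ∣ Nat.card H ↔ (p = 2 ∨ p = 3 ∨ p = 5 ∨ p = 7 ∨ p = 13))) ∧
    (∀ p q : ℕ, p.Prime → q.Prime → p ≠ q →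
      ((∃ g : H, orderOf g = p * q) ↔
        (p * q = 6 ∨ p * q = 10 ∨ p * q = 15 ∨ p * q = 14))) := by
  have h7 : ∀ u : S, orderOf u = 7 → (trS u ≠ 0 ∧ trS u ≠ 1) := by
    intro u hu
    have hconj := Cfsg.Agent.Lib.helper64.S3664.sylow_conj 7 (by norm_num) (by rw [Cfsg.Agent.Lib.helper61.S3664.card_S]; norm_num) x7 u Cfsg.Agent.Lib.helper71.S3664.orderOf_x7 hu
    exact Cfsg.Agent.Lib.helper92.S3664.trace_of_conj_pow x7 u hconj (by rintro rfl; rw [orderOf_one] at hu; omega) Cfsg.Agent.Lib.helper71.S3664.trace_x7_pow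
  have h13 : ∀ u : S, orderOf u = 13 → (trS u ≠ 0 ∧ trS u ≠ 1) := by
    intro u hu
    have hconj := Cfsg.Agent.Lib.helper64.S3664.sylow_conj 13 (by norm_num) (by rw [Cfsg.Agent.Lib.helper61.S3664.card_S]; norm_num) x13 u Cfsg.Agent.Lib.helper9.S3664.orderOf_x13 hu
    exact Cfsg.Agent.Lib.helper92.S3664.trace_of_conj_pow x13 u hconj (by rintro rfl; rw [orderOf_one] at hu; omega)
      Cfsg.Agent.Lib.helper9.S3664.trace_x13_pow
  have hno3 := Cfsg.Agent.Lib.helper58.S3664.no_three_orders Cfsg.Agent.Lib.helper8.S3664.orders_S h7 h13 Cfsg.Agent.Lib.helper43.S3664.trace_of_commute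
  have hnoc := Cfsg.Agent.Lib.helper53.S3664.no_coprime_orders Cfsg.Agent.Lib.helper8.S3664.orders_S
  have hfpf := Cfsg.Agent.Lib.helper53.S3664.fpf13 Cfsg.Agent.Lib.helper61.S3664.act_one Cfsg.Agent.Lib.helper61.S3664.act_mul Cfsg.Agent.Lib.helper61.S3664.card_S
    (fun x y hx hy => Cfsg.Agent.Lib.helper64.S3664.sylow_conj 13 (by norm_num) (by rw [Cfsg.Agent.Lib.helper61.S3664.card_S]; norm_num) x y hx hy)
    Cfsg.Agent.Lib.helper9.S3664.orderOf_x13 Cfsg.Agent.Lib.helper9.S3664.x13_fpf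
  obtain ⟨H, hGr, hFin, hN, hprime, hedge⟩ :=
    Cfsg.Agent.Lib.helper92.S3664.pg_of_module_gen (G := G) 2 Nat.prime_two A Cfsg.Agent.Lib.helper61.S3664.two_smul_A act
      Cfsg.Agent.Lib.helper61.S3664.act_one Cfsg.Agent.Lib.helper61.S3664.act_mul Cfsg.Agent.Lib.helper61.S3664.act_add N
  refine ⟨H, hGr, hFin, hN, ?_, ?_⟩
  · intro p hp
    rw [hprime p hp, Cfsg.Agent.Lib.helper61.S3664.card_G]
    constructor
    · rintro (h | h)
      · exact Or.inl h
      · exact helper92_prime_dvd_87360 hp h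
    · rintro (rfl | rfl | rfl | rfl | rfl)
      · exact Or.inl rfl
      · exact Or.inr (by norm_num)
      · exact Or.inr (by norm_num)
      · exact Or.inr (by norm_num)
      · exact Or.inr (by norm_num)
  · intro p q hp hq hpq
    rw [hedge p q hp hq hpq]
    constructor
    · rintro (⟨g, hg⟩ | ⟨rfl, g, hg, a, ha, hfix⟩ | ⟨rfl, g, hg, a, ha, hfix⟩)
      · have hp' := helper92_prime_of_orderOf_G hp g hg (Dvd.intro _ rfl)
        have hq' := helper92_prime_of_orderOf_G hq g hg (Dvd.intro_left _ rfl)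
        have h3 := hno3 g
        have h4 := hnoc g
        rw [hg] at h3 h4
        rcases hp' with rfl | rfl | rfl | rfl | rfl <;> rcases hq' with rfl | rfl | rfl | rfl | rfl <;>
          omega
      · have hq' := helper92_prime_of_orderOf_G hq g hg (dvd_refl _)
        rcases hq' with rfl | rfl | rfl | rfl | rfl
        · exact absurd rfl hpq
        · omega
        · omega
        · omega
        · exact absurd (hfpf g hg a hfix) ha
      · have hp' := helper92_prime_of_orderOf_G hp g hg (dvd_refl _)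
        rcases hp' with rfl | rfl | rfl | rfl | rfl
        · exact absurd rfl hpq
        · omega
        · omega
        · omega
        · exact absurd (hfpf g hg a hfix) ha
    · have key : ∀ (m r : ℕ), r.Prime → p * q = 2 * r → (∃ g : G, orderOf g = r ∧ ∃ a : A, a ≠ 0 ∧ act g a = a) →
          ((∃ g : G, orderOf g = p * q) ∨
           (p = 2 ∧ ∃ g : G, orderOf g = q ∧ ∃ a : A, a ≠ 0 ∧ act g a = a) ∨
           (q = 2 ∧ ∃ g : G, orderOf g = p ∧ ∃ a : A, a ≠ 0 ∧ act g a = a)) := by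
        intro m r hr hpqr hfix
        have h2 : 2 ∣ p * q := ⟨r, hpqr⟩
        rcases (Nat.Prime.dvd_mul Nat.prime_two).mp h2 with h | h
        · have hp2 : p = 2 := ((Nat.prime_dvd_prime_iff_eq Nat.prime_two hp).mp h).symm
          have hqr : q = r := by
            rw [hp2] at hpqr; omega
          exact Or.inr (Or.inl ⟨hp2, hqr ▸ hfix⟩)
        · have hq2 : q = 2 := ((Nat.prime_dvd_prime_iff_eq Nat.prime_two hq).mp h).symm
          have hpr : p = r := by
            rw [hq2] at hpqr; omega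
          exact Or.inr (Or.inr ⟨hq2, hpr ▸ hfix⟩)
      rintro (h | h | h | h)
      · exact key 0 3 (by norm_num) (by omega) Cfsg.Agent.Lib.helper71.S3664.fix3
      · exact key 0 5 (by norm_num) (by omega) Cfsg.Agent.Lib.helper71.S3664.fix5
      · obtain ⟨g, hg⟩ := Cfsg.Agent.Lib.helper22.S3664.exists_order_15
        exact Or.inl ⟨g, by rw [hg, h]⟩
      · exact key 0 7 (by norm_num) (by omega) Cfsg.Agent.Lib.helper71.S3664.fix7

theorem s3664 {F : Type*} [Field F] [Fintype F] (hF : Fintype.card F = 3) (N : ℕ) :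
    ∃ (H : Type) (_ : Group H) (_ : Finite H), N < Nat.card H ∧
      ((∀ p : ℕ, p.Prime → (p ∣ Nat.card (Cfsg.PSp 3 F) ↔ p ∣ Nat.card H)) ∧
      (∀ p q : ℕ, p.Prime → q.Prime → p ≠ q → ((∃ g : (Cfsg.PSp 3 F), orderOf g = p * q) ↔ (∃ g : H, orderOf g = p * q)))) := by
  obtain ⟨H, hGr, hFin, hN, h1, h2⟩ := hside N
  obtain ⟨hp1, hp2⟩ := Cfsg.Agent.Lib.helper47.S3664.psp_graph hF
  exact ⟨H, hGr, hFin, hN, fun p hp => (hp1 p hp).trans (h1 p hp).symm,
    fun p q hp hq hpq => (hp2 p q hp hq hpq).trans (h2 p q hp hq hpq).symm⟩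

end Cfsg.Agent.Lib.helper92.S3664
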