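import Mathlib
import Cfsg.Prelude.Def_Classical
import Cfsg.Agent.Lib.helper64.RsSp
import Cfsg.Agent.S0245
import Cfsg.Agent.S0246

/-!
S3664 piece P: the prime graph of `PSp(6,3)`, from helper64's `RsSp` iff-theorems.
-/

set_option autoImplicit false

namespace Cfsg.Agent.Lib.helper92.S3664

open Cfsg.Agent.Lib.helper64.RsSp

theorem helper92_ord5 : orderOf ((3 : ℕ) : ZMod 5) = 4 := by
  rw [orderOf_eq_iff (by norm_num)]
  refine ⟨by decide, fun m hm hm0 => ?_⟩
  interval_cases m <;> decide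

theorem helper92_ord7 : orderOf ((3 : ℕ) : ZMod 7) = 6 := by
  rw [orderOf_eq_iff (by norm_num)]
  refine ⟨by decide, fun m hm hm0 => ?_⟩
  interval_cases m <;> decide

theorem helper92_ord13 : orderOf ((3 : ℕ) : ZMod 13) = 3 := by
  rw [orderOf_eq_iff (by norm_num)]
  refine ⟨by decide, fun m hm hm0 => ?_⟩
  interval_cases m <;> decide

theorem helper92_prime_dvd_psp {p : ℕ} (hp : p.Prime) (h : p ∣ 4585351680) :
    p = 2 ∨ p = 3 ∨ p = 5 ∨ p = 7 ∨ p = 13 := by
  have e : (4585351680 : ℕ) = 2 ^ 9 * 3 ^ 9 * 5 * 7 * 13 := by norm_num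
  rw [e] at h
  rcases (Nat.Prime.dvd_mul hp).mp h with h | h
  · rcases (Nat.Prime.dvd_mul hp).mp h with h | h
    · rcases (Nat.Prime.dvd_mul hp).mp h with h | h
      · rcases (Nat.Prime.dvd_mul hp).mp h with h | h
        · exact Or.inl ((Nat.prime_dvd_prime_iff_eq hp Nat.prime_two).mp (hp.dvd_of_dvd_pow h))
        · exact Or.inr (Or.inl ((Nat.prime_dvd_prime_iff_eq hp (by norm_num)).mp
            (hp.dvd_of_dvd_pow h)))
      · exact Or.inr (Or.inr (Or.inl ((Nat.prime_dvd_prime_iff_eq hp (by norm_num)).mp h)))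
    · exact Or.inr (Or.inr (Or.inr (Or.inl ((Nat.prime_dvd_prime_iff_eq hp (by norm_num)).mp h))))
  · exact Or.inr (Or.inr (Or.inr (Or.inr ((Nat.prime_dvd_prime_iff_eq hp (by norm_num)).mp h))))

theorem psp_graph {F : Type*} [Field F] [Fintype F] (hF : Fintype.card F = 3) :
    (∀ p : ℕ, p.Prime → (p ∣ Nat.card (Cfsg.PSp 3 F) ↔ (p = 2 ∨ p = 3 ∨ p = 5 ∨ p = 7 ∨ p = 13))) ∧
    (∀ p q : ℕ, p.Prime → q.Prime → p ≠ q →
      ((∃ g : Cfsg.PSp 3 F, orderOf g = p * q) ↔
        (p * q = 6 ∨ p * q = 10 ∨ p * q = 15 ∨ p * q = 14))) := by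
  classical
  haveI : Fact (Nat.Prime 3) := ⟨by norm_num⟩
  haveI : CharP F 3 := charP_of_card_eq_prime hF
  -- the order
  have hSp : Nat.card (Matrix.symplecticGroup (Fin 3) F) = 9170703360 := by
    rw [Cfsg.Agent.S0245.result hF 3]
    norm_num [Finset.prod_range_succ]
  have hZ : Nat.card (Subgroup.center (Matrix.symplecticGroup (Fin 3) F)) = 2 := by
    rw [Cfsg.Agent.S0246.result hF 3 (by norm_num)]
    rfl
  have hcard : Nat.card (Cfsg.PSp 3 F) = 4585351680 := by
    have h := Subgroup.card_eq_card_quotient_mul_card_subgroup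
      (Subgroup.center (Matrix.symplecticGroup (Fin 3) F))
    rw [hSp, hZ] at h
    show Nat.card (Matrix.symplecticGroup (Fin 3) F ⧸
      Subgroup.center (Matrix.symplecticGroup (Fin 3) F)) = 4585351680
    omega
  haveI : Finite (Cfsg.PSp 3 F) := Nat.finite_of_card_ne_zero (by rw [hcard]; norm_num)
  -- the orders of 3 modulo 5, 7, 13
  have k5 : (4 : ℕ) = orderOf ((Fintype.card F : ℕ) : ZMod 5) := by rw [hF, helper92_ord5]
  have k7 : (6 : ℕ) = orderOf ((Fintype.card F : ℕ) : ZMod 7) := by rw [hF, helper92_ord7]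
  have k13 : (3 : ℕ) = orderOf ((Fintype.card F : ℕ) : ZMod 13) := by rw [hF, helper92_ord13]
  have e5 : (Odd 4 ∧ 2 = 4) ∨ (Even 4 ∧ 2 * 2 = 4) := Or.inr ⟨by decide, rfl⟩
  have e7 : (Odd 6 ∧ 3 = 6) ∨ (Even 6 ∧ 2 * 3 = 6) := Or.inr ⟨by decide, rfl⟩
  have e13 : (Odd 3 ∧ 3 = 3) ∨ (Even 3 ∧ 2 * 3 = 3) := Or.inl ⟨by decide, rfl⟩
  -- edges
  have m6 : 6 ∈ Set.range (orderOf : Cfsg.PSp 3 F → ℕ) :=
    psp_two_p (F := F) 3 (by norm_num) 3 (by norm_num)
  have m10 : 10 ∈ Set.range (orderOf : Cfsg.PSp 3 F → ℕ) :=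
    (psp_two_r_iff (F := F) 3 (by norm_num) 3 (by norm_num) 5 (by norm_num) (by norm_num)
      (by norm_num) 4 2 k5 e5).mpr (Or.inl (by norm_num))
  have m14 : 14 ∈ Set.range (orderOf : Cfsg.PSp 3 F → ℕ) :=
    (psp_two_r_iff (F := F) 3 (by norm_num) 3 (by norm_num) 7 (by norm_num) (by norm_num)
      (by norm_num) 6 3 k7 e7).mpr (Or.inr (Or.inr ⟨rfl, by decide, by rw [hF]; norm_num⟩))
  have m15 : 15 ∈ Set.range (orderOf : Cfsg.PSp 3 F → ℕ) :=
    (psp_rp_iff (F := F) 3 (by norm_num) 3 (by norm_num) 5 (by norm_num) (by norm_num)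
      (by norm_num) 4 2 k5 e5).mpr (by norm_num)
  -- non-edges
  have n26 : 26 ∉ Set.range (orderOf : Cfsg.PSp 3 F → ℕ) := by
    intro h
    have h' := (psp_two_r_iff (F := F) 3 (by norm_num) 3 (by norm_num) 13 (by norm_num)
      (by norm_num) (by norm_num) 3 3 k13 e13).mp h
    rw [hF] at h'
    rcases h' with h' | ⟨-, -, h'⟩ | ⟨-, h', -⟩
    · omega
    · omega
    · exact absurd h' (by decide)
  have n21 : 21 ∉ Set.range (orderOf : Cfsg.PSp 3 F → ℕ) := by
    intro h
    have h' := (psp_rp_iff (F := F) 3 (by norm_num) 3 (by norm_num) 7 (by norm_num) (by norm_num)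
      (by norm_num) 6 3 k7 e7).mp h
    omega
  have n39 : 39 ∉ Set.range (orderOf : Cfsg.PSp 3 F → ℕ) := by
    intro h
    have h' := (psp_rp_iff (F := F) 3 (by norm_num) 3 (by norm_num) 13 (by norm_num) (by norm_num)
      (by norm_num) 3 3 k13 e13).mp h
    omega
  have n35 : 35 ∉ Set.range (orderOf : Cfsg.PSp 3 F → ℕ) := by
    intro h
    have h' := (psp_rs_iff (F := F) 3 3 (by norm_num) 5 7 (by norm_num) (by norm_num)
      (by norm_num) (by norm_num) (by norm_num) (by norm_num) (by norm_num) 4 6 2 3 k5 k7 e5 e7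
      (by norm_num)).mp h
    rcases h' with h' | ⟨-, t, -, ht⟩
    · omega
    · omega
  have n65 : 65 ∉ Set.range (orderOf : Cfsg.PSp 3 F → ℕ) := by
    intro h
    have h' := (psp_rs_iff (F := F) 3 3 (by norm_num) 5 13 (by norm_num) (by norm_num)
      (by norm_num) (by norm_num) (by norm_num) (by norm_num) (by norm_num) 4 3 2 3 k5 k13 e5 e13
      (by norm_num)).mp h
    rcases h' with h' | ⟨-, t, -, ht⟩
    · omega
    · omega
  have n91 : 91 ∉ Set.range (orderOf : Cfsg.PSp 3 F → ℕ) := by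
    intro h
    have h' := (psp_rs_iff (F := F) 3 3 (by norm_num) 7 13 (by norm_num) (by norm_num)
      (by norm_num) (by norm_num) (by norm_num) (by norm_num) (by norm_num) 6 3 3 3 k7 k13 e7 e13
      (by norm_num)).mp h
    rcases h' with h' | ⟨-, t, -, ht⟩
    · omega
    · omega
  refine ⟨?_, ?_⟩
  · intro p hp
    rw [hcard]
    constructor
    · exact helper92_prime_dvd_psp hp
    · rintro (rfl | rfl | rfl | rfl | rfl) <;> norm_num
  · intro p q hp hq hpq
    constructor
    · rintro ⟨g, hg⟩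
      have hdvd : p * q ∣ 4585351680 := by
        rw [← hcard, ← hg]; exact orderOf_dvd_natCard g
      have hp' := helper92_prime_dvd_psp hp (dvd_trans (Dvd.intro _ rfl) hdvd)
      have hq' := helper92_prime_dvd_psp hq (dvd_trans (Dvd.intro_left _ rfl) hdvd)
      have hmem : p * q ∈ Set.range (orderOf : Cfsg.PSp 3 F → ℕ) := ⟨g, hg⟩
      rcases hp' with rfl | rfl | rfl | rfl | rfl <;> rcases hq' with rfl | rfl | rfl | rfl | rfl <;>
        first
          | exact absurd rfl hpq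
          | exact absurd hmem n26
          | exact absurd hmem n21
          | exact absurd hmem n39
          | exact absurd hmem n35
          | exact absurd hmem n65
          | exact absurd hmem n91
          | omega
    · rintro (h | h | h | h)
      · rw [h]; exact m6
      · rw [h]; exact m10
      · rw [h]; exact m15
      · rw [h]; exact m14

end Cfsg.Agent.Lib.helper92.S3664
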