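import Mathlib

/-!
S3664 piece SYLC (spare copy by the architect): elements of order `p` when `p² ∤ |G|`.
-/

set_option autoImplicit false

namespace Cfsg.Agent.Lib.helper92.S3664

open scoped Pointwise

theorem sylow_conj {G : Type*} [Group G] [Finite G] (p : ℕ) (hp : p.Prime)
    (hp2 : ¬ p ^ 2 ∣ Nat.card G) (x y : G) (hx : orderOf x = p) (hy : orderOf y = p) :
    ∃ (c : G) (j : ℕ), y = c * x ^ j * c⁻¹ := by
  classical
  haveI : Fact p.Prime := ⟨hp⟩
  have hcardG : Nat.card G ≠ 0 := Nat.card_pos.ne'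
  have hpG : p ∣ Nat.card G := hx ▸ orderOf_dvd_natCard x
  have hfac : (Nat.card G).factorization p = 1 := by
    have h1 : 1 ≤ (Nat.card G).factorization p :=
      (hp.pow_dvd_iff_le_factorization hcardG).mp (by simpa using hpG)
    have h2 : ¬ 2 ≤ (Nat.card G).factorization p := fun h =>
      hp2 ((hp.pow_dvd_iff_le_factorization hcardG).mpr h)
    omega
  have hcardP : ∀ P : Sylow p G, Nat.card P = p := by
    intro P
    rw [Sylow.card_eq_multiplicity, hfac, pow_one]
  have hpx : IsPGroup p (Subgroup.zpowers x) :=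
    IsPGroup.of_card (n := 1) (by rw [Nat.card_zpowers, hx, pow_one])
  have hpy : IsPGroup p (Subgroup.zpowers y) :=
    IsPGroup.of_card (n := 1) (by rw [Nat.card_zpowers, hy, pow_one])
  obtain ⟨P, hP⟩ := hpx.exists_le_sylow
  obtain ⟨Q, hQ⟩ := hpy.exists_le_sylow
  obtain ⟨c, hc⟩ := MulAction.exists_smul_eq G P Q
  have hxP : Subgroup.zpowers x = (P : Subgroup G) :=
    Subgroup.eq_of_le_of_card_ge hP (by rw [Nat.card_zpowers, hx, hcardP P])
  have hyQ : y ∈ (Q : Subgroup G) := hQ (Subgroup.mem_zpowers y)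
  have h2 : ((c • P : Sylow p G) : Subgroup G) = MulAut.conj c • (P : Subgroup G) := rfl
  rw [← hc, h2] at hyQ
  obtain ⟨z, hz, hzy⟩ := (Subgroup.mem_smul_pointwise_iff_exists y (MulAut.conj c) (P : Subgroup G)).mp hyQ
  rw [← SetLike.mem_coe, ← hxP, SetLike.mem_coe, ← mem_powers_iff_mem_zpowers,
    Submonoid.mem_powers_iff] at hz
  obtain ⟨j, hj⟩ := hz
  refine ⟨c, j, ?_⟩
  rw [hj, ← hzy]
  rfl

end Cfsg.Agent.Lib.helper92.S3664
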