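import Mathlib
import Cfsg.Agent.Lib.helper26.S4409Defs

set_option autoImplicit false
open scoped commutatorElement

namespace Cfsg.Agent.Lib.helper26.S4409

variable {G : Type*} [Group G]

/-- B2V core: the conclusions of MAXQ1, MAXQ2, VFIX, SPECX and SPEC as hypotheses (MAXC / AV1 are
only needed to produce the hypothesis of SPECX). -/
theorem helper92_b2v_core [Finite G] (X H M : Subgroup G)
    (hXn : H ≤ Subgroup.normalizer (X : Set G)) (hV : IsV4 M) (g : G) (hg : g ∈ H)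
    (hab : ¬ IsMulCommutative ↥X)
    (hMAXQ1 : ⁅X, X⁆ ≤ M) (hMAXQ2 : ∀ x ∈ X, x * x ∈ M)
    (hVFIX : ∀ v : G, v ∈ M → v ≠ 1 → g * v = v * g → False)
    (hSPECX : ⁅X, X⁆ = M → (_root_.commutator ↥X = Subgroup.center ↥X ∧
      Nat.card ↥(Subgroup.center ↥X) = Nat.card ↥M ∧
      ∀ x : ↥X, (x : G) ∈ M → x ∈ Subgroup.center ↥X))
    (hSPEC : _root_.commutator ↥X = Subgroup.center ↥X →
      (∀ x : ↥X, x * x ∈ Subgroup.center ↥X) → Cfsg.IsSpecial 2 ↥X) : Concl X := by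
  have hD0 : ⁅X, X⁆ ≠ ⊥ := by
    intro h0
    apply hab
    rw [Subgroup.commutator_eq_bot_iff_le_centralizer] at h0
    exact ⟨⟨fun a b => Subtype.ext ((Subgroup.mem_centralizer_iff.1 (h0 b.2)) a a.2)⟩⟩
  have hconj : ∀ c ∈ ⁅X, X⁆, g * c * g⁻¹ ∈ ⁅X, X⁆ := by
    have hle : ⁅X, X⁆ ≤ (⁅X, X⁆ : Subgroup G).comap (MulAut.conj g).toMonoidHom := by
      rw [Subgroup.commutator_le]
      intro x hx y hy
      rw [Subgroup.mem_comap, map_commutatorElement]
      apply Subgroup.commutator_mem_commutator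
      · exact ((Subgroup.mem_normalizer_iff.1 (hXn hg)) x).1 hx
      · exact ((Subgroup.mem_normalizer_iff.1 (hXn hg)) y).1 hy
    intro c hc
    exact hle hc
  have hDM : ⁅X, X⁆ = M := by
    by_contra hne
    obtain ⟨v, hv1⟩ := (Subgroup.ne_bot_iff_exists_ne_one.1 hD0)
    have hvD' : (v : G) ∈ ⁅X, X⁆ := v.2
    have hv1' : (v : G) ≠ 1 := fun h => hv1 (Subtype.ext h)
    have hvM : (v : G) ∈ M := hMAXQ1 hvD'
    have hw : g * (v : G) * g⁻¹ ∈ ⁅X, X⁆ := hconj _ hvD'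
    have hw1 : g * (v : G) * g⁻¹ ≠ 1 := by
      intro h
      apply hv1'
      have : (v : G) = g⁻¹ * (g * (v : G) * g⁻¹) * g := by group
      rw [this, h]
      group
    have hdvd : Nat.card ↥(⁅X, X⁆ : Subgroup G) ∣ 2 ^ 2 := by
      have := Subgroup.card_dvd_of_le hMAXQ1
      rw [hV.1] at this
      exact this
    obtain ⟨m, hm, hcard⟩ := (Nat.dvd_prime_pow Nat.prime_two).1 hdvd
    have key : g * (v : G) * g⁻¹ = (v : G) := by
      interval_cases m
      · exact absurd (Subgroup.eq_bot_of_card_eq _ (by simpa using hcard)) hD0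
      · have h2 : Nat.card ↥(⁅X, X⁆ : Subgroup G) = 2 := by simpa using hcard
        obtain ⟨y, -, hy⟩ := (Nat.card_eq_two_iff' (1 : ↥(⁅X, X⁆ : Subgroup G))).1 h2
        have e1 : (⟨g * (v : G) * g⁻¹, hw⟩ : ↥(⁅X, X⁆ : Subgroup G)) = y :=
          hy _ (fun h => hw1 (congrArg Subtype.val h))
        have e2 : v = y := hy _ hv1
        have := congrArg Subtype.val (e1.trans e2.symm)
        exact this
      · exfalso
        apply hne
        haveI : Finite ↥M := inferInstance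
        refine Subgroup.eq_of_le_of_card_ge hMAXQ1 ?_
        rw [hV.1, hcard]
        norm_num
    exact hVFIX (v : G) hvM hv1' (mul_inv_eq_iff_eq_mul.1 key)
  obtain ⟨h1, h2, h3⟩ := hSPECX hDM
  have hsp : Cfsg.IsSpecial 2 ↥X := hSPEC h1 (fun x => h3 (x * x) (hMAXQ2 x x.2))
  exact Or.inr (Or.inr (Or.inr ⟨hsp, by rw [h2]; exact hV.1⟩))

end Cfsg.Agent.Lib.helper26.S4409
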