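import Mathlib
import Cfsg.Agent.Lib.helper26.S4409Defs

set_option autoImplicit false
open scoped commutatorElement

namespace Cfsg.Agent.Lib.helper26.S4409

variable {G : Type*} [Group G]

/-- The elements of `X` whose square lies in `M`, when `⁅X, X⁆ ≤ M` and `X` normalizes `M`. -/
def helper92_sqSub (X M : Subgroup G) (hMn : X ≤ Subgroup.normalizer (M : Set G))
    (hc : ⁅X, X⁆ ≤ M) : Subgroup G where
  carrier := {x | x ∈ X ∧ x * x ∈ M}
  one_mem' := ⟨X.one_mem, by simp⟩
  mul_mem' := by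
    rintro x y ⟨hx, hx2⟩ ⟨hy, hy2⟩
    refine ⟨X.mul_mem hx hy, ?_⟩
    have h1 : ⁅y⁻¹, x⁻¹⁆ ∈ M :=
      hc (Subgroup.commutator_mem_commutator (X.inv_mem hy) (X.inv_mem hx))
    have h2 : y⁻¹ * ⁅y⁻¹, x⁻¹⁆ * y⁻¹⁻¹ ∈ M :=
      ((Subgroup.mem_normalizer_iff.1 (hMn (X.inv_mem hy))) _).1 h1
    have h3 : x * y * (x * y) = x * x * (y * y) * (y⁻¹ * ⁅y⁻¹, x⁻¹⁆ * y⁻¹⁻¹) := by
      rw [commutatorElement_def]
      group
    rw [h3]
    exact M.mul_mem (M.mul_mem hx2 hy2) h2
  inv_mem' := by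
    rintro x ⟨hx, hx2⟩
    refine ⟨X.inv_mem hx, ?_⟩
    have : x⁻¹ * x⁻¹ = (x * x)⁻¹ := by group
    rw [this]
    exact M.inv_mem hx2

theorem helper92_mem_sqSub (X M : Subgroup G) (hMn : X ≤ Subgroup.normalizer (M : Set G))
    (hc : ⁅X, X⁆ ≤ M) (x : G) : x ∈ helper92_sqSub X M hMn hc ↔ x ∈ X ∧ x * x ∈ M := Iff.rfl

/-- MAXQ2 (racer copy, verbatim statement). -/
theorem helper92_maxq2 [Finite G] (X H M : Subgroup G) (hX : IsPGroup 2 ↥X)
    (hH : H ≤ Subgroup.normalizer (X : Set G)) (hMax : IsMaxInv X H M) (hc : ⁅X, X⁆ ≤ M) :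
    ∀ x ∈ X, x * x ∈ M := by
  obtain ⟨hMX, hne, hXM, hHM, hmax⟩ := hMax
  have hconj : ∀ g n : G, g * n * g⁻¹ * (g * n * g⁻¹) = g * (n * n) * g⁻¹ := by
    intro g n
    group
  have hN := hmax (helper92_sqSub X M hXM hc)
    (fun m hm => ⟨hMX hm, M.mul_mem hm hm⟩)
    (fun x hx => hx.1)
    (by
      intro g hg
      rw [Subgroup.mem_normalizer_iff]
      intro n
      rw [helper92_mem_sqSub, helper92_mem_sqSub, hconj]
      have h1 : n ∈ X ↔ g * n * g⁻¹ ∈ X := by
        constructor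
        · intro hn
          exact X.mul_mem (X.mul_mem hg hn) (X.inv_mem hg)
        · intro hn
          have : n = g⁻¹ * (g * n * g⁻¹) * g := by group
          rw [this]
          exact X.mul_mem (X.mul_mem (X.inv_mem hg) hn) hg
      have h2 := (Subgroup.mem_normalizer_iff.1 (hXM hg)) (n * n)
      rw [h1, h2])
    (by
      intro g hg
      rw [Subgroup.mem_normalizer_iff]
      intro n
      rw [helper92_mem_sqSub, helper92_mem_sqSub, hconj]
      have h1 := (Subgroup.mem_normalizer_iff.1 (hH hg)) n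
      have h2 := (Subgroup.mem_normalizer_iff.1 (hHM hg)) (n * n)
      rw [h1, h2])
  rcases hN with hN | hN
  · exfalso
    apply hne
    refine le_antisymm hMX ?_
    have key : ∀ k : ℕ, ∀ x ∈ X, x ^ (2 ^ k) = 1 → x ∈ M := by
      intro k
      induction k with
      | zero =>
        intro x _ hx1
        have : x = 1 := by simpa using hx1
        rw [this]
        exact M.one_mem
      | succ k ih =>
        intro x hx hx1
        have h2 : (x * x) ^ (2 ^ k) = 1 := by
          rw [← pow_two, ← pow_mul, ← pow_succ']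
          exact hx1
        have h3 : x * x ∈ M := ih (x * x) (X.mul_mem hx hx) h2
        have h4 : x ∈ helper92_sqSub X M hXM hc := ⟨hx, h3⟩
        rw [hN] at h4
        exact h4
    intro x hx
    obtain ⟨k, hk⟩ := hX ⟨x, hx⟩
    have hk' : x ^ (2 ^ k) = 1 := by
      have := congrArg Subtype.val hk
      simpa using this
    exact key k x hx hk'
  · intro x hx
    have : x ∈ helper92_sqSub X M hXM hc := by rw [hN]; exact hx
    exact this.2

end Cfsg.Agent.Lib.helper26.S4409
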