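import Mathlib
import Cfsg.Agent.Lib.helper45.SVDefs

set_option autoImplicit false

namespace Cfsg.Agent.Lib.helper45.SV

/-- Increment the first nonzero entry. -/
def helper92_bump {n : ℕ} (c : Fin n → ℕ) : Fin n → ℕ :=
  fun x => if (∀ y : Fin n, y < x → c y = 0) ∧ c x ≠ 0 then c x + 1 else c x

/-- The permutation side. -/
noncomputable def helper92_L (n : ℕ) (Φ : (Fin n → ℕ) → ℂ) : ℂ :=
  ∑ κ : Equiv.Perm (Fin n), if ∀ i : Fin n, (κ i).val ≤ 1 + i.val then
        ((Equiv.Perm.sign κ : ℤ) : ℂ) * Φ (fun i => 1 + i.val - (κ i).val) else 0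

/-- The subset side. -/
noncomputable def helper92_R (n : ℕ) (Φ : (Fin n → ℕ) → ℂ) : ℂ :=
  ∑ D ∈ endSets n, (-1 : ℂ) ^ (n - D.card) * Φ (compOf D)

theorem helper92_valid_struct {m : ℕ} (e : Equiv.Perm (Fin (m + 1)))
    (hv : ∀ i : Fin (m + 1), (e i).val ≤ 1 + i.val) (x : Fin (m + 1)) (hx : e x = 0) :
    ∀ k : ℕ, ∀ y : Fin (m + 1), y.val = k → y < x → (e y).val = y.val + 1 := by
  intro k
  induction k using Nat.strong_induction_on with
  | _ k ih =>
    intro y hy hyx
    by_contra hne
    have h1 : (e y).val ≤ y.val := by have := hv y; omega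
    by_cases h0 : (e y).val = 0
    · have h2 : e y = e x := by rw [hx]; exact Fin.ext h0
      have h3 := e.injective h2
      rw [h3] at hyx
      exact lt_irrefl _ hyx
    · have hz : (e y).val - 1 < m + 1 := by have := (e y).isLt; omega
      have hzy : (⟨(e y).val - 1, hz⟩ : Fin (m + 1)) < y := by
        rw [Fin.lt_def]
        show (e y).val - 1 < y.val
        omega
      have h2 := ih ((e y).val - 1) (by omega) ⟨(e y).val - 1, hz⟩ rfl (hzy.trans hyx)
      have h3 : e ⟨(e y).val - 1, hz⟩ = e y := by
        apply Fin.ext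
        rw [h2]
        show (e y).val - 1 + 1 = (e y).val
        omega
      have h4 := e.injective h3
      rw [h4] at hzy
      exact lt_irrefl _ hzy

theorem helper92_bump_cond {m : ℕ} (e : Equiv.Perm (Fin (m + 1)))
    (hv : ∀ i : Fin (m + 1), (e i).val ≤ 1 + i.val) (x : Fin (m + 1)) :
    ((∀ y : Fin (m + 1), y < x → 1 + y.val - (e y).val = 0) ∧ 1 + x.val - (e x).val ≠ 0) ↔
      e x = 0 := by
  constructor
  · rintro ⟨h1, h2⟩
    by_contra hne
    have hx0 : (e x).val ≠ 0 := fun h => hne (Fin.ext h)
    have hxle : (e x).val ≤ x.val := by omega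
    have hz : (e x).val - 1 < m + 1 := by have := (e x).isLt; omega
    have hzx : (⟨(e x).val - 1, hz⟩ : Fin (m + 1)) < x := by
      rw [Fin.lt_def]
      show (e x).val - 1 < x.val
      omega
    have h3 := h1 _ hzx
    have h4 := hv ⟨(e x).val - 1, hz⟩
    have h5 : (e ⟨(e x).val - 1, hz⟩).val = (e x).val := by
      have h6 : (⟨(e x).val - 1, hz⟩ : Fin (m + 1)).val = (e x).val - 1 := rfl
      omega
    have h7 := e.injective (Fin.ext h5)
    rw [h7] at hzx
    exact lt_irrefl _ hzx
  · intro hx
    refine ⟨fun y hy => ?_, ?_⟩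
    · have := helper92_valid_struct e hv x hx y.val y rfl hy
      omega
    · rw [hx]
      simp

theorem helper92_dec1_succ {n : ℕ} (e : Equiv.Perm (Fin (n + 1))) (x : Fin (n + 1)) :
    ((Equiv.Perm.decomposeFin.symm ((0 : Fin (n + 1)).succ, e)) x.succ).val =
      if e x = 0 then 0 else (e x).val + 1 := by
  rw [Equiv.Perm.decomposeFin_symm_apply_succ, Equiv.swap_apply_def,
    if_neg (Fin.succ_ne_zero _)]
  by_cases h : e x = 0
  · rw [if_pos (by rw [h]), if_pos h]
    rfl
  · have h' : (e x).succ ≠ (0 : Fin (n + 1)).succ := fun h' => h (Fin.succ_injective _ h')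
    rw [if_neg h', if_neg h, Fin.val_succ]

theorem helper92_L_succ (n : ℕ) (Φ : (Fin (n + 2) → ℕ) → ℂ) :
    helper92_L (n + 2) Φ = helper92_L (n + 1) (fun c => Φ (Fin.cons 1 c)) -
      helper92_L (n + 1) (fun c => Φ (Fin.cons 0 (helper92_bump c))) := by
  unfold helper92_L
  rw [← Equiv.sum_comp (Equiv.Perm.decomposeFin.symm), Fintype.sum_prod_type, Fin.sum_univ_succ,
    Fin.sum_univ_succ]
  have F2 : ∑ k : Fin n, ∑ e : Equiv.Perm (Fin (n + 1)),
      (if ∀ i : Fin (n + 2), ((Equiv.Perm.decomposeFin.symm (k.succ.succ, e)) i).val ≤ 1 + i.val then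
        ((Equiv.Perm.sign (Equiv.Perm.decomposeFin.symm (k.succ.succ, e)) : ℤ) : ℂ) *
          Φ (fun i => 1 + i.val - ((Equiv.Perm.decomposeFin.symm (k.succ.succ, e)) i).val) else 0) = 0 := by
    refine Finset.sum_eq_zero fun k _ => Finset.sum_eq_zero fun e _ => ?_
    rw [if_neg]
    intro h
    have := h 0
    rw [Equiv.Perm.decomposeFin_symm_apply_zero] at this
    simp at this
  have F0 : ∀ e : Equiv.Perm (Fin (n + 1)),
      (if ∀ i : Fin (n + 2), ((Equiv.Perm.decomposeFin.symm ((0 : Fin (n + 2)), e)) i).val ≤ 1 + i.val then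
        ((Equiv.Perm.sign (Equiv.Perm.decomposeFin.symm ((0 : Fin (n + 2)), e)) : ℤ) : ℂ) *
          Φ (fun i => 1 + i.val - ((Equiv.Perm.decomposeFin.symm ((0 : Fin (n + 2)), e)) i).val) else 0) =
      (if ∀ i : Fin (n + 1), (e i).val ≤ 1 + i.val then
        ((Equiv.Perm.sign e : ℤ) : ℂ) * Φ (Fin.cons 1 (fun i => 1 + i.val - (e i).val)) else 0) := by
    intro e
    have hv : (∀ i : Fin (n + 2), ((Equiv.Perm.decomposeFin.symm ((0 : Fin (n + 2)), e)) i).val ≤ 1 + i.val) ↔
        ∀ i : Fin (n + 1), (e i).val ≤ 1 + i.val := by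
      rw [Fin.forall_fin_succ]
      simp only [Equiv.Perm.decomposeFin_symm_apply_zero, Equiv.Perm.decomposeFin_symm_apply_succ,
        Equiv.swap_self, Equiv.refl_apply, Fin.val_succ, Fin.val_zero]
      constructor
      · rintro ⟨-, h⟩ i
        have := h i
        omega
      · intro h
        refine ⟨by omega, fun i => ?_⟩
        have := h i
        omega
    have hf : (fun i : Fin (n + 2) => 1 + i.val - ((Equiv.Perm.decomposeFin.symm ((0 : Fin (n + 2)), e)) i).val) =
        Fin.cons 1 (fun i : Fin (n + 1) => 1 + i.val - (e i).val) := by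
      funext i
      refine Fin.cases ?_ (fun x => ?_) i
      · simp
      · simp only [Equiv.Perm.decomposeFin_symm_apply_succ, Equiv.swap_self, Equiv.refl_apply,
          Fin.val_succ, Fin.cons_succ]
        omega
    rw [hf, Equiv.Perm.decomposeFin.symm_sign, if_pos rfl, one_mul]
    exact if_congr hv rfl rfl
  have F1 : ∀ e : Equiv.Perm (Fin (n + 1)),
      (if ∀ i : Fin (n + 2), ((Equiv.Perm.decomposeFin.symm ((0 : Fin (n + 1)).succ, e)) i).val ≤ 1 + i.val then
        ((Equiv.Perm.sign (Equiv.Perm.decomposeFin.symm ((0 : Fin (n + 1)).succ, e)) : ℤ) : ℂ) *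
          Φ (fun i => 1 + i.val - ((Equiv.Perm.decomposeFin.symm ((0 : Fin (n + 1)).succ, e)) i).val) else 0) =
      -(if ∀ i : Fin (n + 1), (e i).val ≤ 1 + i.val then
        ((Equiv.Perm.sign e : ℤ) : ℂ) *
          Φ (Fin.cons 0 (helper92_bump (fun i => 1 + i.val - (e i).val))) else 0) := by
    intro e
    have hv : (∀ i : Fin (n + 2), ((Equiv.Perm.decomposeFin.symm ((0 : Fin (n + 1)).succ, e)) i).val ≤ 1 + i.val) ↔
        ∀ i : Fin (n + 1), (e i).val ≤ 1 + i.val := by
      rw [Fin.forall_fin_succ]
      simp only [Equiv.Perm.decomposeFin_symm_apply_zero, helper92_dec1_succ, Fin.val_succ,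
        Fin.val_zero]
      constructor
      · rintro ⟨-, h⟩ i
        have := h i
        by_cases h0 : e i = 0
        · rw [h0]; simp
        · rw [if_neg h0] at this
          omega
      · intro h
        refine ⟨by omega, fun i => ?_⟩
        have := h i
        split_ifs <;> omega
    by_cases hval : ∀ i : Fin (n + 1), (e i).val ≤ 1 + i.val
    · rw [if_pos (hv.2 hval), if_pos hval]
      have hf : (fun i : Fin (n + 2) => 1 + i.val - ((Equiv.Perm.decomposeFin.symm ((0 : Fin (n + 1)).succ, e)) i).val) =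
          Fin.cons 0 (helper92_bump (fun i : Fin (n + 1) => 1 + i.val - (e i).val)) := by
        funext i
        refine Fin.cases ?_ (fun x => ?_) i
        · simp
        · rw [helper92_dec1_succ, Fin.cons_succ]
          unfold helper92_bump
          have hc := helper92_bump_cond e hval x
          by_cases h0 : e x = 0
          · rw [if_pos h0, if_pos (hc.2 h0)]
            show 1 + x.succ.val - 0 = 1 + x.val - (e x).val + 1
            rw [h0, Fin.val_succ, Fin.val_zero]
            omega
          · rw [if_neg h0, if_neg (fun h => h0 (hc.1 h))]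
            show 1 + x.succ.val - ((e x).val + 1) = 1 + x.val - (e x).val
            rw [Fin.val_succ]
            omega
      rw [hf, Equiv.Perm.decomposeFin.symm_sign, if_neg (Fin.succ_ne_zero _)]
      push_cast
      ring
    · rw [if_neg (fun h => hval (hv.1 h)), if_neg hval, neg_zero]
  rw [F2, add_zero, Finset.sum_congr rfl (fun e _ => F0 e), Finset.sum_congr rfl (fun e _ => F1 e),
    Finset.sum_neg_distrib]
  ring

/-! ### The subset side -/

theorem helper92_topOf_eq {m : ℕ} (D : Finset (Fin m)) (i : Fin m) :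
    topOf D i = (D.filter (fun d => d < i)).sup (fun d => d.val + 1) := by
  unfold topOf
  rw [Finset.sup_image]
  rfl

theorem helper92_topOf_le {m : ℕ} (D : Finset (Fin m)) (i : Fin m) : topOf D i ≤ i.val := by
  rw [helper92_topOf_eq]
  refine Finset.sup_le fun d hd => ?_
  have := (Finset.mem_filter.1 hd).2
  rw [Fin.lt_def] at this
  omega

theorem helper92_compOf_ne_zero {m : ℕ} (D : Finset (Fin m)) (i : Fin m) (hi : i ∈ D) :
    compOf D i ≠ 0 := by
  unfold compOf
  rw [if_pos hi]
  have := helper92_topOf_le D i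
  omega

theorem helper92_compOf_eq_zero {m : ℕ} (D : Finset (Fin m)) (i : Fin m) (hi : i ∉ D) :
    compOf D i = 0 := by
  unfold compOf
  rw [if_neg hi]

theorem helper92_sup_shift {m : ℕ} (S : Finset (Fin m)) (hS : S.Nonempty) :
    S.sup (fun d => d.val + 2) = S.sup (fun d => d.val + 1) + 1 := by
  apply le_antisymm
  · refine Finset.sup_le fun d hd => ?_
    have := Finset.le_sup (f := fun d : Fin m => d.val + 1) hd
    have h2 : d.val + 1 ≤ S.sup (fun d : Fin m => d.val + 1) := this
    show d.val + 2 ≤ S.sup (fun d : Fin m => d.val + 1) + 1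
    omega
  · obtain ⟨d0, hd0, h0⟩ := Finset.exists_mem_eq_sup S hS (fun d : Fin m => d.val + 1)
    have := Finset.le_sup (f := fun d : Fin m => d.val + 2) hd0
    have h2 : d0.val + 2 ≤ S.sup (fun d : Fin m => d.val + 2) := this
    rw [h0]
    show d0.val + 1 + 1 ≤ S.sup (fun d : Fin m => d.val + 2)
    omega

theorem helper92_topOf_B {n : ℕ} (D' : Finset (Fin (n + 1))) (x : Fin (n + 1)) :
    topOf (D'.image Fin.succ) x.succ = (D'.filter (fun d => d < x)).sup (fun d => d.val + 2) := by
  rw [helper92_topOf_eq, Finset.filter_image, Finset.sup_image]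
  simp only [Fin.succ_lt_succ_iff]
  rfl

theorem helper92_topOf_A {n : ℕ} (D' : Finset (Fin (n + 1))) (x : Fin (n + 1)) :
    topOf (insert 0 (D'.image Fin.succ)) x.succ =
      max 1 ((D'.filter (fun d => d < x)).sup (fun d => d.val + 2)) := by
  rw [helper92_topOf_eq, Finset.filter_insert, if_pos (Fin.succ_pos x), Finset.sup_insert,
    Finset.filter_image, Finset.sup_image]
  simp only [Fin.succ_lt_succ_iff]
  rfl

theorem helper92_compOf_A {n : ℕ} (D' : Finset (Fin (n + 1))) :
    compOf (insert 0 (D'.image Fin.succ)) = Fin.cons 1 (compOf D') := by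
  funext i
  refine Fin.cases ?_ (fun x => ?_) i
  · rw [Fin.cons_zero]
    unfold compOf
    rw [if_pos (Finset.mem_insert_self _ _)]
    have : topOf (insert 0 (D'.image Fin.succ)) 0 = 0 := by
      have := helper92_topOf_le (insert 0 (D'.image Fin.succ)) 0
      simpa using this
    rw [this]
    rfl
  · rw [Fin.cons_succ]
    have hmem : x.succ ∈ insert 0 (D'.image Fin.succ) ↔ x ∈ D' := by
      simp [Fin.succ_ne_zero]
    by_cases hx : x ∈ D'
    · unfold compOf
      rw [if_pos (hmem.2 hx), if_pos hx, helper92_topOf_A, helper92_topOf_eq]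
      rcases (D'.filter (fun d => d < x)).eq_empty_or_nonempty with h0 | hne
      · rw [h0]
        simp
      · rw [helper92_sup_shift _ hne]
        simp only [Fin.val_succ]
        omega
    · rw [helper92_compOf_eq_zero _ _ (fun h => hx (hmem.1 h)), helper92_compOf_eq_zero _ _ hx]

theorem helper92_compOf_B {n : ℕ} (D' : Finset (Fin (n + 1))) :
    compOf (D'.image Fin.succ) = Fin.cons 0 (helper92_bump (compOf D')) := by
  funext i
  refine Fin.cases ?_ (fun x => ?_) i
  · rw [Fin.cons_zero]
    apply helper92_compOf_eq_zero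
    simp [Fin.succ_ne_zero]
  · rw [Fin.cons_succ]
    have hmem : x.succ ∈ D'.image Fin.succ ↔ x ∈ D' := by
      simp
    unfold helper92_bump
    by_cases hx : x ∈ D'
    · rcases (D'.filter (fun d => d < x)).eq_empty_or_nonempty with h0 | hne
      · have hcond : (∀ y : Fin (n + 1), y < x → compOf D' y = 0) ∧ compOf D' x ≠ 0 := by
          refine ⟨fun y hy => helper92_compOf_eq_zero _ _ fun hyD => ?_,
            helper92_compOf_ne_zero _ _ hx⟩
          have : y ∈ D'.filter (fun d => d < x) := Finset.mem_filter.2 ⟨hyD, hy⟩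
          rw [h0] at this
          simp at this
        rw [if_pos hcond]
        unfold compOf
        rw [if_pos (hmem.2 hx), if_pos hx, helper92_topOf_B, helper92_topOf_eq, h0]
        simp
      · have hcond : ¬ ((∀ y : Fin (n + 1), y < x → compOf D' y = 0) ∧ compOf D' x ≠ 0) := by
          rintro ⟨h1, -⟩
          obtain ⟨y, hy⟩ := hne
          rw [Finset.mem_filter] at hy
          exact helper92_compOf_ne_zero _ _ hy.1 (h1 y hy.2)
        rw [if_neg hcond]
        unfold compOf
        rw [if_pos (hmem.2 hx), if_pos hx, helper92_topOf_B, helper92_topOf_eq,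
          helper92_sup_shift _ hne]
        simp only [Fin.val_succ]
        omega
    · have hz := helper92_compOf_eq_zero _ _ hx
      rw [helper92_compOf_eq_zero _ _ (fun h => hx (hmem.1 h)), if_neg (fun h => h.2 hz), hz]

theorem helper92_mem_endSets {m : ℕ} (D : Finset (Fin m)) :
    D ∈ endSets m ↔ ∀ i : Fin m, i.val + 1 = m → i ∈ D := by
  simp [endSets]

/-- The preimage of a set of positions under `Fin.succ`. -/
def helper92_pre {n : ℕ} (D : Finset (Fin (n + 2))) : Finset (Fin (n + 1)) :=
  Finset.univ.filter (fun x : Fin (n + 1) => x.succ ∈ D)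

theorem helper92_mem_pre {n : ℕ} (D : Finset (Fin (n + 2))) (x : Fin (n + 1)) :
    x ∈ helper92_pre D ↔ x.succ ∈ D := by
  simp [helper92_pre]

theorem helper92_R_split (n : ℕ) (f : Finset (Fin (n + 2)) → ℂ) :
    ∑ D ∈ endSets (n + 2), f D =
      ∑ D' ∈ endSets (n + 1), f (insert 0 (D'.image Fin.succ)) +
        ∑ D' ∈ endSets (n + 1), f (D'.image Fin.succ) := by
  rw [← Finset.sum_filter_add_sum_filter_not (endSets (n + 2)) (fun D => (0 : Fin (n + 2)) ∈ D)]
  congr 1
  · refine Finset.sum_nbij' (fun D => helper92_pre D) (fun D' => insert 0 (D'.image Fin.succ))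
      ?_ ?_ ?_ ?_ ?_
    · intro D hD
      rw [Finset.mem_filter, helper92_mem_endSets] at hD
      rw [helper92_mem_endSets]
      intro x hx
      rw [helper92_mem_pre]
      exact hD.1 x.succ (by rw [Fin.val_succ]; omega)
    · intro D' hD'
      rw [helper92_mem_endSets] at hD'
      rw [Finset.mem_filter, helper92_mem_endSets]
      refine ⟨fun i => ?_, Finset.mem_insert_self _ _⟩
      refine Fin.cases ?_ (fun x => ?_) i
      · intro h
        simp at h
      · intro h
        rw [Fin.val_succ] at h
        exact Finset.mem_insert_of_mem (Finset.mem_image_of_mem _ (hD' x (by omega)))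
    · intro D hD
      rw [Finset.mem_filter] at hD
      ext i
      refine Fin.cases ?_ (fun x => ?_) i
      · simp [hD.2]
      · simp [helper92_mem_pre, Fin.succ_ne_zero]
    · intro D' _
      ext x
      simp [helper92_mem_pre, Fin.succ_ne_zero]
    · intro D hD
      rw [Finset.mem_filter] at hD
      congr 1
      ext i
      refine Fin.cases ?_ (fun x => ?_) i
      · simp [hD.2]
      · simp [helper92_mem_pre, Fin.succ_ne_zero]
  · refine Finset.sum_nbij' (fun D => helper92_pre D) (fun D' => D'.image Fin.succ)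
      ?_ ?_ ?_ ?_ ?_
    · intro D hD
      rw [Finset.mem_filter, helper92_mem_endSets] at hD
      rw [helper92_mem_endSets]
      intro x hx
      rw [helper92_mem_pre]
      exact hD.1 x.succ (by rw [Fin.val_succ]; omega)
    · intro D' hD'
      rw [helper92_mem_endSets] at hD'
      rw [Finset.mem_filter, helper92_mem_endSets]
      refine ⟨fun i => ?_, by simp [Fin.succ_ne_zero]⟩
      refine Fin.cases ?_ (fun x => ?_) i
      · intro h
        simp at h
      · intro h
        rw [Fin.val_succ] at h
        exact Finset.mem_image_of_mem _ (hD' x (by omega))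
    · intro D hD
      rw [Finset.mem_filter] at hD
      ext i
      refine Fin.cases ?_ (fun x => ?_) i
      · simp [hD.2, Fin.succ_ne_zero]
      · simp [helper92_mem_pre]
    · intro D' _
      ext x
      simp [helper92_mem_pre]
    · intro D hD
      rw [Finset.mem_filter] at hD
      congr 1
      ext i
      refine Fin.cases ?_ (fun x => ?_) i
      · simp [hD.2, Fin.succ_ne_zero]
      · simp [helper92_mem_pre]

theorem helper92_R_succ (n : ℕ) (Φ : (Fin (n + 2) → ℕ) → ℂ) :
    helper92_R (n + 2) Φ = helper92_R (n + 1) (fun c => Φ (Fin.cons 1 c)) -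
      helper92_R (n + 1) (fun c => Φ (Fin.cons 0 (helper92_bump c))) := by
  unfold helper92_R
  rw [helper92_R_split, sub_eq_add_neg, ← Finset.sum_neg_distrib]
  congr 1
  · refine Finset.sum_congr rfl fun D' _ => ?_
    rw [helper92_compOf_A, Finset.card_insert_of_notMem (by simp [Fin.succ_ne_zero]),
      Finset.card_image_of_injective _ (Fin.succ_injective _)]
    congr 2
    omega
  · refine Finset.sum_congr rfl fun D' _ => ?_
    rw [helper92_compOf_B, Finset.card_image_of_injective _ (Fin.succ_injective _)]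
    have hc : D'.card ≤ n + 1 := by
      have := Finset.card_le_univ D'
      simpa using this
    have : n + 2 - D'.card = (n + 1 - D'.card) + 1 := by omega
    rw [this, pow_succ]
    ring

theorem helper92_LR_zero (Φ : (Fin 0 → ℕ) → ℂ) : helper92_L 0 Φ = helper92_R 0 Φ := by
  unfold helper92_L helper92_R
  have h1 : endSets 0 = {∅} := by decide
  rw [h1, Finset.sum_singleton, Fintype.sum_subsingleton _ (1 : Equiv.Perm (Fin 0)),
    if_pos (fun i => i.elim0)]
  simp only [Equiv.Perm.sign_one, Units.val_one, Int.cast_one, one_mul, Finset.card_empty,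
    Nat.sub_zero, pow_zero]
  congr 1
  exact Subsingleton.elim _ _

theorem helper92_LR_one (Φ : (Fin 1 → ℕ) → ℂ) : helper92_L 1 Φ = helper92_R 1 Φ := by
  unfold helper92_L helper92_R
  have h1 : endSets 1 = {{0}} := by decide
  rw [h1, Finset.sum_singleton, Fintype.sum_subsingleton _ (1 : Equiv.Perm (Fin 1)),
    if_pos (fun i => by simp)]
  simp only [Equiv.Perm.sign_one, Units.val_one, Int.cast_one, one_mul, Finset.card_singleton,
    Nat.sub_self, pow_zero]
  congr 1
  funext i
  have hi : i = 0 := Subsingleton.elim _ _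
  subst hi
  decide

theorem helper92_LR : ∀ (n : ℕ) (Φ : (Fin (n + 1) → ℕ) → ℂ),
    helper92_L (n + 1) Φ = helper92_R (n + 1) Φ := by
  intro n
  induction n with
  | zero => exact helper92_LR_one
  | succ n ih =>
    intro Φ
    rw [helper92_L_succ, helper92_R_succ, ih, ih]

/-- COMB (L), racer copy (verbatim statement). -/
theorem helper92_comb_perm {n : ℕ} (Φ : (Fin n → ℕ) → ℂ) :
    (∑ κ : Equiv.Perm (Fin n), if ∀ i : Fin n, (κ i).val ≤ 1 + i.val then
        ((Equiv.Perm.sign κ : ℤ) : ℂ) * Φ (fun i => 1 + i.val - (κ i).val) else 0) =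
    ∑ D ∈ endSets n, (-1 : ℂ) ^ (n - D.card) * Φ (compOf D) := by
  cases n with
  | zero => exact helper92_LR_zero Φ
  | succ n => exact helper92_LR n Φ

end Cfsg.Agent.Lib.helper45.SV
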