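import Mathlib
import Cfsg.Agent.Lib.helper45.SVDefs

set_option autoImplicit false

namespace Cfsg.Agent.Lib.helper45.SV

open Classical in
/-- Chains strictly between `⊥` and `b`, as a finset of finsets. -/
noncomputable def helper92_chainsBelow {α : Type*} [PartialOrder α] [OrderBot α] [Fintype α]
    (b : α) : Finset (Finset α) :=
  Finset.univ.filter (fun c => IsChain (· ≤ ·) (c : Set α) ∧ ∀ a ∈ c, a ≠ ⊥ ∧ a < b)

theorem helper92_mem_chainsBelow {α : Type*} [PartialOrder α] [OrderBot α] [Fintype α]
    (b : α) (c : Finset α) :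
    c ∈ helper92_chainsBelow b ↔ IsChain (· ≤ ·) (c : Set α) ∧ ∀ a ∈ c, a ≠ ⊥ ∧ a < b := by
  classical
  simp [helper92_chainsBelow]

/-- Decomposition of the chains below `b` by their maximum. -/
theorem helper92_chainsBelow_eq {α : Type*} [PartialOrder α] [OrderBot α] [Fintype α]
    [DecidableEq α] [LocallyFiniteOrder α] (b : α) :
    helper92_chainsBelow b =
      insert ∅ ((Finset.Ioo (⊥ : α) b).biUnion
        (fun m => (helper92_chainsBelow m).image (fun c => insert m c))) := by
  classical
  ext c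
  simp only [Finset.mem_insert, Finset.mem_biUnion, Finset.mem_image, Finset.mem_Ioo,
    helper92_mem_chainsBelow]
  constructor
  · rintro ⟨hch, hc⟩
    rcases c.eq_empty_or_nonempty with h0 | hne
    · exact Or.inl h0
    · right
      obtain ⟨m, hm, hmax⟩ := c.exists_maximal hne
      have hle : ∀ a ∈ c, a ≤ m := by
        intro a ha
        by_cases ham : a = m
        · exact ham.le
        · rcases hch ha hm ham with h1 | h1
          · exact h1
          · exact hmax ha h1
      refine ⟨m, ⟨bot_lt_iff_ne_bot.2 (hc m hm).1, (hc m hm).2⟩, c.erase m, ⟨?_, ?_⟩, ?_⟩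
      · exact hch.mono (by intro x hx; exact Finset.mem_of_mem_erase (Finset.mem_coe.1 hx))
      · intro a ha
        have ha' := Finset.mem_of_mem_erase ha
        exact ⟨(hc a ha').1, lt_of_le_of_ne (hle a ha') (Finset.ne_of_mem_erase ha)⟩
      · exact Finset.insert_erase hm
  · rintro (h0 | ⟨m, ⟨hm0, hmb⟩, c', ⟨hch, hc'⟩, rfl⟩)
    · subst h0
      exact ⟨by simp, by simp⟩
    · constructor
      · rw [Finset.coe_insert]
        refine hch.insert ?_
        intro a ha _
        exact Or.inr (hc' a (Finset.mem_coe.1 ha)).2.le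
      · intro a ha
        rcases Finset.mem_insert.1 ha with rfl | ha
        · exact ⟨hm0.ne', hmb⟩
        · exact ⟨(hc' a ha).1, (hc' a ha).2.trans hmb⟩

theorem helper92_hall_sum_rec {α : Type*} [PartialOrder α] [OrderBot α] [Fintype α]
    [DecidableEq α] [LocallyFiniteOrder α] (b : α) :
    ∑ c ∈ helper92_chainsBelow b, (-1 : ℤ) ^ (c.card + 1) =
      -1 - ∑ m ∈ Finset.Ioo (⊥ : α) b, ∑ c ∈ helper92_chainsBelow m, (-1 : ℤ) ^ (c.card + 1) := by
  classical
  have hnot : ∀ m : α, ∀ c ∈ helper92_chainsBelow m, m ∉ c := by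
    intro m c hc hm
    exact lt_irrefl m (((helper92_mem_chainsBelow m c).1 hc).2 m hm).2
  rw [helper92_chainsBelow_eq b, Finset.sum_insert, Finset.sum_biUnion]
  · have : ∀ m ∈ Finset.Ioo (⊥ : α) b,
        ∑ c ∈ (helper92_chainsBelow m).image (fun c => insert m c), (-1 : ℤ) ^ (c.card + 1) =
          - ∑ c ∈ helper92_chainsBelow m, (-1 : ℤ) ^ (c.card + 1) := by
      intro m _
      rw [Finset.sum_image, ← Finset.sum_neg_distrib]
      · refine Finset.sum_congr rfl fun c hc => ?_
        rw [Finset.card_insert_of_notMem (hnot m c hc)]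
        ring
      · intro c1 h1 c2 h2 h12
        have e1 : (insert m c1).erase m = c1 := Finset.erase_insert (hnot m c1 h1)
        have e2 : (insert m c2).erase m = c2 := Finset.erase_insert (hnot m c2 h2)
        have h12' : insert m c1 = insert m c2 := h12
        rw [← e1, ← e2, h12']
    rw [Finset.sum_congr rfl this, Finset.sum_neg_distrib]
    simp only [Finset.card_empty, zero_add, pow_one]
    ring
  · intro m hm m' hm' hne
    rw [Function.onFun, Finset.disjoint_left]
    intro c h1 h2
    obtain ⟨c1, hc1, rfl⟩ := Finset.mem_image.1 h1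
    obtain ⟨c2, hc2, h12⟩ := Finset.mem_image.1 h2
    have hm1 : m ∈ insert m' c2 := by rw [h12]; exact Finset.mem_insert_self m c1
    have hm2 : m' ∈ insert m c1 := by rw [← h12]; exact Finset.mem_insert_self m' c2
    have l1 : m < m' := by
      rcases Finset.mem_insert.1 hm1 with h | h
      · exact absurd h hne
      · exact (((helper92_mem_chainsBelow m' c2).1 hc2).2 m h).2
    have l2 : m' < m := by
      rcases Finset.mem_insert.1 hm2 with h | h
      · exact absurd h.symm hne
      · exact (((helper92_mem_chainsBelow m c1).1 hc1).2 m' h).2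
    exact lt_asymm l1 l2
  · simp only [Finset.mem_biUnion, Finset.mem_image, not_exists, not_and]
    intro m _ c _ h
    exact Finset.insert_ne_empty m c h

theorem helper92_hall_aux {α : Type*} [PartialOrder α] [OrderBot α] [Fintype α]
    [DecidableEq α] [LocallyFiniteOrder α] :
    ∀ b : α, b ≠ ⊥ → IncidenceAlgebra.mu ℤ (⊥ : α) b =
      ∑ c ∈ helper92_chainsBelow b, (-1 : ℤ) ^ (c.card + 1) := by
  classical
  intro b
  induction b using WellFoundedLT.induction with
  | ind b ih =>
    intro hb
    have hb' : (⊥ : α) < b := bot_lt_iff_ne_bot.2 hb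
    rw [IncidenceAlgebra.mu_eq_neg_sum_Ico_of_ne (Ne.symm hb), helper92_hall_sum_rec b,
      ← Finset.Ioo_insert_left hb', Finset.sum_insert (by simp), IncidenceAlgebra.mu_self]
    have : ∑ x ∈ Finset.Ioo (⊥ : α) b, IncidenceAlgebra.mu ℤ (⊥ : α) x =
        ∑ m ∈ Finset.Ioo (⊥ : α) b, ∑ c ∈ helper92_chainsBelow m, (-1 : ℤ) ^ (c.card + 1) := by
      refine Finset.sum_congr rfl fun x hx => ?_
      rw [Finset.mem_Ioo] at hx
      exact ih x hx.2 hx.1.ne'
    rw [this]
    ring

/-- HALL (L). Philip Hall's theorem (racer copy, verbatim statement). -/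
theorem helper92_hall {α : Type*} [PartialOrder α] [BoundedOrder α] [Fintype α] [DecidableEq α]
    [LocallyFiniteOrder α] (h : (⊥ : α) ≠ ⊤) :
    IncidenceAlgebra.mu ℤ (⊥ : α) ⊤ = ∑ᶠ c ∈ chainsOO α, (-1 : ℤ) ^ (c.card + 1) := by
  classical
  rw [helper92_hall_aux ⊤ (Ne.symm h), finsum_mem_eq_finite_toFinset_sum _ (Set.toFinite _)]
  refine Finset.sum_congr ?_ fun _ _ => rfl
  ext c
  simp only [helper92_mem_chainsBelow, Set.Finite.mem_toFinset, chainsOO, Set.mem_ofPred_eq,
    lt_top_iff_ne_top]

end Cfsg.Agent.Lib.helper45.SV
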