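import Mathlib
import Cfsg.Agent.Lib.helper92.Cosets

/-!
# Signs of permutations of order dividing four, and a Thompson-type transfer lemma
-/

set_option autoImplicit false

namespace Cfsg.Agent.Lib.helper92

open Equiv

/-- Cycle count data of a permutation of order dividing `4`: with `a₂` two-cycles and `a₄`
four-cycles, the sign is `(-1)^(a₂+a₄)`, the support has `2a₂+4a₄` points and the support of the
square has `4a₄` points. -/
theorem perm_pow_four_data {α : Type*} [Fintype α] [DecidableEq α] (σ : Perm α) :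
    σ ^ 4 = 1 → ∃ a₂ a₄ : ℕ, Perm.sign σ = (-1) ^ (a₂ + a₄) ∧
      σ.support.card = 2 * a₂ + 4 * a₄ ∧ (σ ^ 2).support.card = 4 * a₄ := by
  induction σ using Perm.cycle_induction_on with
  | base_one =>
    intro _
    exact ⟨0, 0, by simp, by simp, by simp⟩
  | base_cycles σ hσ =>
    intro h4
    have hord : orderOf σ ∣ 4 := orderOf_dvd_of_pow_eq_one h4
    have hcard : orderOf σ = σ.support.card := hσ.orderOf
    have h2le := hσ.two_le_card_support
    have h24 : σ.support.card = 2 ∨ σ.support.card = 4 := by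
      rw [hcard] at hord
      have hle : σ.support.card ≤ 4 := Nat.le_of_dvd (by norm_num) hord
      have h3 : σ.support.card ≠ 3 := by
        intro h
        rw [h] at hord
        exact absurd hord (by norm_num)
      omega
    rcases h24 with h | h
    · refine ⟨1, 0, ?_, ?_, ?_⟩
      · rw [hσ.sign, h]; norm_num
      · rw [h]
      · have e : σ ^ 2 = 1 := by rw [← h, ← hcard]; exact pow_orderOf_eq_one σ
        rw [e]; simp
    · refine ⟨0, 1, ?_, ?_, ?_⟩
      · rw [hσ.sign, h]; norm_num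
      · rw [h]
      · have e : (σ ^ 2).support = σ.support :=
          hσ.support_pow_eq_iff.2 (by rw [hcard, h]; norm_num)
        rw [e, h]
  | induction_disjoint σ τ hd hσ ihσ ihτ =>
    intro h4
    have hcomm := hd.commute
    have h4' : σ ^ 4 * τ ^ 4 = 1 := by rw [← hcomm.mul_pow]; exact h4
    obtain ⟨hσ4, hτ4⟩ := (hd.pow_disjoint_pow 4 4).mul_eq_one_iff.1 h4'
    obtain ⟨a₂, a₄, hs, hc, hc2⟩ := ihσ hσ4
    obtain ⟨b₂, b₄, ht, hc', hc2'⟩ := ihτ hτ4
    refine ⟨a₂ + b₂, a₄ + b₄, ?_, ?_, ?_⟩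
    · rw [Perm.sign_mul, hs, ht, ← pow_add]
      congr 1
      ring
    · rw [hd.card_support_mul, hc, hc']; ring
    · rw [hcomm.mul_pow, (hd.pow_disjoint_pow 2 2).card_support_mul, hc2, hc2']; ring

/-- Two permutations of order dividing `4` with the same square and the same sign have support
sizes congruent modulo `4`. -/
theorem card_support_mod_four_of_sq_eq {α : Type*} [Fintype α] [DecidableEq α] (σ τ : Perm α)
    (h4 : σ ^ 4 = 1) (hsq : σ ^ 2 = τ ^ 2) (hs : Perm.sign σ = Perm.sign τ) :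
    σ.support.card % 4 = τ.support.card % 4 := by
  have h4' : τ ^ 4 = 1 := by
    have e : τ ^ 4 = (τ ^ 2) ^ 2 := by rw [← pow_mul]
    rw [e, ← hsq, ← pow_mul]; exact h4
  obtain ⟨a₂, a₄, hs1, hc1, hc1'⟩ := perm_pow_four_data σ h4
  obtain ⟨b₂, b₄, hs2, hc2, hc2'⟩ := perm_pow_four_data τ h4'
  rw [hsq, hc2'] at hc1'
  have hab : a₄ = b₄ := by omega
  subst hab
  rw [hs1, hs2] at hs
  have hne : (1 : ℤˣ) ≠ -1 := by decide
  have hpar : (a₂ + a₄) % 2 = (b₂ + a₄) % 2 := by
    rcases Nat.even_or_odd (a₂ + a₄) with he | ho <;>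
      rcases Nat.even_or_odd (b₂ + a₄) with he' | ho'
    · rw [Nat.even_iff.1 he, Nat.even_iff.1 he']
    · rw [he.neg_one_pow, ho'.neg_one_pow] at hs
      exact absurd hs hne
    · rw [ho.neg_one_pow, he'.neg_one_pow] at hs
      exact absurd hs.symm hne
    · rw [Nat.odd_iff.1 ho, Nat.odd_iff.1 ho']
  omega

/-- A Thompson-type transfer lemma for elements of order `4`: let `M` have index `2` in `R`, and
let `z` be an involution such that any conjugate into `M` of a square root of `z` is a conjugate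
by an element of `R`.  If `L` has no nontrivial homomorphism to `ℤˣ`, then two square roots of `z`
in `R` lie in `M` simultaneously. -/
theorem thompson_transfer_four {L : Type*} [Group L] [Finite L]
    (hperf : ∀ f : L →* ℤˣ, ∀ x, f x = 1)
    (R M : Subgroup L) (t : L) (htR : t ∈ R) (htM : t ∉ M)
    (hidx : ∀ x ∈ R, x ∈ M ∨ t⁻¹ * x ∈ M)
    (hMn : ∀ r ∈ R, ∀ m ∈ M, r⁻¹ * m * r ∈ M)
    (z : L) (hzz : z * z = 1)
    (hkey : ∀ y k : L, y * y = z → k⁻¹ * y * k ∈ M → k ∈ R)
    (y y' : L) (hy : y * y = z) (hy' : y' * y' = z) (hyM : y ∈ M) : y' ∈ M := by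
  classical
  by_contra hy'M
  have : Fintype (L ⧸ M) := Fintype.ofFinite _
  have hy4 : y ^ 4 = 1 := by
    have e4 : (4 : ℕ) = 2 * 2 := rfl
    rw [e4, pow_mul, pow_two, pow_two, hy, hzz]
  have hσ4 : (MulAction.toPermHom L (L ⧸ M) y) ^ 4 = 1 := by
    rw [← map_pow, hy4, map_one]
  have hsq : (MulAction.toPermHom L (L ⧸ M) y) ^ 2 = (MulAction.toPermHom L (L ⧸ M) y') ^ 2 := by
    rw [← map_pow, ← map_pow, pow_two, pow_two, hy, hy']
  have hs : Perm.sign (MulAction.toPermHom L (L ⧸ M) y) =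
      Perm.sign (MulAction.toPermHom L (L ⧸ M) y') := by
    have h1 := hperf (Perm.sign.comp (MulAction.toPermHom L (L ⧸ M))) y
    have h2 := hperf (Perm.sign.comp (MulAction.toPermHom L (L ⧸ M))) y'
    rw [MonoidHom.comp_apply] at h1 h2
    rw [h1, h2]
  have hmod := card_support_mod_four_of_sq_eq _ _ hσ4 hsq hs
  have hne : ((1 : L) : L ⧸ M) ≠ ((t : L) : L ⧸ M) := by
    intro h
    apply htM
    have h1 := QuotientGroup.eq.1 h
    rwa [inv_one, one_mul] at h1
  -- support of the action of `y`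
  have hsupp1 : (MulAction.toPermHom L (L ⧸ M) y).support =
      ({((1 : L) : L ⧸ M), ((t : L) : L ⧸ M)} : Finset (L ⧸ M))ᶜ := by
    ext x
    obtain ⟨k, rfl⟩ := QuotientGroup.mk_surjective x
    rw [Perm.mem_support, Finset.mem_compl, Finset.mem_insert, Finset.mem_singleton]
    have hfix : (MulAction.toPermHom L (L ⧸ M) y) (k : L ⧸ M) = (k : L ⧸ M) ↔
        k⁻¹ * y * k ∈ M := smul_coset_eq_iff M y k
    rw [ne_eq, hfix]
    constructor
    · intro h1 h2
      apply h1
      rcases h2 with h2 | h2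
      · have h3 : k ∈ M := by
          have h4 := QuotientGroup.eq.1 h2.symm
          rwa [inv_one, one_mul] at h4
        exact M.mul_mem (M.mul_mem (M.inv_mem h3) hyM) h3
      · have h3 : t⁻¹ * k ∈ M := QuotientGroup.eq.1 h2.symm
        have h4 : t⁻¹ * y * t ∈ M := hMn t htR y hyM
        have e : k⁻¹ * y * k = (t⁻¹ * k)⁻¹ * (t⁻¹ * y * t) * (t⁻¹ * k) := by group
        rw [e]
        exact M.mul_mem (M.mul_mem (M.inv_mem h3) h4) h3
    · intro h1 h2
      apply h1
      have hkR := hkey y k hy h2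
      rcases hidx k hkR with h3 | h3
      · left
        apply Eq.symm
        apply QuotientGroup.eq.2
        rwa [inv_one, one_mul]
      · right
        apply Eq.symm
        exact QuotientGroup.eq.2 h3
  have hsupp2 : (MulAction.toPermHom L (L ⧸ M) y').support = Finset.univ := by
    ext x
    obtain ⟨k, rfl⟩ := QuotientGroup.mk_surjective x
    rw [Perm.mem_support]
    have hfix : (MulAction.toPermHom L (L ⧸ M) y') (k : L ⧸ M) = (k : L ⧸ M) ↔
        k⁻¹ * y' * k ∈ M := smul_coset_eq_iff M y' k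
    rw [ne_eq, hfix]
    constructor
    · intro _; exact Finset.mem_univ _
    · intro _ h2
      apply hy'M
      have hkR := hkey y' k hy' h2
      have h3 := hMn k⁻¹ (R.inv_mem hkR) _ h2
      have e : k⁻¹⁻¹ * (k⁻¹ * y' * k) * k⁻¹ = y' := by group
      rwa [e] at h3
  rw [hsupp1, hsupp2, Finset.card_compl, Finset.card_pair hne, Finset.card_univ] at hmod
  have h2le : 2 ≤ Fintype.card (L ⧸ M) := by
    have := Finset.card_le_univ ({((1 : L) : L ⧸ M), ((t : L) : L ⧸ M)} : Finset (L ⧸ M))
    rwa [Finset.card_pair hne] at this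
  omega

end Cfsg.Agent.Lib.helper92
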