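import Cfsg.Agent.Lib.helper91.TTLine
import Cfsg.Agent.Lib.helper91.S5Hom
import Cfsg.Agent.Lib.helper91.TTPerf

/-!
# 3-transposition classes with a "triple": basic lemmas

A *triple* `(d; a, b)` of a class `D` of 3-transpositions: `a ≠ b` are members of `D` commuting
with `d` (and different from it) having the same commuting partners among the members of `D`
commuting with `d`.
-/

set_option autoImplicit false

namespace Cfsg.Agent.Lib.helper92.TT15

open Cfsg.Agent.Lib.helper91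

universe u

variable {G : Type u} [Group G] {D : Set G}

/-- Lemma A: an element of order dividing 3 inverted by `u` and centralized by `y`, where `u`, `y`
are braided involutions, is trivial. -/
theorem lemA {u y τ : G} (uu : u * u = 1) (yy : y * y = 1) (hb : u * y * u = y * u * y)
    (hinv : u * τ * u = τ⁻¹) (h3 : τ ^ 3 = 1) (hc : Commute y τ) : τ = 1 := by
  have hu : u⁻¹ = u := inv_eq_of_mul_eq_one_left uu
  have hy : y⁻¹ = y := inv_eq_of_mul_eq_one_left yy
  have h1 : Commute (u * y * u) τ⁻¹ := by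
    rw [← hinv]
    have := (Commute.conj_iff u (a := y) (b := τ)).mpr hc
    rwa [hu] at this
  have h2 : Commute (y * u * y) τ := by
    rw [← hb]; exact (Commute.inv_right_iff).mp h1
  have h3' : Commute (y * (y * u * y) * y) τ := (hc.mul_left h2).mul_left hc
  have h4 : y * (y * u * y) * y = u := by
    calc y * (y * u * y) * y = y⁻¹ * (y * u * y) * y⁻¹ := by rw [hy]
      _ = u := by group
  rw [h4] at h3'
  have h5 : τ = τ⁻¹ := by
    rw [← hinv]
    calc τ = u⁻¹ * (u * τ) := by group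
      _ = u⁻¹ * (τ * u) := by rw [h3'.eq]
      _ = u * τ * u := by rw [hu, mul_assoc]
  have h6 : τ * τ = 1 := by
    calc τ * τ = τ * τ⁻¹ := by rw [← h5]
      _ = 1 := mul_inv_cancel τ
  have h7 : τ ^ 3 = τ * τ * τ := by rw [pow_succ, pow_two]
  rw [h7, h6, one_mul] at h3
  exact h3

theorem cube_of_braid {u v : G} (uu : u * u = 1) (vv : v * v = 1) (h : u * v * u = v * u * v) :
    (u * v) ^ 3 = 1 := by
  have hv : v⁻¹ = v := inv_eq_of_mul_eq_one_left vv
  calc (u * v) ^ 3 = (u * v * u) * (v * u * v) := by rw [pow_succ, pow_two]; simp only [mul_assoc]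
    _ = (v * u * v) * (v * u * v) := by rw [h]
    _ = v * u * (v * v) * u * v := by group
    _ = v * (u * u) * v := by rw [vv]; group
    _ = 1 := by rw [uu, mul_one, vv]

theorem conj_inv_mem (hconj : ∀ g : G, ∀ x ∈ D, g * x * g⁻¹ ∈ D) (g : G) {x : G} (hx : x ∈ D) :
    g⁻¹ * x * g ∈ D := by
  have := hconj g⁻¹ x hx
  rwa [inv_inv] at this

theorem conj_self_mem (hT : Cfsg.IsThreeTranspositionSet D)
    (hconj : ∀ g : G, ∀ x ∈ D, g * x * g⁻¹ ∈ D) {u x : G} (hu : u ∈ D) (hx : x ∈ D) :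
    u * x * u ∈ D := by
  have := hconj u x hx
  rwa [tt_inv hT hu] at this

/-- A triple `(d; a, b)`. -/
structure Trip (D : Set G) (d a b : G) : Prop where
  hd : d ∈ D
  ha : a ∈ D
  hb : b ∈ D
  hab : a ≠ b
  had : a ≠ d
  hbd : b ≠ d
  cda : Commute d a
  cdb : Commute d b
  heq : ∀ z ∈ D, z ≠ d → Commute d z → ((z ≠ a ∧ Commute a z) ↔ (z ≠ b ∧ Commute b z))

theorem Trip.symm {d a b : G} (h : Trip D d a b) : Trip D d b a :=
  ⟨h.hd, h.hb, h.ha, h.hab.symm, h.hbd, h.had, h.cdb, h.cda, fun z hz hzd hdz => (h.heq z hz hzd hdz).symm⟩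

theorem Trip.nab {d a b : G} (h : Trip D d a b) : ¬ Commute a b := by
  intro hc
  have := (h.heq b h.hb h.hbd h.cdb).mp ⟨h.hab.symm, hc⟩
  exact this.1 rfl

theorem Trip.conj (hconj : ∀ g : G, ∀ x ∈ D, g * x * g⁻¹ ∈ D) {d a b : G} (h : Trip D d a b)
    (g : G) : Trip D (g * d * g⁻¹) (g * a * g⁻¹) (g * b * g⁻¹) := by
  have key : ∀ u z : G, Commute (g * u * g⁻¹) z ↔ Commute u (g⁻¹ * z * g) := fun u z =>
    commute_conj_iff g u z
  have key2 : ∀ u z : G, z ≠ g * u * g⁻¹ ↔ g⁻¹ * z * g ≠ u := by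
    intro u z
    constructor
    · intro h1 h2; apply h1; rw [← h2]; group
    · intro h1 h2; apply h1; rw [h2]; group
  refine ⟨hconj g d h.hd, hconj g a h.ha, hconj g b h.hb, ?_, ?_, ?_, ?_, ?_, ?_⟩
  · intro h1; exact h.hab (mul_left_cancel (mul_right_cancel h1))
  · intro h1; exact h.had (mul_left_cancel (mul_right_cancel h1))
  · intro h1; exact h.hbd (mul_left_cancel (mul_right_cancel h1))
  · exact (Commute.conj_iff g).mpr h.cda
  · exact (Commute.conj_iff g).mpr h.cdb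
  · intro z hz hzd hdz
    rw [key2, key, key2, key]
    exact h.heq (g⁻¹ * z * g) (conj_inv_mem hconj g hz) ((key2 d z).mp hzd) ((key d z).mp hdz)

theorem Trip.conj_fix (hconj : ∀ g : G, ∀ x ∈ D, g * x * g⁻¹ ∈ D) {d a b : G} (h : Trip D d a b)
    {g : G} (hg : Commute g d) : Trip D d (g * a * g⁻¹) (g * b * g⁻¹) := by
  have := h.conj hconj g
  have e : g * d * g⁻¹ = d := by rw [hg.eq]; group
  rwa [e] at this

/-- Step 1: some member of `D` commutes with `a` but not with `b`. -/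
theorem Trip.exists_e (hsub : ∀ u ∈ D, ∀ v ∈ D, Dp D u ⊆ Dp D v → u = v) {d a b : G}
    (h : Trip D d a b) : ∃ e ∈ D, e ≠ a ∧ Commute a e ∧ ¬ Commute b e := by
  by_contra hne
  push Not at hne
  apply h.hab
  apply hsub a h.ha b h.hb
  rintro y ⟨hy, hya, hay⟩
  refine ⟨hy, ?_, hne y hy hya hay⟩
  rintro rfl
  exact h.nab hay

theorem Trip.e_adj_d {d a b : G} (h : Trip D d a b) {e : G} (he : e ∈ D) (hne : e ≠ a)
    (hae : Commute a e) (hbe : ¬ Commute b e) : ¬ Commute d e := by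
  intro hde
  have hed : e ≠ d := by
    rintro rfl
    exact hbe h.cdb.symm
  exact hbe ((h.heq e he hed hde).mp ⟨hne, hae⟩).2

/-- The Coxeter frame `d — e — b — a` as a homomorphism from `S₅`. -/
structure Frame (d e b a : G) (φ : Equiv.Perm (Fin 5) →* G) : Prop where
  h01 : φ (Equiv.swap 0 1) = d
  h12 : φ (Equiv.swap 1 2) = e
  h23 : φ (Equiv.swap 2 3) = b
  h34 : φ (Equiv.swap 3 4) = a
  inj : Function.Injective φ

theorem exists_frame (hT : Cfsg.IsThreeTranspositionSet D) {d e b a : G} (hd : d ∈ D)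
    (he : e ∈ D) (hb : b ∈ D) (ha : a ∈ D) (hde : ¬ Commute d e) (heb : ¬ Commute e b)
    (hba : ¬ Commute b a) (hdb : Commute d b) (hda : Commute d a) (hea : Commute e a) :
    ∃ φ : Equiv.Perm (Fin 5) →* G, Frame d e b a φ := by
  have c1 := cube_of_braid (tt_sq hT hd) (tt_sq hT he) (tt_braid hT hd he hde)
  have c2 := cube_of_braid (tt_sq hT he) (tt_sq hT hb) (tt_braid hT he hb heb)
  have c3 := cube_of_braid (tt_sq hT hb) (tt_sq hT ha) (tt_braid hT hb ha hba)
  have s1 : (d * b) ^ 2 = 1 := by rw [pow_two]; exact tt_sq_of_commute hT hd hb hdb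
  have s2 : (d * a) ^ 2 = 1 := by rw [pow_two]; exact tt_sq_of_commute hT hd ha hda
  have s3 : (e * a) ^ 2 = 1 := by rw [pow_two]; exact tt_sq_of_commute hT he ha hea
  obtain ⟨φ, h1, h2, h3, h4⟩ := s5_hom (tt_sq hT hd) (tt_sq hT he) (tt_sq hT hb) (tt_sq hT ha)
    c1 c2 c3 s1 s2 s3
  refine ⟨φ, h1, h2, h3, h4, s5_hom_injective φ ?_⟩
  rw [h1, h2]
  rintro rfl
  exact hde (Commute.refl _)

theorem Trip.frame (hT : Cfsg.IsThreeTranspositionSet D) {d a b : G} (h : Trip D d a b) {e : G}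
    (he : e ∈ D) (hne : e ≠ a) (hae : Commute a e) (hbe : ¬ Commute b e) :
    ∃ φ : Equiv.Perm (Fin 5) →* G, Frame d e b a φ :=
  exists_frame hT h.hd he h.hb h.ha (h.e_adj_d he hne hae hbe) (fun hc => hbe hc.symm)
    (fun hc => h.nab hc.symm) h.cdb h.cda hae.symm

/-- conjugation inside the image of `φ`. -/
theorem frame_conj (φ : Equiv.Perm (Fin 5) →* G) {σ τ ρ : Equiv.Perm (Fin 5)}
    (h : σ * τ * σ⁻¹ = ρ) : φ σ * φ τ * (φ σ)⁻¹ = φ ρ := by
  rw [← map_inv, ← map_mul, ← map_mul, h]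

/-- (R2) -/
theorem Trip.R2 (hT : Cfsg.IsThreeTranspositionSet D)
    (hconj : ∀ g : G, ∀ x ∈ D, g * x * g⁻¹ ∈ D) {d a b : G} (h : Trip D d a b) {e : G}
    (he : e ∈ D) (hne : e ≠ a) (hae : Commute a e) (hbe : ¬ Commute b e) {p : G} (hp : p ∈ D)
    (hpd : p ≠ d) (hdp : Commute d p) (hpa : p ≠ a) (hap : Commute a p) : Commute p e := by
  obtain ⟨φ, F⟩ := h.frame hT he hne hae hbe
  by_contra hpe
  have hsa : φ (Equiv.swap 0 3 * Equiv.swap 1 4) * a * (φ (Equiv.swap 0 3 * Equiv.swap 1 4))⁻¹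
      = d := by
    rw [← F.h34, ← F.h01]; exact frame_conj φ (by decide)
  have hsd : φ (Equiv.swap 0 3 * Equiv.swap 1 4) * d * (φ (Equiv.swap 0 3 * Equiv.swap 1 4))⁻¹
      = a := by
    rw [← F.h34, ← F.h01]; exact frame_conj φ (by decide)
  have hsf : φ (Equiv.swap 0 3 * Equiv.swap 1 4) * (d * e * d) *
      (φ (Equiv.swap 0 3 * Equiv.swap 1 4))⁻¹ = b := by
    rw [← F.h23, ← F.h01, ← F.h12, ← map_mul, ← map_mul]; exact frame_conj φ (by decide)
  generalize φ (Equiv.swap 0 3 * Equiv.swap 1 4) = s at hsa hsd hsf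
  have ha'D : s * p * s⁻¹ ∈ D := hconj s p hp
  have h1 : s * p * s⁻¹ ≠ d := by
    rw [← hsa]; intro h1; exact hpa (mul_left_cancel (mul_right_cancel h1))
  have h2 : Commute d (s * p * s⁻¹) := by
    rw [← hsa]; exact (Commute.conj_iff s).mpr hap
  have h3 : s * p * s⁻¹ ≠ a := by
    rw [← hsd]; intro h1; exact hpd (mul_left_cancel (mul_right_cancel h1))
  have h4 : Commute a (s * p * s⁻¹) := by
    rw [← hsd]; exact (Commute.conj_iff s).mpr hdp
  have h5 := ((h.heq _ ha'D h1 h2).mp ⟨h3, h4⟩).2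
  rw [← hsf] at h5
  have h6 : Commute (d * e * d) p := (Commute.conj_iff s).mp h5
  have h7 : Commute (d * (d * e * d) * d) p := (hdp.mul_left h6).mul_left hdp
  have hdd := tt_sq hT h.hd
  have h8 : d * (d * e * d) * d = e := by
    calc d * (d * e * d) * d = (d * d) * e * (d * d) := by group
      _ = e := by rw [hdd, one_mul, mul_one]
  rw [h8] at h7
  exact hpe h7.symm

/-- (R3) -/
theorem Trip.R3 (hT : Cfsg.IsThreeTranspositionSet D)
    (hconj : ∀ g : G, ∀ x ∈ D, g * x * g⁻¹ ∈ D) {d a b : G} (h : Trip D d a b) {e : G}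
    (he : e ∈ D) (hne : e ≠ a) (hae : Commute a e) (hbe : ¬ Commute b e) {x : G} (hx : x ∈ D)
    (hxa : Commute x a) (hxb : Commute x b) (hxd : ¬ Commute x d) : ¬ Commute x e := by
  obtain ⟨φ, F⟩ := h.frame hT he hne hae hbe
  intro hxe
  have hFe : φ (Equiv.swap 0 2) * e * (φ (Equiv.swap 0 2))⁻¹ = d := by
    rw [← F.h12, ← F.h01]; exact frame_conj φ (by decide)
  have hFa : φ (Equiv.swap 0 2) * a * (φ (Equiv.swap 0 2))⁻¹ = a := by
    rw [← F.h34]; exact frame_conj φ (by decide)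
  have hFg : φ (Equiv.swap 0 2) * φ (Equiv.swap 0 3) * (φ (Equiv.swap 0 2))⁻¹ = b := by
    rw [← F.h23]; exact frame_conj φ (by decide)
  have hbg : b * φ (Equiv.swap 0 3) * b = φ (Equiv.swap 0 2) := by
    rw [← F.h23, ← map_mul, ← map_mul]; congr 1; decide
  have heF : e * φ (Equiv.swap 0 2) * e = d := by
    rw [← F.h12, ← F.h01, ← map_mul, ← map_mul]; congr 1; decide
  generalize φ (Equiv.swap 0 2) = f at hFe hFa hFg hbg heF
  generalize φ (Equiv.swap 0 3) = g at hFg hbg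
  have hzD : f * x * f⁻¹ ∈ D := hconj f x hx
  have h1 : f * x * f⁻¹ ≠ d := by
    rw [← hFe]; intro h1
    have : x = e := mul_left_cancel (mul_right_cancel h1)
    rw [this] at hxb
    exact hbe hxb.symm
  have h2 : Commute d (f * x * f⁻¹) := by
    rw [← hFe]; exact (Commute.conj_iff f).mpr hxe.symm
  have h3 : f * x * f⁻¹ ≠ a := by
    intro h1
    rw [← hFa] at h1
    have : x = a := mul_left_cancel (mul_right_cancel h1)
    rw [this] at hxd
    exact hxd h.cda.symm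
  have h4 : Commute a (f * x * f⁻¹) := by
    rw [← hFa]; exact (Commute.conj_iff f).mpr hxa.symm
  have h5 := ((h.heq _ hzD h1 h2).mp ⟨h3, h4⟩).2
  rw [← hFg] at h5
  have h6 : Commute g x := (Commute.conj_iff f).mp h5
  have h7 : Commute x f := by
    rw [← hbg]; exact (hxb.mul_right h6.symm).mul_right hxb
  have h8 : Commute x d := by
    rw [← heF]; exact (hxe.mul_right h7).mul_right hxe
  exact hxd h8

/-- (F5') -/
theorem Trip.F5 (hT : Cfsg.IsThreeTranspositionSet D)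
    (hconj : ∀ g : G, ∀ x ∈ D, g * x * g⁻¹ ∈ D) {d a b : G} (h : Trip D d a b) {x : G}
    (hx : x ∈ D) (hxa : Commute x a) (hxb : Commute x b) (hxd : ¬ Commute x d) :
    Trip D x a b := by
  refine ⟨hx, h.ha, h.hb, h.hab, ?_, ?_, hxa, hxb, ?_⟩
  · rintro rfl; exact hxd h.cda.symm
  · rintro rfl; exact hxd h.cdb.symm
  · intro z hz hzx hxz
    constructor
    · rintro ⟨hza, haz⟩
      refine ⟨?_, ?_⟩
      · rintro rfl; exact h.nab haz
      · by_contra hbz
        exact h.R3 hT hconj hz hza haz hbz hx hxa hxb hxd hxz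
    · rintro ⟨hzb, hbz⟩
      refine ⟨?_, ?_⟩
      · rintro rfl; exact h.symm.nab hbz
      · by_contra haz
        exact h.symm.R3 hT hconj hz hzb hbz haz hx hxb hxa hxd hxz

/-- (F6') -/
theorem Trip.F6 (hT : Cfsg.IsThreeTranspositionSet D)
    (hconj : ∀ g : G, ∀ x ∈ D, g * x * g⁻¹ ∈ D)
    (hsub : ∀ u ∈ D, ∀ v ∈ D, Dp D u ⊆ Dp D v → u = v) {d a b : G} (h : Trip D d a b) {p : G}
    (hp : p ∈ D) (hpd : p ≠ d) (hdp : Commute d p) (hpa : p ≠ a) (hap : Commute a p) {x : G}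
    (hx : x ∈ D) (hxa : Commute x a) (hxb : Commute x b) (hxd : ¬ Commute x d) :
    Commute p x := by
  by_contra hpx
  have tx := h.F5 hT hconj hx hxa hxb hxd
  have hbp : Commute b p := ((h.heq p hp hpd hdp).mp ⟨hpa, hap⟩).2
  have tp := tx.F5 hT hconj hp hap.symm hbp.symm hpx
  obtain ⟨e, he, hne, hae, hbe⟩ := h.exists_e hsub
  have hpe := h.R2 hT hconj he hne hae hbe hp hpd hdp hpa hap
  have hep : e ≠ p := by
    rintro rfl; exact hbe hbp
  exact hbe ((tp.heq e he hep hpe).mp ⟨hne, hae⟩).2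

end Cfsg.Agent.Lib.helper92.TT15
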