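import Cfsg.Agent.Lib.helper92.TT15b

/-!
# 3-transposition classes with a triple: the group is `S₅`
-/

set_option autoImplicit false

namespace Cfsg.Agent.Lib.helper92.TT15

open Cfsg.Agent.Lib.helper91

universe u

variable {G : Type u} [Group G] {D : Set G}

theorem nset_ncard [Finite G] (hD : Cfsg.IsThreeTranspositionClass D)
    (hP : Cfsg.IsPrimitiveUnderConj D) {d v w : G} (hd : d ∈ D) (hv : v ∈ D) (hw : w ∈ D)
    (hvd : d ≠ v) (hwd : d ≠ w) (hdv : Commute d v) (hdw : Commute d w) :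
    {y | y ∈ D ∧ Commute v y ∧ ¬ Commute d y}.ncard =
      {y | y ∈ D ∧ Commute w y ∧ ¬ Commute d y}.ncard := by
  have hconj : ∀ g : G, ∀ x ∈ D, g * x * g⁻¹ ∈ D := fun g x hx => tt_class_conj_mem hD g hx
  obtain ⟨g, hg, hgv⟩ := tt_rank3_commute hD hP hd hv hw hvd hwd hdv hdw
  have e : (fun y => g * y * g⁻¹) '' {y | y ∈ D ∧ Commute v y ∧ ¬ Commute d y} =
      {y | y ∈ D ∧ Commute w y ∧ ¬ Commute d y} := by
    ext z
    constructor
    · rintro ⟨y, ⟨hy, hvy, hdy⟩, rfl⟩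
      refine ⟨hconj g y hy, ?_, (A_stable hconj hg ⟨hy, hdy⟩).2⟩
      rw [← hgv]; exact (Commute.conj_iff g).mpr hvy
    · rintro ⟨hz, hwz, hdz⟩
      refine ⟨g⁻¹ * z * g, ⟨conj_inv_mem hconj g hz, ?_, ?_⟩, by group⟩
      · rw [← hgv] at hwz
        exact (commute_conj_iff g v z).mp hwz
      · intro hc
        apply hdz
        have := (commute_conj_iff g d z).mpr hc
        rwa [conj_eq_of_commute hg] at this
  rw [← e, conj_image_ncard]

/-- (i): no member of `D` other than `d`, `a` commutes with both `d` and `a`. -/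
theorem Trip.noP [Finite G] (hD : Cfsg.IsThreeTranspositionClass D)
    (hP : Cfsg.IsPrimitiveUnderConj D)
    (hsub : ∀ u ∈ D, ∀ v ∈ D, Dp D u ⊆ Dp D v → u = v) {d a b : G} (h : Trip D d a b) :
    ∀ p ∈ D, p ≠ d → Commute d p → p ≠ a → ¬ Commute a p := by
  intro p hp hpd hdp hpa hap
  have hT := hD.1
  have hconj : ∀ g : G, ∀ x ∈ D, g * x * g⁻¹ ∈ D := fun g x hx => tt_class_conj_mem hD g hx
  have hN := h.noB hD hP hsub
  obtain ⟨hpb, hbp⟩ := (h.heq p hp hpd hdp).mp ⟨hpa, hap⟩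
  have e1 := nset_ncard hD hP h.hd h.ha hp h.had.symm hpd.symm h.cda hdp
  have e2 := nset_ncard hD hP h.hd h.hb hp h.hbd.symm hpd.symm h.cdb hdp
  have hsubset : {y | y ∈ D ∧ Commute a y ∧ ¬ Commute d y} ∪
      {y | y ∈ D ∧ Commute b y ∧ ¬ Commute d y} ⊆ {y | y ∈ D ∧ Commute p y ∧ ¬ Commute d y} := by
    rintro y (⟨hy, hay, hdy⟩ | ⟨hy, hby, hdy⟩)
    · refine ⟨hy, ?_, hdy⟩
      have hya : y ≠ a := by rintro rfl; exact hdy h.cda
      have hby : ¬ Commute b y := fun hby => hdy (hN y hy hay.symm hby.symm).symm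
      exact h.R2 hT hconj hy hya hay hby hp hpd hdp hpa hap
    · refine ⟨hy, ?_, hdy⟩
      have hyb : y ≠ b := by rintro rfl; exact hdy h.cdb
      have hay : ¬ Commute a y := fun hay => hdy (hN y hy hay.symm hby.symm).symm
      exact h.symm.R2 hT hconj hy hyb hby hay hp hpd hdp hpb hbp
  have hdisj : Disjoint {y | y ∈ D ∧ Commute a y ∧ ¬ Commute d y}
      {y | y ∈ D ∧ Commute b y ∧ ¬ Commute d y} := by
    rw [Set.disjoint_left]
    rintro y ⟨hy, hay, hdy⟩ ⟨-, hby, -⟩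
    exact hdy (hN y hy hay.symm hby.symm).symm
  obtain ⟨e, he, hne, hae, hbe⟩ := h.exists_e hsub
  have hpos : 0 < {y | y ∈ D ∧ Commute a y ∧ ¬ Commute d y}.ncard := by
    rw [Set.ncard_pos]
    exact ⟨e, he, hae, h.e_adj_d he hne hae hbe⟩
  have hle := Set.ncard_le_ncard hsubset (Set.toFinite _)
  rw [Set.ncard_union_eq hdisj] at hle
  omega

theorem Trip.pairwise [Finite G] (hD : Cfsg.IsThreeTranspositionClass D)
    (hP : Cfsg.IsPrimitiveUnderConj D)
    (hsub : ∀ u ∈ D, ∀ v ∈ D, Dp D u ⊆ Dp D v → u = v) {d a b : G} (h : Trip D d a b) :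
    ∀ a1 ∈ Dp D d, ∀ b1 ∈ Dp D d, a1 ≠ b1 → ¬ Commute a1 b1 := by
  rintro a1 ⟨ha1, ha1d, hda1⟩ b1 ⟨hb1, hb1d, hdb1⟩ hne
  have hconj : ∀ g : G, ∀ x ∈ D, g * x * g⁻¹ ∈ D := fun g x hx => tt_class_conj_mem hD g hx
  obtain ⟨g, hg, hga⟩ := tt_rank3_commute hD hP h.hd h.ha ha1 h.had.symm ha1d.symm h.cda hda1
  have t' := h.conj_fix hconj hg
  rw [hga] at t'
  exact t'.noP hD hP hsub b1 hb1 hb1d hdb1 hne.symm

theorem Trip.of_pair [Finite G] (hD : Cfsg.IsThreeTranspositionClass D)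
    (hP : Cfsg.IsPrimitiveUnderConj D)
    (hsub : ∀ u ∈ D, ∀ v ∈ D, Dp D u ⊆ Dp D v → u = v) {d a b : G} (h : Trip D d a b)
    {a1 b1 : G} (ha1 : a1 ∈ Dp D d) (hb1 : b1 ∈ Dp D d) (hne : a1 ≠ b1) : Trip D d a1 b1 := by
  have pw := h.pairwise hD hP hsub
  refine ⟨h.hd, ha1.1, hb1.1, hne, ha1.2.1, hb1.2.1, ha1.2.2, hb1.2.2, ?_⟩
  intro z hz hzd hdz
  have hzm : z ∈ Dp D d := ⟨hz, hzd, hdz⟩
  exact ⟨fun hh => absurd hh.2 (pw a1 ha1 z hzm hh.1.symm),
    fun hh => absurd hh.2 (pw b1 hb1 z hzm hh.1.symm)⟩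

theorem Trip.unique [Finite G] (hD : Cfsg.IsThreeTranspositionClass D)
    (hP : Cfsg.IsPrimitiveUnderConj D)
    (hsub : ∀ u ∈ D, ∀ v ∈ D, Dp D u ⊆ Dp D v → u = v) {d a b : G} (h : Trip D d a b)
    {a1 b1 : G} (ha1 : a1 ∈ Dp D d) (hb1 : b1 ∈ Dp D d) (hne : a1 ≠ b1) :
    ∀ z ∈ D, Commute z a1 → Commute z b1 → z = d := by
  intro z hz hza hzb
  have t' := h.of_pair hD hP hsub ha1 hb1 hne
  have hzd := t'.noB hD hP hsub z hz hza hzb
  by_contra hne'
  have hzm : z ∈ Dp D d := ⟨hz, hne', hzd.symm⟩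
  have pw := h.pairwise hD hP hsub
  by_cases hz1 : z = a1
  · rw [hz1] at hzb; exact pw a1 ha1 b1 hb1 hne hzb
  · exact pw z hzm a1 ha1 hz1 hza

/-- (iii): `D_d = {a, b, aba}`. -/
theorem Trip.dp_three [Finite G] (hD : Cfsg.IsThreeTranspositionClass D)
    (hP : Cfsg.IsPrimitiveUnderConj D)
    (hsub : ∀ u ∈ D, ∀ v ∈ D, Dp D u ⊆ Dp D v → u = v) {d a b : G} (h : Trip D d a b) :
    ∀ y ∈ Dp D d, y = a ∨ y = b ∨ y = a * b * a := by
  intro y hy
  by_contra hcon
  push Not at hcon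
  obtain ⟨hya, hyb, hyc⟩ := hcon
  have hT := hD.1
  have hconj : ∀ g : G, ∀ x ∈ D, g * x * g⁻¹ ∈ D := fun g x hx => tt_class_conj_mem hD g hx
  have pw := h.pairwise hD hP hsub
  obtain ⟨e, he, hne, hae, hbe⟩ := h.exists_e hsub
  have hde := h.e_adj_d he hne hae hbe
  have ham : a ∈ Dp D d := ⟨h.ha, h.had, h.cda⟩
  have hbm : b ∈ Dp D d := ⟨h.hb, h.hbd, h.cdb⟩
  have ii : ∀ z ∈ Dp D d, z ≠ a → ¬ Commute e z := by
    intro z hz hza hez
    have := h.unique hD hP hsub ham hz hza.symm e he hae.symm hez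
    rw [this] at hde
    exact hde (Commute.refl d)
  have hbb := tt_sq hT h.hb
  have hyy := tt_sq hT hy.1
  have hby : ¬ Commute b y := pw b hbm y hy (Ne.symm hyb)
  have hbr : b * y * b = y * b * y := tt_braid hT h.hb hy.1 hby
  have hyw : y = b * (b * y * b) * b := by
    calc y = (b * b) * y * (b * b) := by rw [hbb, one_mul, mul_one]
      _ = b * (b * y * b) * b := by group
  have hwm : b * y * b ∈ Dp D d := by
    refine ⟨conj_self_mem hT hconj h.hb hy.1, ?_, (h.cdb.mul_right hy.2.2).mul_right h.cdb⟩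
    intro hw
    apply hy.2.1
    rw [hyw, hw, ← h.cdb.eq, mul_assoc, hbb, mul_one]
  have hwa : b * y * b ≠ a := by
    intro hw
    apply hyc
    rw [hyw, hw]
    exact tt_braid hT h.hb h.ha (fun hc => h.nab hc.symm)
  have hye : ¬ Commute y e := fun hc => ii y hy hya hc.symm
  have hwe : ¬ Commute (b * y * b) e := fun hc => ii _ hwm hwa hc.symm
  obtain ⟨hZb, hZy, -⟩ := tt_heis_z hT hconj h.hb hy.1 he hby hbe hye hwe
  apply tt_claim hT hconj h.hd h.hb hy.1 he h.cdb hy.2.2 hby (fun hc => hde hc.symm)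
    (fun hc => hbe hc.symm)
  have hyw' : y ≠ b * y * b := by
    intro hh
    apply hby
    have : b * y = y * b := by
      calc b * y = b * (b * y * b) := by rw [← hh]
        _ = (b * b) * y * b := by group
        _ = y * b := by rw [hbb, one_mul]
    exact this
  have key2 : ∀ g : G, g * b * g⁻¹ = y → g * y * g⁻¹ = b * y * b → Commute g d := by
    intro g hgb hgy
    have h1 : Commute (g * d * g⁻¹) (g * b * g⁻¹) := (Commute.conj_iff g).mpr h.cdb
    rw [hgb] at h1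
    have h2 : Commute (g * d * g⁻¹) (g * y * g⁻¹) := (Commute.conj_iff g).mpr hy.2.2
    rw [hgy] at h2
    exact commute_of_conj_eq
      (h.unique hD hP hsub hy hwm hyw' (g * d * g⁻¹) (hconj g d h.hd) h1 h2)
  have key : ∀ Z : G, Commute Z b → Commute Z y → Commute Z d := by
    intro Z hZb hZy
    have hτb : (b * y) * b * (b * y)⁻¹ = y := by
      rw [mul_inv_rev, tt_inv hT hy.1, tt_inv hT h.hb]
      calc (b * y) * b * (y * b) = (b * y * b) * y * b := by group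
        _ = (y * b * y) * y * b := by rw [hbr]
        _ = y * b * (y * y) * b := by group
        _ = y * (b * b) := by rw [hyy]; group
        _ = y := by rw [hbb, mul_one]
    have hτy : (b * y) * y * (b * y)⁻¹ = b * y * b := by
      rw [mul_inv_rev, tt_inv hT hy.1, tt_inv hT h.hb]
      calc (b * y) * y * (y * b) = b * (y * y) * y * b := by group
        _ = b * y * b := by rw [hyy, mul_one]
    have hgb : (Z * (b * y)) * b * (Z * (b * y))⁻¹ = y := by
      calc (Z * (b * y)) * b * (Z * (b * y))⁻¹ = Z * ((b * y) * b * (b * y)⁻¹) * Z⁻¹ := by group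
        _ = Z * y * Z⁻¹ := by rw [hτb]
        _ = y := conj_eq_of_commute hZy
    have hgy : (Z * (b * y)) * y * (Z * (b * y))⁻¹ = b * y * b := by
      calc (Z * (b * y)) * y * (Z * (b * y))⁻¹ = Z * ((b * y) * y * (b * y)⁻¹) * Z⁻¹ := by group
        _ = Z * (b * y * b) * Z⁻¹ := by rw [hτy]
        _ = b * y * b := conj_eq_of_commute ((hZb.mul_right hZy).mul_right hZb)
    have hg := key2 _ hgb hgy
    have hτd : Commute (b * y) d := h.cdb.symm.mul_left hy.2.2.symm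
    have hZ' : Commute (Z * (b * y) * (b * y)⁻¹) d := hg.mul_left hτd.inv_left
    rwa [mul_inv_cancel_right] at hZ'
  exact key _ hZb hZy

theorem Trip.dp_ncard_le [Finite G] (hD : Cfsg.IsThreeTranspositionClass D)
    (hP : Cfsg.IsPrimitiveUnderConj D)
    (hsub : ∀ u ∈ D, ∀ v ∈ D, Dp D u ⊆ Dp D v → u = v) {d a b : G} (h : Trip D d a b) :
    ∀ v ∈ D, (Dp D v).ncard ≤ 3 := by
  intro v hv
  rw [dp_ncard_eq hD hv h.hd]
  have hss : Dp D d ⊆ {a, b, a * b * a} := by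
    intro y hy
    rcases h.dp_three hD hP hsub y hy with rfl | rfl | rfl <;> simp
  refine (Set.ncard_le_ncard hss (Set.toFinite _)).trans ?_
  refine (Set.ncard_insert_le a {b, a * b * a}).trans ?_
  have := Set.ncard_insert_le b {a * b * a}
  rw [Set.ncard_singleton] at this
  omega

omit [Group G] in
theorem three_mem {S : Set G} (hS : S.ncard ≤ 3) (hfin : S.Finite) {u1 u2 u3 : G} (h1 : u1 ∈ S)
    (h2 : u2 ∈ S) (h3 : u3 ∈ S) (h12 : u1 ≠ u2) (h13 : u1 ≠ u3) (h23 : u2 ≠ u3) :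
    ∀ y ∈ S, y = u1 ∨ y = u2 ∨ y = u3 := by
  have e : ({u1, u2, u3} : Set G) = S := by
    apply Set.eq_of_subset_of_ncard_le
    · intro z hz
      rcases hz with rfl | rfl | rfl <;> assumption
    · rw [Set.ncard_eq_three.mpr ⟨u1, u2, u3, h12, h13, h23, rfl⟩]; exact hS
    · exact hfin
  intro y hy
  rw [← e] at hy
  simpa using hy

/-- A class of 3-transpositions with a triple in a group without solvable normal subgroups
(in the form `hsub`) acting primitively is the class of transpositions of `S₅`. -/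
theorem Trip.s5 [Finite G] (hD : Cfsg.IsThreeTranspositionClass D)
    (hP : Cfsg.IsPrimitiveUnderConj D) (hw : ∃ x ∈ D, ∃ y ∈ D, x ≠ y ∧ Commute x y)
    (hsub : ∀ u ∈ D, ∀ v ∈ D, Dp D u ⊆ Dp D v → u = v) {d a b : G} (h : Trip D d a b) :
    Nonempty (G ≃* Equiv.Perm (Fin 5)) := by
  have hT := hD.1
  have hconj : ∀ g : G, ∀ x ∈ D, g * x * g⁻¹ ∈ D := fun g x hx => tt_class_conj_mem hD g hx
  obtain ⟨e, he, hne, hae, hbe⟩ := h.exists_e hsub
  have hde := h.e_adj_d he hne hae hbe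
  obtain ⟨φ, F⟩ := h.frame hT he hne hae hbe
  have hcard := h.dp_ncard_le hD hP hsub
  have hswap : ∀ i j : Fin 5, i ≠ j → φ (Equiv.swap i j) ∈ D := by
    intro i j hij
    obtain ⟨c, hc⟩ := isConj_iff.mp (Equiv.Perm.isConj_swap (show (0 : Fin 5) ≠ 1 by decide) hij)
    rw [← hc, map_mul, map_mul, map_inv, F.h01]
    exact hconj _ d h.hd
  have hnb : ∀ (σ ρ1 ρ2 ρ3 : Equiv.Perm (Fin 5)), φ σ ∈ D → φ ρ1 ∈ D → φ ρ2 ∈ D → φ ρ3 ∈ D →
      ρ1 ≠ σ → ρ2 ≠ σ → ρ3 ≠ σ → σ * ρ1 = ρ1 * σ → σ * ρ2 = ρ2 * σ → σ * ρ3 = ρ3 * σ →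
      ρ1 ≠ ρ2 → ρ1 ≠ ρ3 → ρ2 ≠ ρ3 → ∀ y ∈ Dp D (φ σ), y ∈ φ.range := by
    intro σ ρ1 ρ2 ρ3 hσ h1 h2 h3 n1 n2 n3 c1 c2 c3 n12 n13 n23 y hy
    have := three_mem (hcard _ hσ) (Set.toFinite _) (u1 := φ ρ1) (u2 := φ ρ2) (u3 := φ ρ3)
      ⟨h1, fun hh => n1 (F.inj hh), (show Commute σ ρ1 from c1).map φ⟩
      ⟨h2, fun hh => n2 (F.inj hh), (show Commute σ ρ2 from c2).map φ⟩
      ⟨h3, fun hh => n3 (F.inj hh), (show Commute σ ρ3 from c3).map φ⟩
      (fun hh => n12 (F.inj hh)) (fun hh => n13 (F.inj hh)) (fun hh => n23 (F.inj hh)) y hy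
    rcases this with rfl | rfl | rfl <;> exact MonoidHom.mem_range.mpr ⟨_, rfl⟩
  have hrange : ∀ y ∈ D, y ∈ φ.range := by
    intro y hy
    by_cases hdy : Commute d y
    · by_cases hyd : y = d
      · rw [hyd, ← F.h01]; exact MonoidHom.mem_range.mpr ⟨_, rfl⟩
      · rcases h.dp_three hD hP hsub y ⟨hy, hyd, hdy⟩ with e1 | e1 | e1
        · rw [e1, ← F.h34]; exact MonoidHom.mem_range.mpr ⟨_, rfl⟩
        · rw [e1, ← F.h23]; exact MonoidHom.mem_range.mpr ⟨_, rfl⟩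
        · rw [e1, ← F.h34, ← F.h23, ← map_mul, ← map_mul]
          exact MonoidHom.mem_range.mpr ⟨_, rfl⟩
    · obtain ⟨g, hg, hge⟩ := tt_rank3_not_commute hD hP hw h.hd he hy hde hdy
      have t' := h.conj_fix hconj hg
      have hcy : Commute (g * a * g⁻¹) y := by
        rw [← hge]; exact (Commute.conj_iff g).mpr hae
      have hya'' : y ≠ g * a * g⁻¹ := by
        intro hh; rw [hh] at hdy; exact hdy t'.cda
      rcases h.dp_three hD hP hsub _ ⟨t'.ha, t'.had, t'.cda⟩ with e1 | e1 | e1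
      · rw [e1] at hcy hya''
        have hm : y ∈ Dp D (φ (Equiv.swap 3 4)) := by rw [F.h34]; exact ⟨hy, hya'', hcy⟩
        exact hnb (Equiv.swap 3 4) (Equiv.swap 0 1) (Equiv.swap 1 2) (Equiv.swap 0 2)
          (hswap _ _ (by decide)) (hswap _ _ (by decide)) (hswap _ _ (by decide))
          (hswap _ _ (by decide)) (by decide) (by decide) (by decide) (by decide) (by decide)
          (by decide) (by decide) (by decide) (by decide) y hm
      · rw [e1] at hcy hya''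
        have hm : y ∈ Dp D (φ (Equiv.swap 2 3)) := by rw [F.h23]; exact ⟨hy, hya'', hcy⟩
        exact hnb (Equiv.swap 2 3) (Equiv.swap 0 1) (Equiv.swap 0 4) (Equiv.swap 1 4)
          (hswap _ _ (by decide)) (hswap _ _ (by decide)) (hswap _ _ (by decide))
          (hswap _ _ (by decide)) (by decide) (by decide) (by decide) (by decide) (by decide)
          (by decide) (by decide) (by decide) (by decide) y hm
      · rw [e1] at hcy hya''
        have e2 : a * b * a = φ (Equiv.swap 2 4) := by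
          rw [← F.h34, ← F.h23, ← map_mul, ← map_mul]; congr 1; decide
        have hm : y ∈ Dp D (φ (Equiv.swap 2 4)) := by rw [← e2]; exact ⟨hy, hya'', hcy⟩
        exact hnb (Equiv.swap 2 4) (Equiv.swap 0 1) (Equiv.swap 0 3) (Equiv.swap 1 3)
          (hswap _ _ (by decide)) (hswap _ _ (by decide)) (hswap _ _ (by decide))
          (hswap _ _ (by decide)) (by decide) (by decide) (by decide) (by decide) (by decide)
          (by decide) (by decide) (by decide) (by decide) y hm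
  have hsurj : Function.Surjective φ := by
    have hle : Subgroup.closure D ≤ φ.range := (Subgroup.closure_le _).mpr hrange
    rw [hD.2.2] at hle
    intro y
    exact MonoidHom.mem_range.mp (hle (Subgroup.mem_top y))
  exact ⟨(MulEquiv.ofBijective φ ⟨F.inj, hsurj⟩).symm⟩

end Cfsg.Agent.Lib.helper92.TT15
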