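import Cfsg.Agent.Lib.helper92.TT15c
import Cfsg.Agent.Lib.helper40.Cores
import Cfsg.Prelude.Def_CaseTheorems

/-!
# 3-transposition classes: a non-central odd core of `⟨D_x⟩` forces `S₅`
-/

set_option autoImplicit false

namespace Cfsg.Agent.Lib.helper92.TT15

open Cfsg.Agent.Lib.helper91

universe u

variable {G : Type u} [Group G] {D : Set G}

theorem oddcore_dir (hT : Cfsg.IsThreeTranspositionSet D) {d : G} (Q : Subgroup G)
    (hQn : ∀ k ∈ Subgroup.closure (Dp D d), ∀ q ∈ Q, k * q * k⁻¹ ∈ Q)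
    (hQodd : ∀ q ∈ Q, q * q = 1 → q = 1) {a b : G} (ha : a ∈ Dp D d) (hb : b ∈ Dp D d)
    (hab : a * b ∈ Q) (hne : a ≠ b) :
    ∀ z ∈ Dp D d, z ≠ a → Commute a z → z ≠ b ∧ Commute b z := by
  intro z hz hza haz
  have haa := tt_sq hT ha.1
  have hbb := tt_sq hT hb.1
  have hzz := tt_sq hT hz.1
  have hnab : ¬ Commute a b := by
    intro hc
    have h1 := hQodd _ hab (tt_sq_of_commute hT ha.1 hb.1 hc)
    apply hne
    have := eq_inv_of_mul_eq_one_left h1
    rw [this, tt_inv hT hb.1]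
  have hzb : z ≠ b := by
    rintro rfl; exact hnab haz
  refine ⟨hzb, ?_⟩
  by_contra hbz
  have hzb3 : (z * b) ^ 3 = 1 :=
    cube_of_braid hzz hbb (tt_braid hT hz.1 hb.1 (fun hc => hbz hc.symm))
  have hza_mem : z * a ∈ Subgroup.closure (Dp D d) :=
    Subgroup.mul_mem _ (Subgroup.subset_closure hz) (Subgroup.subset_closure ha)
  have h2 : (z * b) * (z * b) ∈ Q := by
    have h := Q.mul_mem (hQn (z * a) hza_mem (a * b) hab) hab
    have e : (z * a) * (a * b) * (z * a)⁻¹ * (a * b) = (z * b) * (z * b) := by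
      rw [mul_inv_rev, tt_inv hT hz.1, tt_inv hT ha.1]
      calc (z * a) * (a * b) * (a * z) * (a * b) = z * (a * a) * b * (a * z) * a * b := by group
        _ = z * b * (z * a) * a * b := by rw [haa, mul_one, haz.eq]
        _ = z * b * z * (a * a) * b := by group
        _ = (z * b) * (z * b) := by rw [haa, mul_one]; group
    rwa [e] at h
  have h3 : z * b ∈ Q := by
    have e : (z * b) * ((z * b) * (z * b)) = 1 := by
      rw [← hzb3, pow_succ, pow_two]; simp only [mul_assoc]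
    have := eq_inv_of_mul_eq_one_left e
    rw [this]
    exact Q.inv_mem h2
  have h4 : z * a ∈ Q := by
    have e : z * a = (z * b) * (a * b)⁻¹ := by
      rw [mul_inv_rev, tt_inv hT hb.1, tt_inv hT ha.1]
      calc z * a = z * (b * b) * a := by rw [hbb, mul_one]
        _ = (z * b) * (b * a) := by group
    rw [e]
    exact Q.mul_mem h3 (Q.inv_mem hab)
  have h5 := hQodd _ h4 (tt_sq_of_commute hT hz.1 ha.1 haz.symm)
  apply hza
  have := eq_inv_of_mul_eq_one_left h5
  rw [this, tt_inv hT ha.1]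

theorem trip_of_mul_mem (hT : Cfsg.IsThreeTranspositionSet D) {d : G} (hd : d ∈ D)
    (Q : Subgroup G) (hQn : ∀ k ∈ Subgroup.closure (Dp D d), ∀ q ∈ Q, k * q * k⁻¹ ∈ Q)
    (hQodd : ∀ q ∈ Q, q * q = 1 → q = 1) {a b : G} (ha : a ∈ Dp D d) (hb : b ∈ Dp D d)
    (hab : a * b ∈ Q) (hne : a ≠ b) : Trip D d a b := by
  have hba : b * a ∈ Q := by
    have e : b * a = (a * b)⁻¹ := by rw [mul_inv_rev, tt_inv hT hb.1, tt_inv hT ha.1]
    rw [e]; exact Q.inv_mem hab
  refine ⟨hd, ha.1, hb.1, hne, ha.2.1, hb.2.1, ha.2.2, hb.2.2, ?_⟩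
  intro z hz hzd hdz
  exact ⟨fun hh => oddcore_dir hT Q hQn hQodd ha hb hab hne z ⟨hz, hzd, hdz⟩ hh.1 hh.2,
    fun hh => oddcore_dir hT Q hQn hQodd hb ha hba hne.symm z ⟨hz, hzd, hdz⟩ hh.1 hh.2⟩

theorem closure_dp_commute {d : G} : ∀ k ∈ Subgroup.closure (Dp D d), Commute k d := by
  have hle : Subgroup.closure (Dp D d) ≤ Subgroup.centralizer {d} := by
    apply (Subgroup.closure_le _).mpr
    intro y hy
    rw [SetLike.mem_coe, Subgroup.mem_centralizer_iff]
    rintro k rfl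
    exact hy.2.2.eq
  intro k hk
  have := hle hk
  rw [Subgroup.mem_centralizer_iff] at this
  exact (this d rfl).symm

/-- If the odd core of `⟨D_x⟩` is not central, the group is `S₅`. -/
theorem s5_of_oddCore [Finite G]
    (hsol : ∀ N : Subgroup G, N.Normal → Group.IsSolvable ↥N → N = ⊥)
    (hperf : ⁅commutator G, commutator G⁆ = commutator G)
    (hD : Cfsg.IsThreeTranspositionClass D) (x : G) (hx : x ∈ D)
    (h : ¬ Cfsg.oddCore ↥(Subgroup.closure (Dp D x)) ≤
      Subgroup.center ↥(Subgroup.closure (Dp D x))) :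
    Nonempty (G ≃* Equiv.Perm (Fin 5)) := by
  have hT := hD.1
  have hconj : ∀ g : G, ∀ x ∈ D, g * x * g⁻¹ ∈ D := fun g x hx => tt_class_conj_mem hD g hx
  obtain ⟨hP, hw⟩ := tt_primitive_of_no_solvable_normal hD hsol hperf
  have hsub := dp_subset_eq hD hsol
  suffices hex : ∃ a b, Trip D x a b by
    obtain ⟨a, b, t⟩ := hex
    exact t.s5 hD hP hw hsub
  by_contra hno
  apply h
  have hQn : ∀ k ∈ Subgroup.closure (Dp D x),
      ∀ q ∈ (Cfsg.oddCore ↥(Subgroup.closure (Dp D x))).map (Subgroup.closure (Dp D x)).subtype,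
      k * q * k⁻¹ ∈
        (Cfsg.oddCore ↥(Subgroup.closure (Dp D x))).map (Subgroup.closure (Dp D x)).subtype := by
    intro k hk q hq
    obtain ⟨q0, hq0, rfl⟩ := Subgroup.mem_map.mp hq
    have hn : (Cfsg.oddCore ↥(Subgroup.closure (Dp D x))).Normal := Cfsg.pPrimeCore_normal 2 _
    exact Subgroup.mem_map.mpr ⟨⟨k, hk⟩ * q0 * ⟨k, hk⟩⁻¹, hn.conj_mem q0 hq0 ⟨k, hk⟩, rfl⟩
  have hQodd : ∀ q ∈ (Cfsg.oddCore ↥(Subgroup.closure (Dp D x))).map
      (Subgroup.closure (Dp D x)).subtype, q * q = 1 → q = 1 := by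
    intro q hq hqq
    obtain ⟨q0, hq0, rfl⟩ := Subgroup.mem_map.mp hq
    have hco := Cfsg.Agent.Lib.helper40.orderOf_coprime_of_mem_pPrimeCore hq0
    have hqq0 : q0 ^ 2 = 1 := by
      apply Subtype.ext
      rw [pow_two]
      exact hqq
    have h1 := Nat.Coprime.eq_one_of_dvd hco (orderOf_dvd_of_pow_eq_one hqq0)
    rw [orderOf_eq_one_iff] at h1
    rw [h1]; rfl
  intro q0 hq0
  rw [Subgroup.mem_center_iff]
  have hqQ : (q0 : G) ∈ (Cfsg.oddCore ↥(Subgroup.closure (Dp D x))).map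
      (Subgroup.closure (Dp D x)).subtype := Subgroup.mem_map.mpr ⟨q0, hq0, rfl⟩
  have hqx : Commute (q0 : G) x := closure_dp_commute _ q0.2
  have hall : ∀ a ∈ Dp D x, Commute (q0 : G) a := by
    intro a ha
    by_contra hqa
    apply hno
    have hb : (q0 : G) * a * (q0 : G)⁻¹ ∈ Dp D x := by
      have := (mem_dp_conj_iff hconj (q0 : G) x a).mpr ha
      rwa [conj_eq_of_commute hqx] at this
    have hab : a * ((q0 : G) * a * (q0 : G)⁻¹) ∈ (Cfsg.oddCore ↥(Subgroup.closure (Dp D x))).map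
        (Subgroup.closure (Dp D x)).subtype := by
      have e : a * ((q0 : G) * a * (q0 : G)⁻¹) = (a * (q0 : G) * a⁻¹) * (q0 : G)⁻¹ := by
        rw [tt_inv hT ha.1]; group
      rw [e]
      exact Subgroup.mul_mem _ (hQn a (Subgroup.subset_closure ha) _ hqQ)
        (Subgroup.inv_mem _ hqQ)
    have hne : a ≠ (q0 : G) * a * (q0 : G)⁻¹ := fun hh => hqa (commute_of_conj_eq hh.symm)
    exact ⟨a, _, trip_of_mul_mem hT hx _ hQn hQodd ha hb hab hne⟩
  have hle : Subgroup.closure (Dp D x) ≤ Subgroup.centralizer {(q0 : G)} := by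
    apply (Subgroup.closure_le _).mpr
    intro y hy
    rw [SetLike.mem_coe, Subgroup.mem_centralizer_iff]
    rintro k rfl
    exact (hall y hy).eq
  intro k
  have := hle k.2
  rw [Subgroup.mem_centralizer_iff] at this
  exact Subtype.ext (this _ rfl).symm

end Cfsg.Agent.Lib.helper92.TT15
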